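import Groth.Agent.DRingLib.PCPerf
import Groth.Agent.DCat.LTensorModule
import Groth.Agent.DCat.Amplitude

/-! Flat amplitude under shifts, triangles and retracts. -/

set_option autoImplicit false
set_option backward.isDefEq.respectTransparency false
set_option backward.defeqAttrib.useBackward true
set_option linter.style.haveILetI false

universe u

open CategoryTheory CategoryTheory.Limits CategoryTheory.Pretriangulated DerivedCategory MonoidalCategory
open scoped ZeroObject

attribute [local instance] HasDerivedCategory.standard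

namespace Groth.Agent.DualLib.TorAmpOps

open Groth.Agent

variable {R : Type u} [CommRing R]

theorem amp_of_iso {a b : ℤ} {K L : Dual.D R} (e : K ≅ L) (h : DRing.HasTorAmplitudeIn R a b K) :
    DRing.HasTorAmplitudeIn R a b L := by
  obtain ⟨E, hE, hf, ⟨e'⟩⟩ := h
  exact ⟨E, hE, hf, ⟨e' ≪≫ e⟩⟩

theorem isLE_of_amp {a b : ℤ} {K : Dual.D R} (h : DRing.HasTorAmplitudeIn R a b K) : K.IsLE b := by
  obtain ⟨E, hE, -, ⟨e⟩⟩ := h
  haveI : E.IsStrictlyLE b := (CochainComplex.isStrictlyLE_iff E b).2 fun i hi => hE i (Or.inr hi)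
  exact DerivedCategory.TStructure.t.isLE_of_iso e b

theorem amp_zero (a b : ℤ) {K : Dual.D R} (hK : IsZero K) : DRing.HasTorAmplitudeIn R a b K := by
  refine ⟨0, fun i _ => (HomologicalComplex.eval _ _ i).map_isZero (isZero_zero _), fun i => ?_,
    ⟨(DerivedCategory.Q.map_isZero (isZero_zero _)).iso hK⟩⟩
  haveI : Subsingleton ((0 : DRing.Cx R).X i) := ModuleCat.subsingleton_of_isZero
    ((HomologicalComplex.eval (ModuleCat.{u} R) (ComplexShape.up ℤ) i).map_isZero (isZero_zero _))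
  haveI := Module.Free.of_subsingleton R (((0 : DRing.Cx R)).X i)
  exact Module.Flat.of_free

theorem amp_shift {a b : ℤ} {K : Dual.D R} (h : DRing.HasTorAmplitudeIn R a b K) (n : ℤ) :
    DRing.HasTorAmplitudeIn R (a - n) (b - n) (K⟦n⟧) := by
  obtain ⟨E, hE, hf, ⟨e⟩⟩ := h
  exact ⟨E⟦n⟧, fun i hi => hE (i + n) (by omega), fun i => hf (i + n),
    ⟨(DerivedCategory.Q.commShiftIso n).app E ≪≫ (shiftFunctor (Dual.D R) n).mapIso e⟩⟩

theorem amp_cone {T : Triangle (Dual.D R)} (hT : T ∈ distinguishedTriangles) {a b : ℤ}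
    (h₁ : DRing.HasTorAmplitudeIn R a b T.obj₁) (h₂ : DRing.HasTorAmplitudeIn R a b T.obj₂) :
    DRing.HasTorAmplitudeIn R (a - 1) b T.obj₃ := by
  haveI : ∀ A : ModuleCat.{u} R, DRing.HasLTensor R A := fun A => DCat.hasLTensor A
  refine DCat.flatAmp_of_vanish fun A i hi => ?_
  haveI := isLE_of_amp h₁
  haveI := isLE_of_amp h₂
  obtain ⟨P, hPb, hPk, hP, ⟨eP⟩⟩ := DCat.Amplitude.exists_kProjective_rep T.obj₁ b
  obtain ⟨Q, hQb, hQk, hQ, ⟨eQ⟩⟩ := DCat.Amplitude.exists_kProjective_rep T.obj₂ b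
  obtain ⟨f, hf⟩ := DRingLib.exists_Q_map (eP.hom ≫ T.mor₁ ≫ eQ.inv)
  have flat : ∀ (X : DRing.Cx R), X.IsStrictlyLE b → (∀ n, Projective (X.X n)) →
      DCat.IsKFlatFor (DCat.modT R) X := fun X hb hp =>
    DCat.isKFlatFor_of_vanishesAbove X b (fun n hn => CochainComplex.isZero_of_isStrictlyLE X b n hn) fun n =>
      haveI := (IsProjective.iff_projective (R := R) (X.X n)).2 (hp n)
      inferInstance
  let e₃ : DRing.toD (CochainComplex.mappingCone f) ≅ T.obj₃ :=
    Triangle.π₃.mapIso (isoTriangleOfIso₁₂ _ T (DerivedCategory.mappingCone_triangle_distinguished f) hT eP eQ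
      (by
        change DerivedCategory.Q.map f ≫ eQ.hom = eP.hom ≫ T.mor₁
        rw [hf, Category.assoc, Category.assoc, eQ.inv_hom_id, Category.comp_id]))
  rw [DCat.isZero_ltensor_iff A (DCat.isKFlatFor_cone f (flat P hPb hP) (flat Q hQb hQ)) e₃,
    ← DCat.isZero_homology_toD_iff]
  let F := (tensorRight A).mapHomologicalComplex (ComplexShape.up ℤ)
  refine IsZero.of_iso ?_ ((DerivedCategory.homologyFunctor (ModuleCat.{u} R) i).mapIso (DerivedCategory.Q.mapIso
    (CochainComplex.mappingCone.mapHomologicalComplexIso f (tensorRight A))))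
  have hd := DerivedCategory.mappingCone_triangle_distinguished (F.map f)
  refine ShortComplex.Exact.isZero_of_both_zeros (DerivedCategory.HomologySequence.exact₃ _ hd i (i + 1)) ?_ ?_
  · refine IsZero.eq_of_src ?_ _ _
    exact (DCat.vanish_of_flatAmp h₂ A (i := i) (by omega)).of_iso
      ((DerivedCategory.homologyFunctor (ModuleCat.{u} R) i).mapIso
        ((DRing.LTensor R A).mapIso eQ.symm ≪≫ DCat.ltensorIso A (flat Q hQb hQ))).symm
  · refine IsZero.eq_of_tgt ?_ _ _
    exact (DCat.vanish_of_flatAmp h₁ A (i := i + 1) (by omega)).of_iso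
      ((DerivedCategory.homologyFunctor (ModuleCat.{u} R) (i + 1)).mapIso
        ((DRing.LTensor R A).mapIso eP.symm ≪≫ DCat.ltensorIso A (flat P hPb hP))).symm

theorem amp_retract {a b : ℤ} {K L : Dual.D R} (r : Retract K L) (h : DRing.HasTorAmplitudeIn R a b L) :
    DRing.HasTorAmplitudeIn R a b K := by
  haveI : ∀ A : ModuleCat.{u} R, DRing.HasLTensor R A := fun A => DCat.hasLTensor A
  refine DCat.flatAmp_of_vanish fun A i hi => ?_
  let F := DRing.LTensor R A ⋙ DerivedCategory.homologyFunctor (ModuleCat.{u} R) i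
  exact IsZero.of_mono (r.map F).i (DCat.vanish_of_flatAmp h A hi)

theorem finTor_iso {K L : Dual.D R} (e : K ≅ L) (h : DRing.HasFiniteTorDimCx R K) : DRing.HasFiniteTorDimCx R L := by
  obtain ⟨a, b, h⟩ := h
  exact ⟨a, b, amp_of_iso e h⟩

theorem finTor_shift {K : Dual.D R} (h : DRing.HasFiniteTorDimCx R K) (n : ℤ) : DRing.HasFiniteTorDimCx R (K⟦n⟧) := by
  obtain ⟨a, b, h⟩ := h
  exact ⟨_, _, amp_shift h n⟩

theorem finTor_cone {T : Triangle (Dual.D R)} (hT : T ∈ distinguishedTriangles)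
    (h₁ : DRing.HasFiniteTorDimCx R T.obj₁) (h₂ : DRing.HasFiniteTorDimCx R T.obj₂) :
    DRing.HasFiniteTorDimCx R T.obj₃ := by
  obtain ⟨a, b, h₁⟩ := h₁
  obtain ⟨a', b', h₂⟩ := h₂
  exact ⟨_, _, amp_cone hT (DRingLib.torAmplitude_mono h₁ (min_le_left a a') (le_max_left b b'))
    (DRingLib.torAmplitude_mono h₂ (min_le_right a a') (le_max_right b b'))⟩

theorem finTor_ext {T : Triangle (Dual.D R)} (hT : T ∈ distinguishedTriangles)
    (h₁ : DRing.HasFiniteTorDimCx R T.obj₁) (h₃ : DRing.HasFiniteTorDimCx R T.obj₃) :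
    DRing.HasFiniteTorDimCx R T.obj₂ :=
  finTor_cone (inv_rot_of_distTriang _ hT) (finTor_shift h₃ (-1)) h₁

theorem finTor_retract {K L : Dual.D R} (r : Retract K L) (h : DRing.HasFiniteTorDimCx R L) :
    DRing.HasFiniteTorDimCx R K := by
  obtain ⟨a, b, h⟩ := h
  exact ⟨a, b, amp_retract r h⟩

end Groth.Agent.DualLib.TorAmpOps
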