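import Groth.Agent.DualLib.FlatGlobal
import Groth.Agent.CAlgH.RegularSmooth

/-! Smooth base change, and completions. -/

set_option autoImplicit false
set_option backward.isDefEq.respectTransparency false
set_option backward.defeqAttrib.useBackward true
set_option linter.style.haveILetI false

universe u

open CategoryTheory CategoryTheory.Limits CategoryTheory.Pretriangulated DerivedCategory IsLocalRing
open scoped TensorProduct

attribute [local instance] HasDerivedCategory.standard

namespace Groth.Agent.DualLib

variable {A B : Type u} [CommRing A] [CommRing B] [Algebra A B] [IsNoetherianRing A]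

/-- Smooth base change of dualizing complexes. -/
theorem isDualizing_LBaseChange_smooth [Algebra.Smooth A B] [DRing.HasLBaseChange (algebraMap A B)] {ω : Dual.D A}
    (hω : Dual.IsDualizing A ω) : Dual.IsDualizing B ((DRing.LBaseChange (algebraMap A B)).obj ω) := by
  haveI : IsNoetherianRing B := Algebra.FiniteType.isNoetherianRing A B
  haveI := preservesFiniteLimits_flat (A := A) (B := B)
  haveI := preservesFiniteColimits_ext (A := A) (B := B)
  obtain ⟨e⟩ := nonempty_LBaseChange_iso (RingHom.flat_algebraMap_iff.2 (inferInstance : Module.Flat A B)) ω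
  refine isDualizing_of_iso e.symm (isDualizing_extD_of_fibres ?_ hω fun P hP => ?_)
  · obtain ⟨N, hN⟩ := exists_ringKrullDim_le hω
    obtain ⟨n, f, hf⟩ := Algebra.FiniteType.iff_quotient_mvPolynomial''.1 (inferInstance : Algebra.FiniteType A B)
    refine lt_of_le_of_lt ((ringKrullDim_le_of_surjective f.toRingHom hf).trans ?_) (WithBot.coe_lt_coe.2 (ENat.natCast_lt_top (N + n)))
    rw [MvPolynomial.ringKrullDim_of_isNoetherianRing]
    exact (add_le_add hN le_rfl).trans (le_of_eq (by rw [Nat.card_fin]; norm_cast))
  · refine fibreOK_of_isRegularRing (fun p hp => ?_) P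
    exact CAlgH.isRegularRing_of_smooth p.ResidueField (p.Fiber B)

/-- Base change to a flat algebra with the same quotient by an ideal in the Jacobson radical. -/
theorem isDualizing_LBaseChange_iso_mod [IsNoetherianRing B] [Module.Flat A B] {I : Ideal A}
    (hs : Function.Surjective ((Ideal.Quotient.mk (I.map (algebraMap A B))).comp (algebraMap A B)))
    (hJ : I.map (algebraMap A B) ≤ (⊥ : Ideal B).jacobson) [DRing.HasLBaseChange (algebraMap A B)] {ω : Dual.D A}
    (hω : Dual.IsDualizing A ω) : Dual.IsDualizing B ((DRing.LBaseChange (algebraMap A B)).obj ω) := by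
  haveI := preservesFiniteLimits_flat (A := A) (B := B)
  haveI := preservesFiniteColimits_ext (A := A) (B := B)
  obtain ⟨e⟩ := nonempty_LBaseChange_iso (RingHom.flat_algebraMap_iff.2 ‹Module.Flat A B›) ω
  have hP : ∀ (P : Ideal B) [P.IsMaximal], (P.under A).map (algebraMap A B) = P := by
    intro P hmax
    refine le_antisymm Ideal.map_comap_le fun z hz => ?_
    have hI : I.map (algebraMap A B) ≤ P :=
      hJ.trans (sInf_le (show P ∈ {J : Ideal B | ⊥ ≤ J ∧ J.IsMaximal} from ⟨bot_le, hmax⟩))
    obtain ⟨a, ha⟩ := hs (Ideal.Quotient.mk _ z)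
    rw [RingHom.comp_apply, Ideal.Quotient.eq] at ha
    have haP : a ∈ P.under A := by
      show algebraMap A B a ∈ P
      simpa using P.add_mem (hI ha) hz
    have hle : I.map (algebraMap A B) ≤ (P.under A).map (algebraMap A B) :=
      Ideal.map_mono (Ideal.map_le_iff_le_comap.1 hI)
    simpa using Ideal.sub_mem _ (Ideal.mem_map_of_mem (algebraMap A B) haP) (hle ha)
  have hmax : ∀ (P : Ideal B) [P.IsMaximal], (P.under A).map (algebraMap A (Localization.AtPrime P)) =
      maximalIdeal (Localization.AtPrime P) := by
    intro P hP'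
    rw [IsScalarTower.algebraMap_eq A B (Localization.AtPrime P), ← Ideal.map_map, hP P]
    exact Localization.AtPrime.map_eq_maximalIdeal
  refine isDualizing_of_iso e.symm (isDualizing_extD_of_fibres ?_ hω fun P hP' => fun W _ _ hW => ?_)
  · obtain ⟨N, hN⟩ := exists_ringKrullDim_le hω
    refine lt_of_le_of_lt (((ringKrullDim_le_iff_isMaximal_height_le (N : WithBot ℕ∞)).2 fun M hM => ?_))
      (WithBot.coe_lt_coe.2 (ENat.natCast_lt_top N))
    haveI : M.LiesOver (M.under A) := ⟨rfl⟩
    letI := Localization.AtPrime.algebraOfLiesOver (M.under A) M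
    haveI : IsLocalHom (algebraMap (Localization.AtPrime (M.under A)) (Localization.AtPrime M)) :=
      Localization.isLocalHom_localRingHom (M.under A) M (algebraMap A B) Ideal.LiesOver.over
    rw [← IsLocalization.AtPrime.ringKrullDim_eq_height M (Localization.AtPrime M),
      CommAlg6.ringKrullDim_eq_add_fibre (A := Localization.AtPrime (M.under A))]
    have h0 : ringKrullDim (Localization.AtPrime M ⧸
        (maximalIdeal (Localization.AtPrime (M.under A))).map (algebraMap _ (Localization.AtPrime M))) = 0 := by
      rw [← Localization.AtPrime.map_eq_maximalIdeal, Ideal.map_map, ← IsScalarTower.algebraMap_eq, hmax M]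
      exact ringKrullDim_eq_zero_of_field (IsLocalRing.ResidueField (Localization.AtPrime M))
    rw [h0, add_zero, IsLocalization.AtPrime.ringKrullDim_eq_height (M.under A)]
    exact (Ideal.height_le_ringKrullDim_of_ne_top (Ideal.IsPrime.ne_top inferInstance)).trans hN
  · exact ⟨0, hW.of_equiv (Submodule.quotEquivOfEq _ _ (hmax P))⟩

end Groth.Agent.DualLib
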