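import Groth.Agent.DualLib.LocHom
import Groth.Agent.S6965

/-! Being dualizing is local. -/

set_option autoImplicit false
set_option backward.isDefEq.respectTransparency false
set_option backward.defeqAttrib.useBackward true
set_option linter.style.haveILetI false

universe u

open CategoryTheory CategoryTheory.Limits CategoryTheory.Pretriangulated DerivedCategory

attribute [local instance] HasDerivedCategory.standard

namespace Groth.Agent.DualLib

variable {A : Type u} [CommRing A]

lemma flat_localization (S : Submonoid A) : (algebraMap A (Localization S)).Flat :=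
  RingHom.flat_algebraMap_iff.2 (IsLocalization.flat (Localization S) S)

instance preservesFiniteLimits_localization (S : Submonoid A) :
    PreservesFiniteLimits (ModuleCat.extendScalars.{u, u, u} (algebraMap A (Localization S))) :=
  ModuleCat.preservesFiniteLimits_extendScalars_of_flat (flat_localization S)

instance preservesFiniteColimits_localization (S : Submonoid A) :
    PreservesFiniteColimits (ModuleCat.extendScalars.{u, u, u} (algebraMap A (Localization S))) :=
  haveI : PreservesColimitsOfSize.{0, 0} (ModuleCat.extendScalars.{u, u, u} (algebraMap A (Localization S))) :=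
    (ModuleCat.extendRestrictScalarsAdj.{u, u, u} (algebraMap A (Localization S))).leftAdjoint_preservesColimits
  inferInstance

/-- An `S`-saturation criterion at all maximal ideals. -/
lemma mem_of_forall_maximal {M : Type*} [AddCommGroup M] [Module A M] (N : Submodule A M) (x : M)
    (h : ∀ m : Ideal A, m.IsMaximal → ∃ s ∉ m, s • x ∈ N) : x ∈ N := by
  let I : Ideal A := N.comap (LinearMap.toSpanSingleton A M x)
  suffices hI : I = ⊤ by
    have : (1 : A) ∈ I := hI ▸ trivial
    simpa [I] using this
  by_contra hne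
  obtain ⟨m, hm, hle⟩ := Ideal.exists_le_maximal I hne
  obtain ⟨s, hs, hsx⟩ := h m hm
  exact hs (hle hsx)

variable [IsNoetherianRing A]

/-- A small object of finite injective amplitude, dualizing on a covering family of localizations, is dualizing. -/
theorem isDualizing_of_cover {X : Dual.D A} (hfin : ∀ i, Module.Finite A (Dual.HD A X i)) (hX : IsSmall X)
    {a b : ℤ} (hinj : DRing.HasInjAmplitudeIn A a b X)
    (hloc : ∀ (m : Ideal A) [m.IsMaximal], ∃ S : Submonoid A, (∀ s ∈ S, s ∉ m) ∧
      Dual.IsDualizing (Localization S) ((extD (algebraMap A (Localization S))).obj X)) :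
    Dual.IsDualizing A X := by
  have hge := isGE_of_injAmp hinj
  refine ⟨inferInstance, ⟨a, b, fun N _ _ i hi => ?_⟩, hfin, ⟨?_, ?_⟩, fun i hi => ?_⟩
  · rcases hi with hi | hi
    · exact subsingleton_hom_of_isLE hinj _ 0 i (by omega)
    · exact subsingleton_hom_of_isGE hinj _ 0 i (by omega)
  · intro x y hxy
    simp only at hxy
    rw [← sub_eq_zero]
    refine (Submodule.mem_bot A).1 (mem_of_forall_maximal (⊥ : Submodule A A) _ fun m hm => ?_)
    obtain ⟨S, hSm, hG⟩ := hloc m
    let φ := algebraMap A (Localization S)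
    have h1 : φ (x - y) • 𝟙 ((extD φ).obj X) = 0 := by
      apply ((adjD φ).homEquiv X ((extD φ).obj X)).injective
      rw [Adjunction.homEquiv_unit, Adjunction.homEquiv_unit, restrictD_map_smul, Functor.map_zero, comp_zero,
        CategoryTheory.Functor.map_id, Linear.comp_smul]
      refine (congrArg ((x - y) • ·) (Category.comp_id ((adjD φ).unit.app X))).trans ?_
      have h0 : (x - y) • 𝟙 X = 0 := by rw [sub_smul, hxy, sub_self]
      have h3 := congrArg (· ≫ (adjD φ).unit.app X) h0
      simp only [Linear.smul_comp, zero_comp] at h3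
      exact (congrArg ((x - y) • ·) (Category.id_comp ((adjD φ).unit.app X)).symm).trans h3
    have h2 : φ (x - y) = 0 := hG.toEnd_bijective.injective (h1.trans (zero_smul _ _).symm)
    obtain ⟨s, hs⟩ := (IsLocalization.map_eq_zero_iff S (Localization S) _).1 h2
    exact ⟨s, hSm s s.2, hs⟩
  · intro ψ
    let N : Submodule A (X ⟶ X) := LinearMap.range (LinearMap.toSpanSingleton A (X ⟶ X) (𝟙 X))
    suffices hψ : ψ ∈ N by
      obtain ⟨c, hc⟩ := hψ
      exact ⟨c, hc⟩
    refine mem_of_forall_maximal N ψ fun m hm => ?_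
    obtain ⟨S, hSm, hG⟩ := hloc m
    let φ := algebraMap A (Localization S)
    let G := (extD φ).obj X
    let η := (adjD φ).unit.app X
    obtain ⟨f, hf⟩ := ((adjD φ).homEquiv X G).surjective (ψ ≫ η)
    obtain ⟨c, rfl⟩ := hG.toEnd_bijective.surjective f
    obtain ⟨x, s, rfl⟩ := IsLocalization.exists_mk'_eq S c
    have h0 : ((s : A) • ψ - x • 𝟙 X) ≫ η = 0 := by
      rw [Preadditive.sub_comp, Linear.smul_comp, Linear.smul_comp, ← hf, sub_eq_zero, Adjunction.homEquiv_unit,
        ← Linear.comp_smul, ← restrictD_map_smul, smul_smul, IsLocalization.mk'_spec', restrictD_map_smul,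
        CategoryTheory.Functor.map_id, Linear.comp_smul]
      exact congrArg (x • ·) ((Category.comp_id _).trans (Category.id_comp _).symm)
    let e0 := (shiftFunctorZero (Dual.D A) ℤ).inv.app X
    obtain ⟨t, ht, h1⟩ := exists_kill (B := Localization S) S hX hge 0
      (((s : A) • ψ - x • 𝟙 X) ≫ e0) (by
        rw [Category.assoc]
        show _ ≫ (shiftFunctorZero (Dual.D A) ℤ).inv.app X ≫ (shiftFunctor (Dual.D A) (0 : ℤ)).map η = 0
        refine (congrArg (_ ≫ ·) ((shiftFunctorZero (Dual.D A) ℤ).inv.naturality η).symm).trans ?_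
        exact (Category.assoc _ _ _).symm.trans ((congrArg (· ≫ _) h0).trans zero_comp))
    have h2 : t • ((s : A) • ψ - x • 𝟙 X) = 0 := by
      rw [← cancel_mono e0, zero_comp, Linear.smul_comp, h1]
    refine ⟨t * s, hSm _ (S.mul_mem ht s.2), t * x, ?_⟩
    rw [smul_sub, sub_eq_zero, smul_smul, smul_smul] at h2
    exact h2.symm
  · refine subsingleton_of_forall_eq 0 fun θ => (Submodule.mem_bot A).1
      (mem_of_forall_maximal (⊥ : Submodule A (X ⟶ X⟦i⟧)) θ fun m hm => ?_)
    obtain ⟨S, hSm, hG⟩ := hloc m
    obtain ⟨s, hs, h0⟩ := (subsingleton_iff_torsion (B := Localization S) S hX hge i).1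
      (hG.ext_self_subsingleton i hi) θ
    exact ⟨s, hSm s hs, h0⟩

/-- A small object of finite injective amplitude, dualizing at all maximal ideals, is dualizing. -/
theorem isDualizing_of_local {X : Dual.D A} (hfin : ∀ i, Module.Finite A (Dual.HD A X i)) (hX : IsSmall X)
    {a b : ℤ} (hinj : DRing.HasInjAmplitudeIn A a b X)
    (hloc : ∀ (m : Ideal A) [m.IsMaximal],
      Dual.IsDualizing (Localization.AtPrime m) ((extD (algebraMap A (Localization.AtPrime m))).obj X)) :
    Dual.IsDualizing A X :=
  isDualizing_of_cover hfin hX hinj fun m hm =>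
    ⟨m.primeCompl, fun _ hs => hs, hloc m⟩

/-- The form with derived base change. -/
theorem isDualizing_of_local' {X : Dual.D A} (hfin : ∀ i, Module.Finite A (Dual.HD A X i)) (hX : IsSmall X)
    {a b : ℤ} (hinj : DRing.HasInjAmplitudeIn A a b X)
    (hloc : ∀ (m : Ideal A) [m.IsMaximal], ∃ _ : DRing.HasLBaseChange (algebraMap A (Localization.AtPrime m)),
      Dual.IsDualizing (Localization.AtPrime m) ((DRing.LBaseChange (algebraMap A (Localization.AtPrime m))).obj X)) :
    Dual.IsDualizing A X :=
  isDualizing_of_local hfin hX hinj fun m _ => by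
    obtain ⟨_, hd⟩ := hloc m
    obtain ⟨e⟩ := nonempty_LBaseChange_iso (flat_localization m.primeCompl) X
    exact isDualizing_of_iso e hd

omit [IsNoetherianRing A] in
/-- Small from finite injective amplitude and finite cohomology. -/
lemma isSmall_of_injAmp {X : Dual.D A} {a b : ℤ} (h : DRing.HasInjAmplitudeIn A a b X)
    (hfin : ∀ i, Module.Finite A (Dual.HD A X i)) : IsSmall X := by
  obtain ⟨I, hv, hI, ⟨e⟩⟩ := h
  haveI : I.IsStrictlyGE a := (CochainComplex.isStrictlyGE_iff I a).2 fun j hj => hv j (Or.inl hj)
  haveI : I.IsStrictlyLE b := (CochainComplex.isStrictlyLE_iff I b).2 fun j hj => hv j (Or.inr hj)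
  haveI : (DRing.toD I).IsLE b := (DerivedCategory.isLE_Q_obj_iff I b).2 inferInstance
  exact ⟨a, b, isGE_of_injAmp ⟨I, hv, hI, ⟨e⟩⟩, (ts A).isLE_of_iso e b, hfin⟩

end Groth.Agent.DualLib
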