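import Groth.Agent.DualLib.Degree

/-! `Hom(-, ω)` on modules of finite length is Matlis duality. -/

set_option autoImplicit false
set_option backward.isDefEq.respectTransparency false
set_option backward.defeqAttrib.useBackward true
set_option linter.style.haveILetI false

universe u

open CategoryTheory CategoryTheory.Limits CategoryTheory.Pretriangulated

attribute [local instance] HasDerivedCategory.standard

namespace Groth.Agent.DualLib

variable {A : Type u} [CommRing A]

lemma emap_add {M N : Type u} [AddCommGroup M] [Module A M] [AddCommGroup N] [Module A N] (W : Dual.D A)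
    (f g : M →ₗ[A] N) (i : ℤ) : emap W (f + g) i = emap W f i + emap W g i := by
  ext φ
  rw [LinearMap.add_apply, emap_apply, emap_apply, emap_apply,
    show ModuleCat.ofHom (f + g) = ModuleCat.ofHom f + ModuleCat.ofHom g from rfl, Functor.map_add,
    Preadditive.add_comp]

variable {I : Ideal A} {M N : Type u} [AddCommGroup M] [Module A M] [AddCommGroup N] [Module A N]

/-- `1 ↦ x` from `A/I`. -/
noncomputable def liftOne (h : I ≤ Module.annihilator A M) (x : M) : (A ⧸ I) →ₗ[A] M :=
  Submodule.liftQ I (LinearMap.toSpanSingleton A M x) fun _ ha => Module.mem_annihilator.1 (h ha) x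

lemma liftOne_mk (h : I ≤ Module.annihilator A M) (x : M) (a : A) :
    liftOne h x (Submodule.Quotient.mk a) = a • x := rfl

variable (W : Dual.D A)

/-- The comparison with `Hom(-, Hom(A/I, W))` composed with `j`. -/
noncomputable def cmp {E' : Type u} [AddCommGroup E'] [Module A E'] (j : E W (A ⧸ I) 0 →ₗ[A] E')
    (h : I ≤ Module.annihilator A M) : E W M 0 →ₗ[A] (M →ₗ[A] E') where
  toFun φ :=
    { toFun := fun x => j (emap W (liftOne h x) 0 φ)
      map_add' := fun x y => by
        rw [show liftOne h (x + y) = liftOne h x + liftOne h y from Submodule.linearMap_qext _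
          (LinearMap.ext_ring (by simp only [LinearMap.comp_apply, LinearMap.add_apply, LinearMap.smul_apply, Submodule.mkQ_apply, liftOne_mk, map_smul, one_smul])), emap_add, LinearMap.add_apply, map_add]
      map_smul' := fun a x => by
        rw [show liftOne h (a • x) = a • liftOne h x from Submodule.linearMap_qext _
          (LinearMap.ext_ring (by simp only [LinearMap.comp_apply, LinearMap.add_apply, LinearMap.smul_apply, Submodule.mkQ_apply, liftOne_mk, map_smul, one_smul])), emap_smul, LinearMap.smul_apply, map_smul]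
        rfl }
  map_add' φ ψ := LinearMap.ext fun x => by simp
  map_smul' a φ := LinearMap.ext fun x => by simp

lemma cmp_natural {E' : Type u} [AddCommGroup E'] [Module A E'] (j : E W (A ⧸ I) 0 →ₗ[A] E')
    (hM : I ≤ Module.annihilator A M) (hN : I ≤ Module.annihilator A N) (f : M →ₗ[A] N) (φ : E W N 0) :
    cmp W j hM (emap W f 0 φ) = cmp W j hN φ ∘ₗ f := LinearMap.ext fun x => by
  show j (emap W (liftOne hM x) 0 (emap W f 0 φ)) = j (emap W (liftOne hN (f x)) 0 φ)
  rw [← LinearMap.comp_apply (emap W (liftOne hM x) 0), ← emap_comp,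
    show f ∘ₗ liftOne hM x = liftOne hN (f x) from Submodule.linearMap_qext _
      (LinearMap.ext_ring (by simp only [LinearMap.comp_apply, LinearMap.add_apply, LinearMap.smul_apply, Submodule.mkQ_apply, liftOne_mk, map_smul, one_smul]))]

variable {W}
variable [IsLocalRing A] [IsNoetherianRing A] {ω : Dual.D A} (hω : Dual.IsDualizing A ω)
  (hn : Dual.IsNormalized A ω) {E₀ : Type u} [AddCommGroup E₀] [Module A E₀]
  {f₀ : IsLocalRing.ResidueField A →ₗ[A] E₀} (hf : InjHull.IsInjectiveHull f₀)
include hω hn hf

/-- `Hom(N, ω) = Hom(N, E)` for `N` of finite length. -/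
theorem exists_matlis_equiv (N : Type u) [AddCommGroup N] [Module A N] (hN : IsFiniteLength A N) :
    Nonempty (E ω N 0 ≃ₗ[A] (N →ₗ[A] E₀)) := by
  haveI : IsNoetherian A N := (isFiniteLength_iff_isNoetherian_isArtinian.1 hN).1
  haveI : Module.Finite A N := inferInstance
  obtain ⟨n, hn'⟩ := Ideal.exists_pow_le_of_le_radical_of_fg (I := IsLocalRing.maximalIdeal A)
    (J := Module.annihilator A N) (by
      rw [Ideal.radical_eq_sInf]
      refine le_sInf fun p hp => ?_
      have hsupp : (⟨p, hp.2⟩ : PrimeSpectrum A) ∈ Module.support A N :=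
        Module.mem_support_iff_of_finite.2 hp.1
      have := support_subset_of_isFiniteLength hN hsupp
      rw [Set.mem_singleton_iff] at this
      exact le_of_eq (congrArg PrimeSpectrum.asIdeal this).symm) (IsNoetherian.noetherian _)
  let I := IsLocalRing.maximalIdeal A ^ (n + 1)
  have hIm : I ≤ IsLocalRing.maximalIdeal A := Ideal.pow_le_self (by omega)
  have hI : I ≤ Module.annihilator A N := (Ideal.pow_le_pow_right (by omega)).trans hn'
  let π : (A ⧸ I) →ₗ[A] IsLocalRing.ResidueField A := Submodule.mapQ I _ LinearMap.id hIm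
  have hπ : Function.Surjective π := fun y => by
    obtain ⟨a, rfl⟩ := Submodule.Quotient.mk_surjective _ y
    exact ⟨Submodule.Quotient.mk a, rfl⟩
  obtain ⟨e⟩ := residue_equiv hω hn
  have hπi : Function.Injective (emap ω π 0) := by
    refine injective_emap (W := ω) (LinearMap.ker π).injective_subtype hπ (LinearMap.exact_subtype_ker_map π) 0 ?_
    haveI : Module.Finite A (LinearMap.ker π) := Module.Finite.of_fg (IsNoetherian.noetherian _)
    refine subsingleton_of_ne hn _ ((Module.support_subset_of_injective _ (LinearMap.ker π).injective_subtype).trans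
      fun p hp => ?_) _ (by omega)
    rw [Module.support_eq_zeroLocus, Ideal.annihilator_quotient] at hp
    exact PrimeSpectrum.ext ((IsLocalRing.maximalIdeal.isMaximal A).eq_of_le p.2.ne_top
      (p.2.le_of_pow_le hp)).symm
  let s : IsLocalRing.ResidueField A →ₗ[A] E ω (A ⧸ I) 0 := emap ω π 0 ∘ₗ e.symm.toLinearMap
  have hs : Function.Injective s := hπi.comp e.symm.injective
  obtain ⟨j, hj'⟩ := (Module.Baer.of_injective hf.isInjective).extension_property s hs f₀
  have hj : ∀ x, j (s x) = f₀ x := fun x => LinearMap.congr_fun hj' x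
  suffices H : ∀ h : I ≤ Module.annihilator A N, Function.Bijective (cmp ω j h) from
    ⟨LinearEquiv.ofBijective _ (H hI)⟩
  refine devissage (Φ := fun M [AddCommGroup M] [Module A M] =>
    ∀ h : I ≤ Module.annihilator A M, Function.Bijective (cmp ω j h)) {IsLocalRing.closedPoint A}
    ?_ ?_ ?_ ?_ N (support_subset_of_isFiniteLength hN)
  · intro M _ _ _ h
    haveI := subsingleton_of_subsingleton ω 0 (M := M)
    exact ⟨fun a b _ => Subsingleton.elim _ _, fun g => ⟨0, LinearMap.ext fun x => by
      rw [Subsingleton.elim x 0, map_zero, map_zero]⟩⟩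
  · intro p hp
    obtain rfl := hp
    intro h
    change Function.Bijective (cmp ω j (M := IsLocalRing.ResidueField A) h)
    have key : ∀ x : IsLocalRing.ResidueField A,
        cmp ω j h (e.symm x) (Submodule.Quotient.mk 1) = f₀ x := fun x => by
      show j (emap ω (liftOne h (Submodule.Quotient.mk 1)) 0 (e.symm x)) = f₀ x
      rw [show liftOne h (Submodule.Quotient.mk 1) = π from Submodule.linearMap_qext _
        (LinearMap.ext_ring (by
          show liftOne h (Submodule.Quotient.mk 1) (Submodule.Quotient.mk 1) = π (Submodule.Quotient.mk 1)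
          rw [liftOne_mk, one_smul]
          rfl))]
      exact hj x
    constructor
    · rw [injective_iff_map_eq_zero]
      intro φ hφ
      obtain ⟨x, rfl⟩ := e.symm.surjective φ
      have h0 : f₀ x = 0 := (key x).symm.trans (LinearMap.congr_fun hφ _)
      rw [hf.injective (h0.trans (map_zero f₀).symm), map_zero]
    · intro g
      obtain ⟨x, hx⟩ : g (Submodule.Quotient.mk 1) ∈ LinearMap.range f₀ := by
        by_contra hnot
        have hne : Submodule.span A {g (Submodule.Quotient.mk 1)} ≠ ⊥ := by
          rw [Ne, Submodule.span_singleton_eq_bot]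
          exact fun h0 => hnot (h0 ▸ Submodule.zero_mem _)
        obtain ⟨y, hy, hy0⟩ := (Submodule.ne_bot_iff _).1 (hf.essential _ hne)
        obtain ⟨a, rfl⟩ := Submodule.mem_span_singleton.1 hy.1
        have hau : IsUnit a := by
          rw [← IsLocalRing.notMem_maximalIdeal]
          intro ha
          apply hy0
          rw [← map_smul, ← Submodule.Quotient.mk_smul,
            (Submodule.Quotient.mk_eq_zero _).2 (by simpa using ha), map_zero]
        obtain ⟨u, rfl⟩ := hau
        apply hnot
        have := (LinearMap.range f₀).smul_mem (↑u⁻¹ : A) hy.2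
        rwa [← mul_smul, Units.inv_mul, one_smul] at this
      refine ⟨e.symm x, Submodule.linearMap_qext _ (LinearMap.ext_ring ?_)⟩
      exact (key x).trans hx
  · intro M M' _ _ _ _ f h h'
    have h1 := h (by rwa [f.annihilator_eq])
    constructor
    · intro a b hab
      refine (econgr ω f 0).injective (h1.1 ?_)
      show cmp ω j _ (emap ω f.toLinearMap 0 a) = cmp ω j _ (emap ω f.toLinearMap 0 b)
      rw [cmp_natural ω j _ h', cmp_natural ω j _ h', hab]
    · intro g
      obtain ⟨φ, hφ⟩ := h1.2 (g ∘ₗ f.toLinearMap)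
      obtain ⟨ψ, rfl⟩ := (econgr ω f 0).surjective φ
      refine ⟨ψ, LinearMap.ext fun y => ?_⟩
      obtain ⟨x, rfl⟩ := f.surjective y
      have := LinearMap.congr_fun hφ x
      change cmp ω j _ (emap ω f.toLinearMap 0 ψ) x = _ at this
      rwa [cmp_natural ω j _ h'] at this
  · intro M₁ M₂ M₃ _ _ _ _ _ _ _ _ _ f g hfi hgs hfg h₁ h₃ h
    have a₁ : I ≤ Module.annihilator A M₁ := h.trans (f.annihilator_le_of_injective hfi)
    have a₃ : I ≤ Module.annihilator A M₃ := h.trans (g.annihilator_le_of_surjective hgs)
    have hsup : Module.support A M₂ ⊆ {IsLocalRing.closedPoint A} := fun p hp => by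
      have := (h.trans (Module.annihilator_le_of_mem_support hp))
      exact PrimeSpectrum.ext ((IsLocalRing.maximalIdeal.isMaximal A).eq_of_le p.2.ne_top
        (p.2.le_of_pow_le this)).symm
    have hex := exact_emap (W := ω) hfi hgs hfg 0
    have hsurj := surjective_emap (W := ω) hfi hgs hfg 0
      (subsingleton_of_pos hω hn M₃ _ (by omega))
    constructor
    · rw [injective_iff_map_eq_zero]
      intro φ hφ
      obtain ⟨ψ, rfl⟩ := (hex φ).1 ((h₁ a₁).1 (by rw [cmp_natural ω j a₁ h, hφ, LinearMap.zero_comp, map_zero]))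
      have : cmp ω j a₃ ψ = 0 := LinearMap.ext fun y => by
        obtain ⟨x, rfl⟩ := hgs y
        have := LinearMap.congr_fun hφ x
        rwa [cmp_natural ω j h a₃] at this
      rw [(injective_iff_map_eq_zero _).1 (h₃ a₃).1 ψ this, map_zero]
    · intro t
      obtain ⟨φ₁, h1⟩ := (h₁ a₁).2 (t ∘ₗ f)
      obtain ⟨φ, rfl⟩ := hsurj φ₁
      rw [cmp_natural ω j a₁ h] at h1
      obtain ⟨t₃, ht₃⟩ : ∃ t₃ : M₃ →ₗ[A] E₀, t₃ ∘ₗ g = t - cmp ω j h φ := by
        refine ⟨Submodule.liftQ _ (t - cmp ω j h φ) ?_ ∘ₗ (g.quotKerEquivOfSurjective hgs).symm.toLinearMap,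
          LinearMap.ext fun x => ?_⟩
        · intro x hx
          obtain ⟨y, rfl⟩ := (hfg x).1 hx
          have := LinearMap.congr_fun h1 y
          simp only [LinearMap.mem_ker, LinearMap.sub_apply]
          exact sub_eq_zero.2 this.symm
        · have : (g.quotKerEquivOfSurjective hgs).symm (g x) = Submodule.Quotient.mk x :=
            (g.quotKerEquivOfSurjective hgs).injective (by rw [LinearEquiv.apply_symm_apply]; rfl)
          rw [LinearMap.comp_apply, LinearMap.comp_apply, LinearEquiv.coe_coe, this, Submodule.liftQ_apply]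
      obtain ⟨ψ, hψ⟩ := (h₃ a₃).2 t₃
      refine ⟨φ + emap ω g 0 ψ, ?_⟩
      rw [map_add, cmp_natural ω j h a₃, hψ, ht₃, add_sub_cancel]

/-- `Hom(N, ω⟦0⟧)` without the shift. -/
theorem exists_matlis_equiv' (N : Type u) [AddCommGroup N] [Module A N] (hN : IsFiniteLength A N) :
    Nonempty ((Dual.inD A N ⟶ ω) ≃ₗ[A] (N →ₗ[A] E₀)) := by
  obtain ⟨e⟩ := exists_matlis_equiv hω hn hf N hN
  let z : (Dual.inD A N ⟶ ω) ≃ₗ[A] E ω N 0 :=
    { toFun := fun φ => φ ≫ (shiftFunctorZero (Dual.D A) ℤ).inv.app ω
      invFun := fun φ => φ ≫ (shiftFunctorZero (Dual.D A) ℤ).hom.app ω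
      left_inv := fun φ => by simp
      right_inv := fun φ => by simp
      map_add' := fun φ ψ => Preadditive.add_comp _ _ _ _ _ _
      map_smul' := fun a φ => Linear.smul_comp _ _ _ _ _ _ }
  exact ⟨z.trans e⟩

end Groth.Agent.DualLib
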