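import Groth.Agent.DualLib.FlatDualizing
import Groth.Agent.DualLib.LocGlobal
import Groth.Agent.DualLib.Matlis
import Mathlib.RingTheory.Localization.Finiteness

/-! The right adjoint of restriction along a finite map takes dualizing complexes to dualizing complexes. -/

set_option autoImplicit false
set_option backward.isDefEq.respectTransparency false
set_option backward.defeqAttrib.useBackward true
set_option linter.style.haveILetI false

universe u

open CategoryTheory CategoryTheory.Limits CategoryTheory.Pretriangulated DerivedCategory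
open scoped TensorProduct

attribute [local instance] HasDerivedCategory.standard

namespace Groth.Agent.DualLib

section Pi

variable {A : Type u} [CommRing A] {M : Type u} [AddCommGroup M] [Module A M]

lemma emap_sum {N : Type u} [AddCommGroup N] [Module A N] (W : Dual.D A) (i : ℤ) {ι : Type*} (s : Finset ι)
    (f : ι → M →ₗ[A] N) : emap W (∑ j ∈ s, f j) i = ∑ j ∈ s, emap W (f j) i := by
  classical
  induction s using Finset.induction with
  | empty => simp [emap_zero]
  | insert a s ha ih => rw [Finset.sum_insert ha, Finset.sum_insert ha, emap_add, ih]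

/-- `E` of a finite power. -/
lemma nonempty_E_pi (W : Dual.D A) (r : ℕ) (i : ℤ) : Nonempty (E W (Fin r → M) i ≃ₗ[A] (Fin r → E W M i)) := by
  classical
  let ι := fun j : Fin r => LinearMap.single A (fun _ => M) j
  let π := fun j : Fin r => (LinearMap.proj j : (Fin r → M) →ₗ[A] M)
  refine ⟨LinearEquiv.ofLinear (LinearMap.pi fun j => emap W (ι j) i)
    (∑ j, emap W (π j) i ∘ₗ LinearMap.proj j) ?_ ?_⟩
  · refine LinearMap.ext fun v => funext fun k => ?_
    simp only [LinearMap.coe_comp, Function.comp_apply, LinearMap.pi_apply, LinearMap.sum_apply, map_sum,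
      LinearMap.proj_apply, LinearMap.id_apply]
    rw [Finset.sum_eq_single k]
    · rw [← LinearMap.comp_apply, ← emap_comp, show π k ∘ₗ ι k = LinearMap.id from LinearMap.ext fun m => by
        simp [π, ι], emap_id]
      rfl
    · intro j _ hj
      rw [← LinearMap.comp_apply, ← emap_comp, show π j ∘ₗ ι k = 0 from LinearMap.ext fun m => by
        simp [π, ι, hj], emap_zero]
      rfl
    · intro h
      exact absurd (Finset.mem_univ k) h
  · refine LinearMap.ext fun φ => ?_
    simp only [LinearMap.coe_comp, Function.comp_apply, LinearMap.pi_apply, LinearMap.sum_apply,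
      LinearMap.proj_apply, LinearMap.id_apply]
    simp only [← LinearMap.comp_apply, ← emap_comp]
    rw [← LinearMap.sum_apply, ← emap_sum,
      show ∑ j, ι j ∘ₗ π j = LinearMap.id from LinearMap.ext fun v => by
        funext k
        simp [ι, π, LinearMap.sum_apply, Pi.single_apply]]
    exact LinearMap.congr_fun (emap_id W i) φ

end Pi

namespace FiniteAdjoint

variable {A B : Type u} [CommRing A] [CommRing B] [Algebra A B] {R : Dual.D A ⥤ Dual.D B}
  (adj : DRing.restrictD (algebraMap A B) ⊣ R)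

/-- Restriction of a module in degree zero. -/
noncomputable abbrev res (A B : Type u) [CommRing A] [CommRing B] [Algebra A B] (N : Type u) [AddCommGroup N] [Module B N] :
    ModuleCat.{u} A :=
  (ModuleCat.restrictScalars.{u} (algebraMap A B)).obj (ModuleCat.of B N)

include adj in
/-- Adjunction on homs into shifts. -/
lemma exists_relE (N : Type u) [AddCommGroup N] [Module B N] (K : Dual.D A) (i : ℤ) :
    ∃ e : E (R.obj K) N i ≃+ E K (res A B N) i, ∀ (a : A) f, e (algebraMap A B a • f) = a • e f := by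
  let F := DRing.restrictD (algebraMap A B)
  let X := Dual.inD B N
  let ε := ((ModuleCat.restrictScalars.{u} (algebraMap A B)).mapDerivedCategorySingleFunctor 0).app (ModuleCat.of B N)
  let e0 : (X ⟶ (R.obj K)⟦i⟧) ≃+ (X⟦-i⟧ ⟶ R.obj K) :=
    ((Linear.homCongr B (Iso.refl X) (Iso.refl _)).trans (FlatHom.shiftHom (-i) _ _) ≪≫ₗ
      Linear.homCongr B (Iso.refl _) ((shiftEquiv (Dual.D B) i).unitIso.app (R.obj K)).symm).toAddEquiv
  let e1 : (X⟦-i⟧ ⟶ R.obj K) ≃+ (F.obj (X⟦-i⟧) ⟶ K) :=
    { toFun := fun f => F.map f ≫ adj.counit.app K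
      invFun := fun g => adj.homEquiv _ _ g
      left_inv := fun f => ((congrArg _ (adj.homEquiv_counit (g := f)).symm).trans (Equiv.apply_symm_apply _ f))
      right_inv := fun g => ((adj.homEquiv_counit (g := adj.homEquiv _ _ g)).symm.trans (Equiv.symm_apply_apply _ g))
      map_add' := fun f g => by rw [Functor.map_add, Preadditive.add_comp] }
  let e2 : (F.obj (X⟦-i⟧) ⟶ K) ≃ₗ[A] E K (res A B N) i :=
    Linear.homCongr A ((F.commShiftIso (-i)).app X ≪≫ (shiftFunctor (Dual.D A) (-i)).mapIso ε)
        ((shiftEquiv (Dual.D A) i).unitIso.app K) ≪≫ₗ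
      (FlatHom.shiftHom (-i) (Dual.inD A (res A B N)) (K⟦i⟧)).symm
  refine ⟨(e0.trans e1).trans e2.toAddEquiv, fun a f => ?_⟩
  have h0 : e0 (algebraMap A B a • f) = algebraMap A B a • e0 f :=
    LinearEquiv.map_smul ((Linear.homCongr B (Iso.refl X) (Iso.refl _)).trans (FlatHom.shiftHom (-i) _ _) ≪≫ₗ
      Linear.homCongr B (Iso.refl _) ((shiftEquiv (Dual.D B) i).unitIso.app (R.obj K)).symm) _ f
  have h1 : ∀ g, e1 (algebraMap A B a • g) = a • e1 g := fun g => by
    show F.map (algebraMap A B a • g) ≫ _ = a • (F.map g ≫ _)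
    rw [restrictD_map_smul, Linear.smul_comp]
  show e2 (e1 (e0 (algebraMap A B a • f))) = a • e2 (e1 (e0 f))
  rw [h0, h1, map_smul]

/-- Semilinear bijections transfer finiteness. -/
lemma finite_of_semilinear {M : Type*} [AddCommGroup M] [Module B M] {M' : Type*} [AddCommGroup M'] [Module A M']
    [Module.Finite A M'] (e : M ≃+ M') (he : ∀ (a : A) m, e (algebraMap A B a • m) = a • e m) :
    Module.Finite B M := by
  obtain ⟨s, hs⟩ := (‹Module.Finite A M'›).fg_top
  classical
  refine ⟨⟨s.image e.symm, top_unique fun m _ => ?_⟩⟩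
  have hm : e m ∈ Submodule.span A (s : Set M') := hs ▸ trivial
  have key : ∀ y ∈ Submodule.span A (s : Set M'), e.symm y ∈ Submodule.span B (e.symm '' (s : Set M')) := by
    intro y hy
    induction hy using Submodule.span_induction with
    | mem y hy => exact Submodule.subset_span ⟨y, hy, rfl⟩
    | zero => simp
    | add x y _ _ hx hy => rw [map_add]; exact add_mem hx hy
    | smul a y _ hy =>
      have : e.symm (a • y) = algebraMap A B a • e.symm y := e.injective (by
        rw [he, e.apply_symm_apply, e.apply_symm_apply])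
      rw [this]
      exact Submodule.smul_mem _ _ hy
  rw [Finset.coe_image]
  simpa using key _ hm

variable [IsNoetherianRing A] [IsNoetherianRing B] [Module.Finite A B]

omit [IsNoetherianRing A] [IsNoetherianRing B] [Module.Finite A B] in
lemma finite_res (hfin : Module.Finite A B) (N : Type u) [AddCommGroup N] [Module B N] [Module.Finite B N] :
    Module.Finite A (res A B N) := by
  letI : Module A N := Module.compHom N (algebraMap A B)
  haveI : IsScalarTower A B N := IsScalarTower.of_algebraMap_smul fun _ _ => rfl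
  have h : Module.Finite A N := Module.Finite.trans B N
  exact h

include adj in
lemma isGE_obj {K : Dual.D A} (a : ℤ) [K.IsGE a] : (R.obj K).IsGE a :=
  (DRingLib.isGE_iff_HD _ a).2 fun i hi => by
    obtain ⟨e, -⟩ := exists_relE adj B K i
    haveI := subsingleton_E_of_lt (W := K) a (res A B B) i hi
    haveI : Subsingleton (E (R.obj K) B i) := e.injective.subsingleton
    exact (eSelf (R.obj K) i).symm.injective.subsingleton

include adj in
/-- Finite cohomology. -/
theorem finite_HD_obj {K : Dual.D A} (a : ℤ) [K.IsGE a] (hK : ∀ i : ℤ, Module.Finite A (Dual.HD A K i)) (i : ℤ) :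
    Module.Finite B (Dual.HD B (R.obj K) i) := by
  obtain ⟨e, he⟩ := exists_relE adj B K i
  haveI := finite_res (A := A) (B := B) ‹Module.Finite A B› B
  haveI := finite_E hK a (fun N _ _ _ j hj => subsingleton_E_of_lt a N j hj) (res A B B) i
  haveI := finite_of_semilinear e he
  exact Module.Finite.equiv (eSelf (R.obj K) i)

include adj in
/-- The residue field at a maximal ideal. -/
theorem isDualIn_quotient {ω : Dual.D A} (hω : Dual.IsDualizing A ω) (n : Ideal B) [n.IsMaximal] :
    ∃ d : ℤ, IsDualIn (R.obj ω) (B ⧸ n) d ∧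
      ∀ d', (∀ i, i ≠ d' → Subsingleton (E ω (A ⧸ n.under A) i)) → d = d' := by
  let m := n.under A
  haveI : Algebra.IsIntegral A B := Algebra.IsIntegral.of_finite A B
  haveI hm : m.IsMaximal := Ideal.IsMaximal.under A n
  obtain ⟨d, hd1, ⟨hd2⟩⟩ := exists_degree_maximal m hω
  let N := res A B (B ⧸ n)
  haveI : Module.Finite A N := finite_res (A := A) (B := B) ‹Module.Finite A B› (B ⧸ n)
  obtain ⟨r, ⟨eN⟩⟩ : ∃ r : ℕ, Nonempty (N ≃ₗ[A] (Fin r → A ⧸ m)) := by
    have hker : ∀ a ∈ m, ∀ x : N, a • x = 0 := by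
      intro a ha (x : B ⧸ n)
      obtain ⟨x, rfl⟩ := Ideal.Quotient.mk_surjective x
      show algebraMap A B a • Ideal.Quotient.mk n x = 0
      rw [Algebra.smul_def, Ideal.Quotient.algebraMap_eq, Ideal.Quotient.eq_zero_iff_mem.2 (Ideal.mem_comap.1 ha),
        zero_mul]
    letI : Module (A ⧸ m) N := Module.IsTorsionBySet.module (fun x a => hker a a.2 x)
    haveI : IsScalarTower A (A ⧸ m) N := Module.IsTorsionBySet.isScalarTower _
    letI : Field (A ⧸ m) := Ideal.Quotient.field m
    haveI : Module.Finite (A ⧸ m) N := Module.Finite.of_restrictScalars_finite A (A ⧸ m) N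
    exact ⟨Module.finrank (A ⧸ m) N, ⟨(Module.finBasis (A ⧸ m) N).equivFun.restrictScalars A⟩⟩
  obtain ⟨eE⟩ := nonempty_E_pi (M := A ⧸ m) ω r d
  have hvan : ∀ i : ℤ, i ≠ d → Subsingleton (E (R.obj ω) (B ⧸ n) i) := fun i hi => by
    obtain ⟨e, -⟩ := exists_relE adj (B ⧸ n) ω i
    obtain ⟨eE'⟩ := nonempty_E_pi (M := A ⧸ m) ω r i
    haveI := hd1 i hi
    haveI : Subsingleton (E ω (Fin r → A ⧸ m) i) := eE'.injective.subsingleton
    haveI : Subsingleton (E ω N i) := (econgr ω eN i).symm.injective.subsingleton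
    exact e.injective.subsingleton
  obtain ⟨e, he⟩ := exists_relE adj (B ⧸ n) ω d
  let f : E ω N d ≃ₗ[A] N :=
    (econgr ω eN d).symm ≪≫ₗ eE ≪≫ₗ LinearEquiv.piCongrRight (fun _ => hd2) ≪≫ₗ eN.symm
  haveI : Nontrivial N := inferInstanceAs (Nontrivial (B ⧸ n))
  haveI : Nontrivial (E (R.obj ω) (B ⧸ n) d) := (e.trans f.toAddEquiv).toEquiv.nontrivial
  have hkill : n ≤ Module.annihilator B (E (R.obj ω) (B ⧸ n) d) :=
    le_trans (le_of_eq (Ideal.annihilator_quotient (I := n)).symm) (annihilator_le_annihilator (R.obj ω) d)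
  obtain ⟨g, hg⟩ : ∃ g : (B ⧸ n) →ₗ[B] E (R.obj ω) (B ⧸ n) d, Function.Injective g := by
    obtain ⟨v, hv⟩ := exists_ne (0 : E (R.obj ω) (B ⧸ n) d)
    refine ⟨Submodule.liftQ _ (LinearMap.toSpanSingleton B _ v) (fun b hb => Module.mem_annihilator.1 (hkill hb) v), ?_⟩
    rw [← LinearMap.ker_eq_bot, Submodule.ker_liftQ, eq_bot_iff]
    rintro _ ⟨b, hb, rfl⟩
    rw [Submodule.mem_bot, Submodule.mkQ_apply, Submodule.Quotient.mk_eq_zero]
    by_contra hna
    obtain ⟨c, z, hz, hcz⟩ := Ideal.IsMaximal.exists_inv ‹n.IsMaximal› hna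
    apply hv
    have hb' : b • v = 0 := hb
    rw [← one_smul B v, ← hcz, add_smul, mul_smul, hb', smul_zero, Module.mem_annihilator.1 (hkill hz) v, add_zero]
  let h : N →ₗ[A] N :=
    { toFun := fun x => f (e (g x))
      map_add' := fun x y => by
        show f (e (g (x + y))) = f (e (g x)) + f (e (g y))
        rw [map_add g, map_add e, map_add f]
      map_smul' := fun a x => by
        show f (e (g (algebraMap A B a • (show B ⧸ n from x)))) = a • f (e (g x))
        rw [map_smul g, he, map_smul f] }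
  haveI : IsArtinian A (A ⧸ m) :=
    haveI : IsSimpleModule A (A ⧸ m) := isSimpleModule_iff_isCoatom.2 hm.1
    inferInstance
  haveI : IsArtinian A N := isArtinian_of_linearEquiv eN.symm
  have hs : Function.Surjective g := fun z => by
    obtain ⟨x, hx⟩ := IsArtinian.surjective_of_injective_endomorphism h
      ((f.injective.comp e.injective).comp hg) (f (e z))
    exact ⟨x, e.injective (f.injective hx)⟩
  refine ⟨d, ⟨hvan, ⟨(LinearEquiv.ofBijective g ⟨hg, hs⟩).symm⟩⟩, fun d' hd' => ?_⟩
  by_contra hne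
  haveI := hd' d hne
  exact not_subsingleton (A ⧸ m) (hd2.symm.injective.subsingleton)

include adj in
/-- The right adjoint takes dualizing complexes to dualizing complexes. -/
theorem isDualizing_obj {ω : Dual.D A} (hω : Dual.IsDualizing A ω) : Dual.IsDualizing B (R.obj ω) := by
  obtain ⟨a, b, hab⟩ := hω.finite_injective_dimension
  obtain ⟨a', b', hge, -⟩ := exists_bound hω
  haveI := isGE_obj adj (K := ω) a'
  have hfin := finite_HD_obj adj (K := ω) a' hω.finite_cohomology
  have hbd : ∀ (I : Ideal B) (i : ℤ), (i < a ∨ b < i) → Subsingleton (E (R.obj ω) (B ⧸ I) i) := fun I i hi => by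
    obtain ⟨e, -⟩ := exists_relE adj (B ⧸ I) ω i
    haveI := hab (res A B (B ⧸ I)) i hi
    exact e.injective.subsingleton
  have hinj := ((S6965.result B (R.obj ω) a b).out 0 2).2 hbd
  refine isDualizing_of_local hfin (isSmall_of_injAmp hinj hfin) hinj fun n hn => ?_
  obtain ⟨d, ⟨hv, ⟨ho⟩⟩, -⟩ := isDualIn_quotient adj hω n
  let S := n.primeCompl
  let Bn := Localization S
  haveI : IsLocalRing Bn := inferInstanceAs (IsLocalRing (Localization.AtPrime n))
  haveI : IsNoetherianRing Bn := IsLocalization.isNoetherianRing S Bn inferInstance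
  haveI : Module.Flat B Bn := IsLocalization.flat Bn S
  haveI := FlatHom.isGE_G (B := Bn) (R.obj ω) a'
  obtain ⟨eM⟩ := nonempty_ext_tensor (B := Bn) (ModuleCat.of B (B ⧸ n))
  let eF : (ModuleCat.extendScalars.{u, u, u} (algebraMap B Bn)).obj (ModuleCat.of B (B ⧸ n)) ≃ₗ[Bn]
      IsLocalRing.ResidueField Bn :=
    eM ≪≫ₗ (Algebra.TensorProduct.quotIdealMapEquivTensorQuot Bn n).symm.toLinearEquiv ≪≫ₗ
      Submodule.quotEquivOfEq _ _ (Localization.AtPrime.map_eq_maximalIdeal (I := n))
  refine isDualizing_of_residue (fun i => @finite_HD_extD _ _ _ _ _ _ _ (R.obj ω) i (hfin i)) a' d (fun i hi => ?_) ?_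
  · obtain ⟨e⟩ := FlatHom.nonempty_flat_E (B := Bn) (B ⧸ n) (R.obj ω) a' i
    haveI := hv i hi
    haveI : Subsingleton (Bn ⊗[B] E (R.obj ω) (B ⧸ n) i) := subsingleton_of_forall_eq 0 fun z => by
      induction z using TensorProduct.induction_on with
      | zero => rfl
      | tmul b f => rw [Subsingleton.elim f 0, TensorProduct.tmul_zero]
      | add x y hx hy => rw [hx, hy, add_zero]
    haveI := e.symm.injective.subsingleton
    exact (econgr _ eF i).injective.subsingleton
  · obtain ⟨e⟩ := FlatHom.nonempty_flat_E (B := Bn) (B ⧸ n) (R.obj ω) a' d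
    exact ⟨econgr _ eF d ≪≫ₗ e.symm ≪≫ₗ LinearEquiv.baseChange B Bn _ _ ho ≪≫ₗ eM.symm ≪≫ₗ eF⟩

end FiniteAdjoint

end Groth.Agent.DualLib
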