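import Groth.Agent.DualLib.Basic
import Groth.Agent.LocCoh.Local
import Mathlib.Algebra.Homology.DerivedCategory.Ext.ExtClass
import Mathlib.Algebra.Homology.DerivedCategory.Ext.Linear

/-! Composition `Extⁱ(N, M) × Hom(M, ω⟦-i⟧) → Hom(N, ω)`. -/

set_option autoImplicit false
set_option backward.isDefEq.respectTransparency false
set_option backward.defeqAttrib.useBackward true
set_option linter.style.haveILetI false

universe u

open CategoryTheory CategoryTheory.Limits CategoryTheory.Pretriangulated CategoryTheory.Abelian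

attribute [local instance] HasDerivedCategory.standard

namespace Groth.Agent.DualLib

variable {A : Type u} [CommRing A] {ω : Dual.D A}

/-- The pairing. -/
noncomputable def pair {X Y : ModuleCat.{u} A} {i : ℕ} (x : Ext X Y i)
    (φ : (S0 A).obj Y ⟶ ω⟦(-(i : ℤ))⟧) : (S0 A).obj X ⟶ ω⟦(0 : ℤ)⟧ :=
  x.hom.comp φ (by omega)

variable {X X' Y Y' : ModuleCat.{u} A} {i : ℕ}

lemma pair_add (x : Ext X Y i) (φ ψ : (S0 A).obj Y ⟶ ω⟦(-(i : ℤ))⟧) : pair x (φ + ψ) = pair x φ + pair x ψ :=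
  ShiftedHom.comp_add _ _ _ _

lemma add_pair (x y : Ext X Y i) (φ : (S0 A).obj Y ⟶ ω⟦(-(i : ℤ))⟧) : pair (x + y) φ = pair x φ + pair y φ := by
  rw [pair, pair, pair, Ext.add_hom, ShiftedHom.add_comp]

lemma pair_smul (a : A) (x : Ext X Y i) (φ : (S0 A).obj Y ⟶ ω⟦(-(i : ℤ))⟧) : pair x (a • φ) = a • pair x φ :=
  ShiftedHom.comp_smul _ _ _ _

lemma smul_pair (a : A) (x : Ext X Y i) (φ : (S0 A).obj Y ⟶ ω⟦(-(i : ℤ))⟧) : pair (a • x) φ = a • pair x φ := by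
  rw [pair, pair, Ext.smul_hom, ShiftedHom.smul_comp]

lemma pair_mk₀_comp (g : X' ⟶ X) (x : Ext X Y i) (φ : (S0 A).obj Y ⟶ ω⟦(-(i : ℤ))⟧) :
    pair ((Ext.mk₀ g).comp x (zero_add i)) φ = (S0 A).map g ≫ pair x φ := by
  rw [pair, pair, Ext.comp_hom, Ext.mk₀_hom, ShiftedHom.comp_assoc _ _ _ (a₁₂ := (i : ℤ)) (a₂₃ := 0)
    (by omega) (by omega) (by omega), ShiftedHom.mk₀_comp]

lemma pair_comp_mk₀ (f : Y ⟶ Y') (x : Ext X Y i) (φ : (S0 A).obj Y' ⟶ ω⟦(-(i : ℤ))⟧) :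
    pair (x.comp (Ext.mk₀ f) (add_zero i)) φ = pair x ((S0 A).map f ≫ φ) := by
  rw [pair, pair, Ext.comp_hom, Ext.mk₀_hom, ShiftedHom.comp_assoc _ _ _ (a₁₂ := (i : ℤ))
    (a₂₃ := -(i : ℤ)) (by omega) (by omega) (by omega), ShiftedHom.mk₀_comp]

lemma pair_comp_extClass {S : ShortComplex (ModuleCat.{u} A)} (hS : S.ShortExact) {j : ℕ} (h : i + 1 = j)
    (x : Ext X S.X₃ i) (φ : (S0 A).obj S.X₁ ⟶ ω⟦(-(j : ℤ))⟧) :
    pair (x.comp hS.extClass h) φ =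
      pair x (delta ω hS.singleTriangle (-(j : ℤ)) (-(i : ℤ)) (by omega) φ) := by
  rw [pair, pair, Ext.comp_hom, ShortComplex.ShortExact.extClass_hom, ShiftedHom.comp_assoc _ _ _
    (a₁₂ := (j : ℤ)) (a₂₃ := -(i : ℤ)) (by omega) (by omega) (by omega)]
  rfl

end Groth.Agent.DualLib
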