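import Groth.Agent.DualLib.DualSystem
import Groth.Agent.DualLib.Pairing
import Groth.Agent.LocCoh.Vanishing
import Groth.Agent.LocCoh.Sum

/-! Local duality `Hⁱ_m(M) = Hom(Hom(M, ω⟦-i⟧), E)`. -/

set_option autoImplicit false
set_option backward.isDefEq.respectTransparency false
set_option backward.defeqAttrib.useBackward true
set_option linter.style.haveILetI false

universe u

open CategoryTheory CategoryTheory.Limits CategoryTheory.Pretriangulated CategoryTheory.Abelian

attribute [local instance] HasDerivedCategory.standard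

namespace Groth.Agent.DualLib

variable {A : Type u} [CommRing A] [IsLocalRing A]

local notation "𝔪" => IsLocalRing.maximalIdeal A

variable {ω : Dual.D A} {E₀ : Type u} [AddCommGroup E₀] [Module A E₀]

/-- A compatible system. -/
structure DualSystem (ω : Dual.D A) (E₀ : Type u) [AddCommGroup E₀] [Module A E₀] where
  toFun : ∀ n, E ω (N A n) 0 →ₗ[A] E₀
  injective : ∀ n, Function.Injective (toFun n)
  range : ∀ n, LinearMap.range (toFun n) = killed A E₀ n
  compat : ∀ {n k : ℕ} (h : n ≤ k), toFun k ∘ₗ emap ω (Nmap A h) 0 = toFun n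

variable (ρ : DualSystem ω E₀) {M : Type u} [AddCommGroup M] [Module A M]

/-- The stages of the duality map. -/
noncomputable def stage (n i : ℕ) :
    Ext (LocCoh.Q 𝔪 n) (ModuleCat.of A M) i →ₗ[A] (E ω M (-(i : ℤ)) →ₗ[A] E₀) where
  toFun x :=
    { toFun := fun φ => ρ.toFun n (pair x φ)
      map_add' := fun φ ψ => (congrArg (ρ.toFun n) (pair_add x φ ψ)).trans (map_add _ _ _)
      map_smul' := fun a φ => (congrArg (ρ.toFun n) (pair_smul a x φ)).trans (map_smul _ _ _) }
  map_add' x y := LinearMap.ext fun φ => (congrArg (ρ.toFun n) (add_pair x y φ)).trans (map_add _ _ _)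
  map_smul' a x := LinearMap.ext fun φ => (congrArg (ρ.toFun n) (smul_pair a x φ)).trans (map_smul _ _ _)

lemma stage_qmap {n k : ℕ} (h : n ≤ k) (i : ℕ) (x : Ext (LocCoh.Q 𝔪 n) (ModuleCat.of A M) i) :
    stage ρ k i ((Ext.mk₀ (LocCoh.qmap 𝔪 h)).comp x (zero_add i)) = stage ρ n i x :=
  LinearMap.ext fun φ => (congrArg (ρ.toFun k) (pair_mk₀_comp _ x φ)).trans
    (LinearMap.congr_fun (ρ.compat h) (pair x φ))

lemma stage_eq {n k i : ℕ} (x : Ext (LocCoh.Q 𝔪 n) (ModuleCat.of A M) i)
    (y : Ext (LocCoh.Q 𝔪 k) (ModuleCat.of A M) i) (h : LocCoh.cls n i x = LocCoh.cls k i y) :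
    stage ρ n i x = stage ρ k i y := by
  rw [← LocCoh.cls_qmap (le_max_left n k), ← LocCoh.cls_qmap (le_max_right n k), ← sub_eq_zero, ← map_sub,
    LocCoh.cls_eq_zero_iff] at h
  obtain ⟨l, hl, h⟩ := h
  have h' := congrArg (stage ρ l i) h
  rw [stage_qmap, map_zero, map_sub, stage_qmap, stage_qmap] at h'
  exact sub_eq_zero.1 h'

variable (M) in
/-- The duality map. -/
noncomputable def dualMap (i : ℕ) : _root_.LocCoh.H 𝔪 i M →ₗ[A] (E ω M (-(i : ℤ)) →ₗ[A] E₀) where
  toFun a := stage ρ _ i (LocCoh.exists_cls a).choose_spec.choose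
  map_add' a b := by
    have ha := (LocCoh.exists_cls a).choose_spec.choose_spec
    have hb := (LocCoh.exists_cls b).choose_spec.choose_spec
    rw [← stage_qmap ρ (le_max_left (LocCoh.exists_cls a).choose (LocCoh.exists_cls b).choose) i,
      ← stage_qmap ρ (le_max_right (LocCoh.exists_cls a).choose (LocCoh.exists_cls b).choose) i, ← map_add]
    refine stage_eq ρ _ _ ?_
    rw [(LocCoh.exists_cls (a + b)).choose_spec.choose_spec, map_add, LocCoh.cls_qmap, LocCoh.cls_qmap, ha, hb]
  map_smul' c a := by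
    have ha := (LocCoh.exists_cls a).choose_spec.choose_spec
    rw [RingHom.id_apply, ← map_smul]
    refine stage_eq ρ _ _ ?_
    rw [(LocCoh.exists_cls (c • a)).choose_spec.choose_spec, map_smul, ha]

lemma dualMap_cls (n i : ℕ) (x : Ext (LocCoh.Q 𝔪 n) (ModuleCat.of A M) i) (φ : E ω M (-(i : ℤ))) :
    dualMap ρ M i (LocCoh.cls n i x) φ = ρ.toFun n (pair x φ) :=
  LinearMap.congr_fun (stage_eq ρ _ x (LocCoh.exists_cls (LocCoh.cls n i x)).choose_spec.choose_spec) φ

variable {M' : Type u} [AddCommGroup M'] [Module A M']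

lemma dualMap_Hmap (f : M →ₗ[A] M') (i : ℕ) (a : _root_.LocCoh.H 𝔪 i M) (φ : E ω M' (-(i : ℤ))) :
    dualMap ρ M' i (LocCoh.Hmap 𝔪 i f a) φ = dualMap ρ M i a (emap ω f (-(i : ℤ)) φ) := by
  obtain ⟨n, x, rfl⟩ := LocCoh.exists_cls a
  rw [LocCoh.Hmap_cls, dualMap_cls, dualMap_cls, pair_comp_mk₀]
  rfl

variable {M'' : Type u} [AddCommGroup M''] [Module A M''] {f : M →ₗ[A] M'} {g : M' →ₗ[A] M''}
  (hf : Function.Injective f) (hg : Function.Surjective g) (hfg : Function.Exact f g)

lemma dualMap_connecting (i : ℕ) (a : _root_.LocCoh.H 𝔪 i M'') (φ : E ω M (-((i + 1 : ℕ) : ℤ))) :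
    dualMap ρ M (i + 1) (LocCoh.connecting 𝔪 hf hg hfg i a) φ =
      dualMap ρ M'' i a (delta ω (shortExact hf hg hfg).singleTriangle (-((i + 1 : ℕ) : ℤ)) (-(i : ℤ))
        (by omega) φ) := by
  obtain ⟨n, x, rfl⟩ := LocCoh.exists_cls a
  rw [show LocCoh.connecting 𝔪 hf hg hfg i (LocCoh.cls n i x) =
      LocCoh.cls n (i + 1) (x.comp (LocCoh.shortExact_of hf hg hfg).extClass rfl) from
    LocCoh.δ_toH (F := localCohomology.idealPowersDiagram 𝔪) (LocCoh.shortExact_of hf hg hfg) rfl (Opposite.op n) x, dualMap_cls, dualMap_cls]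
  exact congrArg (ρ.toFun n) (pair_comp_extClass (LocCoh.shortExact_of hf hg hfg) rfl x φ)

lemma exists_of_comp_eq_zero [hinj : Module.Injective A E₀] {X Y Z : Type*} [AddCommGroup X] [Module A X]
    [AddCommGroup Y] [Module A Y] [AddCommGroup Z] [Module A Z] {u : X →ₗ[A] Y} {v : Y →ₗ[A] Z}
    (huv : Function.Exact u v) (t : Y →ₗ[A] E₀) (ht : t ∘ₗ u = 0) : ∃ s : Z →ₗ[A] E₀, s ∘ₗ v = t := by
  obtain ⟨s, hs⟩ := (Module.Baer.of_injective hinj).extension_property (Submodule.liftQ (LinearMap.ker v) v le_rfl)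
    (LinearMap.ker_eq_bot.1 (Submodule.ker_liftQ_eq_bot _ _ _ le_rfl))
    (Submodule.liftQ (LinearMap.ker v) t fun y hy => by
      obtain ⟨x, rfl⟩ := (huv y).1 hy
      exact LinearMap.congr_fun ht x)
  exact ⟨s, LinearMap.ext fun y => LinearMap.congr_fun hs (Submodule.Quotient.mk y)⟩

variable [IsNoetherianRing A] (hω : Dual.IsDualizing A ω) (hn : Dual.IsNormalized A ω)
  {f₀ : IsLocalRing.ResidueField A →ₗ[A] E₀} (hf₀ : InjHull.IsInjectiveHull f₀)
include hω hn hf₀

lemma length_dual_E (N' : Type u) [AddCommGroup N'] [Module A N'] (hN : IsFiniteLength A N') :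
    Module.length A (E ω N' 0 →ₗ[A] E₀) = Module.length A N' := by
  haveI : Module.Finite A N' := by
    haveI := (isFiniteLength_iff_isNoetherian_isArtinian.1 hN).1
    infer_instance
  obtain ⟨e⟩ := exists_matlis_equiv hω hn hf₀ N' hN
  obtain ⟨k, hk⟩ := Matlis6.exists_pow_killed_of_isFiniteLength hN
  have hE := Matlis6.of_isInjectiveHull_residueField hf₀
  rw [LinearEquiv.length_eq (LinearEquiv.congrLeft E₀ A e)]
  exact (LinearEquiv.length_eq (LinearEquiv.ofBijective _ (hE.applyl_bijective hN hk))).symm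

/-- Degree zero. -/
lemma dualMap_zero_bijective (M : Type u) [AddCommGroup M] [Module A M] [Module.Finite A M] :
    Function.Bijective (dualMap ρ M 0) := by
  haveI : IsNoetherian A M := isNoetherian_of_isNoetherianRing_of_finite A M
  let T : Submodule A M := LocCoh.powTorsion 𝔪 M
  have hTsupp : Module.support A T ⊆ {IsLocalRing.closedPoint A} := fun p hp => by
    obtain ⟨⟨m, k, hk⟩, hm⟩ := Module.mem_support_iff'.1 hp
    refine PrimeSpectrum.ext ((IsLocalRing.maximalIdeal.isMaximal A).eq_of_le p.2.ne_top ?_).symm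
    refine p.2.le_of_pow_le (n := k) fun a ha => ?_
    by_contra hap
    exact hm a hap (Subtype.ext (hk a ha))
  have hT : IsFiniteLength A T := by
    rw [EGA41Lib.isFiniteLength_iff_supportDim_le_zero]
    refine supportDim_le_of_coheight 0 fun q hq => le_of_eq ?_
    rw [hTsupp hq]
    exact Order.coheight_eq_zero.2 fun r _ => IsLocalRing.le_maximalIdeal r.2.ne_top
  have hinj : Function.Injective (dualMap ρ M 0) := by
    rw [injective_iff_map_eq_zero]
    intro a ha
    obtain ⟨n, x, rfl⟩ := LocCoh.exists_cls a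
    obtain ⟨φ, rfl⟩ : ∃ φ, Ext.mk₀ φ = x := ⟨_, Ext.mk₀_addEquiv₀_apply x⟩
    suffices hφ : φ.hom = 0 by
      rw [show φ = 0 from ModuleCat.hom_ext hφ, Ext.mk₀_zero, map_zero]
    let π := φ.hom.rangeRestrict
    let ι := (LinearMap.range φ.hom).subtype
    have hker : Module.Finite A (LinearMap.ker π) := Module.Finite.of_fg (IsNoetherian.noetherian _)
    have hπi : Function.Injective (emap ω π 0) :=
      injective_emap (W := ω) (Submodule.injective_subtype _) φ.hom.surjective_rangeRestrict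
        (LinearMap.exact_subtype_ker_map _) 0 (subsingleton_of_ne hn _
          ((Module.support_subset_of_injective _ (Submodule.injective_subtype _)).trans
            (support_subset_of_isFiniteLength (isFiniteLength_N n))) _ (by omega))
    have hιs : Function.Surjective (emap ω ι 0) :=
      surjective_emap (W := ω) (Submodule.injective_subtype _) (Submodule.mkQ_surjective _)
        (LinearMap.exact_subtype_mkQ _) 0 (subsingleton_of_pos hω hn _ _ (by omega))
    have hL : IsFiniteLength A (LinearMap.range φ.hom) :=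
      (isFiniteLength_N n).of_surjective φ.hom.surjective_rangeRestrict
    by_contra hne
    haveI : Nontrivial (LinearMap.range φ.hom) :=
      Submodule.nontrivial_iff_ne_bot.2 (fun h => hne (LinearMap.range_eq_bot.1 h))
    obtain ⟨z, hz⟩ := (nontrivial_iff_exists_ne (0 : E ω (LinearMap.range φ.hom) 0)).1
      (nontrivial_of_isFiniteLength hω hn _ hL)
    obtain ⟨ψ, rfl⟩ := hιs z
    apply hz
    apply hπi
    rw [map_zero]
    apply ρ.injective n
    rw [map_zero, ← LinearMap.comp_apply (emap ω π 0), ← emap_comp,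
      show ι ∘ₗ π = φ.hom from LinearMap.ext fun _ => rfl]
    have h' := LinearMap.congr_fun ha ψ
    rw [dualMap_cls] at h'
    refine Eq.trans ?_ h'
    rw [pair, Ext.mk₀_hom, ShiftedHom.mk₀_comp]
    rfl
  have h1 : Module.length A (E ω M (-((0 : ℕ) : ℤ)) →ₗ[A] E₀) = Module.length A (E ω T 0 →ₗ[A] E₀) := by
    haveI := hTsupp
    have hQ : Subsingleton (E ω (M ⧸ T) 0) := by
      obtain ⟨x, hx, hreg⟩ := LocCoh.exists_regular_of_powTorsion_eq_bot (LocCoh.powTorsion_quotient_eq_bot (J := 𝔪) M)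
      haveI := finite hω (M ⧸ T) 0
      let μ : (M ⧸ T) →ₗ[A] (M ⧸ T) := x • LinearMap.id
      have hs : Function.Surjective (emap ω μ 0) :=
        surjective_emap (W := ω) (f := μ) hreg (Submodule.mkQ_surjective _) (LinearMap.exact_map_mkQ_range μ) 0
          (subsingleton_of_pos hω hn _ _ (by omega))
      refine Submodule.subsingleton_iff A |>.1 (subsingleton_of_bot_eq_top ?_)
      refine (Submodule.eq_bot_of_le_smul_of_le_jacobson_bot 𝔪 ⊤ Module.Finite.fg_top (fun z _ => ?_)
        (IsLocalRing.maximalIdeal_le_jacobson _)).symm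
      obtain ⟨w, rfl⟩ := hs z
      rw [show emap ω μ 0 w = x • w from emap_smul_id ω x 0 w]
      exact Submodule.smul_mem_smul hx trivial
    have hb : Function.Bijective (emap ω T.subtype 0) :=
      ⟨fun a b hab => by
        rw [← sub_eq_zero, ← map_sub] at hab
        obtain ⟨c, hc⟩ := (exact_emap (W := ω) T.injective_subtype T.mkQ_surjective
          (LinearMap.exact_subtype_mkQ _) 0 _).1 hab
        rw [Subsingleton.elim c 0, map_zero] at hc
        exact sub_eq_zero.1 hc.symm,
      surjective_emap (W := ω) T.injective_subtype T.mkQ_surjective (LinearMap.exact_subtype_mkQ _) 0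
        (subsingleton_of_pos hω hn _ _ (by omega))⟩
    exact LinearEquiv.length_eq (LinearEquiv.congrLeft E₀ A (LinearEquiv.ofBijective _ hb))
  rw [length_dual_E hω hn hf₀ T hT] at h1
  refine ⟨hinj, ?_⟩
  have h2 : Module.length A (_root_.LocCoh.H 𝔪 0 M) = Module.length A T :=
    LinearEquiv.length_eq (LocCoh.H0Equiv 𝔪 M)
  have h3 := Module.length_eq_add_of_exact (dualMap ρ M 0) (LinearMap.range (dualMap ρ M 0)).mkQ hinj
    (Submodule.mkQ_surjective _) (LinearMap.exact_map_mkQ_range _)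
  rw [h1, h2] at h3
  have h4 : Module.length A ((E ω M (-((0 : ℕ) : ℤ)) →ₗ[A] E₀) ⧸ LinearMap.range (dualMap ρ M 0)) = 0 := by
    have hne : Module.length A T ≠ ⊤ := Module.length_ne_top_iff.2 hT
    exact (WithTop.add_left_cancel hne (by rw [← h3, add_zero] : Module.length A T + 0 = _)).symm
  rw [Module.length_eq_zero_iff, Submodule.Quotient.subsingleton_iff] at h4
  exact LinearMap.range_eq_top.1 h4

omit hω hn hf₀ [IsNoetherianRing A] in
lemma smul_cls_eq_zero (n i : ℕ) (x : Ext (LocCoh.Q 𝔪 n) (ModuleCat.of A M) i) {r : A} (hr : r ∈ 𝔪 ^ n) :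
    r • LocCoh.cls n i x = 0 := by
  rw [← map_smul]
  have h : r • 𝟙 (LocCoh.Q 𝔪 n) = 0 := ModuleCat.hom_ext (LinearMap.ext fun z => by
    obtain ⟨b, rfl⟩ := Submodule.Quotient.mk_surjective _ z
    show r • (Submodule.Quotient.mk b : N A n) = 0
    rw [← Submodule.Quotient.mk_smul, Submodule.Quotient.mk_eq_zero]
    exact Ideal.mul_mem_right _ _ hr)
  have h2 : r • x = (Ext.mk₀ (r • 𝟙 (LocCoh.Q 𝔪 n))).comp x (zero_add i) := by
    rw [Ext.mk₀_smul, Ext.smul_comp, Ext.mk₀_id_comp]
  rw [h2, h, Ext.mk₀_zero, Ext.zero_comp, map_zero]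

omit hω hn [IsNoetherianRing A] hf₀ in
lemma smul_dual {X : Type*} [AddCommGroup X] [Module A X] {n : ℕ} (t : X →ₗ[A] E₀)
    (ht : ∀ z, t z ∈ killed A E₀ n) {r : A} (hr : r ∈ 𝔪 ^ n) : r • t = 0 :=
  LinearMap.ext fun z => ht z r hr

omit hω hn in
/-- Elements of the dual of a finite module are killed by a power of `𝔪`. -/
lemma exists_killed {X : Type*} [AddCommGroup X] [Module A X] [Module.Finite A X] (t : X →ₗ[A] E₀) :
    ∃ n, ∀ z, t z ∈ killed A E₀ n := by
  obtain ⟨S, hS⟩ := (‹Module.Finite A X›).fg_top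
  have hE := Matlis6.of_isInjectiveHull_residueField hf₀
  choose k hk using fun z : X => hE.isPowerTorsion (t z)
  refine ⟨S.sup k, fun z => ?_⟩
  have hz : z ∈ Submodule.span A (S : Set X) := hS ▸ trivial
  induction hz using Submodule.span_induction with
  | mem z hz => exact fun a ha => hk z a (Ideal.pow_le_pow_right (Finset.le_sup hz) ha)
  | zero => rw [map_zero]; exact Submodule.zero_mem _
  | add a b _ _ h1 h2 => rw [map_add]; exact Submodule.add_mem _ h1 h2
  | smul c a _ h => rw [map_smul]; exact Submodule.smul_mem _ c h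

omit hn in
/-- The inductive step for a module of positive depth. -/
lemma dualMap_succ_bijective_of_regular (i : ℕ)
    (ih : ∀ (P : Type u) [AddCommGroup P] [Module A P] [Module.Finite A P], Function.Bijective (dualMap ρ P i))
    (M : Type u) [AddCommGroup M] [Module A M] [Module.Finite A M] {x : A} (hx : x ∈ 𝔪)
    (hreg : IsSMulRegular M x) : Function.Bijective (dualMap ρ M (i + 1)) := by
  haveI : Module.Injective A E₀ := hf₀.isInjective
  haveI hfin := finite hω M (-((i + 1 : ℕ) : ℤ))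
  have key : ∀ k : ℕ,
      (∀ a, x ^ k • a = 0 → dualMap ρ M (i + 1) a = 0 → a = 0) ∧
      ∀ t : E ω M (-((i + 1 : ℕ) : ℤ)) →ₗ[A] E₀, x ^ k • t = 0 → ∃ a, dualMap ρ M (i + 1) a = t := by
    intro k
    let μ : M →ₗ[A] M := (x ^ k) • LinearMap.id
    have hμ : Function.Injective μ := hreg.pow k
    let π := (LinearMap.range μ).mkQ
    have hπ : Function.Surjective π := Submodule.mkQ_surjective _
    have hex : Function.Exact μ π := LinearMap.exact_map_mkQ_range μ
    let D : E ω M (-((i + 1 : ℕ) : ℤ)) →ₗ[A] E ω (M ⧸ LinearMap.range μ) (-(i : ℤ)) :=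
      delta ω (shortExact hμ hπ hex).singleTriangle (-((i + 1 : ℕ) : ℤ)) (-(i : ℤ)) (by omega)
    constructor
    · intro a ha0 ha
      have h0 : LocCoh.Hmap 𝔪 (i + 1) μ a = 0 := by
        rw [LocCoh.Hmap_smul, LocCoh.Hmap_id]; exact ha0
      obtain ⟨b, rfl⟩ := (LocCoh.connecting_Hmap_exact (I := 𝔪) hμ hπ hex i a).1 h0
      have hb : dualMap ρ _ i b ∘ₗ D = 0 := LinearMap.ext fun φ => by
        exact (dualMap_connecting ρ hμ hπ hex i b φ).symm.trans (LinearMap.congr_fun ha φ)
      have hex2 : Function.Exact D (emap ω π (-(i : ℤ))) :=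
        exact_delta_pre (W := ω) _ (shortExact hμ hπ hex).singleTriangle_distinguished _ _ (by omega)
      obtain ⟨t, ht⟩ := exists_of_comp_eq_zero hex2 _ hb
      obtain ⟨c, rfl⟩ := (ih M).2 t
      have hc : LocCoh.Hmap 𝔪 i π c = b := (ih _).1 (LinearMap.ext fun φ => by
        rw [dualMap_Hmap]; exact LinearMap.congr_fun ht φ)
      rw [← hc]
      exact (LocCoh.Hmap_connecting_exact (I := 𝔪) hμ hπ hex i _).2 ⟨c, rfl⟩
    · intro t ht
      have h0 : t ∘ₗ emap ω μ (-((i + 1 : ℕ) : ℤ)) = 0 := LinearMap.ext fun φ => by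
        rw [LinearMap.comp_apply, show emap ω μ _ φ = x ^ k • φ from emap_smul_id ω _ _ φ, map_smul]
        exact LinearMap.congr_fun ht φ
      have hex1 : Function.Exact (emap ω μ (-((i + 1 : ℕ) : ℤ))) D :=
        exact_pre_delta (W := ω) _ (shortExact hμ hπ hex).singleTriangle_distinguished _ _ (by omega)
      obtain ⟨s, hs⟩ := exists_of_comp_eq_zero hex1 t h0
      obtain ⟨b, rfl⟩ := (ih _).2 s
      exact ⟨LocCoh.connecting 𝔪 hμ hπ hex i b, LinearMap.ext fun φ => by
        exact (dualMap_connecting ρ hμ hπ hex i b φ).trans (LinearMap.congr_fun hs φ)⟩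
  constructor
  · rw [injective_iff_map_eq_zero]
    intro a ha
    obtain ⟨n, y, rfl⟩ := LocCoh.exists_cls a
    exact (key n).1 _ (smul_cls_eq_zero n (i + 1) y (Ideal.pow_mem_pow hx n)) ha
  · intro t
    obtain ⟨n, hn'⟩ := exists_killed hf₀ t
    exact (key n).2 t (smul_dual t hn' (Ideal.pow_mem_pow hx n))

/-- **Local duality**. -/
theorem dualMap_bijective : ∀ (i : ℕ) (M : Type u) [AddCommGroup M] [Module A M] [Module.Finite A M],
    Function.Bijective (dualMap ρ M i) := by
  intro i
  induction i with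
  | zero => intro M _ _ _; exact dualMap_zero_bijective ρ hω hn hf₀ M
  | succ i ih =>
    intro M _ _ _
    haveI : IsNoetherian A M := isNoetherian_of_isNoetherianRing_of_finite A M
    let T : Submodule A M := LocCoh.powTorsion 𝔪 M
    have hTsupp : Module.support A T ⊆ {IsLocalRing.closedPoint A} := fun p hp => by
      obtain ⟨⟨m, k, hk⟩, hm⟩ := Module.mem_support_iff'.1 hp
      refine PrimeSpectrum.ext ((IsLocalRing.maximalIdeal.isMaximal A).eq_of_le p.2.ne_top ?_).symm
      refine p.2.le_of_pow_le (n := k) fun a ha => ?_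
      by_contra hap
      exact hm a hap (Subtype.ext (hk a ha))
    have hT0 : Module.supportDim A T ≤ ((0 : ℕ) : WithBot ℕ∞) := supportDim_le_of_coheight 0 fun q hq => le_of_eq (by
      rw [hTsupp hq]
      exact Order.coheight_eq_zero.2 fun r _ => IsLocalRing.le_maximalIdeal r.2.ne_top)
    haveI hH : ∀ j, Subsingleton (_root_.LocCoh.H 𝔪 (j + 1) T) := fun j =>
      LocCoh.subsingleton_H_of_supportDim_lt (hT0.trans_lt (by exact_mod_cast Nat.succ_pos j))
    have hQ : Function.Bijective (dualMap ρ (M ⧸ T) (i + 1)) := by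
      obtain ⟨x, hx, hreg⟩ := LocCoh.exists_regular_of_powTorsion_eq_bot
        (LocCoh.powTorsion_quotient_eq_bot (J := 𝔪) M)
      exact dualMap_succ_bijective_of_regular ρ hω hf₀ i ih (M ⧸ T) hx hreg
    have hHb : Function.Bijective (LocCoh.Hmap 𝔪 (i + 1) T.mkQ) := by
      constructor
      · rw [injective_iff_map_eq_zero]
        intro a ha
        obtain ⟨b, rfl⟩ := (LocCoh.Hmap_exact (I := 𝔪) T.injective_subtype T.mkQ_surjective
          (LinearMap.exact_subtype_mkQ _) (i + 1) a).1 ha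
        rw [Subsingleton.elim b 0, map_zero]
      · intro a
        exact (LocCoh.Hmap_connecting_exact (I := 𝔪) T.injective_subtype T.mkQ_surjective
          (LinearMap.exact_subtype_mkQ _) (i + 1) a).1 (Subsingleton.elim _ _)
    have hEb : Function.Bijective (emap ω T.mkQ (-((i + 1 : ℕ) : ℤ))) := by
      refine ⟨injective_emap (W := ω) T.injective_subtype T.mkQ_surjective (LinearMap.exact_subtype_mkQ _) _
        (subsingleton_of_ne hn _ hTsupp _ (by omega)), fun z => ?_⟩
      haveI := subsingleton_of_ne hn T hTsupp (-((i + 1 : ℕ) : ℤ)) (by omega)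
      exact (exact_emap (W := ω) T.injective_subtype T.mkQ_surjective (LinearMap.exact_subtype_mkQ _) _ z).1
        (Subsingleton.elim _ _)
    constructor
    · intro a b hab
      apply hHb.1
      apply hQ.1
      ext φ
      rw [dualMap_Hmap, dualMap_Hmap, hab]
    · intro t
      obtain ⟨a, ha⟩ := hQ.2 (t ∘ₗ emap ω T.mkQ _)
      obtain ⟨b, rfl⟩ := hHb.2 a
      refine ⟨b, LinearMap.ext fun φ => ?_⟩
      obtain ⟨ψ, rfl⟩ := hEb.2 φ
      rw [← dualMap_Hmap]
      exact LinearMap.congr_fun ha ψ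

omit hf₀ in
/-- Local duality, existence form. -/
theorem nonempty_localDuality {f₀ : IsLocalRing.ResidueField A →ₗ[A] E₀} (hf₀ : InjHull.IsInjectiveHull f₀)
    (M : Type u) [AddCommGroup M] [Module A M] [Module.Finite A M] (i : ℕ) :
    Nonempty (_root_.LocCoh.H 𝔪 i M ≃ₗ[A] (E ω M (-(i : ℤ)) →ₗ[A] E₀)) := by
  obtain ⟨ρ, h1, h2, h3⟩ := exists_dualSystem hω hn hf₀
  exact ⟨LinearEquiv.ofBijective _ (dualMap_bijective (⟨ρ, h1, h2, h3⟩ : DualSystem ω E₀) hω hn hf₀ i M)⟩

end Groth.Agent.DualLib
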