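import Groth.Agent.DualLib.FlatGlobal
import Groth.Agent.DualLib.FiniteAdjoint
import Groth.Agent.DualLib.LocalDuality
import Groth.Agent.Matlis6.HullExistence
import Mathlib.RingTheory.Finiteness.Descent

/-! Faithfully flat descent of dualizing complexes. -/

set_option autoImplicit false
set_option backward.isDefEq.respectTransparency false
set_option backward.defeqAttrib.useBackward true
set_option linter.style.haveILetI false

universe u

open CategoryTheory CategoryTheory.Limits CategoryTheory.Pretriangulated DerivedCategory IsLocalRing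
open scoped TensorProduct

attribute [local instance] HasDerivedCategory.standard

namespace Groth.Agent.DualLib

lemma subsingleton_tensor {A B : Type u} [CommRing A] [CommRing B] [Algebra A B] {M : Type*} [AddCommGroup M]
    [Module A M] [Subsingleton M] : Subsingleton (B ⊗[A] M) :=
  subsingleton_of_forall_eq 0 fun z => by
    induction z using TensorProduct.induction_on with
    | zero => rfl
    | tmul b f => rw [Subsingleton.elim f 0, TensorProduct.tmul_zero]
    | add x y hx hy => rw [hx, hy, add_zero]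

/-- An object dual to each residue field is dualizing. -/
theorem isDualizing_of_isDualIn {C : Type u} [CommRing C] [IsNoetherianRing C] {R : Dual.D C}
    (hfin : ∀ i, Module.Finite C (Dual.HD C R i)) {a b : ℤ} (hinj : DRing.HasInjAmplitudeIn C a b R)
    (h : ∀ (n : Ideal C) [n.IsMaximal], ∃ d, IsDualIn R (C ⧸ n) d) : Dual.IsDualizing C R := by
  haveI := isGE_of_injAmp hinj
  refine isDualizing_of_local hfin (isSmall_of_injAmp hinj hfin) hinj fun n hn => ?_
  obtain ⟨d, hv, ⟨ho⟩⟩ := h n
  let S := n.primeCompl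
  let Cn := Localization S
  haveI : IsLocalRing Cn := inferInstanceAs (IsLocalRing (Localization.AtPrime n))
  haveI : IsNoetherianRing Cn := IsLocalization.isNoetherianRing S Cn inferInstance
  haveI : Module.Flat C Cn := IsLocalization.flat Cn S
  haveI := FlatHom.isGE_G (B := Cn) R a
  obtain ⟨eM⟩ := nonempty_ext_tensor (B := Cn) (ModuleCat.of C (C ⧸ n))
  let eF : (ModuleCat.extendScalars.{u, u, u} (algebraMap C Cn)).obj (ModuleCat.of C (C ⧸ n)) ≃ₗ[Cn]
      ResidueField Cn :=
    eM ≪≫ₗ (Algebra.TensorProduct.quotIdealMapEquivTensorQuot Cn n).symm.toLinearEquiv ≪≫ₗ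
      Submodule.quotEquivOfEq _ _ (Localization.AtPrime.map_eq_maximalIdeal (I := n))
  refine isDualizing_of_residue (fun i => @finite_HD_extD _ _ _ _ _ _ _ R i (hfin i)) a d (fun i hi => ?_) ?_
  · obtain ⟨e⟩ := FlatHom.nonempty_flat_E (B := Cn) (C ⧸ n) R a i
    haveI := hv i hi
    haveI : Subsingleton (Cn ⊗[C] E R (C ⧸ n) i) := subsingleton_tensor
    haveI := e.symm.injective.subsingleton
    exact (econgr _ eF i).injective.subsingleton
  · obtain ⟨e⟩ := FlatHom.nonempty_flat_E (B := Cn) (C ⧸ n) R a d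
    exact ⟨econgr _ eF d ≪≫ₗ e.symm ≪≫ₗ LinearEquiv.baseChange C Cn _ _ ho ≪≫ₗ eM.symm ≪≫ₗ eF⟩

/-- A nonzero finite length module whose dual is a power of itself: the power is one. -/
lemma eq_one_of_E_equiv_pi {C : Type u} [CommRing C] [IsLocalRing C] [IsNoetherianRing C] {W : Dual.D C}
    (hW : Dual.IsDualizing C W) (hn : Dual.IsNormalized C W) {F : Type u} [AddCommGroup F] [Module C F] [Nontrivial F]
    (hF : IsFiniteLength C F) {r : ℕ} (e : E W F 0 ≃ₗ[C] (Fin r → F)) : r = 1 := by
  obtain ⟨E₀, _, _, f, hf⟩ := Matlis6.exists_isInjectiveHull C (ResidueField C)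
  have h1 := length_dual_E hW hn hf F hF
  obtain ⟨em⟩ := exists_matlis_equiv hW hn hf F hF
  let e1 : ((Fin r → F) →ₗ[C] E₀) ≃ₗ[C] (Fin r → (Fin r → F)) :=
    (LinearMap.lsum C (fun _ : Fin r => F) C).symm ≪≫ₗ LinearEquiv.piCongrRight fun _ => em.symm ≪≫ₗ e
  rw [LinearEquiv.length_eq ((e.congrLeft E₀ C) ≪≫ₗ e1), Module.length_pi_of_fintype] at h1
  simp only [Module.length_pi_of_fintype, Finset.sum_const, Finset.card_univ, Fintype.card_fin, nsmul_eq_mul] at h1
  obtain ⟨L, hL⟩ := ENat.ne_top_iff_exists.1 (Module.length_ne_top_iff.2 hF)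
  have hL0 : L ≠ 0 := by
    rintro rfl
    exact not_subsingleton F (Module.length_eq_zero_iff.1 hL.symm)
  rw [← hL, ← mul_assoc, ← Nat.cast_mul, ← Nat.cast_mul, Nat.cast_inj, mul_left_eq_self₀] at h1
  exact Nat.eq_one_of_mul_eq_one_right (h1.resolve_right hL0)

variable {A B : Type u} [CommRing A] [CommRing B] [Algebra A B] [IsNoetherianRing A] [IsNoetherianRing B]
  [Module.FaithfullyFlat A B]
  [PreservesFiniteLimits (ModuleCat.extendScalars.{u, u, u} (algebraMap A B))]
  [PreservesFiniteColimits (ModuleCat.extendScalars.{u, u, u} (algebraMap A B))]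

/-- Faithfully flat descent. -/
theorem isDualizing_of_extD {K : Dual.D A} (h : Dual.IsDualizing B ((extD (algebraMap A B)).obj K)) :
    Dual.IsDualizing A K := by
  let G := extD (algebraMap A B)
  have eH : ∀ i, Nonempty (Dual.HD B (G.obj K) i ≃ₗ[B] B ⊗[A] Dual.HD A K i) := fun i => by
    obtain ⟨e⟩ := nonempty_ext_tensor (B := B) ((homologyFunctor (ModuleCat.{u} A) i).obj K)
    exact ⟨((FlatHom.hNat (B := B) i).app K).toLinearEquiv ≪≫ₗ e⟩
  have hfin : ∀ i, Module.Finite A (Dual.HD A K i) := fun i => by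
    obtain ⟨e⟩ := eH i
    haveI := h.finite_cohomology i
    haveI : Module.Finite B (B ⊗[A] Dual.HD A K i) := Module.Finite.equiv e
    exact Module.Finite.of_finite_tensorProduct_of_faithfullyFlat B
  obtain ⟨a', b', hge', -⟩ := exists_bound h
  haveI : K.IsGE a' := (DRingLib.isGE_iff_HD K a').2 fun i hi => by
    obtain ⟨e⟩ := eH i
    haveI : Subsingleton (Dual.HD B (G.obj K) i) := (DRingLib.isGE_iff_HD _ a').1 hge' i hi
    haveI := e.symm.injective.subsingleton
    exact Module.FaithfullyFlat.lTensor_reflects_triviality A B _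
  obtain ⟨a, b, hab⟩ := h.finite_injective_dimension
  have hbd : ∀ (I : Ideal A) (i : ℤ), (i < a ∨ b < i) → Subsingleton (E K (A ⧸ I) i) := fun I i hi => by
    obtain ⟨e⟩ := FlatHom.nonempty_flat_E (B := B) (A ⧸ I) K a' i
    haveI := hab ((ModuleCat.extendScalars.{u, u, u} (algebraMap A B)).obj (ModuleCat.of A (A ⧸ I))) i hi
    haveI : Subsingleton (B ⊗[A] E K (A ⧸ I) i) := e.injective.subsingleton
    exact Module.FaithfullyFlat.lTensor_reflects_triviality A B _
  have hinj := ((S6965.result A K a b).out 0 2).2 hbd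
  refine isDualizing_of_isDualIn hfin hinj fun m hm => ?_
  have hne : m.map (algebraMap A B) ≠ ⊤ := fun ht => hm.ne_top (by
    rw [← Ideal.comap_map_eq_self_of_faithfullyFlat (B := B) m, ht, Ideal.comap_top])
  obtain ⟨M₀, hM₀, hle⟩ := Ideal.exists_le_maximal _ hne
  obtain ⟨P, hP, -⟩ := Ideal.exists_minimalPrimes_le hle
  haveI : P.IsPrime := hP.1.1
  let BP := Localization.AtPrime P
  haveI : IsNoetherianRing BP := IsLocalization.isNoetherianRing P.primeCompl BP inferInstance
  haveI : Module.Flat B BP := IsLocalization.flat BP P.primeCompl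
  haveI : Module.Flat A BP := Module.Flat.trans A B BP
  haveI := preservesFiniteLimits_flat (A := B) (B := BP)
  haveI := preservesFiniteColimits_ext (A := B) (B := BP)
  haveI := preservesFiniteLimits_flat (A := A) (B := BP)
  haveI := preservesFiniteColimits_ext (A := A) (B := BP)
  obtain ⟨e2⟩ := nonempty_extD_comp (algebraMap A B) (algebraMap B BP) (algebraMap A BP)
    (IsScalarTower.algebraMap_eq A B BP).symm K
  let W := (extD (algebraMap A BP)).obj K
  have hW : Dual.IsDualizing BP W := isDualizing_of_iso e2 (isDualizing_extD P.primeCompl h)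
  obtain ⟨c, hc⟩ := exists_normalized hW
  let F := BP ⧸ m.map (algebraMap A BP)
  have hmP : m.map (algebraMap A BP) ≤ maximalIdeal BP := by
    rw [IsScalarTower.algebraMap_eq A B BP, ← Ideal.map_map, ← Localization.AtPrime.map_eq_maximalIdeal]
    exact Ideal.map_mono hP.1.2
  haveI : Nontrivial F := Ideal.Quotient.nontrivial_iff.2 fun ht =>
    (maximalIdeal.isMaximal BP).ne_top (top_le_iff.1 (ht ▸ hmP))
  have hF : IsFiniteLength BP F := by
    rw [EGA41Lib.isFiniteLength_iff_supportDim_le_zero]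
    refine supportDim_le_of_coheight 0 fun q hq => le_of_eq ?_
    have h1 : m.map (algebraMap A BP) ≤ q.asIdeal := by
      simpa [F, Module.support_eq_zeroLocus, Ideal.annihilator_quotient] using hq
    have h2 : P ≤ q.asIdeal.comap (algebraMap B BP) := by
      refine hP.2 ⟨Ideal.IsPrime.comap _, ?_⟩ ?_
      · rw [← Ideal.map_le_iff_le_comap, Ideal.map_map, ← IsScalarTower.algebraMap_eq]
        exact h1
      · calc q.asIdeal.comap (algebraMap B BP) ≤ (maximalIdeal BP).comap (algebraMap B BP) :=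
            Ideal.comap_mono (le_maximalIdeal q.2.ne_top)
          _ = P := IsLocalization.AtPrime.comap_maximalIdeal BP P
    have h3 : q = IsLocalRing.closedPoint BP := by
      refine PrimeSpectrum.ext (le_antisymm (le_maximalIdeal q.2.ne_top) ?_)
      show maximalIdeal BP ≤ q.asIdeal
      rw [← Localization.AtPrime.map_eq_maximalIdeal]
      exact Ideal.map_le_iff_le_comap.2 h2
    rw [h3]
    exact Order.coheight_eq_zero.2 fun x _ => IsLocalRing.le_maximalIdeal x.2.ne_top
  obtain ⟨eM⟩ := nonempty_ext_tensor (B := BP) (ModuleCat.of A (A ⧸ m))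
  let eF : (ModuleCat.extendScalars.{u, u, u} (algebraMap A BP)).obj (ModuleCat.of A (A ⧸ m)) ≃ₗ[BP] F :=
    eM ≪≫ₗ (Algebra.TensorProduct.quotIdealMapEquivTensorQuot BP m).symm.toLinearEquiv
  have hV : ∀ i : ℤ, ∃ r : ℕ, Nonempty (E K (A ⧸ m) i ≃ₗ[A] (Fin r → A ⧸ m)) ∧
      Nonempty (E W F i ≃ₗ[BP] (Fin r → F)) := by
    intro i
    haveI : Module.Finite A (E K (A ⧸ m) i) :=
      finite_E hfin a' (fun N _ _ _ j hj => subsingleton_E_of_lt a' N j hj) (A ⧸ m) i
    have hker : ∀ x ∈ m, ∀ v : E K (A ⧸ m) i, x • v = 0 := fun x hx v =>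
      Module.mem_annihilator.1 (annihilator_le_annihilator K i (by rw [Ideal.annihilator_quotient]; exact hx)) v
    letI : Module (A ⧸ m) (E K (A ⧸ m) i) := Module.IsTorsionBySet.module (fun v x => hker x x.2 v)
    haveI : IsScalarTower A (A ⧸ m) (E K (A ⧸ m) i) := Module.IsTorsionBySet.isScalarTower _
    letI : Field (A ⧸ m) := Ideal.Quotient.field m
    haveI : Module.Finite (A ⧸ m) (E K (A ⧸ m) i) := Module.Finite.of_restrictScalars_finite A (A ⧸ m) _
    let r := Module.finrank (A ⧸ m) (E K (A ⧸ m) i)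
    let ev : E K (A ⧸ m) i ≃ₗ[A] (Fin r → A ⧸ m) :=
      (Module.finBasis (A ⧸ m) (E K (A ⧸ m) i)).equivFun.restrictScalars A
    obtain ⟨e⟩ := FlatHom.nonempty_flat_E (B := BP) (A ⧸ m) K a' i
    exact ⟨r, ⟨ev⟩, ⟨econgr _ eF i ≪≫ₗ e.symm ≪≫ₗ LinearEquiv.baseChange A BP _ _ ev ≪≫ₗ
      TensorProduct.piRight A BP BP (fun _ : Fin r => A ⧸ m) ≪≫ₗ
      LinearEquiv.piCongrRight fun _ => eM.symm ≪≫ₗ eF⟩⟩
  have hsh : ∀ i, E W F (c + i) ≃ₗ[BP] E (W⟦c⟧) F i := fun i => homShift (Dual.inD BP F) W c i (c + i) rfl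
  refine ⟨c, fun i hi => ?_, ?_⟩
  · obtain ⟨r, ⟨e1⟩, ⟨e3⟩⟩ := hV i
    obtain ⟨j, rfl⟩ : ∃ j, i = c + j := ⟨i - c, by omega⟩
    haveI : Subsingleton (E (W⟦c⟧) F j) := by
      refine subsingleton_of_residue (m := maximalIdeal BP) j (hc j (by omega)) F fun q hq => ?_
      exact support_subset_of_isFiniteLength hF hq
    haveI : Subsingleton (Fin r → F) := ((hsh j).symm ≪≫ₗ e3).symm.injective.subsingleton
    have hr : r = 0 := by
      by_contra hne'
      haveI : Nonempty (Fin r) := ⟨⟨0, Nat.pos_of_ne_zero hne'⟩⟩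
      exact not_subsingleton (Fin r → F) inferInstance
    subst hr
    exact e1.injective.subsingleton
  · obtain ⟨r, ⟨e1⟩, ⟨e3⟩⟩ := hV (c + 0)
    have hr := eq_one_of_E_equiv_pi (isDualizing_shift hW c) hc hF ((hsh 0).symm ≪≫ₗ e3)
    subst hr
    rw [add_zero] at e1
    exact ⟨e1 ≪≫ₗ LinearEquiv.funUnique (Fin 1) A (A ⧸ m)⟩

end Groth.Agent.DualLib
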