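import Groth.Agent.DualLib.GorRing
import Mathlib.RingTheory.EssentialFiniteness
import Mathlib.FieldTheory.IntermediateField.Adjoin.Algebra

/-! Gorenstein local rings under extension of the base field. -/

set_option autoImplicit false
set_option backward.isDefEq.respectTransparency false
set_option linter.style.haveILetI false

universe u

open TensorProduct

namespace Groth.Agent.DualLib.GorRing

open GorFlat

local notation "Gor" => _root_.LocCoh.IsGorensteinLocalRing
local notation "GorR" => _root_.LocCoh.IsGorensteinRing

variable {k k' B : Type u} [Field k] [Field k'] [Algebra k k'] [CommRing B] [Algebra k B]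

theorem gor_baseChange_field_iff [IsNoetherianRing B] [IsNoetherianRing (B ⊗[k] k')] (q : Ideal (B ⊗[k] k')) [q.IsPrime]
    (h : GorR ((q.comap (algebraMap B (B ⊗[k] k'))).ResidueField ⊗[k] k')) :
    Gor (Localization.AtPrime (q.comap (algebraMap B (B ⊗[k] k')))) ↔ Gor (Localization.AtPrime q) := by
  haveI : IsNoetherianRing (Localization.AtPrime (q.under B)) :=
    IsLocalization.isNoetherianRing (q.under B).primeCompl _ inferInstance
  haveI : IsNoetherianRing (Localization.AtPrime q) := IsLocalization.isNoetherianRing q.primeCompl _ inferInstance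
  rw [gor_atPrime_iff (A := B) q]
  refine ⟨fun hA => ⟨hA, ?_⟩, fun hA => hA.1⟩
  obtain ⟨Q, hQ, ⟨e⟩⟩ := CommAlg6.exists_fiber_prime (A := B) q
  exact (gor_congr e).1 ((gorensteinRing_congr (Algebra.TensorProduct.cancelBaseChange k B B
    (q.comap (algebraMap B (B ⊗[k] k'))).ResidueField k').toRingEquiv.symm h).isGorensteinLocalRing_localization Q)

theorem gorensteinRing_field (L : Type u) [Field L] : GorR L := gorensteinRing_of_isRegularRing L

theorem gorensteinRing_field_tensor_fg [Algebra.EssFiniteType k k'] (L : Type u) [Field L] [Algebra k L] :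
    GorR (L ⊗[k] k') :=
  gorensteinRing_congr (Algebra.TensorProduct.comm k k' L).toRingEquiv
    (gorensteinRing_tensor_fg (IntermediateField.fg_top k k') (gorensteinRing_field L))

end Groth.Agent.DualLib.GorRing
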