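import Groth.Agent.DualLib.GorRing
import Groth.Agent.LciGenSmooth29
import Groth.Agent.CAlgH.CIOpen

/-! Local complete intersections are Gorenstein. -/

set_option autoImplicit false
set_option backward.isDefEq.respectTransparency false
set_option linter.style.haveILetI false

universe u

open IsLocalRing RingTheory.Sequence TensorProduct
open Groth.Agent.CAlgH Groth.Agent.CAlgH.KoszulRegular

attribute [local instance] Groth.Agent.CommAlg6.isLocalRing_fibLocRing

namespace Groth.Agent.DualLib.GorLCI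

open GorFlat GorRing

local notation "Gor" => _root_.LocCoh.IsGorensteinLocalRing
local notation "GorR" => _root_.LocCoh.IsGorensteinRing

/-- `H₁`-regularity gives alternating presentations of relations. -/
lemma exists_alternating_of_h1 {L : Type u} [CommRing L] {n : ℕ} {r : Fin n → L} (h : CAlgX.IsH1Regular r)
    (a : Fin n → L) (ha : ∑ i, r i • a i = 0) :
    ∃ d : Fin n → Fin n → L, ∀ i, a i = ∑ j, r j • (d i j - d j i) := by
  classical
  have h1 := h a (by simpa [mul_comm, smul_eq_mul] using ha)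
  clear ha
  induction h1 using Submodule.span_induction with
  | mem v hv =>
    obtain ⟨i, j, rfl⟩ := hv
    refine ⟨fun x y => if x = i ∧ y = j then 1 else 0, fun k => ?_⟩
    simp only [smul_eq_mul, mul_sub, Finset.sum_sub_distrib, Pi.sub_apply, Pi.single_apply, ite_and, mul_ite, mul_one,
      mul_zero, Finset.sum_ite_irrel, Finset.sum_const_zero, Finset.sum_ite_eq', Finset.mem_univ, if_true]
  | zero => exact ⟨0, fun k => by simp⟩
  | add a b _ _ ha hb =>
    obtain ⟨d, hd⟩ := ha
    obtain ⟨e, he⟩ := hb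
    refine ⟨d + e, fun k => ?_⟩
    rw [Pi.add_apply, hd, he, ← Finset.sum_add_distrib]
    refine Finset.sum_congr rfl fun j _ => ?_
    simp only [Pi.add_apply, smul_eq_mul]; ring
  | smul c a _ ha =>
    obtain ⟨d, hd⟩ := ha
    refine ⟨c • d, fun k => ?_⟩
    rw [Pi.smul_apply, hd, Finset.smul_sum]
    refine Finset.sum_congr rfl fun j _ => ?_
    simp only [Pi.smul_apply, smul_eq_mul]; ring

/-- An `H₁`-regular sequence with flat quotient is regular on a Noetherian local fibre. -/
theorem isWeaklyRegular_fibre_h1 {R L : Type u} [CommRing R] [CommRing L] [Algebra R L]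
    (a : Ideal R) [IsLocalRing (L ⧸ a.map (algebraMap R L))] [IsNoetherianRing (L ⧸ a.map (algebraMap R L))]
    {n : ℕ} (r : Fin n → L) (hreg : CAlgX.IsH1Regular r)
    [Module.Flat R (L ⧸ Ideal.span (Set.range r))]
    (hm : ∀ i, Ideal.Quotient.mk (a.map (algebraMap R L)) (r i) ∈ maximalIdeal (L ⧸ a.map (algebraMap R L))) :
    IsWeaklyRegular (L ⧸ a.map (algebraMap R L))
      (List.ofFn fun i => Ideal.Quotient.mk (a.map (algebraMap R L)) (r i)) := by
  classical
  let π := Ideal.Quotient.mk (a.map (algebraMap R L))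
  refine CotTLib.isWeaklyRegular_of_trivOf _ hm fun x hx => ?_
  choose m hmx using fun i => Ideal.Quotient.mk_surjective (I := a.map (algebraMap R L)) (x i)
  rw [Finsupp.linearCombination_apply, Finsupp.sum_fintype _ _ (by simp)] at hx
  have h1 : ∑ i, r i * m i ∈ Ideal.span (Set.range r) :=
    Ideal.sum_mem _ fun i _ => Ideal.mul_mem_right _ _ (Ideal.subset_span ⟨i, rfl⟩)
  have h2 : ∑ i, r i * m i ∈ a.map (algebraMap R L) := by
    rw [← Ideal.Quotient.eq_zero_iff_mem, map_sum, ← hx]
    refine Finset.sum_congr rfl fun i _ => ?_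
    rw [map_mul, hmx, smul_eq_mul, mul_comm]
  have h3 := CIOpen.mem_map_mul_of_flat_quotient a _ h1 h2
  rw [← smul_eq_mul] at h3
  obtain ⟨p, hp, hpe⟩ := (Submodule.mem_ideal_smul_span_iff_exists_sum _ r _).1 h3
  rw [Finsupp.sum_fintype _ _ (by simp)] at hpe
  obtain ⟨d, hd⟩ := exists_alternating_of_h1 hreg (fun i => m i - p i) (by
    simp only [smul_eq_mul, mul_sub, Finset.sum_sub_distrib, sub_eq_zero, ← hpe]
    exact Finset.sum_congr rfl fun i _ => mul_comm _ _)
  have hx' : x = ∑ i, ∑ j, π (d i j) • ((π ∘ r) j • Finsupp.single i (1 : L ⧸ a.map (algebraMap R L)) -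
      (π ∘ r) i • Finsupp.single j 1) := by
    ext k
    simp only [Finset.sum_sub_distrib, smul_sub, Finsupp.coe_finsetSum, Finset.sum_apply, Finsupp.sub_apply,
      Finsupp.smul_apply, Finsupp.single_apply, smul_eq_mul, mul_ite, mul_one, mul_zero, Finsupp.coe_sub,
      Pi.sub_apply]
    simp only [Finset.sum_ite_irrel, Finset.sum_const_zero, Finset.sum_ite_eq', Finset.mem_univ, if_true]
    have h0 : π (p k) = 0 := Ideal.Quotient.eq_zero_iff_mem.2 (hp k)
    rw [← hmx k, ← sub_zero (π (m k)), ← h0, ← map_sub, hd k, map_sum, ← Finset.sum_sub_distrib]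
    refine Finset.sum_congr rfl fun j _ => ?_
    simp only [Function.comp_apply, smul_eq_mul, map_mul, map_sub]
    ring
  rw [hx']
  exact Submodule.sum_mem _ fun i _ => Submodule.sum_mem _ fun j _ =>
    Submodule.smul_mem _ _ (Submodule.subset_span ⟨(j, i), rfl⟩)

/-- Local `H₁`-regular generators of a Koszul regular ideal. -/
theorem exists_local_h1 {S : Type u} [CommRing S] (I : Ideal S)
    (hI : LCI.IsKoszulRegularIdeal I) (q : Ideal S) [q.IsPrime] (hq : I ≤ q) :
    ∃ (c : ℕ) (r : Fin c → Localization.AtPrime q), CAlgX.IsH1Regular r ∧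
      Ideal.span (Set.range r) = I.map (algebraMap S (Localization.AtPrime q)) := by
  obtain ⟨g, hg, l, hl, hspan⟩ := hI ⟨q, inferInstance⟩ hq
  let L := Localization.AtPrime q
  letI : Algebra (Localization.Away g) L :=
    (IsLocalization.Away.lift g (IsLocalization.map_units L (⟨g, hg⟩ : q.primeCompl))).toAlgebra
  haveI : IsScalarTower S (Localization.Away g) L :=
    IsScalarTower.of_algebraMap_eq fun x => (IsLocalization.Away.lift_eq g _ x).symm
  haveI := IsLocalization.isLocalization_of_submonoid_le (Localization.Away g) L (Submonoid.powers g) q.primeCompl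
    (Submonoid.powers_le.2 hg)
  haveI : Module.Flat (Localization.Away g) L :=
    IsLocalization.flat L (Submonoid.map (algebraMap S (Localization.Away g)) q.primeCompl)
  refine ⟨l.length, fun i => algebraMap (Localization.Away g) L (l.get i),
    SDiv28.RegSeq.isH1Regular_of_kreg (KReg.map (KoszulDescent.kreg_get hl)), ?_⟩
  rw [IsScalarTower.algebraMap_eq S (Localization.Away g) L, ← Ideal.map_map, hspan, Ideal.map_span]
  congr 1
  ext x
  simp only [Set.mem_range, Set.mem_image, Set.mem_setOf_eq]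
  constructor
  · rintro ⟨i, rfl⟩
    exact ⟨_, List.get_mem _ _, rfl⟩
  · rintro ⟨y, hy, rfl⟩
    obtain ⟨i, rfl⟩ := List.mem_iff_get.1 hy
    exact ⟨i, rfl⟩

/-- The fibre local rings of a flat lci algebra are Gorenstein. -/
theorem gor_fibLocRing {A B : Type u} [CommRing A] [CommRing B] [Algebra A B] [Module.Flat A B]
    (h : LCI.IsLCI A B) (q : Ideal B) [q.IsPrime] : Gor (EGA4.FibLocRing A B q) := by
  obtain ⟨-, n, π, hπ, hI⟩ := h
  obtain ⟨f, hf, hfk⟩ := CIOpen.exists_fib_surjection π hπ q
  let Q := q.comap π.toRingHom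
  haveI hreg := CIOpen.isRegularLocalRing_fib_mvPolynomial (R := A) n Q
  have hIQ : RingHom.ker π.toRingHom ≤ Q := fun x hx => show π x ∈ q by rw [show π x = 0 from hx]; exact q.zero_mem
  obtain ⟨c, r, hr, hspan⟩ := exists_local_h1 _ hI Q hIQ
  haveI : Module.Flat A (Localization.AtPrime Q ⧸ Ideal.span (Set.range r)) := by
    rw [hspan]
    refine CIOpen.flat_quotient_localization Q _ ?_
    haveI : Module.Flat A (MvPolynomial (Fin n) A ⧸ RingHom.ker π.toRingHom) :=
      Module.Flat.of_linearEquiv (Ideal.quotientKerAlgEquivOfSurjective hπ).toLinearEquiv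
    exact Props12.flat_localizedModule Q.primeCompl _
  let rb : List (EGA4.FibLocRing A (MvPolynomial (Fin n) A) Q) := List.ofFn fun i => Ideal.Quotient.mk ((Q.comap (algebraMap A (MvPolynomial (Fin n) A))).map
    (algebraMap A (Localization.AtPrime Q))) (r i)
  have hJ : Ideal.ofList rb = RingHom.ker f := by
    rw [hfk, ← hspan, Ideal.map_span, Ideal.ofList]
    congr 1
    ext x
    refine List.mem_ofFn.trans ⟨?_, ?_⟩
    · rintro ⟨i, rfl⟩; exact ⟨r i, ⟨i, rfl⟩, rfl⟩
    · rintro ⟨_, ⟨i, rfl⟩, rfl⟩; exact ⟨i, rfl⟩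
  have hmem : ∀ x ∈ rb, x ∈ maximalIdeal (EGA4.FibLocRing A (MvPolynomial (Fin n) A) Q) := fun x hx =>
    IsLocalRing.le_maximalIdeal (RingHom.ker_ne_top f) (hJ ▸ Ideal.subset_span hx)
  have hwr : IsWeaklyRegular (EGA4.FibLocRing A (MvPolynomial (Fin n) A) Q) rb :=
    isWeaklyRegular_fibre_h1 (Q.comap (algebraMap A (MvPolynomial (Fin n) A))) r hr
      fun i => hmem _ (List.mem_ofFn.2 ⟨i, rfl⟩)
  exact (gor_congr ((Ideal.quotEquivOfEq hJ).trans (RingHom.quotientKerEquivOfSurjective hf))).1
    ((gor_quot_iff rb hmem hwr).1 (gor_of_isRegularLocalRing _))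

theorem gorensteinRing_fibre {A B : Type u} [CommRing A] [CommRing B] [Algebra A B] [Module.Flat A B]
    (h : LCI.IsLCI A B) (p : Ideal A) [p.IsPrime] : GorR (p.Fiber B) := by
  haveI := h.1
  haveI : IsNoetherianRing (p.Fiber B) := Algebra.FiniteType.isNoetherianRing p.ResidueField (p.Fiber B)
  refine { isGorensteinLocalRing_localization := fun Q _ => ?_ }
  obtain ⟨-, ⟨e⟩⟩ := CommAlg6.fiber_localization_equiv p Q
  exact (gor_congr e).2 (gor_fibLocRing h _)

/-- An lci algebra over a Gorenstein ring is Gorenstein. -/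
theorem gorensteinRing_of_isLCI {A B : Type u} [CommRing A] [CommRing B] [Algebra A B]
    (hA : GorR A) (h : LCI.IsLCI A B) : GorR B := by
  obtain ⟨-, n, π, hπ, hI⟩ := h
  haveI := hA
  refine gorensteinRing_congr (RingHom.quotientKerEquivOfSurjective (f := π.toRingHom) hπ)
    (gorensteinRing_quotient (gorensteinRing_mvPolynomial hA n) _ fun q _ hq => ?_)
  obtain ⟨c, r, -, hspan, -, hwr⟩ := LciGenSmooth29.exists_local_regular _ hI q hq
  refine ⟨List.ofFn r, hwr, ?_⟩
  rw [← hspan, Ideal.ofList]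
  congr 1
  ext x
  simp [List.mem_ofFn]

end Groth.Agent.DualLib.GorLCI
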