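import Groth.Agent.DualLib.GorDual
import Groth.Agent.DualLib.FlatApps
import Groth.Agent.DualLib.GorFieldExt
import Groth.Agent.DualLib.GorLCI
import Groth.Agent.DualLib.FlatDescent

/-! Base change of dualizing complexes along flat maps with Gorenstein fibres. -/

set_option autoImplicit false
set_option backward.isDefEq.respectTransparency false
set_option backward.defeqAttrib.useBackward true
set_option linter.style.haveILetI false

universe u

open CategoryTheory CategoryTheory.Limits CategoryTheory.Pretriangulated DerivedCategory IsLocalRing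
open scoped TensorProduct

attribute [local instance] HasDerivedCategory.standard

namespace Groth.Agent.DualLib

variable {A B : Type u} [CommRing A] [CommRing B] [Algebra A B]

/-- Flat base change with Gorenstein fibres. -/
theorem isDualizing_LBaseChange_gorenstein [IsNoetherianRing A] [IsNoetherianRing B] [Module.Flat A B]
    (hdim : ringKrullDim B < ⊤) (hG : ∀ (p : Ideal A) [p.IsPrime], _root_.LocCoh.IsGorensteinRing (p.Fiber B))
    [DRing.HasLBaseChange (algebraMap A B)] {ω : Dual.D A}
    (hω : Dual.IsDualizing A ω) : Dual.IsDualizing B ((DRing.LBaseChange (algebraMap A B)).obj ω) := by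
  haveI := preservesFiniteLimits_flat (A := A) (B := B)
  haveI := preservesFiniteColimits_ext (A := A) (B := B)
  obtain ⟨e⟩ := nonempty_LBaseChange_iso (RingHom.flat_algebraMap_iff.2 (inferInstance : Module.Flat A B)) ω
  exact isDualizing_of_iso e.symm (isDualizing_extD_of_fibres hdim hω fun P _ => fibreOK_of_gorensteinRing hG P)

theorem ringKrullDim_lt_top_of_finiteType_field (K : Type u) [Field K] (R : Type u) [CommRing R] [Algebra K R]
    [Algebra.FiniteType K R] : ringKrullDim R < ⊤ := by
  obtain ⟨n, f, hf⟩ := Algebra.FiniteType.iff_quotient_mvPolynomial''.1 (inferInstance : Algebra.FiniteType K R)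
  refine lt_of_le_of_lt ((ringKrullDim_le_of_surjective f.toRingHom hf).trans ?_)
    (WithBot.coe_lt_coe.2 (ENat.natCast_lt_top n))
  rw [MvPolynomial.ringKrullDim_of_isNoetherianRing, ringKrullDim_eq_zero_of_field, Nat.card_fin, zero_add]
  rfl

end Groth.Agent.DualLib

namespace Groth.Agent.DualLib

variable {A B : Type u} [CommRing A] [CommRing B] [Algebra A B]

/-- Faithfully flat finite type maps with Gorenstein fibres: being dualizing is insensitive to base change. -/
theorem isDualizing_iff_LBaseChange_gorenstein [IsNoetherianRing A] [IsNoetherianRing B] [Module.FaithfullyFlat A B]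
    [Algebra.FiniteType A B] (hG : ∀ (p : Ideal A) [p.IsPrime], _root_.LocCoh.IsGorensteinRing (p.Fiber B))
    [DRing.HasLBaseChange (algebraMap A B)] (K : Dual.D A) :
    Dual.IsDualizing A K ↔ Dual.IsDualizing B ((DRing.LBaseChange (algebraMap A B)).obj K) := by
  refine ⟨fun hK => isDualizing_LBaseChange_gorenstein ?_ hG hK, fun hK => ?_⟩
  · obtain ⟨N, hN⟩ := exists_ringKrullDim_le hK
    obtain ⟨n, f, hf⟩ := Algebra.FiniteType.iff_quotient_mvPolynomial''.1 (inferInstance : Algebra.FiniteType A B)
    refine lt_of_le_of_lt ((ringKrullDim_le_of_surjective f.toRingHom hf).trans ?_) (WithBot.coe_lt_coe.2 (ENat.natCast_lt_top (N + n)))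
    rw [MvPolynomial.ringKrullDim_of_isNoetherianRing]
    exact (add_le_add hN le_rfl).trans (le_of_eq (by rw [Nat.card_fin]; norm_cast))
  · haveI := preservesFiniteLimits_flat (A := A) (B := B)
    haveI := preservesFiniteColimits_ext (A := A) (B := B)
    obtain ⟨e⟩ := nonempty_LBaseChange_iso (RingHom.flat_algebraMap_iff.2 (inferInstance : Module.Flat A B)) K
    exact isDualizing_of_extD (isDualizing_of_iso e hK)

end Groth.Agent.DualLib
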