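import Groth.Agent.DualLib.GorFlat
import Groth.Agent.CommAlg6.FibreLocal
import Groth.Agent.S0342
import Mathlib.RingTheory.RegularLocalRing.Polynomial
import Mathlib.RingTheory.TensorProduct.Quotient
import Mathlib.RingTheory.Localization.BaseChange
import Mathlib.RingTheory.PolynomialAlgebra

/-! Gorenstein rings: localizations, quotients, fibres, base change by field extensions. -/

set_option autoImplicit false
set_option backward.isDefEq.respectTransparency false
set_option linter.style.haveILetI false

universe u

open IsLocalRing RingTheory.Sequence TensorProduct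
open scoped Polynomial

namespace Groth.Agent.DualLib.GorRing

open GorFlat

local notation "Gor" => _root_.LocCoh.IsGorensteinLocalRing
local notation "GorR" => _root_.LocCoh.IsGorensteinRing

lemma gor_of_isRegularLocalRing (R : Type u) [CommRing R] [IsRegularLocalRing R] : Gor R := Groth.Agent.S0342.result R

lemma gorensteinRing_of_isRegularRing (R : Type u) [CommRing R] [IsRegularRing R] : GorR R :=
  { isGorensteinLocalRing_localization := fun p _ => gor_of_isRegularLocalRing _ }

lemma gorensteinRing_congr {R S : Type u} [CommRing R] [CommRing S] (e : R ≃+* S) (h : GorR R) : GorR S :=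
  @SegreDim.gorensteinRing_of_ringEquiv R S _ _ e h

lemma gorensteinRing_of_isLocalization {R S : Type u} [CommRing R] [CommRing S] [Algebra R S] (M : Submonoid R)
    [IsLocalization M S] (h : GorR R) : GorR S := by
  haveI := h
  haveI : IsNoetherianRing S := IsLocalization.isNoetherianRing M S inferInstance
  refine { isGorensteinLocalRing_localization := fun q _ => ?_ }
  haveI := IsLocalization.isLocalization_isLocalization_atPrime_isLocalization (R := R) M (T := Localization.AtPrime q) q
  exact (gor_congr (IsLocalization.algEquiv (q.comap (algebraMap R S)).primeCompl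
    (Localization.AtPrime (q.comap (algebraMap R S))) (Localization.AtPrime q)).toRingEquiv).1
    (h.isGorensteinLocalRing_localization _)

section fibres

variable {A B : Type u} [CommRing A] [CommRing B] [Algebra A B] [Module.Flat A B]

/-- The criterion at one prime. -/
theorem gor_atPrime_iff (q : Ideal B) [q.IsPrime] [IsNoetherianRing (Localization.AtPrime (q.under A))]
    [IsNoetherianRing (Localization.AtPrime q)] :
    Gor (Localization.AtPrime q) ↔
      (Gor (Localization.AtPrime (q.under A)) ∧ Gor (EGA4.FibLocRing A B q)) := by
  let p := q.under A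
  haveI : q.LiesOver p := ⟨rfl⟩
  letI := Localization.AtPrime.algebraOfLiesOver p q
  haveI : Module.Flat (Localization.AtPrime p) (Localization.AtPrime q) := inferInstance
  haveI : IsLocalHom (algebraMap (Localization.AtPrime p) (Localization.AtPrime q)) := inferInstance
  have hmap : (maximalIdeal (Localization.AtPrime p)).map (algebraMap (Localization.AtPrime p) (Localization.AtPrime q)) =
      (q.comap (algebraMap A B)).map (algebraMap A (Localization.AtPrime q)) := by
    rw [← Localization.AtPrime.map_eq_maximalIdeal, Ideal.map_map, ← IsScalarTower.algebraMap_eq]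
  rw [gor_flat_iff (A := Localization.AtPrime p) (B := Localization.AtPrime q), gor_congr (Ideal.quotEquivOfEq hmap)]

/-- A flat algebra with Gorenstein fibres over a Gorenstein ring. -/
theorem gorensteinRing_of_fibres [IsNoetherianRing B] (hA : GorR A)
    (hF : ∀ (p : Ideal A) [p.IsPrime], GorR (p.Fiber B)) : GorR B := by
  haveI := hA
  refine { isGorensteinLocalRing_localization := fun q _ => ?_ }
  haveI : IsNoetherianRing (Localization.AtPrime (q.under A)) :=
    IsLocalization.isNoetherianRing (q.under A).primeCompl _ inferInstance
  haveI : IsNoetherianRing (Localization.AtPrime q) := IsLocalization.isNoetherianRing q.primeCompl _ inferInstance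
  obtain ⟨Q, hQ, ⟨e⟩⟩ := CommAlg6.exists_fiber_prime (A := A) q
  exact (gor_atPrime_iff q).2 ⟨hA.isGorensteinLocalRing_localization _,
    (gor_congr e).1 ((hF _).isGorensteinLocalRing_localization Q)⟩

end fibres

theorem gorensteinRing_polynomial {R : Type u} [CommRing R] (h : GorR R) : GorR R[X] := by
  haveI := h
  refine gorensteinRing_of_fibres (A := R) h fun p _ => ?_
  exact gorensteinRing_congr (polyEquivTensor R p.ResidueField).toRingEquiv
    (gorensteinRing_of_isRegularRing p.ResidueField[X])

theorem gorensteinRing_mvPolynomial {R : Type u} [CommRing R] (h : GorR R) :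
    ∀ n, GorR (MvPolynomial (Fin n) R) := by
  intro n
  induction n with
  | zero => exact gorensteinRing_congr (MvPolynomial.isEmptyRingEquiv R (Fin 0)).symm h
  | succ n ih =>
    exact gorensteinRing_congr (MvPolynomial.finSuccEquiv R n).toRingEquiv.symm (gorensteinRing_polynomial ih)

/-- Localization of a quotient. -/
theorem nonempty_quot_atPrime {R : Type u} [CommRing R] (I : Ideal R) (Q : Ideal (R ⧸ I)) [Q.IsPrime] :
    Nonempty ((Localization.AtPrime (Q.comap (Ideal.Quotient.mk I)) ⧸
      I.map (algebraMap R (Localization.AtPrime (Q.comap (Ideal.Quotient.mk I))))) ≃+* Localization.AtPrime Q) := by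
  have hM : Algebra.algebraMapSubmonoid (R ⧸ I) (Q.comap (Ideal.Quotient.mk I)).primeCompl = Q.primeCompl := by
    ext x
    constructor
    · rintro ⟨y, hy, rfl⟩; exact hy
    · intro hx
      obtain ⟨y, rfl⟩ := Ideal.Quotient.mk_surjective x
      exact ⟨y, hx, rfl⟩
  haveI : IsLocalization Q.primeCompl (Localization.AtPrime (Q.comap (Ideal.Quotient.mk I)) ⧸
      I.map (algebraMap R (Localization.AtPrime (Q.comap (Ideal.Quotient.mk I))))) := hM ▸ inferInstance
  exact ⟨(IsLocalization.algEquiv Q.primeCompl _ (Localization.AtPrime Q)).toRingEquiv⟩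

/-- Quotient by an ideal locally generated by regular sequences. -/
theorem gorensteinRing_quotient {R : Type u} [CommRing R] (h : GorR R) (I : Ideal R)
    (hI : ∀ (q : Ideal R) [q.IsPrime], I ≤ q → ∃ rs : List (Localization.AtPrime q),
      IsWeaklyRegular (Localization.AtPrime q) rs ∧ Ideal.ofList rs = I.map (algebraMap R (Localization.AtPrime q))) :
    GorR (R ⧸ I) := by
  haveI := h
  refine { isGorensteinLocalRing_localization := fun Q _ => ?_ }
  obtain ⟨e⟩ := nonempty_quot_atPrime I Q
  set q := Q.comap (Ideal.Quotient.mk I)
  have hq : I ≤ q := fun x hx => by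
    rw [Ideal.mem_comap, Ideal.Quotient.eq_zero_iff_mem.2 hx]; exact Q.zero_mem
  obtain ⟨rs, hreg, hspan⟩ := hI q hq
  haveI : IsNoetherianRing (Localization.AtPrime q) := IsLocalization.isNoetherianRing q.primeCompl _ inferInstance
  have hmem : ∀ r ∈ rs, r ∈ maximalIdeal (Localization.AtPrime q) := fun r hr => by
    have : r ∈ I.map (algebraMap R (Localization.AtPrime q)) := hspan ▸ Ideal.subset_span hr
    rw [← Localization.AtPrime.map_eq_maximalIdeal]
    exact Ideal.map_mono hq this
  exact (gor_congr ((Ideal.quotEquivOfEq hspan).trans e)).1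
    ((gor_quot_iff rs hmem hreg).1 (h.isGorensteinLocalRing_localization q))

theorem gorensteinRing_quotient_span_singleton {R : Type u} [CommRing R] (h : GorR R) {f : R}
    (hf : IsSMulRegular R f) : GorR (R ⧸ Ideal.span {f}) := by
  refine gorensteinRing_quotient h _ fun q _ _ => ⟨[algebraMap R (Localization.AtPrime q) f], ?_, ?_⟩
  · haveI : Module.Flat R (Localization.AtPrime q) := IsLocalization.flat _ q.primeCompl
    have h1 := EGA41Lib.isWeaklyRegular_of_flat (A := R) (Localization.AtPrime q)
      ((isWeaklyRegular_singleton_iff R f).2 hf)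
    exact (isWeaklyRegular_map_algebraMap_iff (Localization.AtPrime q) (Localization.AtPrime q) [f]).2 h1
  · rw [Ideal.ofList_singleton, Ideal.map_span, Set.image_singleton]

section field

/-- A simple field extension. -/
theorem gorensteinRing_simple {k E R : Type u} [Field k] [Field E] [Algebra k E] (g : E) [CommRing R]
    [Algebra k R] (hg : ∀ z : E, ∃ r s : k[X], z = Polynomial.aeval g r / Polynomial.aeval g s) (h : GorR R) :
    GorR (E ⊗[k] R) := by
  let φ : k[X] →ₐ[k] E := Polynomial.aeval g
  obtain ⟨f, hf⟩ : ∃ f, RingHom.ker φ.toRingHom = Ideal.span {f} :=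
    ⟨_, (Submodule.IsPrincipal.span_singleton_generator _).symm⟩
  let T := k[X] ⧸ RingHom.ker φ.toRingHom
  let ψ : T →ₐ[k] E := Ideal.Quotient.liftₐ _ φ fun x hx => hx
  letI : Algebra T E := ψ.toRingHom.toAlgebra
  haveI : IsScalarTower k T E := IsScalarTower.of_algebraMap_eq fun x => (ψ.commutes x).symm
  haveI : (RingHom.ker φ.toRingHom).IsPrime := RingHom.ker_isPrime _
  haveI : FaithfulSMul T E := (faithfulSMul_iff_algebraMap_injective T E).2 (RingHom.kerLift_injective φ.toRingHom)
  haveI : IsFractionRing T E := IsFractionRing.of_field T E fun z => by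
    obtain ⟨r, s, hrs⟩ := hg z
    exact ⟨Ideal.Quotient.mk _ r, Ideal.Quotient.mk _ s, hrs⟩
  letI : Algebra (R ⊗[k] T) (R ⊗[k] E) :=
    (Algebra.TensorProduct.map (AlgHom.id k R) (IsScalarTower.toAlgHom k T E)).toAlgebra
  haveI : IsScalarTower R (R ⊗[k] T) (R ⊗[k] E) := .of_algebraMap_eq fun x => by
    show _ = Algebra.TensorProduct.map (AlgHom.id k R) (IsScalarTower.toAlgHom k T E) (x ⊗ₜ[k] (1 : T))
    simp
  haveI hloc := IsLocalization.tensorProduct_tensorProduct_right k R (nonZeroDivisors T) E (RingHom.ext fun x => by simp [RingHom.algebraMap_toAlgebra])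
  have hP : GorR (R ⊗[k] k[X]) := gorensteinRing_congr (polyEquivTensor k R).toRingEquiv (gorensteinRing_polynomial h)
  have hT : GorR ((R ⊗[k] k[X]) ⧸ (RingHom.ker φ.toRingHom).map
      (Algebra.TensorProduct.includeRight (R := k) (A := R) (B := k[X]))) := by
    rw [hf, Ideal.map_span, Set.image_singleton]
    by_cases hf0 : f = 0
    · subst hf0
      refine gorensteinRing_congr (((Ideal.quotEquivOfEq ?_).trans (RingEquiv.quotientBot _)).symm) hP
      rw [map_zero, Ideal.span_singleton_eq_bot]
    · refine gorensteinRing_quotient_span_singleton hP ?_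
      have hmul : Function.Injective (LinearMap.mulRight k f) := fun x y hxy => mul_right_cancel₀ hf0 hxy
      have h1 := Module.Flat.lTensor_preserves_injective_linearMap (M := R) _ hmul
      intro x y hxy
      apply h1
      have key : ∀ z : R ⊗[k] k[X], (LinearMap.mulRight k f).lTensor R z = (1 ⊗ₜ[k] f) * z := fun z => by
        induction z with
        | zero => simp
        | add a b ha hb => rw [map_add, ha, hb, mul_add]
        | tmul r p => simp [mul_comm]
      rw [key, key]
      exact hxy
  have hT' : GorR (R ⊗[k] T) :=
    gorensteinRing_congr (Algebra.TensorProduct.tensorQuotientEquiv (R := k) k k[X] R (RingHom.ker φ.toRingHom)).toRingEquiv.symm hT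
  exact gorensteinRing_congr (Algebra.TensorProduct.comm k R E).toRingEquiv
    (@gorensteinRing_of_isLocalization _ _ _ _ _ _ hloc hT')

/-- Base change by a finitely generated field extension. -/
theorem gorensteinRing_tensor_fg {k K R : Type u} [Field k] [Field K] [Algebra k K]
    (hK : ∃ s : Finset K, IntermediateField.adjoin k (s : Set K) = ⊤) [CommRing R] [Algebra k R] (h : GorR R) :
    GorR (K ⊗[k] R) := by
  obtain ⟨s, hs⟩ := hK
  classical
  induction s using Finset.induction generalizing k R with
  | empty =>
    rw [Finset.coe_empty, IntermediateField.adjoin_empty] at hs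
    let e : k ≃ₐ[k] K := (IntermediateField.botEquiv k K).symm.trans
      ((IntermediateField.equivOfEq hs).trans IntermediateField.topEquiv)
    exact gorensteinRing_congr
      ((Algebra.TensorProduct.congr e.symm AlgEquiv.refl).trans (Algebra.TensorProduct.lid k R)).toRingEquiv.symm h
  | insert a s _ ih =>
    let E := IntermediateField.adjoin k {a}
    have h1 : GorR (E ⊗[k] R) := by
      refine gorensteinRing_simple (IntermediateField.AdjoinSimple.gen k a) (fun z => ?_) h
      obtain ⟨r, t, hrt⟩ := (IntermediateField.mem_adjoin_simple_iff k (z : K)).1 z.2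
      refine ⟨r, t, Subtype.ext ?_⟩
      rw [hrt, ← IntermediateField.coe_val, map_div₀, ← Polynomial.aeval_algHom_apply, ← Polynomial.aeval_algHom_apply]
      rfl
    have h2 : IntermediateField.adjoin E (s : Set K) = ⊤ := by
      refine IntermediateField.restrictScalars_injective k ?_
      rw [IntermediateField.adjoin_adjoin_left, IntermediateField.restrictScalars_top, Set.singleton_union,
        ← Finset.coe_insert, hs]
    exact gorensteinRing_congr (Algebra.TensorProduct.cancelBaseChange k E E K R).toRingEquiv (ih h1 h2)

end field

end Groth.Agent.DualLib.GorRing
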