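import Groth.Agent.DualLib.LocalDim
import Groth.Agent.CommAlg6.SerreOpen

/-! Codepth loci in the presence of a dualizing complex. -/

set_option autoImplicit false
set_option backward.isDefEq.respectTransparency false
set_option backward.defeqAttrib.useBackward true
set_option linter.style.haveILetI false

universe u

open CategoryTheory CategoryTheory.Limits CategoryTheory.Pretriangulated

attribute [local instance] HasDerivedCategory.standard

namespace Groth.Agent.DualLib

variable {A : Type u} [CommRing A] [IsNoetherianRing A] {ω : Dual.D A} (hω : Dual.IsDualizing A ω)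
  (M : Type u) [AddCommGroup M] [Module A M] [Module.Finite A M]
include hω

lemma mem_support_of_mem_support_E {p : PrimeSpectrum A} {i : ℤ} (h : p ∈ Module.support A (E ω M i)) :
    p ∈ Module.support A M := by
  by_contra hp
  exact notMem_support_range hω p i M (fun r hr hrp => absurd (Module.mem_support_mono hrp hr) hp) h

/-- The degrees occurring at `p` fill `[deg p - dim, deg p - depth]` at both ends. -/
theorem local_degrees (p : PrimeSpectrum A) (hp : p ∈ Module.support A M) :
    ∃ d n : ℕ,
      Module.supportDim (Localization.AtPrime p.asIdeal) (LocalizedModule p.asIdeal.primeCompl M) = d ∧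
      LocCoh.depth (Localization.AtPrime p.asIdeal) (LocalizedModule p.asIdeal.primeCompl M) = n ∧ n ≤ d ∧
      (∀ i : ℤ, p ∈ Module.support A (E ω M i) → deg hω p - d ≤ i ∧ i ≤ deg hω p - n) ∧
      p ∈ Module.support A (E ω M (deg hω p - d)) ∧ p ∈ Module.support A (E ω M (deg hω p - n)) := by
  obtain ⟨d, hd, hall, q, hqs, hqp, hqm, hqd⟩ := exists_localDim hω p M hp
  haveI : Nontrivial (LocalizedModule p.asIdeal.primeCompl M) := hp
  obtain ⟨n, hn⟩ := CAlgH3.exists_depth_eq_natCast (R := Localization.AtPrime p.asIdeal)
    (M := LocalizedModule p.asIdeal.primeCompl M)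
  have hle : n ≤ d := by
    have h := CAlgH3.depth_le_supportDim (R := Localization.AtPrime p.asIdeal)
      (M := LocalizedModule p.asIdeal.primeCompl M)
    rw [hd, hn] at h
    exact_mod_cast h
  obtain ⟨h1, h2⟩ := localDepth_spec hω p n M hp hn
  refine ⟨d, n, hd, hn, hle, fun i hi => ⟨?_, ?_⟩, ?_, h2⟩
  · by_contra hlt
    exact notMem_support_range hω p i M (fun r hr hrp => Or.inl (by have := hall r hr hrp; omega)) hi
  · by_contra hlt
    exact h1 i (by omega) hi
  · rw [show deg hω p - (d : ℤ) = deg hω q by omega]
    exact mem_support_of_minimal' hω hqp M hqm hqs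

/-- Codepth `≤ m` means the degrees occurring at `p` differ by at most `m`. -/
theorem codepth_le_iff (p : PrimeSpectrum A) (m : ℕ) :
    Module.supportDim (Localization.AtPrime p.asIdeal) (LocalizedModule p.asIdeal.primeCompl M) ≤
        ((LocCoh.depth (Localization.AtPrime p.asIdeal)
          (LocalizedModule p.asIdeal.primeCompl M) : ℕ∞) : WithBot ℕ∞) + m ↔
      ∀ i j : ℤ, p ∈ Module.support A (E ω M i) → p ∈ Module.support A (E ω M j) → i - j ≤ m := by
  by_cases hp : p ∈ Module.support A M
  · obtain ⟨d, n, hd, hn, -, hr, hlo, hhi⟩ := local_degrees hω M p hp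
    rw [hd, hn]
    constructor
    · intro h i j hi hj
      have h' : d ≤ n + m := by exact_mod_cast h
      have := hr i hi
      have := hr j hj
      omega
    · intro h
      have := h _ _ hhi hlo
      exact_mod_cast (show d ≤ n + m by omega)
  · haveI := Module.notMem_support_iff.1 hp
    refine iff_of_true ?_ fun i j hi => absurd (mem_support_of_mem_support_E hω M hi) hp
    rw [Module.supportDim_eq_bot_of_subsingleton]
    exact bot_le

/-- The loci of bounded codepth are open. -/
theorem isOpen_codepth (m : ℕ) : IsOpen {p : PrimeSpectrum A |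
    Module.supportDim (Localization.AtPrime p.asIdeal) (LocalizedModule p.asIdeal.primeCompl M) ≤
      ((LocCoh.depth (Localization.AtPrime p.asIdeal)
        (LocalizedModule p.asIdeal.primeCompl M) : ℕ∞) : WithBot ℕ∞) + m} := by
  obtain ⟨lo, hi, hbd⟩ := hω.finite_injective_dimension
  have hset : {p : PrimeSpectrum A |
      Module.supportDim (Localization.AtPrime p.asIdeal) (LocalizedModule p.asIdeal.primeCompl M) ≤
        ((LocCoh.depth (Localization.AtPrime p.asIdeal)
          (LocalizedModule p.asIdeal.primeCompl M) : ℕ∞) : WithBot ℕ∞) + m} =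
      (⋃ x ∈ ((Finset.Icc lo hi ×ˢ Finset.Icc lo hi).filter fun x => (m : ℤ) < x.1 - x.2 : Finset (ℤ × ℤ)),
        Module.support A (E ω M x.1) ∩ Module.support A (E ω M x.2))ᶜ := by
    ext p
    rw [Set.mem_ofPred_eq, codepth_le_iff hω M p m, Set.mem_compl_iff]
    simp only [Set.mem_iUnion, not_exists, Finset.mem_filter, Finset.mem_product, Finset.mem_Icc]
    constructor
    · rintro h ⟨i, j⟩ ⟨-, hlt⟩ ⟨h1, h2⟩
      have := h i j h1 h2
      omega
    · intro h i j h1 h2
      by_contra hlt
      refine h (i, j) ⟨⟨?_, ?_⟩, by omega⟩ ⟨h1, h2⟩ <;>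
      · refine ⟨?_, ?_⟩ <;> by_contra hc <;>
          first
          | (haveI := hbd M i (by omega); exact notMem_support_of_subsingleton p h1)
          | (haveI := hbd M j (by omega); exact notMem_support_of_subsingleton p h2)
  rw [hset]
  refine (Set.Finite.isClosed_biUnion (Finset.finite_toSet _) fun x _ => ?_).isOpen_compl
  haveI := finite hω M x.1
  haveI := finite hω M x.2
  rw [Module.support_eq_zeroLocus, Module.support_eq_zeroLocus]
  exact (PrimeSpectrum.isClosed_zeroLocus _).inter (PrimeSpectrum.isClosed_zeroLocus _)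

/-- The criterion for `(S_k)`. -/
theorem hasSk_at_iff (k : ℕ) (p : PrimeSpectrum A) :
    min (k : WithBot ℕ∞)
        (Module.supportDim (Localization.AtPrime p.asIdeal) (LocalizedModule p.asIdeal.primeCompl M)) ≤
      ((LocCoh.depth (Localization.AtPrime p.asIdeal) (LocalizedModule p.asIdeal.primeCompl M) : ℕ∞) : WithBot ℕ∞) ↔
      ∀ i j : ℤ, j < i → p ∈ Module.support A (E ω M i) → p ∈ Module.support A (E ω M j) →
        (((k : ℤ) + i - j).toNat : WithBot ℕ∞) ≤
          Module.supportDim (Localization.AtPrime p.asIdeal) (LocalizedModule p.asIdeal.primeCompl M) := by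
  by_cases hp : p ∈ Module.support A M
  · obtain ⟨d, n, hd, hn, hle, hr, hlo, hhi⟩ := local_degrees hω M p hp
    rw [hd, hn]
    constructor
    · intro h i j hij hi hj
      have h' : k ≤ n ∨ d ≤ n := (min_le_iff.1 h).imp (fun h => by exact_mod_cast h) (fun h => by exact_mod_cast h)
      have := hr i hi
      have := hr j hj
      exact_mod_cast (show ((k : ℤ) + i - j).toNat ≤ d by omega)
    · intro h
      rcases hle.lt_or_eq with hlt | rfl
      · have h' := h _ _ (by omega) hhi hlo
        have h'' : ((k : ℤ) + (deg hω p - n) - (deg hω p - d)).toNat ≤ d := by exact_mod_cast h'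
        exact min_le_of_left_le (by exact_mod_cast (show k ≤ n by omega))
      · exact min_le_of_right_le le_rfl
  · haveI := Module.notMem_support_iff.1 hp
    refine iff_of_true ?_ fun i j _ hi => absurd (mem_support_of_mem_support_E hω M hi) hp
    rw [Module.supportDim_eq_bot_of_subsingleton]
    exact min_le_of_right_le bot_le

end Groth.Agent.DualLib
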