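import Groth.Agent.DualLib.Depth
import Mathlib.RingTheory.Regular.Flat

/-! Regular sequences on the top module `Hom(M, ω⟦-dim M⟧)`. -/

set_option autoImplicit false
set_option backward.isDefEq.respectTransparency false
set_option backward.defeqAttrib.useBackward true
set_option linter.style.haveILetI false

universe u

open CategoryTheory CategoryTheory.Limits CategoryTheory.Pretriangulated
open scoped Pointwise

attribute [local instance] HasDerivedCategory.standard

namespace Groth.Agent.DualLib

variable {A : Type u} [CommRing A] [IsLocalRing A] [IsNoetherianRing A] {ω : Dual.D A}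

omit [IsLocalRing A] [IsNoetherianRing A] in
lemma range_smul_id_le_support {M : Type u} [AddCommGroup M] [Module A M] [Module.Finite A M] {y : A}
    {q : PrimeSpectrum A} (hq : q ∈ Module.support A (M ⧸ LinearMap.range (y • (LinearMap.id : M →ₗ[A] M)))) :
    q ∈ Module.support A M ∧ y ∈ q.asIdeal := by
  refine ⟨Module.support_subset_of_surjective _ (Submodule.mkQ_surjective _) hq,
    Module.mem_support_iff_of_finite.1 hq (Module.mem_annihilator.2 fun z => ?_)⟩
  obtain ⟨m, rfl⟩ := Submodule.mkQ_surjective _ z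
  rw [← map_smul, Submodule.mkQ_apply, Submodule.Quotient.mk_eq_zero]
  exact ⟨m, rfl⟩

omit [IsLocalRing A] [IsNoetherianRing A] in
lemma ker_smul_id_le_support {M : Type u} [AddCommGroup M] [Module A M] {y : A}
    [Module.Finite A (LinearMap.ker (y • (LinearMap.id : M →ₗ[A] M)))]
    {q : PrimeSpectrum A} (hq : q ∈ Module.support A (LinearMap.ker (y • (LinearMap.id : M →ₗ[A] M)))) :
    q ∈ Module.support A M ∧ y ∈ q.asIdeal := by
  refine ⟨Module.support_subset_of_injective _ (Submodule.injective_subtype _) hq,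
    Module.mem_support_iff_of_finite.1 hq (Module.mem_annihilator.2 fun z => ?_)⟩
  apply Subtype.ext
  simpa using z.2

variable (hω : Dual.IsDualizing A ω) (hn : Dual.IsNormalized A ω)
  (M : Type u) [AddCommGroup M] [Module A M] [Module.Finite A M]
  {c : ℕ} (hM : ∀ q ∈ Module.support A M, Order.coheight q ≤ c)
  (y : A) (hy : ∀ q ∈ Module.support A M, Order.coheight q = c → y ∉ q.asIdeal)
include hω hn hM hy

/-- `x` avoiding the top primes: the sequence `K --x--> K --> Hom(M/xM, ω⟦1-c⟧)` is exact. -/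
theorem top_degree_exact :
    Function.Injective (fun z : E ω M (-(c : ℤ)) => y • z) ∧
      ∃ f : E ω M (-(c : ℤ)) →ₗ[A]
          E ω (M ⧸ LinearMap.range (y • (LinearMap.id : M →ₗ[A] M))) (-(c : ℤ) + 1),
        ∀ z, f z = 0 → ∃ w, z = y • w := by
  let μ : M →ₗ[A] M := y • LinearMap.id
  haveI : IsNoetherian A M := isNoetherian_of_isNoetherianRing_of_finite A M
  have hsmall : ∀ (N : Type u) [AddCommGroup N] [Module A N] [Module.Finite A N],
      (∀ q ∈ Module.support A N, q ∈ Module.support A M ∧ y ∈ q.asIdeal) →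
      Subsingleton (E ω N (-(c : ℤ))) := by
    intro N _ _ _ hN
    rcases Nat.eq_zero_or_pos c with hc0 | hcpos
    · haveI : Subsingleton N := (Module.support_eq_empty_iff (R := A)).1
        (Set.eq_empty_iff_forall_notMem.2 fun q hq =>
          hy q (hN q hq).1 (le_antisymm (hM q (hN q hq).1) (by simp [hc0])) (hN q hq).2)
      exact subsingleton_of_subsingleton ω _
    · refine subsingleton_of_lt hω hn N (c - 1) (fun q hq => ?_) _ (by omega)
      obtain ⟨e, he⟩ := exists_coheight_eq q
      have h1 := hM q (hN q hq).1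
      have h2 : e ≠ c := fun e' => hy q (hN q hq).1 (by rw [he, e']) (hN q hq).2
      rw [he, Nat.cast_le] at h1 ⊢
      omega
  have hbelow : ∀ (N : Type u) [AddCommGroup N] [Module A N] [Module.Finite A N],
      (∀ q ∈ Module.support A N, q ∈ Module.support A M) → Subsingleton (E ω N (-(c : ℤ) - 1)) :=
    fun N _ _ _ hN => subsingleton_of_lt hω hn N c (fun q hq => hM q (hN q hq)) _ (by omega)
  haveI hQ := hsmall (M ⧸ LinearMap.range μ) fun q hq => range_smul_id_le_support hq
  haveI hK := hsmall (LinearMap.ker μ) fun q hq => ker_smul_id_le_support hq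
  let ι := (LinearMap.range μ).subtype
  let π := μ.rangeRestrict
  have hexK : Function.Exact (LinearMap.ker μ).subtype π :=
    LinearMap.exact_iff.2 (by rw [Submodule.range_subtype]; exact μ.ker_rangeRestrict)
  have hsurjπ : Function.Surjective π := μ.surjective_rangeRestrict
  have hexQ : Function.Exact ι (LinearMap.range μ).mkQ := LinearMap.exact_subtype_mkQ _
  have hcomp : ∀ φ : E ω M (-(c : ℤ)),
      emap ω π (-(c : ℤ)) (emap ω ι (-(c : ℤ)) φ) = y • φ := fun φ => by
    rw [← LinearMap.comp_apply, ← emap_comp, show ι ∘ₗ π = μ from LinearMap.ext fun m => rfl]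
    exact emap_smul_id ω y _ φ
  have hπinj : Function.Injective (emap ω π (-(c : ℤ))) :=
    injective_emap (Submodule.injective_subtype _) hsurjπ hexK _
      (hbelow _ fun q hq => Module.support_subset_of_injective _ (Submodule.injective_subtype _) hq)
  refine ⟨fun a b hab => ?_, ?_⟩
  · have h1 : emap ω ι (-(c : ℤ)) a = emap ω ι (-(c : ℤ)) b := hπinj (by rw [hcomp, hcomp]; exact hab)
    rw [← sub_eq_zero, ← map_sub] at h1
    obtain ⟨ψ, hψ⟩ := (exact_emap (Submodule.injective_subtype _) (Submodule.mkQ_surjective _) hexQ _ _).1 h1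
    rw [Subsingleton.elim ψ 0, map_zero] at hψ
    exact sub_eq_zero.1 hψ.symm
  · have hπsurj : Function.Surjective (emap ω π (-(c : ℤ))) := fun φ =>
      (exact_emap (Submodule.injective_subtype _) hsurjπ hexK _ φ).1 (Subsingleton.elim _ _)
    obtain ⟨d, hd, -⟩ := exists_delta (W := ω) (Submodule.injective_subtype _) (Submodule.mkQ_surjective _)
      hexQ (-(c : ℤ)) (-(c : ℤ) + 1) rfl
    let e := LinearEquiv.ofBijective (emap ω π (-(c : ℤ))) ⟨hπinj, hπsurj⟩
    refine ⟨d ∘ₗ e.symm.toLinearMap, fun z hz => ?_⟩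
    obtain ⟨w, hw⟩ := (hd (e.symm z)).1 hz
    refine ⟨w, ?_⟩
    rw [← hcomp, hw]
    exact (e.apply_symm_apply z).symm

omit hω hn hy in
lemma exists_avoid (p : PrimeSpectrum A)
    (hp : ∀ q ∈ Module.support A M, Order.coheight q = c → ¬ p ≤ q) :
    ∃ x ∈ p.asIdeal, ∀ q ∈ Module.support A M, Order.coheight q = c → x ∉ q.asIdeal := by
  classical
  let S := {q : Ideal A | q ∈ (Module.annihilator A M).minimalPrimes ∧ ¬ p.asIdeal ≤ q}
  have hfin : S.Finite := (Module.annihilator A M).finite_minimalPrimes_of_isNoetherianRing.subset fun _ h => h.1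
  have hne : ¬ (p.asIdeal : Set A) ⊆ ⋃ q ∈ (hfin.toFinset : Set (Ideal A)), (q : Set A) := by
    rw [Ideal.subset_union_prime ⊥ ⊥ (fun q hq _ _ => (hfin.mem_toFinset.1 hq).1.1.1)]
    rintro ⟨q, hq, hle⟩
    exact (hfin.mem_toFinset.1 hq).2 hle
  obtain ⟨x, hxp, hx⟩ := Set.not_subset.1 hne
  refine ⟨x, hxp, fun q hq hqc hxq => hx ?_⟩
  have hmin : q.asIdeal ∈ (Module.annihilator A M).minimalPrimes :=
    ⟨⟨q.2, Module.annihilator_le_of_mem_support hq⟩, fun r hr hrq => by
      by_contra hne
      have hlt : (⟨r, hr.1⟩ : PrimeSpectrum A) < q :=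
        lt_of_le_of_ne hrq fun e => hne (le_of_eq (congrArg PrimeSpectrum.asIdeal e).symm)
      have h1 := (Order.coheight_add_one_le hlt).trans (hM _ (Module.mem_support_iff_of_finite.2 hr.2))
      rw [hqc] at h1
      exact absurd h1 (by exact_mod_cast Nat.not_succ_le_self c)⟩
  exact Set.mem_biUnion (hfin.mem_toFinset.2 ⟨hmin, hp q hq hqc⟩) hxq

end Groth.Agent.DualLib
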