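import Groth.Agent.DualLib.Global
import Groth.Agent.CAlgH3.CohenMacaulay
import Mathlib.RingTheory.Ideal.AssociatedPrime.Localization
import Mathlib.Algebra.Module.LocalizedModule.Exact

/-! `Hom(M, ω⟦i⟧)` at a prime: range and depth. -/

set_option autoImplicit false
set_option backward.isDefEq.respectTransparency false
set_option backward.defeqAttrib.useBackward true
set_option linter.style.haveILetI false

universe u

open CategoryTheory CategoryTheory.Limits CategoryTheory.Pretriangulated
open scoped Pointwise

attribute [local instance] HasDerivedCategory.standard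

namespace Groth.Agent.DualLib

variable {A : Type u} [CommRing A] [IsNoetherianRing A] {ω : Dual.D A} (hω : Dual.IsDualizing A ω)
include hω

/-- `Hom(M, ω⟦i⟧)_p = 0` if for every `q ≤ p` in the support, `i < deg q`; or if `deg p < i`. -/
theorem notMem_support_range (p : PrimeSpectrum A) (i : ℤ) (M : Type u) [AddCommGroup M] [Module A M]
    [Module.Finite A M] (h : ∀ q ∈ Module.support A M, q ≤ p → i < deg hω q ∨ deg hω p < i) :
    p ∉ Module.support A (E ω M i) := by
  suffices H : ∀ q : PrimeSpectrum A, q ≤ p → ∀ j : ℤ, (j < deg hω q ∨ deg hω p < j) →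
      p ∉ Module.support A (E ω (A ⧸ q.asIdeal) j) by
    refine devissage (Φ := fun N => p ∉ Module.support A (E ω N i))
      {q | q ≤ p → i < deg hω q ∨ deg hω p < i}
      (fun N _ _ _ => haveI := subsingleton_of_subsingleton ω i (M := N); notMem_support_of_subsingleton p) ?_
      (fun N N' _ _ _ _ f h => by rwa [← (econgr ω f i).symm.support_eq])
      (fun N₁ N₂ N₃ _ _ _ _ _ _ _ _ _ f g hf hg hfg h₁ h₃ => notMem_support_of_exact (exact_emap hf hg hfg i) h₃ h₁)
      M h
    intro q hq
    by_cases hqp : q ≤ p
    · exact H q hqp i (hq hqp)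
    · exact notMem_support_of_kills (annihilator_le_annihilator ω i) (by rw [Ideal.annihilator_quotient]; exact hqp)
  intro q
  haveI := wellFoundedGT_primeSpectrum (A := A)
  induction q using WellFoundedGT.induction with
  | ind q ih =>
    intro hqp j hj
    rcases hqp.lt_or_eq with hlt | rfl
    · obtain ⟨x, hxp, hxq⟩ := SetLike.exists_of_lt ((PrimeSpectrum.asIdeal_lt_asIdeal q p).2 hlt)
      refine notMem_support_step hω (injective_smul hxq) hxp j ?_
      refine devissage (Φ := fun N => p ∉ Module.support A (E ω N (j + 1))) (Set.Ioi q)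
        (fun N _ _ _ => haveI := subsingleton_of_subsingleton ω (j + 1) (M := N); notMem_support_of_subsingleton p) ?_
        (fun N N' _ _ _ _ f h => by rwa [← (econgr ω f _).symm.support_eq])
        (fun N₁ N₂ N₃ _ _ _ _ _ _ _ _ _ f g hf hg hfg h₁ h₃ => notMem_support_of_exact (exact_emap hf hg hfg _) h₃ h₁)
        (modQ q x) (fun r hr => support_modQ_gt hxq hr)
      intro r hr
      by_cases hrp : r ≤ p
      · refine ih r hr hrp (j + 1) ?_
        rcases hj with hj | hj
        · have := deg_lt hω (show q < r from hr); omega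
        · omega
      · exact notMem_support_of_kills (annihilator_le_annihilator ω _) (by rw [Ideal.annihilator_quotient]; exact hrp)
    · intro hc
      have := (deg_spec hω q j).1 hc
      omega

theorem notMem_support_of_deg_lt (p : PrimeSpectrum A) (i : ℤ) (hi : deg hω p < i) (M : Type u) [AddCommGroup M]
    [Module A M] [Module.Finite A M] : p ∉ Module.support A (E ω M i) :=
  notMem_support_range hω p i M fun _ _ _ => Or.inr hi

/-- Non-vanishing at the bottom of the range. -/
theorem mem_support_of_minimal' {p q : PrimeSpectrum A} (hqp : q ≤ p) (M : Type u) [AddCommGroup M]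
    [Module A M] [Module.Finite A M] (hmin : ∀ r ∈ Module.support A M, r ≤ q → r = q)
    (hq : q ∈ Module.support A M) : p ∈ Module.support A (E ω M (deg hω q)) :=
  Module.mem_support_mono hqp (mem_support_of_min (deg_spec hω q) M hmin hq)

/-- Depth at `p` and the top non-vanishing degree. -/
theorem localDepth_spec (p : PrimeSpectrum A) : ∀ (n : ℕ) (M : Type u) [AddCommGroup M] [Module A M]
    [Module.Finite A M], p ∈ Module.support A M →
    LocCoh.depth (Localization.AtPrime p.asIdeal) (LocalizedModule p.asIdeal.primeCompl M) = n →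
      (∀ i : ℤ, deg hω p - n < i → p ∉ Module.support A (E ω M i)) ∧
        p ∈ Module.support A (E ω M (deg hω p - n)) := by
  intro n
  induction n with
  | zero =>
    intro M _ _ _ hp hd
    refine ⟨fun i hi => notMem_support_of_deg_lt hω p i (by simpa using hi) M, ?_⟩
    haveI : Nontrivial (LocalizedModule p.asIdeal.primeCompl M) := hp
    haveI : IsNoetherianRing (Localization.AtPrime p.asIdeal) := inferInstance
    have hass := CAlgH3.depth_eq_zero_iff.1 (by simpa using hd :
      LocCoh.depth (Localization.AtPrime p.asIdeal) (LocalizedModule p.asIdeal.primeCompl M) = 0)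
    have hass' := Module.associatedPrimes.comap_mem_associatedPrimes_of_mem_associatedPrimes_of_isLocalizedModule_of_fg
      p.asIdeal.primeCompl (LocalizedModule.mkLinearMap p.asIdeal.primeCompl M) _ hass (IsNoetherian.noetherian _)
    rw [show (IsLocalRing.maximalIdeal (Localization.AtPrime p.asIdeal)).comap
      (algebraMap A (Localization.AtPrime p.asIdeal)) = p.asIdeal from Localization.AtPrime.under_maximalIdeal] at hass'
    obtain ⟨f, hf⟩ := ((isAssociatedPrime_iff_exists_injective_linearMap _ M).1 hass').2
    obtain ⟨d, hd', -⟩ := exists_delta (W := ω) hf (LinearMap.range f).mkQ_surjective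
      (LinearMap.exact_map_mkQ_range f) (deg hω p - (0 : ℕ)) (deg hω p + 1) (by simp)
    by_contra hc
    exact notMem_support_of_exact hd' hc (notMem_support_of_deg_lt hω p _ (by omega) _)
      ((deg_spec hω p _).2 (by simp))
  | succ n ih =>
    intro M _ _ _ hp hd
    haveI : Nontrivial (LocalizedModule p.asIdeal.primeCompl M) := hp
    obtain ⟨y, hym, hyreg⟩ := CAlgH3.exists_regular_of_one_le_depth
      (R := Localization.AtPrime p.asIdeal) (M := LocalizedModule p.asIdeal.primeCompl M) (by rw [hd]; simp)
    obtain ⟨⟨a, s⟩, hy⟩ := IsLocalization.surj p.asIdeal.primeCompl y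
    simp only at hy
    have ham : algebraMap A (Localization.AtPrime p.asIdeal) a ∈ IsLocalRing.maximalIdeal _ :=
      hy ▸ Ideal.mul_mem_right _ _ hym
    have ha : a ∈ p.asIdeal := (IsLocalization.AtPrime.to_map_mem_maximal_iff _ p.asIdeal a).1 ham
    have hareg : IsSMulRegular (LocalizedModule p.asIdeal.primeCompl M)
        (algebraMap A (Localization.AtPrime p.asIdeal) a) := by
      rw [← hy]
      exact hyreg.mul ((IsLocalization.map_units (Localization.AtPrime p.asIdeal) s).isSMulRegular _)
    let T : Submodule A M := Submodule.torsion' A M (Submonoid.powers a)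
    haveI : Module.Finite A T := Module.Finite.of_fg (IsNoetherian.noetherian _)
    have hT : p ∉ Module.support A T := by
      rw [Module.notMem_support_iff']
      intro t
      obtain ⟨⟨_, k, rfl⟩, hk⟩ := (Submodule.mem_torsion'_iff _ (t : M)).1 t.2
      change a ^ k • (t : M) = 0 at hk
      have h1 : LocalizedModule.mkLinearMap p.asIdeal.primeCompl M (t : M) = 0 := by
        refine (hareg.pow k).right_eq_zero_of_smul ?_
        rw [← map_pow, algebraMap_smul, ← map_smul, hk, map_zero]
      obtain ⟨u, hu⟩ := (IsLocalizedModule.eq_zero_iff p.asIdeal.primeCompl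
        (LocalizedModule.mkLinearMap p.asIdeal.primeCompl M)).1 h1
      exact ⟨u, u.2, Subtype.ext hu⟩
    have hinj : Function.Injective (a • (LinearMap.id : (M ⧸ T) →ₗ[A] (M ⧸ T))) := by
      rw [injective_iff_map_eq_zero]
      intro z hz
      obtain ⟨z, rfl⟩ := Submodule.Quotient.mk_surjective _ z
      change a • (Submodule.Quotient.mk z : M ⧸ T) = 0 at hz
      rw [← Submodule.Quotient.mk_smul, Submodule.Quotient.mk_eq_zero, Submodule.mem_torsion'_iff] at hz
      obtain ⟨⟨_, k, rfl⟩, hk⟩ := hz
      change a ^ k • a • z = 0 at hk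
      rw [Submodule.Quotient.mk_eq_zero, Submodule.mem_torsion'_iff]
      exact ⟨⟨a ^ (k + 1), k + 1, rfl⟩, show a ^ (k + 1) • z = 0 by rw [pow_succ, mul_smul, hk]⟩
    have hloc : Function.Bijective (LocalizedModule.map p.asIdeal.primeCompl T.mkQ) := by
      constructor
      · rw [injective_iff_map_eq_zero]
        intro z hz
        obtain ⟨w, rfl⟩ := (LocalizedModule.map_exact p.asIdeal.primeCompl _ _ (LinearMap.exact_subtype_mkQ T) z).1 hz
        haveI := Module.notMem_support_iff.1 hT
        rw [Subsingleton.elim w 0, map_zero]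
      · intro z
        induction z using LocalizedModule.induction_on with
        | h m s =>
          obtain ⟨m, rfl⟩ := T.mkQ_surjective m
          exact ⟨LocalizedModule.mk m s, by simp [LocalizedModule.map_mk]⟩
    let eL := LinearEquiv.ofBijective _ hloc
    have hp' : p ∈ Module.support A (M ⧸ T) := by
      haveI : Nontrivial (LocalizedModule p.asIdeal.primeCompl M) := hp
      exact eL.injective.nontrivial
    have hreg' : IsSMulRegular (LocalizedModule p.asIdeal.primeCompl (M ⧸ T))
        (algebraMap A (Localization.AtPrime p.asIdeal) a) := fun u v huv =>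
      eL.symm.injective (hareg (by
        show _ • eL.symm u = _ • eL.symm v
        rw [← map_smul, ← map_smul]
        exact congrArg eL.symm huv))
    have hq : LocCoh.depth (Localization.AtPrime p.asIdeal)
        (LocalizedModule p.asIdeal.primeCompl (QuotSMulTop a (M ⧸ T))) = n := by
      rw [← CAlgH3.depth_congr (CAlgH3.localizedQuotSMulTop p.asIdeal (M ⧸ T) a)]
      have := CAlgH3.depth_quotSMulTop_add_one (M := LocalizedModule p.asIdeal.primeCompl (M ⧸ T)) ham hreg'
      rw [← CAlgH3.depth_congr eL, hd, Nat.cast_add, Nat.cast_one] at this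
      exact WithTop.add_right_cancel ENat.one_ne_top this
    have hpq : p ∈ Module.support A (QuotSMulTop a (M ⧸ T)) := by
      rw [Module.support_quotSMulTop]
      exact ⟨hp', by simpa [PrimeSpectrum.mem_zeroLocus] using ha⟩
    obtain ⟨h1, h2⟩ := ih (QuotSMulTop a (M ⧸ T)) hpq hq
    have hex : Function.Exact (a • (LinearMap.id : (M ⧸ T) →ₗ[A] (M ⧸ T)))
        (Submodule.mkQ (a • (⊤ : Submodule A (M ⧸ T)))) := by
      intro m
      rw [Submodule.mkQ_apply, Submodule.Quotient.mk_eq_zero, Submodule.mem_smul_pointwise_iff_exists]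
      exact ⟨fun ⟨y, _, hy⟩ => ⟨y, hy⟩, fun ⟨y, hy⟩ => ⟨y, trivial, hy⟩⟩
    have hvan : ∀ i : ℤ, deg hω p - (n + 1 : ℕ) < i → p ∉ Module.support A (E ω (M ⧸ T) i) := fun i hi hc => by
      haveI := finite hω (M ⧸ T) i
      obtain ⟨d, hd', -⟩ := exists_delta (W := ω) hinj (Submodule.mkQ_surjective _) hex i (i + 1) rfl
      refine (Module.notMem_support_iff' (R := A) (M := QuotSMulTop a (E ω (M ⧸ T) i)) (p := p)).2 (fun z => ?_) ?_
      · obtain ⟨φ, rfl⟩ := Submodule.Quotient.mk_surjective _ z
        obtain ⟨r, hr, e⟩ := Module.notMem_support_iff'.1 (h1 (i + 1) (by push_cast at hi; omega)) (d φ)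
        refine ⟨r, hr, ?_⟩
        rw [← map_smul, hd'] at e
        obtain ⟨ψ, hψ⟩ := e
        rw [emap_smul_id] at hψ
        rw [← Submodule.Quotient.mk_smul, Submodule.Quotient.mk_eq_zero, ← hψ]
        exact Submodule.smul_mem_pointwise_smul ψ a _ trivial
      · rw [Module.support_quotSMulTop]
        exact ⟨hc, by simpa [PrimeSpectrum.mem_zeroLocus] using ha⟩
    have htrans : ∀ i : ℤ, p ∈ Module.support A (E ω M i) ↔ p ∈ Module.support A (E ω (M ⧸ T) i) := fun i => by
      have hTz : ∀ j, p ∉ Module.support A (E ω T j) := fun j =>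
        notMem_support_range hω p j T fun r hr hrp => absurd (Module.mem_support_mono hrp hr) hT
      constructor <;> intro h <;> by_contra hc
      · exact notMem_support_of_exact (exact_emap (W := ω) T.injective_subtype T.mkQ_surjective
          (LinearMap.exact_subtype_mkQ T) i) hc (hTz i) h
      · obtain ⟨d, -, hd'⟩ := exists_delta (W := ω) T.injective_subtype T.mkQ_surjective
          (LinearMap.exact_subtype_mkQ T) (i - 1) i (by omega)
        exact notMem_support_of_exact hd' (hTz (i - 1)) hc h
    refine ⟨fun i hi => by rw [htrans]; exact hvan i hi, (htrans _).2 ?_⟩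
    obtain ⟨d, -, hd'⟩ := exists_delta (W := ω) hinj (Submodule.mkQ_surjective _) hex
      (deg hω p - (n + 1 : ℕ)) (deg hω p - n) (by push_cast; omega)
    by_contra hc
    exact notMem_support_of_exact hd' hc (hvan _ (by push_cast; omega)) h2

end Groth.Agent.DualLib
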