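import Groth.Agent.DualLib.LocalDepth
import Groth.Agent.CommAlg6.AtPrime
import Mathlib.RingTheory.Ideal.MinimalPrime.Basic

/-! `dim M_p` through the dimension function of a dualizing complex. -/

set_option autoImplicit false
set_option backward.isDefEq.respectTransparency false
set_option backward.defeqAttrib.useBackward true
set_option linter.style.haveILetI false

universe u

open CategoryTheory CategoryTheory.Limits CategoryTheory.Pretriangulated

attribute [local instance] HasDerivedCategory.standard

namespace Groth.Agent.DualLib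

variable {A : Type u} [CommRing A] [IsNoetherianRing A] {ω : Dual.D A} (hω : Dual.IsDualizing A ω)
include hω

/-- Chains raise the degree. -/
lemma deg_add_length (s : LTSeries (PrimeSpectrum A)) : deg hω s.head + (s.length : ℤ) ≤ deg hω s.last := by
  have key : ∀ j : Fin (s.length + 1), deg hω s.head + (j : ℤ) ≤ deg hω (s j) := by
    intro j
    induction j using Fin.induction with
    | zero => simp [RelSeries.head]
    | succ j ih =>
      have := deg_lt hω (s.step j)
      simp only [Fin.val_succ, Fin.val_castSucc] at ih ⊢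
      push_cast
      omega
  simpa [RelSeries.last] using key (Fin.last _)

/-- Saturated chains realise the difference of degrees. -/
lemma exists_series_deg {q p : PrimeSpectrum A} (h : q ≤ p) :
    ∃ s : LTSeries (PrimeSpectrum A), s.head = q ∧ s.last = p ∧ (s.length : ℤ) = deg hω p - deg hω q := by
  haveI := wellFoundedGT_primeSpectrum (A := A)
  induction q using WellFoundedGT.induction with
  | ind q ih =>
    rcases h.lt_or_eq with hlt | rfl
    · obtain ⟨r, hr, hrp⟩ := exists_covBy_le hlt
      obtain ⟨s, h1, h2, h3⟩ := ih r hr.1 hrp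
      refine ⟨s.cons q (by show q < s.head; rw [h1]; exact hr.1), RelSeries.head_cons .., ?_, ?_⟩
      · rw [RelSeries.last_cons]; exact h2
      · rw [RelSeries.cons_length, Nat.cast_add, h3, Nat.cast_one, deg_covBy hω hr]; omega
    · exact ⟨RelSeries.singleton _ q, rfl, rfl, by simp⟩

lemma deg_mono {q p : PrimeSpectrum A} (h : q ≤ p) : deg hω q ≤ deg hω p := by
  rcases h.lt_or_eq with h' | rfl
  · exact (deg_lt hω h').le
  · exact le_rfl

omit hω in
lemma exists_min_below (p : PrimeSpectrum A) (M : Type u) [AddCommGroup M] [Module A M] [Module.Finite A M]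
    (hp : p ∈ Module.support A M) {r : PrimeSpectrum A} (hr : r ∈ Module.support A M) (hrp : r ≤ p) :
    ∃ q ∈ Module.support A M, q ≤ r ∧ ∀ r' ∈ Module.support A M, r' ≤ q → r' = q := by
  obtain ⟨q, hq, hqr⟩ := Ideal.exists_minimalPrimes_le (Module.annihilator_le_of_mem_support hr)
  exact ⟨⟨q, hq.1.1⟩, Module.mem_support_iff_of_finite.2 hq.1.2, hqr, fun r' hr' h =>
    PrimeSpectrum.ext (le_antisymm h (hq.2 ⟨r'.2, Module.annihilator_le_of_mem_support hr'⟩ h))⟩

omit hω [IsNoetherianRing A] in
lemma under_lt_under {q : Ideal A} [q.IsPrime] {I J : Ideal (Localization.AtPrime q)} (h : I < J) :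
    I.under A < J.under A := by
  refine lt_of_le_of_ne (Ideal.comap_mono h.le) fun e => h.ne ?_
  rw [← IsLocalization.map_under q.primeCompl (Localization.AtPrime q) I,
    ← IsLocalization.map_under q.primeCompl (Localization.AtPrime q) J, e]

/-- `dim M_p = max (deg p - deg q)` over minimal primes `q ≤ p` of the support. -/
theorem exists_localDim (p : PrimeSpectrum A) (M : Type u) [AddCommGroup M] [Module A M] [Module.Finite A M]
    (hp : p ∈ Module.support A M) :
    ∃ d : ℕ, Module.supportDim (Localization.AtPrime p.asIdeal) (LocalizedModule p.asIdeal.primeCompl M) = d ∧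
      (∀ q ∈ Module.support A M, q ≤ p → deg hω p - deg hω q ≤ d) ∧
      ∃ q ∈ Module.support A M, q ≤ p ∧ (∀ r ∈ Module.support A M, r ≤ q → r = q) ∧
        deg hω p - deg hω q = d := by
  classical
  let Mins : Set (PrimeSpectrum A) :=
    {q | q ∈ Module.support A M ∧ q ≤ p ∧ ∀ r ∈ Module.support A M, r ≤ q → r = q}
  have hfin : Mins.Finite := by
    refine Set.Finite.of_finite_image (f := PrimeSpectrum.asIdeal)
      (((Module.annihilator A M).finite_minimalPrimes_of_isNoetherianRing).subset ?_)
      (fun a _ b _ h => PrimeSpectrum.ext h)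
    rintro _ ⟨q, ⟨hq, -, hmin⟩, rfl⟩
    refine ⟨⟨q.2, Module.annihilator_le_of_mem_support hq⟩, fun r hr hrq => ?_⟩
    exact le_of_eq (congrArg PrimeSpectrum.asIdeal
      (hmin ⟨r, hr.1⟩ (Module.mem_support_iff_of_finite.2 hr.2) hrq)).symm
  obtain ⟨q₀, hq₀s, hq₀p, hq₀m⟩ := exists_min_below p M hp hp le_rfl
  obtain ⟨q, ⟨hqs, hqp, hqm⟩, hmax⟩ := Set.exists_max_image Mins (fun q => deg hω p - deg hω q) hfin
    ⟨q₀, hq₀s, hq₀p, hq₀m⟩
  have hall : ∀ r ∈ Module.support A M, r ≤ p → deg hω p - deg hω r ≤ deg hω p - deg hω q := fun r hr hrp => by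
    obtain ⟨r', hr's, hr'r, hr'm⟩ := exists_min_below p M hp hr hrp
    have h1 : deg hω p - deg hω r' ≤ deg hω p - deg hω q := hmax r' ⟨hr's, hr'r.trans hrp, hr'm⟩
    have h2 := deg_mono hω hr'r
    omega
  have hnn := deg_mono hω hqp
  refine ⟨(deg hω p - deg hω q).toNat, le_antisymm ?_ ?_, fun r hr hrp => by have := hall r hr hrp; omega,
    q, hqs, hqp, hqm, by omega⟩
  · refine iSup_le fun s => ?_
    have hs : ∀ x : Module.support (Localization.AtPrime p.asIdeal) (LocalizedModule p.asIdeal.primeCompl M),
        PrimeSpectrum.comap (algebraMap A _) x.1 ∈ Module.support A M ∧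
          PrimeSpectrum.comap (algebraMap A _) x.1 ≤ p := fun x =>
      ⟨(CommAlg6.mem_support_localizedModule p.asIdeal x.1).1 x.2, CommAlg6.under_le p.asIdeal x.1.asIdeal⟩
    let t : LTSeries (PrimeSpectrum A) := LTSeries.map s
      (fun x => PrimeSpectrum.comap (algebraMap A (Localization.AtPrime p.asIdeal)) x.1)
      (fun x y hxy => by
        rw [← PrimeSpectrum.asIdeal_lt_asIdeal]
        exact under_lt_under (show x.1.asIdeal < y.1.asIdeal from hxy))
    have h1 := deg_add_length hω t
    have h2 := hall t.head (hs s.head).1 (hs s.head).2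
    have h3 := deg_mono hω (show t.last ≤ p from (hs s.last).2)
    have h4 : t.length = s.length := rfl
    exact_mod_cast (show s.length ≤ (deg hω p - deg hω q).toNat by omega)
  · obtain ⟨s, hsh, hsl, hlen⟩ := exists_series_deg hω hqp
    have hle : ∀ j, q ≤ s j ∧ s j ≤ p := fun j => ⟨hsh ▸ s.monotone (Fin.zero_le _), hsl ▸ s.monotone (Fin.le_last _)⟩
    have hex : ∀ j : Fin (s.length + 1), ∃ Q : Module.support (Localization.AtPrime p.asIdeal)
        (LocalizedModule p.asIdeal.primeCompl M), Q.1.asIdeal.under A = (s j).asIdeal := fun j => by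
      obtain ⟨Q, hQ, hQP⟩ := CommAlg6.exists_under_eq p.asIdeal (s j).asIdeal (hle j).2
      refine ⟨⟨⟨Q, hQ⟩, ?_⟩, hQP⟩
      rw [CommAlg6.mem_support_localizedModule]
      convert Module.mem_support_mono (hle j).1 hqs using 1
      exact PrimeSpectrum.ext hQP
    choose F hF using hex
    have hstep : ∀ j : Fin s.length, F j.castSucc < F j.succ := fun j => by
      have h : (s j.castSucc).asIdeal < (s j.succ).asIdeal := s.step j
      rw [← hF, ← hF] at h
      show (F j.castSucc).1.asIdeal < (F j.succ).1.asIdeal
      refine lt_of_le_of_ne ?_ fun e => h.ne (by rw [e])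
      rw [← IsLocalization.map_under p.asIdeal.primeCompl (Localization.AtPrime p.asIdeal) (F j.castSucc).1.asIdeal,
        ← IsLocalization.map_under p.asIdeal.primeCompl (Localization.AtPrime p.asIdeal) (F j.succ).1.asIdeal]
      exact Ideal.map_mono h.le
    refine le_trans ?_ (Order.LTSeries.length_le_krullDim ⟨s.length, F, hstep⟩)
    have : (deg hω p - deg hω q).toNat = s.length := by omega
    rw [this]

end Groth.Agent.DualLib
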