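import Groth.Agent.DualLib.LocGlobal
import Groth.Agent.DualLib.SerreLoci

/-! Supports of `Hom` after localization. -/

set_option autoImplicit false
set_option backward.isDefEq.respectTransparency false
set_option backward.defeqAttrib.useBackward true
set_option linter.style.haveILetI false

universe u

open CategoryTheory CategoryTheory.Limits CategoryTheory.Pretriangulated DerivedCategory
open scoped TensorProduct

attribute [local instance] HasDerivedCategory.standard

namespace Groth.Agent.DualLib

variable {A : Type u} [CommRing A] {B : Type u} [CommRing B] [Algebra A B] (S : Submonoid A) [IsLocalization S B]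

include S in
lemma isLocalizedModule_tensor (M : Type u) [AddCommGroup M] [Module A M] :
    IsLocalizedModule S (TensorProduct.mk A B M 1) :=
  (isLocalizedModule_iff_isBaseChange S B _).2 (TensorProduct.isBaseChange A M B)

include S in
/-- Support of the localized module. -/
lemma mem_support_ext_iff (M : Type u) [AddCommGroup M] [Module A M] (P : PrimeSpectrum B) :
    P ∈ Module.support B ((ModuleCat.extendScalars.{u, u, u} (algebraMap A B)).obj (ModuleCat.of A M)) ↔
      PrimeSpectrum.comap (algebraMap A B) P ∈ Module.support A M := by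
  have key : ∀ (φ : A →+* B) (i' : Algebra A B), φ.toAlgebra = i' →
      ((letI := i'; P ∈ Module.support B (B ⊗[A] M) ↔ PrimeSpectrum.comap (algebraMap A B) P ∈ Module.support A M)) →
        (P ∈ Module.support B ((ModuleCat.extendScalars.{u, u, u} φ).obj (ModuleCat.of A M)) ↔
          PrimeSpectrum.comap φ P ∈ Module.support A M) := by
    rintro φ _ rfl h
    exact h
  refine key _ inferInstance (Algebra.algebra_ext _ _ fun _ => rfl) ?_
  haveI := isLocalizedModule_tensor (B := B) S M
  let ℓ := TensorProduct.mk A B M 1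
  rw [Module.mem_support_iff', Module.mem_support_iff']
  constructor
  · rintro ⟨z, hz⟩
    obtain ⟨⟨m, s⟩, hs⟩ := IsLocalizedModule.surj S ℓ z
    refine ⟨m, fun r hr h0 => ?_⟩
    refine hz (algebraMap A B r * algebraMap A B s) (fun h => ?_) ?_
    · rcases P.2.mem_or_mem h with h | h
      · exact hr h
      · exact P.2.ne_top (P.asIdeal.eq_top_of_isUnit_mem h (IsLocalization.map_units B s))
    · rw [mul_smul, IsScalarTower.algebraMap_smul, IsScalarTower.algebraMap_smul,
        show (s : A) • z = ℓ m from hs, ← map_smul, h0, map_zero]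
  · rintro ⟨m, hm⟩
    refine ⟨ℓ m, fun b hb h0 => ?_⟩
    obtain ⟨x, t, rfl⟩ := IsLocalization.exists_mk'_eq S b
    have h1 : ℓ (x • m) = 0 := by
      rw [map_smul, ← IsScalarTower.algebraMap_smul B x (ℓ m), ← IsLocalization.mk'_spec' B x t, mul_smul, h0, smul_zero]
    obtain ⟨c, hc⟩ := (IsLocalizedModule.eq_zero_iff S ℓ).1 h1
    refine hm ((c : A) * x) (fun h => ?_) ((mul_smul _ _ _).trans hc)
    rcases (PrimeSpectrum.comap (algebraMap A B) P).2.mem_or_mem h with h | h
    · exact P.2.ne_top (P.asIdeal.eq_top_of_isUnit_mem h (IsLocalization.map_units B c))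
    · refine hb ?_
      have : algebraMap A B t * IsLocalization.mk' B x t ∈ P.asIdeal := by
        rw [IsLocalization.mk'_spec']; exact h
      exact (P.2.mem_or_mem this).resolve_left fun h =>
        P.2.ne_top (P.asIdeal.eq_top_of_isUnit_mem h (IsLocalization.map_units B t))

omit [IsLocalization S B] S in
lemma finite_ext (M : Type u) [AddCommGroup M] [Module A M] [Module.Finite A M] :
    Module.Finite B ((ModuleCat.extendScalars.{u, u, u} (algebraMap A B)).obj (ModuleCat.of A M)) := by
  have key : ∀ (φ : A →+* B) (i' : Algebra A B), φ.toAlgebra = i' →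
      Module.Finite B ((ModuleCat.extendScalars.{u, u, u} φ).obj (ModuleCat.of A M)) := by
    rintro φ _ rfl
    letI := φ.toAlgebra
    exact inferInstanceAs (Module.Finite B (TensorProduct A B M))
  exact key (algebraMap A B) inferInstance (Algebra.algebra_ext _ _ fun _ => rfl)

variable [PreservesFiniteLimits (ModuleCat.extendScalars.{u, u, u} (algebraMap A B))]
  [PreservesFiniteColimits (ModuleCat.extendScalars.{u, u, u} (algebraMap A B))]
  [IsNoetherianRing A] {X Y : Dual.D A} {a : ℤ} (hX : IsSmall X) (hY : Y.IsGE a)

include S hX hY in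
/-- The support of `Hom` over the localization. -/
theorem mem_support_hom_iff (i : ℤ) (P : PrimeSpectrum B) :
    P ∈ Module.support B ((extD (algebraMap A B)).obj X ⟶ ((extD (algebraMap A B)).obj Y)⟦i⟧) ↔
      PrimeSpectrum.comap (algebraMap A B) P ∈ Module.support A (X ⟶ Y⟦i⟧) := by
  let φ := algebraMap A B
  let bij := homBij (B := B) X ((extD φ).obj Y) i
  let η := etaShift (B := B) Y i
  have hsmul : ∀ (r : A) z, bij (φ r • z) = r • bij z := fun r z => by
    show (adjD φ).homEquiv _ _ (φ r • z) ≫ _ = r • ((adjD φ).homEquiv _ _ z ≫ _)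
    rw [Adjunction.homEquiv_unit, Adjunction.homEquiv_unit, restrictD_map_smul, Linear.comp_smul, Linear.smul_comp]
  have hzero : bij 0 = 0 := by
    have := hsmul 0 0
    rwa [map_zero, zero_smul, zero_smul] at this
  rw [Module.mem_support_iff', Module.mem_support_iff']
  constructor
  · rintro ⟨z, hz⟩
    obtain ⟨s, hs, θ, hθ⟩ := exists_fraction S hX hY i (bij z)
    refine ⟨θ, fun r hr h0 => hz (φ r * φ s) (fun h => ?_) (bij.injective ?_)⟩
    · rcases P.2.mem_or_mem h with h | h
      · exact hr h
      · exact P.2.ne_top (P.asIdeal.eq_top_of_isUnit_mem h (IsLocalization.map_units B ⟨s, hs⟩))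
    · rw [hzero, ← map_mul, hsmul, mul_smul, ← hθ, ← Linear.smul_comp, h0, zero_comp]
  · rintro ⟨θ, hθ⟩
    refine ⟨bij.symm (θ ≫ η), fun b hb h0 => ?_⟩
    obtain ⟨x, t, rfl⟩ := IsLocalization.exists_mk'_eq S b
    have h1 : (x • θ) ≫ η = 0 := by
      have h2 := congrArg (fun z => bij (φ t • z)) h0
      simp only [smul_zero, hzero, smul_smul, IsLocalization.mk'_spec', φ] at h2
      rw [hsmul, bij.apply_symm_apply] at h2
      rw [Linear.smul_comp]
      exact h2
    obtain ⟨c, hc, h3⟩ := exists_kill (B := B) S hX hY i (x • θ) h1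
    refine hθ (c * x) (fun h => ?_) (by rw [mul_smul, h3])
    rcases (PrimeSpectrum.comap φ P).2.mem_or_mem h with h | h
    · exact P.2.ne_top (P.asIdeal.eq_top_of_isUnit_mem h (IsLocalization.map_units B ⟨c, hc⟩))
    · refine hb ?_
      have : φ t * IsLocalization.mk' B x t ∈ P.asIdeal := by
        rw [IsLocalization.mk'_spec']; exact h
      exact (P.2.mem_or_mem this).resolve_left fun h =>
        P.2.ne_top (P.asIdeal.eq_top_of_isUnit_mem h (IsLocalization.map_units B t))

include S hY in
/-- The module version. -/
theorem mem_support_E_iff (M : Type u) [AddCommGroup M] [Module A M] [Module.Finite A M] (i : ℤ) (P : PrimeSpectrum B) :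
    P ∈ Module.support B (E ((extD (algebraMap A B)).obj Y)
        ((ModuleCat.extendScalars.{u, u, u} (algebraMap A B)).obj (ModuleCat.of A M)) i) ↔
      PrimeSpectrum.comap (algebraMap A B) P ∈ Module.support A (E Y M i) := by
  rw [← mem_support_hom_iff S (isSmall_inD M) hY i P]
  exact iff_of_eq (congrArg (P ∈ ·) (LinearEquiv.support_eq
    ({ Iso.homCongr (extSingle (B := B) M).symm (Iso.refl (((extD (algebraMap A B)).obj Y)⟦i⟧)) with
       map_add' := fun f g => by simp
       map_smul' := fun r f => by simp } : _ ≃ₗ[B] _)))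

omit [IsNoetherianRing A] in
/-- The degree of a prime of a dualizing complex over a localization, detected downstairs. -/
theorem mem_support_iff_eq_deg [IsNoetherianRing A] {W : Dual.D B} [IsNoetherianRing B] (hW : Dual.IsDualizing B W)
    (e : (extD (algebraMap A B)).obj Y ≅ W) {b : ℤ} (hY' : Y.IsGE b) (P : PrimeSpectrum B) (i : ℤ)
    (hS : IsLocalization S B) :
    PrimeSpectrum.comap (algebraMap A B) P ∈ Module.support A
        (E Y (A ⧸ (PrimeSpectrum.comap (algebraMap A B) P).asIdeal) i) ↔ i = deg hW P := by
  let q := PrimeSpectrum.comap (algebraMap A B) P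
  let N := (ModuleCat.extendScalars.{u, u, u} (algebraMap A B)).obj (ModuleCat.of A (A ⧸ q.asIdeal))
  haveI : Module.Finite B N := finite_ext (B := B) (A ⧸ q.asIdeal)
  have hsupp : ∀ Q : PrimeSpectrum B, Q ∈ Module.support B N ↔ P ≤ Q := fun Q => by
    rw [mem_support_ext_iff S, Module.support_eq_zeroLocus, Ideal.annihilator_quotient]
    constructor
    · intro h x hx
      obtain ⟨y, t, rfl⟩ := IsLocalization.exists_mk'_eq S x
      have hy : y ∈ q.asIdeal := by
        show algebraMap A B y ∈ P.asIdeal
        rw [← IsLocalization.mk'_spec' B y t]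
        exact P.asIdeal.mul_mem_left _ hx
      have := h hy
      change algebraMap A B y ∈ Q.asIdeal at this
      rw [← IsLocalization.mk'_spec' B y t] at this
      exact (Q.2.mem_or_mem this).resolve_left fun h =>
        Q.2.ne_top (Q.asIdeal.eq_top_of_isUnit_mem h (IsLocalization.map_units B t))
    · intro h x hx
      exact h hx
  have hmin : ∀ Q ∈ Module.support B N, Q ≤ P → Q = P := fun Q hQ hle => le_antisymm hle ((hsupp Q).1 hQ)
  have hEW : P ∈ Module.support B (E W N i) ↔ i = deg hW P := by
    constructor
    · intro h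
      by_contra hne
      exact notMem_support_of_min (fun h' => hne ((deg_spec hW P i).1 h')) N hmin h
    · rintro rfl
      exact mem_support_of_min (fun j => deg_spec hW P j) N hmin ((hsupp P).2 le_rfl)
  rw [← hEW, ← mem_support_E_iff S hY' (A ⧸ q.asIdeal) i P]
  exact iff_of_eq (congrArg (P ∈ ·) (LinearEquiv.support_eq
    ({ Iso.homCongr (Iso.refl (Dual.inD B N)) ((shiftFunctor (Dual.D B) i).mapIso e) with
       map_add' := fun f g => by simp
       map_smul' := fun r f => by simp } : _ ≃ₗ[B] _)))

end Groth.Agent.DualLib
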