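import Groth.Agent.DualLib.LocGlobal
import Groth.Agent.DualLib.LocSupport
import Mathlib.RingTheory.Localization.Finiteness

/-! Dualizing complexes descend along open coverings. -/

set_option autoImplicit false
set_option backward.isDefEq.respectTransparency false
set_option backward.defeqAttrib.useBackward true
set_option linter.style.haveILetI false

universe u

open CategoryTheory CategoryTheory.Limits CategoryTheory.Pretriangulated DerivedCategory
open scoped TensorProduct

attribute [local instance] HasDerivedCategory.standard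

namespace Groth.Agent.DualLib

variable {A : Type u} [CommRing A] [IsNoetherianRing A]

omit [IsNoetherianRing A] in
lemma nonempty_ext_tensor {B : Type u} [CommRing B] [Algebra A B] (M : ModuleCat.{u} A) :
    Nonempty ((ModuleCat.extendScalars.{u, u, u} (algebraMap A B)).obj M ≃ₗ[B] B ⊗[A] M) := by
  have key : ∀ (φ : A →+* B) (i' : Algebra A B), φ.toAlgebra = i' →
      (letI := i'; Nonempty ((ModuleCat.extendScalars.{u, u, u} φ).obj M ≃ₗ[B] B ⊗[A] M)) := by
    rintro φ _ rfl
    letI := φ.toAlgebra
    exact ⟨LinearEquiv.refl B _⟩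
  exact key (algebraMap A B) inferInstance (Algebra.algebra_ext _ _ fun _ => rfl)

omit [IsNoetherianRing A] in
/-- A cohomology module after localization, as a tensor product. -/
lemma nonempty_HD_tensor (S : Submonoid A) (X : Dual.D A) (j : ℤ) :
    Nonempty (Dual.HD (Localization S) ((extD (algebraMap A (Localization S))).obj X) j ≃ₗ[Localization S]
      Localization S ⊗[A] Dual.HD A X j) := by
  obtain ⟨e⟩ := nonempty_ext_tensor (B := Localization S) ((homologyFunctor (ModuleCat.{u} A) j).obj X)
  exact ⟨(DCat.SuppOpen.hdMapIso (ModuleCat.extendScalars.{u, u, u} (algebraMap A (Localization S))) X j).toLinearEquiv ≪≫ₗ e⟩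

theorem isDualizing_of_away {ω : Dual.D A} {n : ℕ} (f : Fin n → A) (hf : Ideal.span (Set.range f) = ⊤)
    (hloc : ∀ i, Dual.IsDualizing (Localization.Away (f i))
      ((extD (algebraMap A (Localization.Away (f i)))).obj ω)) :
    Dual.IsDualizing A ω := by
  classical
  have hcov : ∀ m : Ideal A, m.IsMaximal → ∃ i, ∀ s ∈ Submonoid.powers (f i), s ∉ m := by
    intro m hm
    by_contra! hc
    refine hm.ne_top (top_unique (hf ▸ Ideal.span_le.2 ?_))
    rintro _ ⟨i, rfl⟩
    obtain ⟨_, ⟨k, rfl⟩, hk⟩ := hc i
    exact hm.isPrime.mem_of_pow_mem k hk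
  have hfin : ∀ j, Module.Finite A (Dual.HD A ω j) := by
    intro j
    haveI : ∀ g : (Finset.univ.image f : Finset A), IsLocalizedModule.Away g.1
        (TensorProduct.mk A (Localization.Away g.1) (Dual.HD A ω j) 1) := fun g =>
      isLocalizedModule_tensor (B := Localization.Away g.1) (Submonoid.powers g.1) _
    refine Module.Finite.of_localizationSpan_finite' (Finset.univ.image f)
      (by rw [Finset.coe_image, Finset.coe_univ, Set.image_univ, hf])
      (Mₚ := fun g => Localization.Away g.1 ⊗[A] Dual.HD A ω j) (Rₚ := fun g => Localization.Away g.1)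
      (fun g => TensorProduct.mk A (Localization.Away g.1) (Dual.HD A ω j) 1)
      ?_
    rintro ⟨g, hg⟩
    obtain ⟨i, -, rfl⟩ := Finset.mem_image.1 hg
    obtain ⟨e⟩ := nonempty_HD_tensor (Submonoid.powers (f i)) ω j
    haveI := (hloc i).finite_cohomology j
    exact Module.Finite.equiv e
  choose a b hab using fun i => exists_bound (hloc i)
  choose a' b' hab' using fun i => (hloc i).finite_injective_dimension
  obtain ⟨lo, hlo⟩ := (Set.finite_range fun i => min (a i) (a' i)).bddBelow
  obtain ⟨hi', hhi⟩ := (Set.finite_range fun i => max (b i) (b' i)).bddAbove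
  have hlo' : ∀ i, lo ≤ a i ∧ lo ≤ a' i := fun i => le_min_iff.1 (hlo ⟨i, rfl⟩)
  have hhi' : ∀ i, b i ≤ hi' ∧ b' i ≤ hi' := fun i => max_le_iff.1 (hhi ⟨i, rfl⟩)
  have hvanH : ∀ j, j < lo → Subsingleton (Dual.HD A ω j) := fun j hj =>
    subsingleton_of_forall_eq 0 fun z => (Submodule.mem_bot A).1
      (mem_of_forall_maximal (⊥ : Submodule A (Dual.HD A ω j)) z fun m hm => by
        obtain ⟨i, hi⟩ := hcov m hm
        obtain ⟨e⟩ := nonempty_HD_tensor (Submonoid.powers (f i)) ω j
        haveI := (hab i).1
        haveI : Subsingleton (Dual.HD (Localization (Submonoid.powers (f i)))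
            ((extD (algebraMap A (Localization (Submonoid.powers (f i))))).obj ω) j) :=
          ModuleCat.subsingleton_of_isZero (isZero_of_isGE _ (a i) j (by have := hlo' i; omega))
        haveI := e.symm.injective.subsingleton
        haveI := isLocalizedModule_tensor (B := Localization (Submonoid.powers (f i))) (Submonoid.powers (f i))
          (Dual.HD A ω j)
        obtain ⟨s, hs⟩ := (IsLocalizedModule.eq_zero_iff (Submonoid.powers (f i))
          (TensorProduct.mk A (Localization (Submonoid.powers (f i))) (Dual.HD A ω j) 1) (m := z)).1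
          (Subsingleton.elim _ _)
        exact ⟨s, hi s s.2, hs⟩)
  have hge : ω.IsGE lo := (DRingLib.isGE_iff_HD ω lo).2 hvanH
  have hvan : ∀ (M : Type u) [AddCommGroup M] [Module A M] [Module.Finite A M] (j : ℤ),
      (j < lo ∨ hi' < j) → Subsingleton (E ω M j) := fun M _ _ _ j hj =>
    subsingleton_of_forall_eq 0 fun θ => (Submodule.mem_bot A).1
      (mem_of_forall_maximal (⊥ : Submodule A (E ω M j)) θ fun m hm => by
        obtain ⟨i, hi⟩ := hcov m hm
        have := hlo' i
        have := hhi' i
        have hsub := hab' i ((ModuleCat.extendScalars.{u, u, u}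
          (algebraMap A (Localization (Submonoid.powers (f i))))).obj (ModuleCat.of A M)) j (by omega)
        obtain ⟨s, hs, h0⟩ := (subsingleton_E_iff (B := Localization (Submonoid.powers (f i)))
          (Submonoid.powers (f i)) M hge j).1 hsub θ
        exact ⟨s, hi s hs, h0⟩)
  have hinj := ((S6965.result A ω lo hi').out 0 2).2 fun I i hi => hvan (A ⧸ I) i hi
  refine isDualizing_of_cover hfin (isSmall_of_injAmp hinj hfin) hinj fun m hm => ?_
  obtain ⟨i, hi⟩ := hcov m hm
  exact ⟨Submonoid.powers (f i), hi, hloc i⟩

end Groth.Agent.DualLib
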