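import Groth.Agent.DualLib.Shift
import Groth.Agent.DualLib.Cover
import Groth.Agent.DualLib.LocalDuality
import Groth.Agent.LocCoh.Gorenstein
import Groth.Agent.CAlgH3.CMRing
import Groth.Agent.Matlis6.HullExistence

/-! The Gorenstein locus. -/

set_option autoImplicit false
set_option backward.isDefEq.respectTransparency false
set_option backward.defeqAttrib.useBackward true
set_option linter.style.haveILetI false

universe u

open CategoryTheory CategoryTheory.Limits CategoryTheory.Pretriangulated DerivedCategory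
open scoped TensorProduct

attribute [local instance] HasDerivedCategory.standard

namespace Groth.Agent.DualLib

/-- Over a Gorenstein local ring, the bottom cohomology of a normalized dualizing complex is free of rank one. -/
theorem nonempty_equiv_self_of_gorenstein {B : Type u} [CommRing B] [LocCoh.IsGorensteinLocalRing B]
    {W : Dual.D B} (hW : Dual.IsDualizing B W) (hn : Dual.IsNormalized B W) {n : ℕ} (hd : ringKrullDim B = n) :
    Nonempty (Dual.HD B W (-(n : ℤ)) ≃ₗ[B] B) := by
  obtain ⟨E, _, _, f, hf⟩ := Matlis6.exists_isInjectiveHull B (IsLocalRing.ResidueField B)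
  have hE := Matlis6.of_isInjectiveHull_residueField hf
  obtain ⟨e⟩ := nonempty_localDuality hW hn hf B n
  obtain ⟨e'⟩ := LocCoh.nonempty_H_equiv_hull_of_gorenstein hd hE
  haveI := finite hW B (-(n : ℤ))
  haveI : Module.Finite B (Dual.HD B W (-(n : ℤ))) := Module.Finite.equiv (eSelf W _)
  exact LocCoh.nonempty_equiv_of_dual_equiv hE _ _
    (((eSelf W (-(n : ℤ))).congrLeft E B).symm ≪≫ₗ e.symm ≪≫ₗ e' ≪≫ₗ (LinearMap.ringLmapEquivSelf B B E).symm)

variable {A : Type u} [CommRing A] [IsNoetherianRing A] {ω : Dual.D A} (hω : Dual.IsDualizing A ω)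
include hω

lemma mem_support_HD_iff (p : PrimeSpectrum A) (i : ℤ) :
    p ∈ Module.support A (E ω A i) ↔ p ∈ Module.support A (Dual.HD A ω i) := by
  rw [(eSelf ω i).support_eq]

/-- Only one cohomology module at a prime with Cohen–Macaulay local ring. -/
lemma unique_degree {p : PrimeSpectrum A}
    (hp : LocCoh.IsCohenMacaulayLocalRing (Localization.AtPrime p.asIdeal)) {i j : ℤ}
    (hi : p ∈ Module.support A (Dual.HD A ω i)) (hj : p ∈ Module.support A (Dual.HD A ω j)) : i = j := by
  haveI := hp
  have hcm : LocCoh.IsCohenMacaulayModule (Localization.AtPrime p.asIdeal) (LocalizedModule p.asIdeal.primeCompl A) :=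
    (CAlgH3.isCohenMacaulayModule_congr (CAlgH3.localizedModuleSelf p.asIdeal)).2
      ((CAlgH3.isCohenMacaulayLocalRing_iff _).1 hp)
  have key := (codepth_le_iff hω A p 0).1 (by
    rw [Nat.cast_zero, add_zero]
    exact (le_of_eq hcm))
  have h1 := key i j ((mem_support_HD_iff hω p i).2 hi) ((mem_support_HD_iff hω p j).2 hj)
  have h2 := key j i ((mem_support_HD_iff hω p j).2 hj) ((mem_support_HD_iff hω p i).2 hi)
  omega

omit hω [IsNoetherianRing A] in
lemma subsingleton_tensor_of_notMem (p : PrimeSpectrum A) (M : Type u) [AddCommGroup M] [Module A M]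
    (h : p ∉ Module.support A M) : Subsingleton (Localization.AtPrime p.asIdeal ⊗[A] M) := by
  haveI := isLocalizedModule_tensor (B := Localization.AtPrime p.asIdeal) p.asIdeal.primeCompl M
  refine subsingleton_of_forall_eq 0 fun z => ?_
  obtain ⟨⟨m, s⟩, hs⟩ := IsLocalizedModule.surj p.asIdeal.primeCompl
    (TensorProduct.mk A (Localization.AtPrime p.asIdeal) M 1) z
  obtain ⟨t, ht, htm⟩ := Module.notMem_support_iff'.1 h m
  refine (Module.End.isUnit_iff _).1 (IsLocalizedModule.map_units
    (TensorProduct.mk A (Localization.AtPrime p.asIdeal) M 1) (⟨t, ht⟩ * s)) |>.1 ?_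
  show (t * (s : A)) • z = (t * (s : A)) • 0
  rw [smul_zero, mul_smul]
  change t • (s • z) = 0
  rw [hs, ← map_smul, htm, map_zero]

/-- The Gorenstein criterion. -/
theorem gorenstein_iff (p : PrimeSpectrum A) :
    LocCoh.IsGorensteinLocalRing (Localization.AtPrime p.asIdeal) ↔
      ∃ j : ℤ, (∀ i, i ≠ j → p ∉ Module.support A (Dual.HD A ω i)) ∧
        Nonempty (Localization.AtPrime p.asIdeal ⊗[A] Dual.HD A ω j ≃ₗ[Localization.AtPrime p.asIdeal]
          Localization.AtPrime p.asIdeal) := by
  let B := Localization.AtPrime p.asIdeal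
  haveI : IsNoetherianRing B := IsLocalization.isNoetherianRing p.asIdeal.primeCompl B inferInstance
  let W := (extD (algebraMap A B)).obj ω
  have hW : Dual.IsDualizing B W := isDualizing_extD p.asIdeal.primeCompl hω
  constructor
  · intro hg
    obtain ⟨c, hc⟩ := exists_normalized hW
    obtain ⟨n, hn⟩ := LocCoh.exists_dim_eq (R := B)
    obtain ⟨e⟩ := nonempty_equiv_self_of_gorenstein (isDualizing_shift hW c) hc hn
    let j : ℤ := c + -(n : ℤ)
    obtain ⟨eT⟩ := nonempty_HD_tensor p.asIdeal.primeCompl ω j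
    let e1 : Dual.HD B W j ≃ₗ[B] B :=
      (((homologyFunctor (ModuleCat.{u} B) 0).shiftIso c (-(n : ℤ)) j rfl).app W).toLinearEquiv.symm ≪≫ₗ e
    have hj : p ∈ Module.support A (Dual.HD A ω j) := by
      by_contra hc
      haveI := subsingleton_tensor_of_notMem p _ hc
      exact not_subsingleton B ((eT.symm ≪≫ₗ e1).symm.injective.subsingleton)
    exact ⟨j, fun i hi hmem => hi (unique_degree hω LocCoh.isCohenMacaulayLocalRing_of_gorenstein hmem hj),
      ⟨eT.symm ≪≫ₗ e1⟩⟩
  · rintro ⟨j, hj, ⟨e⟩⟩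
    have hz : ∀ i, i ≠ j → Subsingleton (Dual.HD B W i) := fun i hi => by
      obtain ⟨eT⟩ := nonempty_HD_tensor p.asIdeal.primeCompl ω i
      haveI := subsingleton_tensor_of_notMem p _ (hj i hi)
      exact eT.injective.subsingleton
    obtain ⟨eT⟩ := nonempty_HD_tensor p.asIdeal.primeCompl ω j
    let W' := W⟦j⟧
    let sI := fun i : ℤ => (((homologyFunctor (ModuleCat.{u} B) 0).shiftIso j i (j + i) rfl).app W).toLinearEquiv
    have hz' : ∀ i : ℤ, i ≠ 0 → Subsingleton (Dual.HD B W' i) := fun i hi =>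
      haveI : Subsingleton ↑(((homologyFunctor (ModuleCat.{u} B) 0).shift (j + i)).obj W) := hz (j + i) (by omega)
      (sI i).injective.subsingleton
    haveI : W'.IsGE 0 := (DRingLib.isGE_iff_HD W' 0).2 fun i hi => hz' i (by omega)
    haveI : W'.IsLE 0 := (DRingLib.isLE_iff_HD W' 0).2 fun i hi => hz' i (by omega)
    obtain ⟨eW⟩ := exists_single_iso W' 0
    let e0 : Dual.HD B W' 0 ≃ₗ[B] B :=
      (((homologyFunctor (ModuleCat.{u} B) 0).shiftIso j 0 j (add_zero j)).app W).toLinearEquiv ≪≫ₗ eT ≪≫ₗ e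
    obtain ⟨n, hn⟩ := exists_injDim_of_finite hW j
      (eW.symm ≪≫ (singleFunctor (ModuleCat.{u} B) 0).mapIso e0.toModuleIso)
    exact { exists_hasInjectiveDimensionLT := ⟨n, hn⟩ }

/-- The Gorenstein locus is open. -/
theorem isOpen_gorenstein : IsOpen {p : PrimeSpectrum A | LocCoh.IsGorensteinLocalRing (Localization.AtPrime p.asIdeal)} := by
  obtain ⟨a, b, hge, hle⟩ := exists_bound hω
  haveI := hge
  haveI := hle
  rw [isOpen_iff_forall_mem_open]
  intro p hp
  obtain ⟨j, hj, ⟨e⟩⟩ := (gorenstein_iff hω p).1 hp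
  haveI := hω.finite_cohomology j
  let B := Localization.AtPrime p.asIdeal
  haveI := isLocalizedModule_tensor (B := B) p.asIdeal.primeCompl (Dual.HD A ω j)
  let ℓ := TensorProduct.mk A B (Dual.HD A ω j) 1
  obtain ⟨⟨h, t⟩, ht⟩ := IsLocalizedModule.surj p.asIdeal.primeCompl ℓ (e.symm 1)
  let f : A →ₗ[A] Dual.HD A ω j := LinearMap.toSpanSingleton A _ h
  let U : Set (PrimeSpectrum A) :=
    ((⋃ i ∈ ((Finset.Icc a b).filter (· ≠ j) : Finset ℤ), Module.support A (Dual.HD A ω i)) ∪
      Module.support A (LinearMap.ker f) ∪ Module.support A (Dual.HD A ω j ⧸ LinearMap.range f))ᶜ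
  have hlin : ℓ h = algebraMap A B t • e.symm 1 := by
    rw [IsScalarTower.algebraMap_smul]
    exact ht.symm
  have he : e (ℓ h) = algebraMap A B t := by
    rw [hlin, map_smul, e.apply_symm_apply, smul_eq_mul, mul_one]
  refine ⟨U, fun q hq => ?_, ?_, ?_⟩
  · rw [Set.mem_compl_iff, Set.mem_union, Set.mem_union, not_or, not_or] at hq
    obtain ⟨⟨hq1, hq2⟩, hq3⟩ := hq
    refine (gorenstein_iff hω q).2 ⟨j, fun i hi hmem => ?_, ?_⟩
    · by_cases hib : i ∈ Finset.Icc a b
      · exact hq1 (Set.mem_biUnion (Finset.mem_filter.2 ⟨hib, hi⟩) hmem)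
      · haveI : Subsingleton (Dual.HD A ω i) := by
          rw [Finset.mem_Icc, not_and_or, not_le, not_le] at hib
          rcases hib with hh | hh
          · exact ModuleCat.subsingleton_of_isZero (isZero_of_isGE ω a i hh)
          · exact ModuleCat.subsingleton_of_isZero (isZero_of_isLE ω b i hh)
        exact notMem_support_of_subsingleton q hmem
    · let C := Localization.AtPrime q.asIdeal
      haveI := isLocalizedModule_tensor (B := C) q.asIdeal.primeCompl (Dual.HD A ω j)
      let ℓ' := TensorProduct.mk A C (Dual.HD A ω j) 1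
      let g : C →ₗ[C] C ⊗[A] Dual.HD A ω j := LinearMap.toSpanSingleton C _ (ℓ' h)
      refine ⟨(LinearEquiv.ofBijective g ⟨?_, fun z => ?_⟩).symm⟩
      · rw [injective_iff_map_eq_zero]
        intro c hc
        obtain ⟨x, s, rfl⟩ := IsLocalization.exists_mk'_eq q.asIdeal.primeCompl c
        have h1 : ℓ' (x • h) = 0 := by
          rw [map_smul, ← IsScalarTower.algebraMap_smul C x (ℓ' h), ← IsLocalization.mk'_spec' C x s, mul_smul]
          exact (congrArg _ hc).trans (smul_zero _)
        obtain ⟨r, hr⟩ := (IsLocalizedModule.eq_zero_iff q.asIdeal.primeCompl ℓ').1 h1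
        have hker : (r : A) * x ∈ LinearMap.ker f := by
          show ((r : A) * x) • h = 0
          rw [mul_smul]; exact hr
        obtain ⟨r', hr', h2⟩ := Module.notMem_support_iff'.1 hq2 ⟨_, hker⟩
        refine (IsLocalization.mk'_eq_zero_iff x s).2 ⟨⟨r' * r, q.asIdeal.primeCompl.mul_mem hr' r.2⟩, ?_⟩
        rw [mul_assoc]
        exact congrArg Subtype.val h2
      · obtain ⟨⟨m, s⟩, hs⟩ := IsLocalizedModule.surj q.asIdeal.primeCompl ℓ' z
        obtain ⟨r, hr, h2⟩ := Module.notMem_support_iff'.1 hq3 (Submodule.Quotient.mk m)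
        rw [← Submodule.Quotient.mk_smul, Submodule.Quotient.mk_eq_zero] at h2
        obtain ⟨x, hx⟩ := h2
        refine ⟨IsLocalization.mk' C x (⟨r, hr⟩ * s), ?_⟩
        obtain ⟨u, hu⟩ := IsLocalization.map_units C (⟨r, hr⟩ * s : q.asIdeal.primeCompl)
        refine (u.isUnit.smul_left_cancel).1 ?_
        rw [hu, LinearMap.toSpanSingleton_apply, smul_smul, IsLocalization.mk'_spec',
          IsScalarTower.algebraMap_smul, IsScalarTower.algebraMap_smul, ← map_smul]
        change ℓ' (x • h) = (r * (s : A)) • z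
        rw [mul_smul, show (s : A) • z = ℓ' m from hs, ← map_smul]
        exact congrArg ℓ' hx
  · refine ((Set.Finite.isClosed_biUnion (Finset.finite_toSet _) fun i _ => ?_).union ?_ |>.union ?_).isOpen_compl
    · haveI := hω.finite_cohomology i
      rw [Module.support_eq_zeroLocus]; exact PrimeSpectrum.isClosed_zeroLocus _
    · haveI : Module.Finite A (LinearMap.ker f) := Module.Finite.of_fg (IsNoetherian.noetherian _)
      rw [Module.support_eq_zeroLocus]; exact PrimeSpectrum.isClosed_zeroLocus _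
    · rw [Module.support_eq_zeroLocus]; exact PrimeSpectrum.isClosed_zeroLocus _
  · rw [Set.mem_compl_iff, Set.mem_union, Set.mem_union, not_or, not_or]
    refine ⟨⟨?_, ?_⟩, ?_⟩
    · intro hmem
      obtain ⟨i, hi, hmem⟩ := Set.mem_iUnion₂.1 hmem
      exact hj i (Finset.mem_filter.1 hi).2 hmem
    · rw [Module.notMem_support_iff']
      rintro ⟨x, hx⟩
      have h1 : algebraMap A B (x * (t : A)) = 0 := by
        have h2 : ℓ (x • h) = 0 := by rw [show x • h = 0 from hx, map_zero]
        rw [map_smul, ← IsScalarTower.algebraMap_smul B x (ℓ h)] at h2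
        have h3 := congrArg e h2
        rw [map_smul, he, map_zero, smul_eq_mul, ← map_mul] at h3
        exact h3
      obtain ⟨r, hr⟩ := (IsLocalization.map_eq_zero_iff p.asIdeal.primeCompl B _).1 h1
      exact ⟨(r : A) * t, p.asIdeal.primeCompl.mul_mem r.2 t.2, Subtype.ext (by
        show (r : A) * t * x = 0
        rw [mul_assoc, mul_comm (t : A) x]; exact hr)⟩
    · rw [Module.notMem_support_iff']
      intro y
      obtain ⟨y, rfl⟩ := Submodule.Quotient.mk_surjective _ y
      obtain ⟨x, s, hxs⟩ := IsLocalization.exists_mk'_eq p.asIdeal.primeCompl (e (ℓ y))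
      have h1 : ℓ (((s : A) * t) • y) = ℓ (x • h) := by
        apply e.injective
        rw [map_smul ℓ, map_smul ℓ, ← IsScalarTower.algebraMap_smul B ((s : A) * t),
          ← IsScalarTower.algebraMap_smul B x, map_smul, map_smul, he, ← hxs, smul_eq_mul, smul_eq_mul, map_mul,
          mul_right_comm, IsLocalization.mk'_spec']
      obtain ⟨r, hr⟩ := IsLocalizedModule.exists_of_eq (S := p.asIdeal.primeCompl) (f := ℓ) h1
      refine ⟨(r : A) * ((s : A) * t), p.asIdeal.primeCompl.mul_mem r.2 (p.asIdeal.primeCompl.mul_mem s.2 t.2), ?_⟩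
      rw [← Submodule.Quotient.mk_smul, Submodule.Quotient.mk_eq_zero]
      refine ⟨(r : A) * x, ?_⟩
      show ((r : A) * x) • h = ((r : A) * ((s : A) * t)) • y
      rw [mul_smul, mul_smul]
      exact hr.symm

end Groth.Agent.DualLib
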