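import Groth.Agent.DualLib.Basic
import Groth.Agent.DCat.Trunc

/-! Dévissage of `Hom_{D(A)}(X, W⟦i⟧)` through the cohomology of `X`. -/

set_option autoImplicit false
set_option backward.isDefEq.respectTransparency false
set_option backward.defeqAttrib.useBackward true
set_option linter.style.haveILetI false

universe u

open CategoryTheory CategoryTheory.Limits CategoryTheory.Pretriangulated DerivedCategory

attribute [local instance] HasDerivedCategory.standard

namespace Groth.Agent.DualLib

variable {A : Type u} [CommRing A]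

/-- The standard t-structure. -/
noncomputable abbrev ts (A : Type u) [CommRing A] : Triangulated.TStructure (Dual.D A) :=
  DerivedCategory.TStructure.t (C := ModuleCat.{u} A)

/-- `τ_{<b}` does not change cohomology below `b`. -/
noncomputable def hTruncLT (X : Dual.D A) (b q : ℤ) (hq : q < b) :
    Dual.HD A (((ts A).truncLT b).obj X) q ≃ₗ[A] Dual.HD A X q :=
  haveI := DCat.mono_homology_truncLTι X b q
  haveI : Epi ((homologyFunctor (ModuleCat.{u} A) q).map (((ts A).truncLTι b).app X)) :=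
    (HomologySequence.epi_homologyMap_mor₁_iff _ ((ts A).triangleLTGE_distinguished b X) q).2
      ((isZero_of_isGE (((ts A).truncGE b).obj X) b q hq).eq_of_tgt _ _)
  haveI := isIso_of_mono_of_epi ((homologyFunctor (ModuleCat.{u} A) q).map (((ts A).truncLTι b).app X))
  (asIso ((homologyFunctor (ModuleCat.{u} A) q).map (((ts A).truncLTι b).app X))).toLinearEquiv

/-- `τ_{≥b}` does not change cohomology in degrees `≥ b`. -/
noncomputable def hTruncGE (X : Dual.D A) (b q : ℤ) (hq : b ≤ q) :
    Dual.HD A X q ≃ₗ[A] Dual.HD A (((ts A).truncGE b).obj X) q :=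
  haveI := DCat.epi_homology_truncGEπ X b q
  haveI : Mono ((homologyFunctor (ModuleCat.{u} A) q).map (((ts A).truncGEπ b).app X)) := by
    haveI : (((ts A).truncLT b).obj X).IsLE (b - 1) := (ts A).isLE_truncLT_obj _ _ _ (by omega)
    exact (HomologySequence.mono_homologyMap_mor₂_iff _ ((ts A).triangleLTGE_distinguished b X) q).2
      ((isZero_of_isLE (((ts A).truncLT b).obj X) (b - 1) q (by omega)).eq_of_src _ _)
  haveI := isIso_of_mono_of_epi ((homologyFunctor (ModuleCat.{u} A) q).map (((ts A).truncGEπ b).app X))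
  (asIso ((homologyFunctor (ModuleCat.{u} A) q).map (((ts A).truncGEπ b).app X))).toLinearEquiv

lemma exists_single_iso (Y : Dual.D A) (n : ℤ) [Y.IsGE n] [Y.IsLE n] :
    Nonempty ((singleFunctor (ModuleCat.{u} A) n).obj (ModuleCat.of A (Dual.HD A Y n)) ≅ Y) := by
  obtain ⟨M, ⟨e⟩⟩ := exists_iso_singleFunctor_obj_of_isGE_of_isLE Y n
  let d : (homologyFunctor (ModuleCat.{u} A) n).obj Y ≅ M :=
    (homologyFunctor (ModuleCat.{u} A) n).mapIso e ≪≫ (singleFunctorCompHomologyFunctorIso (ModuleCat.{u} A) n).app M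
  exact ⟨(singleFunctor (ModuleCat.{u} A) n).mapIso d ≪≫ e.symm⟩

variable (W : Dual.D A)

lemma isZero_hom {X : Dual.D A} (hX : IsZero X) (i : ℤ) : Subsingleton (X ⟶ W⟦i⟧) :=
  ⟨fun f g => hX.eq_of_src f g⟩

/-- Transport along an isomorphism. -/
noncomputable def homCongr {X Y : Dual.D A} (e : X ≅ Y) (i : ℤ) : (Y ⟶ W⟦i⟧) ≃ₗ[A] (X ⟶ W⟦i⟧) :=
  LinearEquiv.ofLinear (pre W e.hom i) (pre W e.inv i) (LinearMap.ext fun φ => by simp)
    (LinearMap.ext fun φ => by simp)

/-- `Hom(M[-n], W⟦i⟧) = Hom(M, W⟦i+n⟧)`. -/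
noncomputable def singleHom (M : ModuleCat.{u} A) (n i j : ℤ) (h : i + n = j) :
    ((singleFunctor (ModuleCat.{u} A) n).obj M ⟶ W⟦i⟧) ≃ₗ[A] E W M j :=
  LinearEquiv.ofBijective
    { toFun := fun φ => (((singleFunctors (ModuleCat.{u} A)).shiftIso n 0 n (by omega)).app M).inv ≫ φ⟦n⟧' ≫
        (shiftFunctorAdd' (Dual.D A) i n j h).inv.app W
      map_add' := fun φ ψ => by simp
      map_smul' := fun a φ => by
        rw [Functor.map_smul, Linear.smul_comp, Linear.comp_smul]
        rfl }
    (by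
      have h1 := (Functor.FullyFaithful.ofFullyFaithful (shiftFunctor (Dual.D A) n)).map_bijective
        ((singleFunctor (ModuleCat.{u} A) n).obj M) (W⟦i⟧)
      have h2 : Function.Bijective fun ψ : ((singleFunctor (ModuleCat.{u} A) n).obj M)⟦n⟧ ⟶ (W⟦i⟧)⟦n⟧ =>
          (((singleFunctors (ModuleCat.{u} A)).shiftIso n 0 n (by omega)).app M).inv ≫ ψ ≫
            (shiftFunctorAdd' (Dual.D A) i n j h).inv.app W :=
        ((((singleFunctors (ModuleCat.{u} A)).shiftIso n 0 n (by omega)).app M).homCongr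
          (((shiftFunctorAdd' (Dual.D A) i n j h).app W).symm)).bijective
      exact h2.comp h1)

variable {W}

/-- The sequence of the triangle of a truncation. -/
lemma exact_trunc (X : Dual.D A) (b i : ℤ) :
    Function.Exact (pre W (((ts A).truncGEπ b).app X) i) (pre W (((ts A).truncLTι b).app X) i) :=
  exact_pre _ ((ts A).triangleLTGE_distinguished b X) i

lemma injective_pre_truncGE (X : Dual.D A) (b i : ℤ) (h : Subsingleton (((ts A).truncLT b).obj X ⟶ W⟦i - 1⟧)) :
    Function.Injective (pre W (((ts A).truncGEπ b).app X) i) := by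
  rw [injective_iff_map_eq_zero]
  intro φ hφ
  obtain ⟨ψ, rfl⟩ := (exact_delta_pre (W := W) _ ((ts A).triangleLTGE_distinguished b X) (i - 1) i (by omega) φ).1 hφ
  rw [show ψ = 0 from Subsingleton.elim (α := ((ts A).truncLT b).obj X ⟶ W⟦i - 1⟧) _ _, map_zero]

lemma surjective_pre_truncLT (X : Dual.D A) (b i : ℤ) (h : Subsingleton (((ts A).truncGE b).obj X ⟶ W⟦i + 1⟧)) :
    Function.Surjective (pre W (((ts A).truncLTι b).app X) i) := fun φ =>
  (exact_pre_delta (W := W) _ ((ts A).triangleLTGE_distinguished b X) i (i + 1) rfl φ).1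
    (Subsingleton.elim (α := ((ts A).truncGE b).obj X ⟶ W⟦i + 1⟧) _ _)

/-- Maps from a bounded object vanish if they vanish on all cohomology modules. -/
theorem vanish : ∀ (n : ℕ) (a : ℤ) (X : Dual.D A), X.IsGE a → X.IsLE (a + n - 1) → ∀ i : ℤ,
    (∀ q : ℤ, a ≤ q → q < a + n → Subsingleton (E W (Dual.HD A X q) (i + q))) → Subsingleton (X ⟶ W⟦i⟧) := by
  intro n
  induction n with
  | zero =>
    intro a X hge hle i _
    exact isZero_hom W ((ts A).isZero X (a + (0 : ℕ) - 1) a (by omega)) i
  | succ n ih =>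
    intro a X hge hle i h
    let T := ((ts A).triangleLTGE (a + n)).obj X
    haveI h₁ : (((ts A).truncLT (a + n)).obj X).IsLE (a + n - 1) := (ts A).isLE_truncLT_obj _ _ _ (by omega)
    haveI : (((ts A).truncLT (a + n)).obj X).IsGE a := inferInstance
    haveI s₁ : Subsingleton (((ts A).truncLT (a + n)).obj X ⟶ W⟦i⟧) :=
      ih a _ inferInstance h₁ i fun q hq hq' =>
        haveI := h q hq (by push_cast; omega)
        (econgr W (hTruncLT X (a + n) q hq').symm (i + q)).injective.subsingleton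
    haveI : X.IsLE (a + n) := by
      have : a + ((n + 1 : ℕ) : ℤ) - 1 = a + n := by push_cast; omega
      exact this ▸ hle
    haveI : (((ts A).truncGE (a + n)).obj X).IsGE (a + n) := inferInstance
    haveI : (((ts A).truncGE (a + n)).obj X).IsLE (a + n) := inferInstance
    obtain ⟨e⟩ := exists_single_iso (((ts A).truncGE (a + n)).obj X) (a + n)
    haveI s₃ : Subsingleton (((ts A).truncGE (a + n)).obj X ⟶ W⟦i⟧) := by
      haveI := h (a + n) (by omega) (by push_cast; omega)
      haveI := (econgr W (hTruncGE X (a + n) (a + n) le_rfl) (i + (a + n))).injective.subsingleton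
      haveI := (singleHom W (ModuleCat.of A (Dual.HD A (((ts A).truncGE (a + n)).obj X) (a + n))) (a + n) i
        (i + (a + n)) rfl).injective.subsingleton
      exact (homCongr W e i).injective.subsingleton
    refine subsingleton_of_forall_eq 0 fun φ => ?_
    obtain ⟨ψ, rfl⟩ := (exact_trunc X (a + n) i φ).1 (Subsingleton.elim _ _)
    rw [Subsingleton.elim ψ 0, map_zero]

theorem vanish' (X : Dual.D A) (a b : ℤ) [hge : X.IsGE a] [hle : X.IsLE b] (i : ℤ)
    (h : ∀ q : ℤ, a ≤ q → q ≤ b → Subsingleton (E W (Dual.HD A X q) (i + q))) : Subsingleton (X ⟶ W⟦i⟧) := by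
  refine vanish (b + 1 - a).toNat a X hge ((ts A).isLE_of_le X b _ (by omega)) i fun q hq hq' => ?_
  rcases le_or_gt q b with hqb | hqb
  · exact h q hq hqb
  · haveI := ModuleCat.subsingleton_of_isZero (isZero_of_isLE X b q hqb)
    exact subsingleton_of_subsingleton W _

/-- If `a` kills `Hom(X, W⟦i⟧)`, and the neighbouring cohomology contributes nothing, `a` kills
`Hom(H^n X, W⟦i+n⟧)`. -/
theorem smul_eq_zero_of_hom (X : Dual.D A) (n i j : ℤ) (hj : i + n = j) (a : A)
    (hX : ∀ φ : X ⟶ W⟦i⟧, a • φ = 0)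
    (hlo : Subsingleton (((ts A).truncLT n).obj X ⟶ W⟦i - 1⟧))
    (hhi : Subsingleton (((ts A).truncGE (n + 1)).obj (((ts A).truncGE n).obj X) ⟶ W⟦i + 1⟧))
    (φ : E W (Dual.HD A X n) j) : a • φ = 0 := by
  let Y := ((ts A).truncGE n).obj X
  have hY : ∀ ψ : Y ⟶ W⟦i⟧, a • ψ = 0 := fun ψ => by
    refine injective_pre_truncGE X n i hlo ?_
    rw [map_smul, map_zero, hX]
  let Z := ((ts A).truncLT (n + 1)).obj Y
  haveI : Y.IsGE n := inferInstance
  haveI : Z.IsLE n := (ts A).isLE_truncLT_obj _ _ _ (by omega)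
  haveI : Z.IsGE n := inferInstance
  have hZ : ∀ ψ : Z ⟶ W⟦i⟧, a • ψ = 0 := fun ψ => by
    obtain ⟨χ, rfl⟩ := surjective_pre_truncLT Y (n + 1) i hhi ψ
    rw [← map_smul, hY, map_zero]
  obtain ⟨e⟩ := exists_single_iso Z n
  let eH : Dual.HD A X n ≃ₗ[A] Dual.HD A Z n :=
    (hTruncGE X n n le_rfl).trans (hTruncLT Y (n + 1) n (by omega)).symm
  obtain ⟨ψ, rfl⟩ := (econgr W eH j).surjective φ
  obtain ⟨χ, rfl⟩ := (singleHom W (ModuleCat.of A (Dual.HD A Z n)) n i j hj).surjective ψ
  obtain ⟨ρ, rfl⟩ := (homCongr W e i).surjective χ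
  rw [← map_smul, ← map_smul, ← map_smul, hZ, map_zero, map_zero, map_zero]

section Covariant

variable {F : Dual.D A}

/-- If `F` only sees cohomology in degrees `> c`, then the annihilators of cohomology in degrees `(c, c+n]`
kill maps into an object in degrees `≤ c + n`. -/
theorem smul_eq_zero_into (c : ℤ) (hF : ∀ Y : Dual.D A, Y.IsLE c → ∀ φ : F ⟶ Y, φ = 0) :
    ∀ (n : ℕ) (Y : Dual.D A), Y.IsLE (c + n) → ∀ a ∈ ∏ j ∈ Finset.range n, Module.annihilator A (Dual.HD A Y (c + 1 + j)),
      ∀ φ : F ⟶ Y, a • φ = 0 := by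
  intro n
  induction n with
  | zero =>
    intro Y hY a _ φ
    rw [hF Y (by simpa using hY) φ, smul_zero]
  | succ n ih =>
    intro Y hY a ha
    rw [Finset.prod_range_succ] at ha
    induction ha using Submodule.mul_induction_on' with
    | mem_mul_mem x hx y hy =>
      intro φ
      haveI : Y.IsLE (c + 1 + n) := by
        have : c + ((n + 1 : ℕ) : ℤ) = c + 1 + n := by push_cast; omega
        exact this ▸ hY
      let b : ℤ := c + 1 + n
      haveI : (((ts A).truncGE b).obj Y).IsGE b := inferInstance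
      haveI : (((ts A).truncGE b).obj Y).IsLE b := inferInstance
      have hy' : y • 𝟙 (((ts A).truncGE b).obj Y) = 0 := by
        refine DCat.eq_zero_of_homology_map_eq_zero _ b ?_
        rw [DCat.DC.homologyFunctor_map_smul_id]
        refine ModuleCat.hom_ext (LinearMap.ext fun z => ?_)
        obtain ⟨z, rfl⟩ := (hTruncGE Y b b le_rfl).surjective z
        show y • (hTruncGE Y b b le_rfl) z = 0
        rw [← map_smul, Module.mem_annihilator.1 hy z, map_zero]
      have h1 : (y • φ) ≫ ((ts A).truncGEπ b).app Y = 0 := by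
        calc (y • φ) ≫ ((ts A).truncGEπ b).app Y = φ ≫ ((ts A).truncGEπ b).app Y ≫ (y • 𝟙 _) := by
              rw [Linear.smul_comp, Linear.comp_smul, Linear.comp_smul, Category.comp_id]
          _ = 0 := by rw [hy', comp_zero, comp_zero]
      obtain ⟨g, hg⟩ := Triangle.coyoneda_exact₂ _ ((ts A).triangleLTGE_distinguished b Y) (y • φ) h1
      haveI : (((ts A).truncLT b).obj Y).IsLE (c + n) := (ts A).isLE_truncLT_obj _ _ _ (by omega)
      have hx' : x ∈ ∏ j ∈ Finset.range n, Module.annihilator A (Dual.HD A (((ts A).truncLT b).obj Y) (c + 1 + j)) := by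
        rw [Finset.prod_congr (s₁ := Finset.range n) rfl fun j hj => (hTruncLT Y b (c + 1 + (j : ℤ))
          (by have := Finset.mem_range.1 hj; omega)).annihilator_eq]
        exact hx
      rw [mul_smul, hg, ← Linear.smul_comp, ih _ inferInstance x hx' g, zero_comp]
    | add x _ y _ hx hy =>
      intro φ
      rw [add_smul, hx φ, hy φ, add_zero]

end Covariant

end Groth.Agent.DualLib
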