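import Groth.Agent.DualLib.Self
import Groth.Agent.DualLib.Trunc
import Groth.Agent.DCat.SuppOpen
import Mathlib.RingTheory.LocalRing.ResidueField.Basic

/-! An object with one-dimensional `Hom(-, k)` in a single degree is free of rank one. -/

set_option autoImplicit false
set_option backward.isDefEq.respectTransparency false
set_option backward.defeqAttrib.useBackward true
set_option linter.style.haveILetI false

universe u

open CategoryTheory CategoryTheory.Limits CategoryTheory.Pretriangulated DerivedCategory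

attribute [local instance] HasDerivedCategory.standard

namespace Groth.Agent.DualLib

variable {A : Type u} [CommRing A] [IsLocalRing A]

/-- The residue field in degree zero. -/
noncomputable abbrev kD (A : Type u) [CommRing A] [IsLocalRing A] : Dual.D A :=
  Dual.inD A (IsLocalRing.ResidueField A)

/-- A linear map as an element of `E`. -/
noncomputable def toE {M N : Type u} [AddCommGroup M] [Module A M] [AddCommGroup N] [Module A N] (f : M →ₗ[A] N) :
    E (Dual.inD A N) M 0 :=
  (S0 A).map (ModuleCat.ofHom f) ≫ (shiftFunctorZero (Dual.D A) ℤ).inv.app (Dual.inD A N)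

omit [IsLocalRing A] in
lemma toE_ne_zero {M N : Type u} [AddCommGroup M] [Module A M] [AddCommGroup N] [Module A N] {f : M →ₗ[A] N}
    (hf : f ≠ 0) : toE f ≠ 0 := fun h => by
  apply hf
  rw [toE] at h
  have h1 := congrArg (fun t => t ≫ (shiftFunctorZero (Dual.D A) ℤ).hom.app (Dual.inD A N)) h
  simp only [Category.assoc, Iso.inv_hom_id_app, zero_comp] at h1
  erw [Category.comp_id] at h1
  exact congrArg ModuleCat.Hom.hom ((S0 A).map_injective (h1.trans (Functor.map_zero _ _ _).symm))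

lemma exists_to_residue (M : Type u) [AddCommGroup M] [Module A M] [Module.Finite A M] [Nontrivial M] :
    ∃ f : M →ₗ[A] IsLocalRing.ResidueField A, f ≠ 0 := by
  obtain ⟨N, hN⟩ := IsCoatomic.exists_coatom (Submodule A M)
  haveI : IsSimpleModule A (M ⧸ N) := isSimpleModule_iff_isCoatom.2 hN
  obtain ⟨m, hm, ⟨e⟩⟩ := isSimpleModule_iff_quot_maximal.1 ‹IsSimpleModule A (M ⧸ N)›
  obtain rfl := IsLocalRing.eq_maximalIdeal hm
  refine ⟨e.toLinearMap ∘ₗ N.mkQ, fun h => ?_⟩
  haveI := IsSimpleModule.nontrivial A (M ⧸ N)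
  obtain ⟨y, hy⟩ := exists_ne (0 : M ⧸ N)
  obtain ⟨x, rfl⟩ := N.mkQ_surjective y
  exact hy (e.map_eq_zero_iff.1 (LinearMap.congr_fun h x))

lemma subsingleton_of_hom_residue (M : Type u) [AddCommGroup M] [Module A M] [Module.Finite A M]
    (h : Subsingleton (E (kD A) M 0)) : Subsingleton M := by
  by_contra hc
  rw [not_subsingleton_iff_nontrivial] at hc
  obtain ⟨f, hf⟩ := exists_to_residue (A := A) M
  exact toE_ne_zero hf (Subsingleton.elim _ _)

lemma subsingleton_hom_kD_of_isLE (X : Dual.D A) (p i : ℤ) [X.IsLE p] (h : p + i < 0) :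
    Subsingleton (X ⟶ (kD A)⟦i⟧) := by
  haveI : ((kD A)⟦i⟧).IsGE (-i) := (ts A).isGE_shift (kD A) 0 i (-i) (by omega)
  exact subsingleton_of_forall_eq 0 fun φ => (ts A).zero φ p (-i) (by omega)

variable [IsNoetherianRing A]

omit [IsNoetherianRing A] in
/-- The top cohomology module is seen by maps to `k`. -/
lemma subsingleton_top (Y : Dual.D A) (q : ℤ) [Y.IsLE q] [Module.Finite A (Dual.HD A Y q)]
    (h : Subsingleton (Y ⟶ (kD A)⟦-q⟧)) : Subsingleton (Dual.HD A Y q) := by
  haveI : (((ts A).truncLT q).obj Y).IsLE (q - 1) := (ts A).isLE_truncLT_obj _ _ _ (by omega)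
  haveI : Subsingleton ((𝟭 (Dual.D A)).obj Y ⟶ (kD A)⟦-q⟧) := h
  haveI : Subsingleton (((ts A).truncGE q).obj Y ⟶ (kD A)⟦-q⟧) :=
    (injective_pre_truncGE (W := kD A) Y q (-q) (subsingleton_hom_kD_of_isLE _ (q - 1) _ (by omega))).subsingleton
  haveI : (((ts A).truncGE q).obj Y).IsLE q := inferInstance
  haveI : (((ts A).truncGE q).obj Y).IsGE q := inferInstance
  obtain ⟨e⟩ := exists_single_iso (((ts A).truncGE q).obj Y) q
  haveI := (homCongr (kD A) e (-q)).symm.injective.subsingleton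
  haveI := (singleHom (kD A) (ModuleCat.of A (Dual.HD A (((ts A).truncGE q).obj Y) q)) q (-q) 0
    (by omega)).symm.injective.subsingleton
  haveI : Module.Finite A (Dual.HD A (((ts A).truncGE q).obj Y) q) := Module.Finite.equiv (hTruncGE Y q q le_rfl)
  haveI := subsingleton_of_hom_residue (Dual.HD A (((ts A).truncGE q).obj Y) q) ‹_›
  exact (hTruncGE Y q q le_rfl).injective.subsingleton

omit [IsNoetherianRing A] in
/-- Lowering the top degree. -/
lemma isLE_of_noHom (Y : Dual.D A) (hfin : ∀ q, Module.Finite A (Dual.HD A Y q)) :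
    ∀ (n : ℕ) (c : ℤ), Y.IsLE (c + n) → (∀ j : ℤ, j < -c → Subsingleton (Y ⟶ (kD A)⟦j⟧)) → Y.IsLE c := by
  intro n
  induction n with
  | zero => intro c h _; simpa using h
  | succ n ih =>
    intro c h hj
    haveI : Y.IsLE (c + 1 + n) := (ts A).isLE_of_le Y (c + (n + 1 : ℕ)) _ (by push_cast; omega)
    haveI := ih (c + 1) inferInstance fun j hj' => hj j (by omega)
    haveI := hfin (c + 1)
    haveI := subsingleton_top Y (c + 1) (hj _ (by omega))
    refine (DRingLib.isLE_iff_HD Y c).2 fun q hq => ?_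
    rcases eq_or_ne q (c + 1) with rfl | hne
    · assumption
    · exact (DRingLib.isLE_iff_HD Y (c + 1)).1 inferInstance q (by omega)

omit [IsNoetherianRing A] in
/-- Derived Nakayama. -/
lemma isZero_of_noHom (Y : Dual.D A) (b : ℤ) [Y.IsLE b] (hfin : ∀ q, Module.Finite A (Dual.HD A Y q))
    (hj : ∀ j : ℤ, Subsingleton (Y ⟶ (kD A)⟦j⟧)) : IsZero Y :=
  DCat.SuppOpen.isZero_of_hd Y fun q => by
    haveI : Y.IsLE (q - 1) :=
      isLE_of_noHom Y hfin (b - (q - 1)).toNat (q - 1) ((ts A).isLE_of_le Y b _ (by omega)) fun j _ => hj j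
    exact isZero_of_isLE Y (q - 1) q (by omega)

omit [IsLocalRing A] [IsNoetherianRing A] in
lemma finite_HD_self (q : ℤ) : Module.Finite A (Dual.HD A (Dual.inD A A) q) := by
  rcases eq_or_ne q 0 with rfl | hq
  · haveI : Module.Finite A ((𝟭 (ModuleCat.{u} A)).obj (ModuleCat.of A A)) := Module.Finite.self A
    exact Module.Finite.equiv ((singleFunctorCompHomologyFunctorIso (ModuleCat.{u} A) 0).app
      (ModuleCat.of A A)).toLinearEquiv.symm
  · haveI := hd_single_subsingleton (A := A) A q hq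
    infer_instance

omit [IsNoetherianRing A] in
lemma hd_kD : Nonempty (E (kD A) A 0 ≃ₗ[A] IsLocalRing.ResidueField A) :=
  ⟨eSelf (kD A) 0 ≪≫ₗ ((singleFunctorCompHomologyFunctorIso (ModuleCat.{u} A) 0).app
    (ModuleCat.of A (IsLocalRing.ResidueField A))).toLinearEquiv⟩

/-- An object with `Hom(G, k⟦j⟧)` equal to `k` for `j = 0` and zero otherwise is `A`. -/
theorem exists_iso_self_of_hom_residue (G : Dual.D A) (b : ℤ) [G.IsLE b]
    (hfin : ∀ q, Module.Finite A (Dual.HD A G q))
    (hvan : ∀ j : ℤ, j ≠ 0 → Subsingleton (G ⟶ (kD A)⟦j⟧))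
    (hone : Nonempty ((G ⟶ (kD A)⟦(0 : ℤ)⟧) ≃ₗ[A] IsLocalRing.ResidueField A)) :
    Nonempty (G ≅ Dual.inD A A) := by
  haveI hG : G.IsLE 0 :=
    isLE_of_noHom G hfin b.toNat 0 ((ts A).isLE_of_le G b _ (by omega)) fun j hj => hvan j (by omega)
  obtain ⟨e1⟩ := hone
  obtain ⟨e2⟩ := hd_kD (A := A)
  haveI hsimp : IsSimpleModule A (IsLocalRing.ResidueField A) :=
    isSimpleModule_iff_quot_maximal.2 ⟨_, IsLocalRing.maximalIdeal.isMaximal A, ⟨LinearEquiv.refl A _⟩⟩
  haveI : IsSimpleModule A (G ⟶ (kD A)⟦(0 : ℤ)⟧) := IsSimpleModule.congr e1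
  haveI : IsSimpleModule A (E (kD A) A 0) := IsSimpleModule.congr e2
  let T := ((ts A).truncGE 0).obj G
  haveI : T.IsLE 0 := inferInstance
  haveI : T.IsGE 0 := inferInstance
  obtain ⟨eT⟩ := exists_single_iso T 0
  let H := Dual.HD A T 0
  haveI : Module.Finite A H := haveI := hfin 0; Module.Finite.equiv (hTruncGE G 0 0 le_rfl)
  haveI : Nontrivial H := by
    by_contra hc
    rw [not_nontrivial_iff_subsingleton] at hc
    haveI : Subsingleton (Dual.HD A G 0) := (hTruncGE G 0 0 le_rfl).injective.subsingleton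
    haveI : G.IsLE (-1) := (DRingLib.isLE_iff_HD G (-1)).2 fun q hq => by
      rcases eq_or_ne q 0 with rfl | hne
      · assumption
      · exact (DRingLib.isLE_iff_HD G 0).1 inferInstance q (by omega)
    haveI := subsingleton_hom_kD_of_isLE G (-1) 0 (by omega)
    exact IsSimpleModule.nontrivial A (G ⟶ (kD A)⟦(0 : ℤ)⟧) |> not_nontrivial_iff_subsingleton.2 ‹_›
  obtain ⟨g, hg⟩ := exists_to_residue (A := A) H
  obtain ⟨x, hx⟩ : ∃ x, g x ≠ 0 := by
    by_contra! hc
    exact hg (LinearMap.ext hc)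
  let a : Dual.inD A A ⟶ T := (S0 A).map (ModuleCat.ofHom (LinearMap.toSpanSingleton A H x)) ≫ eT.hom
  haveI : (((ts A).truncLT 0).obj G).IsLE (-1) := (ts A).isLE_truncLT_obj _ _ _ (by omega)
  haveI : Subsingleton (Dual.inD A A ⟶ (((ts A).truncLT 0).obj G)⟦(1 : ℤ)⟧) :=
    haveI : Subsingleton (Dual.HD A (((ts A).truncLT 0).obj G) 1) :=
      (DRingLib.isLE_iff_HD _ (-1)).1 inferInstance 1 (by omega)
    (eSelf (((ts A).truncLT 0).obj G) 1).injective.subsingleton
  obtain ⟨φ, hφ⟩ : ∃ φ : Dual.inD A A ⟶ G, a = φ ≫ ((ts A).truncGEπ 0).app G :=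
    Triangle.coyoneda_exact₃ _ ((ts A).triangleLTGE_distinguished 0 G) a
      (Subsingleton.elim (α := Dual.inD A A ⟶ (((ts A).truncLT 0).obj G)⟦(1 : ℤ)⟧) _ _)
  have hne : pre (kD A) φ 0 ≠ 0 := fun h0 => by
    have h1 := LinearMap.congr_fun h0 (((ts A).truncGEπ 0).app G ≫ eT.inv ≫ toE g)
    change φ ≫ ((ts A).truncGEπ 0).app G ≫ eT.inv ≫ toE g = 0 at h1
    rw [← reassoc_of% hφ] at h1
    refine toE_ne_zero (f := g ∘ₗ LinearMap.toSpanSingleton A H x) (fun hh => hx ?_) ?_
    · simpa using LinearMap.congr_fun hh 1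
    · rw [← h1]
      simp only [a, toE, ModuleCat.ofHom_comp, Functor.map_comp, Category.assoc, Iso.hom_inv_id_assoc]
  have hbij := LinearMap.bijective_of_ne_zero hne
  obtain ⟨C, g', d, hT⟩ := distinguished_cocone_triangle φ
  have hC0 : ∀ q : ℤ, 0 < q → Subsingleton (Dual.HD A C q) := fun q hq => by
    have hex := HomologySequence.exact₃ _ hT q (q + 1) rfl
    rw [ShortComplex.ShortExact.moduleCat_exact_iff_function_exact] at hex
    haveI : Subsingleton (Dual.HD A G q) := (DRingLib.isLE_iff_HD G 0).1 hG q hq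
    haveI : Subsingleton (Dual.HD A (Dual.inD A A) (q + 1)) := hd_single_subsingleton A (q + 1) (by omega)
    refine subsingleton_of_forall_eq 0 fun z => ?_
    obtain ⟨w, rfl⟩ := (hex z).1 (Subsingleton.elim (α := Dual.HD A (Dual.inD A A) (q + 1)) _ _)
    exact (congrArg _ (Subsingleton.elim (α := Dual.HD A G q) w 0)).trans (map_zero _)
  haveI : C.IsLE 0 := (DRingLib.isLE_iff_HD C 0).2 hC0
  have hCfin : ∀ q, Module.Finite A (Dual.HD A C q) := fun q => by
    have hex := HomologySequence.exact₃ _ hT q (q + 1) rfl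
    rw [ShortComplex.ShortExact.moduleCat_exact_iff_function_exact] at hex
    haveI : Module.Finite A ((homologyFunctor (ModuleCat.{u} A) q).obj (Triangle.mk φ g' d).obj₂) := hfin q
    haveI : Module.Finite A ((homologyFunctor (ModuleCat.{u} A) (q + 1)).obj (Triangle.mk φ g' d).obj₁) :=
      finite_HD_self (q + 1)
    exact finite_of_exact _ _ hex
  have hC : IsZero C := isZero_of_noHom C 0 hCfin fun j => subsingleton_of_forall_eq 0 fun ξ => by
    have h1 : pre (kD A) g' j ξ = 0 := by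
      rcases eq_or_ne j 0 with rfl | hj
      · refine hbij.1 ?_
        rw [map_zero]
        exact (exact_pre (W := kD A) _ hT 0).apply_apply_eq_zero ξ
      · haveI := hvan j hj
        exact Subsingleton.elim _ _
    obtain ⟨η, rfl⟩ := (exact_delta_pre (W := kD A) _ hT (j - 1) j (by omega) ξ).1 h1
    rcases eq_or_ne (j - 1) 0 with hj | hj
    · have hs : ∀ i : ℤ, i = 0 → Function.Surjective (pre (kD A) φ i) := by
        rintro i rfl
        exact hbij.2
      obtain ⟨ζ, rfl⟩ : ∃ ζ, pre (kD A) φ (j - 1) ζ = η := hs _ hj η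
      exact (exact_pre_delta (W := kD A) _ hT (j - 1) j (by omega)).apply_apply_eq_zero ζ
    · haveI : Subsingleton (Dual.inD A A ⟶ (kD A)⟦j - 1⟧) :=
        haveI := hd_single_subsingleton (A := A) (IsLocalRing.ResidueField A) (j - 1) hj
        (eSelf (kD A) (j - 1)).injective.subsingleton
      exact (congrArg _ (Subsingleton.elim (α := Dual.inD A A ⟶ (kD A)⟦j - 1⟧) η 0)).trans (map_zero _)
  haveI : IsIso φ := (Triangle.isZero₃_iff_isIso₁ _ hT).1 hC
  exact ⟨(asIso φ).symm⟩

end Groth.Agent.DualLib
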