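import Groth.Agent.DRingLib.PCGen
import Groth.Agent.DCat.ProjHomology
import Groth.Agent.DCat.DCNakayama
import Mathlib.Algebra.Homology.DerivedCategory.SingleTriangle
import Mathlib.RingTheory.Ideal.AssociatedPrime.Finiteness

/-! The modules `Hom_{D(A)}(M, ω⟦i⟧)`: long exact sequences, finiteness. -/

set_option autoImplicit false
set_option backward.isDefEq.respectTransparency false
set_option backward.defeqAttrib.useBackward true
set_option linter.style.haveILetI false

universe u

open CategoryTheory CategoryTheory.Limits CategoryTheory.Pretriangulated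

attribute [local instance] HasDerivedCategory.standard

namespace Groth.Agent.DualLib

variable {A : Type u} [CommRing A]

/-- The singleton functor in degree zero. -/
noncomputable abbrev S0 (A : Type u) [CommRing A] : ModuleCat.{u} A ⥤ Dual.D A :=
  DerivedCategory.singleFunctor (ModuleCat.{u} A) 0

section Triangle

variable (W : Dual.D A)

/-- Precomposition. -/
noncomputable abbrev pre {X Y : Dual.D A} (f : X ⟶ Y) (i : ℤ) : (Y ⟶ W⟦i⟧) →ₗ[A] (X ⟶ W⟦i⟧) :=
  Linear.leftComp A (W⟦i⟧) f

/-- The connecting map. -/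
noncomputable def delta (T : Triangle (Dual.D A)) (i j : ℤ) (h : i + 1 = j) :
    (T.obj₁ ⟶ W⟦i⟧) →ₗ[A] (T.obj₃ ⟶ W⟦j⟧) where
  toFun φ := T.mor₃ ≫ φ⟦(1 : ℤ)⟧' ≫ (shiftFunctorAdd' (Dual.D A) i 1 j h).inv.app W
  map_add' φ ψ := by simp
  map_smul' a φ := by
    show T.mor₃ ≫ (shiftFunctor (Dual.D A) (1 : ℤ)).map (a • φ) ≫ _ = a • (T.mor₃ ≫ _)
    rw [Functor.map_smul, Linear.smul_comp, Linear.comp_smul]

variable {W}
variable (T : Triangle (Dual.D A)) (hT : T ∈ distinguishedTriangles)
include hT

lemma exact_pre (i : ℤ) : Function.Exact (pre W T.mor₂ i) (pre W T.mor₁ i) := by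
  intro φ
  constructor
  · intro h
    obtain ⟨g, hg⟩ := Triangle.yoneda_exact₂ T hT φ h
    exact ⟨g, hg.symm⟩
  · rintro ⟨g, rfl⟩
    show T.mor₁ ≫ T.mor₂ ≫ g = 0
    rw [comp_distTriang_mor_zero₁₂_assoc T hT, zero_comp]

lemma exact_pre_delta (i j : ℤ) (h : i + 1 = j) : Function.Exact (pre W T.mor₁ i) (delta W T i j h) := by
  intro φ
  constructor
  · intro e
    have e' : T.mor₃ ≫ φ⟦(1 : ℤ)⟧' = 0 := by
      rw [← cancel_mono ((shiftFunctorAdd' (Dual.D A) i 1 j h).inv.app W), zero_comp, Category.assoc]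
      exact e
    obtain ⟨g, hg⟩ := Triangle.yoneda_exact₃ _ (rot_of_distTriang _ hT) (φ⟦(1 : ℤ)⟧') e'
    obtain ⟨ψ, rfl⟩ := (shiftFunctor (Dual.D A) (1 : ℤ)).map_surjective g
    refine ⟨-ψ, (shiftFunctor (Dual.D A) (1 : ℤ)).map_injective ?_⟩
    rw [hg]
    show (T.mor₁ ≫ (-ψ))⟦(1 : ℤ)⟧' = (-T.mor₁⟦(1 : ℤ)⟧') ≫ ψ⟦(1 : ℤ)⟧'
    simp
  · rintro ⟨ψ, rfl⟩
    show T.mor₃ ≫ (T.mor₁ ≫ ψ)⟦(1 : ℤ)⟧' ≫ _ = 0
    rw [Functor.map_comp, Category.assoc, comp_distTriang_mor_zero₃₁_assoc T hT, zero_comp]

lemma exact_delta_pre (i j : ℤ) (h : i + 1 = j) : Function.Exact (delta W T i j h) (pre W T.mor₂ j) := by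
  intro φ
  constructor
  · intro e
    obtain ⟨g, hg⟩ := Triangle.yoneda_exact₃ T hT φ e
    obtain ⟨ψ, hψ⟩ := (shiftFunctor (Dual.D A) (1 : ℤ)).map_surjective
      (g ≫ (shiftFunctorAdd' (Dual.D A) i 1 j h).hom.app W)
    refine ⟨ψ, ?_⟩
    show T.mor₃ ≫ ψ⟦(1 : ℤ)⟧' ≫ _ = φ
    rw [hψ, hg, Category.assoc, Iso.hom_inv_id_app]
    congr 1
    exact Category.comp_id g
  · rintro ⟨ψ, rfl⟩
    show T.mor₂ ≫ T.mor₃ ≫ _ = 0
    rw [comp_distTriang_mor_zero₂₃_assoc T hT, zero_comp]

end Triangle

/-- `Hom_{D(A)}(M, W⟦i⟧)`. -/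
abbrev E (W : Dual.D A) (M : Type u) [AddCommGroup M] [Module A M] (i : ℤ) : Type _ :=
  Dual.inD A M ⟶ W⟦i⟧

section Functoriality

variable (W : Dual.D A)
variable {M N P : Type u} [AddCommGroup M] [Module A M] [AddCommGroup N] [Module A N] [AddCommGroup P] [Module A P]

/-- Functoriality in the module. -/
noncomputable def emap (f : M →ₗ[A] N) (i : ℤ) : E W N i →ₗ[A] E W M i :=
  pre W ((S0 A).map (ModuleCat.ofHom f)) i

lemma emap_apply (f : M →ₗ[A] N) (i : ℤ) (φ : E W N i) :
    emap W f i φ = (S0 A).map (ModuleCat.ofHom f) ≫ φ := rfl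

lemma emap_id (i : ℤ) : emap W (LinearMap.id : M →ₗ[A] M) i = LinearMap.id := by
  ext φ
  rw [emap_apply, show ModuleCat.ofHom (LinearMap.id : M →ₗ[A] M) = 𝟙 _ from rfl, CategoryTheory.Functor.map_id]
  exact Category.id_comp φ

lemma emap_comp (f : M →ₗ[A] N) (g : N →ₗ[A] P) (i : ℤ) :
    emap W (g ∘ₗ f) i = emap W f i ∘ₗ emap W g i := by
  ext φ
  rw [LinearMap.comp_apply, emap_apply, emap_apply, emap_apply,
    show ModuleCat.ofHom (g ∘ₗ f) = ModuleCat.ofHom f ≫ ModuleCat.ofHom g from rfl, Functor.map_comp,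
    Category.assoc]

lemma emap_smul (a : A) (f : M →ₗ[A] N) (i : ℤ) : emap W (a • f) i = a • emap W f i := by
  ext φ
  rw [LinearMap.smul_apply, emap_apply, emap_apply,
    show ModuleCat.ofHom (a • f) = a • ModuleCat.ofHom f from rfl, Functor.map_smul, Linear.smul_comp]

lemma emap_zero (i : ℤ) : emap W (0 : M →ₗ[A] N) i = 0 := by
  have := emap_smul W (0 : A) (0 : M →ₗ[A] N) i
  simpa using this

lemma emap_smul_id (a : A) (i : ℤ) (φ : E W M i) : emap W (a • (LinearMap.id : M →ₗ[A] M)) i φ = a • φ := by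
  rw [emap_smul, emap_id]; rfl

/-- An element of `A` killing `M` kills `Hom(M, W⟦i⟧)`. -/
lemma smul_eq_zero_of_kills (a : A) (ha : ∀ m : M, a • m = 0) (i : ℤ) (φ : E W M i) : a • φ = 0 := by
  rw [← emap_smul_id, show a • (LinearMap.id : M →ₗ[A] M) = 0 from LinearMap.ext ha, emap_zero]; rfl

lemma annihilator_le_annihilator (i : ℤ) : Module.annihilator A M ≤ Module.annihilator A (E W M i) := fun a ha =>
  Module.mem_annihilator.2 fun φ => smul_eq_zero_of_kills W a (fun m => Module.mem_annihilator.1 ha m) i φ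

lemma subsingleton_of_subsingleton [Subsingleton M] (i : ℤ) : Subsingleton (E W M i) := by
  refine subsingleton_of_forall_eq 0 fun φ => ?_
  rw [← one_smul A φ, smul_eq_zero_of_kills W 1 (fun m => Subsingleton.elim _ _)]

/-- Invariance under isomorphism. -/
noncomputable def econgr (e : M ≃ₗ[A] N) (i : ℤ) : E W N i ≃ₗ[A] E W M i :=
  LinearEquiv.ofLinear (emap W e.toLinearMap i) (emap W e.symm.toLinearMap i)
    (by rw [← emap_comp, show e.symm.toLinearMap ∘ₗ e.toLinearMap = LinearMap.id from
      LinearMap.ext e.symm_apply_apply, emap_id])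
    (by rw [← emap_comp, show e.toLinearMap ∘ₗ e.symm.toLinearMap = LinearMap.id from
      LinearMap.ext e.apply_symm_apply, emap_id])

section Exact

variable {W}
variable {f : M →ₗ[A] N} {g : N →ₗ[A] P} (hf : Function.Injective f) (hg : Function.Surjective g)
  (hfg : Function.Exact f g)
include hf hg hfg

lemma shortExact : (ShortComplex.mk (ModuleCat.ofHom f) (ModuleCat.ofHom g)
    (ModuleCat.hom_ext (LinearMap.ext fun m => hfg.apply_apply_eq_zero m))).ShortExact :=
  ModuleCat.shortComplex_shortExact _ hfg hf hg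

lemma exact_emap (i : ℤ) : Function.Exact (emap W g i) (emap W f i) :=
  exact_pre _ (shortExact hf hg hfg).singleTriangle_distinguished i

/-- The long exact sequence. -/
lemma exists_delta (i j : ℤ) (h : i + 1 = j) :
    ∃ d : E W M i →ₗ[A] E W P j, Function.Exact (emap W f i) d ∧ Function.Exact d (emap W g j) :=
  ⟨delta W (shortExact hf hg hfg).singleTriangle i j h,
    exact_pre_delta (W := W) _ (shortExact hf hg hfg).singleTriangle_distinguished i j h,
    exact_delta_pre (W := W) _ (shortExact hf hg hfg).singleTriangle_distinguished i j h⟩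

lemma subsingleton_mid (i : ℤ) (h₁ : Subsingleton (E W M i)) (h₃ : Subsingleton (E W P i)) :
    Subsingleton (E W N i) :=
  subsingleton_of_forall_eq 0 fun φ => by
    obtain ⟨ψ, rfl⟩ := (exact_emap hf hg hfg i φ).1 (Subsingleton.elim _ _)
    rw [Subsingleton.elim ψ 0, map_zero]

lemma surjective_emap (i : ℤ) (h₃ : Subsingleton (E W P (i + 1))) : Function.Surjective (emap W f i) := fun φ => by
  obtain ⟨d, hd, -⟩ := exists_delta hf hg hfg (W := W) i (i + 1) rfl
  exact (hd φ).1 (Subsingleton.elim _ _)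

lemma injective_emap (i : ℤ) (h₁ : Subsingleton (E W M (i - 1))) : Function.Injective (emap W g i) := by
  rw [injective_iff_map_eq_zero]
  intro φ hφ
  obtain ⟨d, -, hd⟩ := exists_delta hf hg hfg (W := W) (i - 1) i (by omega)
  obtain ⟨ψ, rfl⟩ := (hd φ).1 hφ
  rw [Subsingleton.elim ψ 0, map_zero]

lemma subsingleton_left (i : ℤ) (h₂ : Subsingleton (E W N i)) (h₃ : Subsingleton (E W P (i + 1))) :
    Subsingleton (E W M i) :=
  (surjective_emap hf hg hfg i h₃).subsingleton

lemma subsingleton_right (i : ℤ) (h₂ : Subsingleton (E W N i)) (h₁ : Subsingleton (E W M (i - 1))) :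
    Subsingleton (E W P i) :=
  (injective_emap hf hg hfg i h₁).subsingleton

end Exact

end Functoriality

lemma finite_of_exact {M N P : Type*} [AddCommGroup M] [Module A M] [AddCommGroup N] [Module A N] [AddCommGroup P]
    [Module A P] [IsNoetherianRing A] (f : M →ₗ[A] N) (g : N →ₗ[A] P) (hfg : Function.Exact f g)
    [Module.Finite A M] [Module.Finite A P] : Module.Finite A N := by
  haveI : IsNoetherian A P := isNoetherian_of_isNoetherianRing_of_finite A P
  refine ⟨Submodule.fg_of_fg_map_of_fg_inf_ker g (IsNoetherian.noetherian _) ?_⟩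
  rw [top_inf_eq, LinearMap.exact_iff.1 hfg, LinearMap.range_eq_map]
  exact Module.Finite.fg_top.map f

section Homology

variable (W : Dual.D A)

/-- `Hom(A, W⟦i⟧) = H^i(W)`. -/
noncomputable def eSelf (i : ℤ) : E W A i ≃ₗ[A] Dual.HD A W i :=
  LinearEquiv.ofBijective
    { toFun := fun φ => (DCat.ProjHomology.toH φ ≫
        ((DerivedCategory.homologyFunctor (ModuleCat.{u} A) 0).shiftIso i 0 i (by omega)).hom.app W).hom (1 : A)
      map_add' := fun φ ψ => by
        simp only [DCat.ProjHomology.toH, Functor.map_add, Preadditive.comp_add, Preadditive.add_comp]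
        rfl
      map_smul' := fun a φ => by
        have : a • φ = φ ≫ (a • 𝟙 (W⟦i⟧)) := by rw [Linear.comp_smul, Category.comp_id]
        rw [this, DCat.ProjHomology.toH_comp, DCat.DC.homologyFunctor_map_smul_id, Linear.comp_smul,
          Category.comp_id, Linear.smul_comp]
        rfl }
    (by
      haveI : Projective (ModuleCat.of A A) := ModuleCat.projective_of_categoryTheory_projective _
      have h1 := DCat.ProjHomology.bijective_toH (ModuleCat.of A A) (W⟦i⟧)
      have h2 : Function.Bijective fun g : ModuleCat.of A A ⟶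
          (DerivedCategory.homologyFunctor (ModuleCat.{u} A) 0).obj (W⟦i⟧) =>
            (g ≫ ((DerivedCategory.homologyFunctor (ModuleCat.{u} A) 0).shiftIso i 0 i (by omega)).hom.app W).hom
              (1 : A) := by
        constructor
        · intro g g' e
          refine (cancel_mono (((DerivedCategory.homologyFunctor (ModuleCat.{u} A) 0).shiftIso i 0 i
            (by omega)).hom.app W)).1 (ModuleCat.hom_ext (LinearMap.ext_ring e))
        · intro y
          refine ⟨ModuleCat.ofHom (LinearMap.toSpanSingleton A _ y) ≫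
            ((DerivedCategory.homologyFunctor (ModuleCat.{u} A) 0).shiftIso i 0 i (by omega)).inv.app W, ?_⟩
          simp
      exact h2.comp h1)

variable {W}

lemma finite_pi (hfin : ∀ i : ℤ, Module.Finite A (Dual.HD A W i)) [IsNoetherianRing A] :
    ∀ (n : ℕ) (i : ℤ), Module.Finite A (E W (Fin n → A) i)
  | 0, i => by
    haveI := subsingleton_of_subsingleton W (M := Fin 0 → A) i
    infer_instance
  | n + 1, i => by
    haveI := finite_pi hfin n i
    haveI := hfin i
    haveI : Module.Finite A (E W A i) := Module.Finite.equiv (eSelf W i).symm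
    let f : A →ₗ[A] (Fin (n + 1) → A) := LinearMap.single A (fun _ => A) 0
    let g : (Fin (n + 1) → A) →ₗ[A] (Fin n → A) := LinearMap.funLeft A A Fin.succ
    refine finite_of_exact _ _ (exact_emap (f := f) (g := g) (W := W) (Pi.single_injective (M := fun _ => A) 0)
      (LinearMap.funLeft_surjective_of_injective A A _ (Fin.succ_injective n)) ?_ i)
    intro v
    constructor
    · intro hv
      refine ⟨v 0, funext fun j => ?_⟩
      refine Fin.cases ?_ (fun j => ?_) j
      · simp [f]
      · have := congrFun hv j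
        simp [g, LinearMap.funLeft_apply] at this
        simp [f, this]
    · rintro ⟨a, rfl⟩
      funext j
      simp [f, g, LinearMap.funLeft_apply]

/-- `Hom(M, W⟦i⟧)` is finite for finite `M`, `W` with finite cohomology and `Hom(-, W⟦i⟧) = 0` for `i ≪ 0`. -/
theorem finite_E [IsNoetherianRing A] (hfin : ∀ i : ℤ, Module.Finite A (Dual.HD A W i)) (a : ℤ)
    (ha : ∀ (M : Type u) [AddCommGroup M] [Module A M] [Module.Finite A M] (i : ℤ), i < a → Subsingleton (E W M i)) :
    ∀ (M : Type u) [AddCommGroup M] [Module A M] [Module.Finite A M] (i : ℤ), Module.Finite A (E W M i) := by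
  suffices H : ∀ (n : ℕ) (i : ℤ), i < a + n → ∀ (M : Type u) [AddCommGroup M] [Module A M] [Module.Finite A M],
      Module.Finite A (E W M i) by
    intro M _ _ _ i
    exact H ((i - a).toNat + 1) i (by omega) M
  intro n
  induction n with
  | zero =>
    intro i hi M _ _ _
    haveI := ha M i (by simpa using hi)
    infer_instance
  | succ n ih =>
    intro i hi M _ _ _
    obtain ⟨k, g, hg⟩ := Module.Finite.exists_fin' A M
    haveI : Module.Finite A (LinearMap.ker g) := Module.Finite.of_fg (IsNoetherian.noetherian _)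
    haveI := finite_pi hfin k i
    haveI := ih (i - 1) (by push_cast at hi; omega) (LinearMap.ker g)
    obtain ⟨d, -, hd⟩ := exists_delta (W := W) (Submodule.injective_subtype (LinearMap.ker g)) hg
      (LinearMap.exact_subtype_ker_map g) (i - 1) i (by omega)
    exact finite_of_exact _ _ hd

end Homology

section Dualizing

variable {ω : Dual.D A}

lemma finite (hω : Dual.IsDualizing A ω) (M : Type u) [AddCommGroup M] [Module A M] [Module.Finite A M] (i : ℤ) :
    Module.Finite A (E ω M i) := by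
  haveI := hω.isNoetherianRing
  obtain ⟨a, b, hab⟩ := hω.finite_injective_dimension
  exact finite_E hω.finite_cohomology a (fun N _ _ _ j hj => hab N j (Or.inl hj)) M i

lemma exists_bound (hω : Dual.IsDualizing A ω) : ∃ a b : ℤ, ω.IsGE a ∧ ω.IsLE b := by
  obtain ⟨a, b, hab⟩ := hω.finite_injective_dimension
  exact ⟨a, b, (DRingLib.isGE_iff_HD ω a).2 fun i hi =>
      haveI := hab A i (Or.inl hi)
      (eSelf ω i).symm.injective.subsingleton,
    (DRingLib.isLE_iff_HD ω b).2 fun i hi =>
      haveI := hab A i (Or.inr hi)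
      (eSelf ω i).symm.injective.subsingleton⟩

end Dualizing

end Groth.Agent.DualLib
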