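import Groth.Agent.DualLib.Basic
import Groth.Agent.CAlgSmall.PCZariski
import Groth.Agent.DCat.SuppOpen
import Mathlib.Algebra.Homology.Functor
import Mathlib.CategoryTheory.Localization.Adjunction

/-! Flat base change on derived categories as an exact left adjoint of restriction. -/

set_option autoImplicit false
set_option backward.isDefEq.respectTransparency false
set_option backward.defeqAttrib.useBackward true
set_option linter.style.haveILetI false

universe u

open CategoryTheory CategoryTheory.Limits CategoryTheory.Pretriangulated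

attribute [local instance] HasDerivedCategory.standard

namespace Groth.Agent.DualLib

section

variable {C₁ : Type*} [Category* C₁] [Preadditive C₁] {C₂ : Type*} [Category* C₂] [Preadditive C₂]
  {G : C₁ ⥤ C₂} {F : C₂ ⥤ C₁} [G.Additive] [F.Additive] {ι : Type*} (c : ComplexShape ι)

/-- The adjunction on complexes. -/
noncomputable def adjCx (adj : G ⊣ F) : G.mapHomologicalComplex c ⊣ F.mapHomologicalComplex c where
  unit :=
    { app := fun K => { f := fun n => adj.unit.app (K.X n), comm' := fun i j _ => (adj.unit.naturality (K.d i j)).symm }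
      naturality := fun K L g => by ext n; exact adj.unit.naturality (g.f n) }
  counit :=
    { app := fun K => { f := fun n => adj.counit.app (K.X n), comm' := fun i j _ => (adj.counit.naturality (K.d i j)).symm }
      naturality := fun K L g => by ext n; exact adj.counit.naturality (g.f n) }
  left_triangle_components K := by ext n; exact adj.left_triangle_components (K.X n)
  right_triangle_components K := by ext n; exact adj.right_triangle_components (K.X n)

end

variable {A B : Type u} [CommRing A] [CommRing B] (φ : A →+* B)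

variable [PreservesFiniteLimits (ModuleCat.extendScalars.{u, u, u} φ)]
  [PreservesFiniteColimits (ModuleCat.extendScalars.{u, u, u} φ)]

/-- Flat base change on the derived category. -/
noncomputable abbrev extD : Dual.D A ⥤ Dual.D B := (ModuleCat.extendScalars.{u, u, u} φ).mapDerivedCategory

/-- Flat base change is left adjoint to restriction. -/
noncomputable def adjD : extD φ ⊣ DRing.restrictD φ :=
  letI : CatCommSq ((ModuleCat.extendScalars.{u, u, u} φ).mapHomologicalComplex (ComplexShape.up ℤ)) DerivedCategory.Q DerivedCategory.Q (extD φ) :=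
    ⟨(ModuleCat.extendScalars.{u, u, u} φ).mapDerivedCategoryFactors.symm⟩
  letI : CatCommSq ((ModuleCat.restrictScalars.{u} φ).mapHomologicalComplex (ComplexShape.up ℤ)) DerivedCategory.Q DerivedCategory.Q
      (DRing.restrictD φ) := ⟨(ModuleCat.restrictScalars.{u} φ).mapDerivedCategoryFactors.symm⟩
  (adjCx (ComplexShape.up ℤ) (ModuleCat.extendRestrictScalarsAdj.{u, u, u} φ)).localization
    DerivedCategory.Q (HomologicalComplex.quasiIso (ModuleCat.{u} A) (ComplexShape.up ℤ))
    DerivedCategory.Q (HomologicalComplex.quasiIso (ModuleCat.{u} B) (ComplexShape.up ℤ))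
    (extD φ) (DRing.restrictD φ)

lemma adjD_unit_app (K : DRing.Cx A) :
    (adjD φ).unit.app (DerivedCategory.Q.obj K) =
      DerivedCategory.Q.map ((adjCx (ComplexShape.up ℤ) (ModuleCat.extendRestrictScalarsAdj.{u, u, u} φ)).unit.app K) ≫
        (ModuleCat.restrictScalars.{u} φ).mapDerivedCategoryFactors.inv.app _ ≫
          (DRing.restrictD φ).map ((ModuleCat.extendScalars.{u, u, u} φ).mapDerivedCategoryFactors.inv.app K) := by
  letI : CatCommSq ((ModuleCat.extendScalars.{u, u, u} φ).mapHomologicalComplex (ComplexShape.up ℤ)) DerivedCategory.Q DerivedCategory.Q (extD φ) :=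
    ⟨(ModuleCat.extendScalars.{u, u, u} φ).mapDerivedCategoryFactors.symm⟩
  letI : CatCommSq ((ModuleCat.restrictScalars.{u} φ).mapHomologicalComplex (ComplexShape.up ℤ)) DerivedCategory.Q DerivedCategory.Q
      (DRing.restrictD φ) := ⟨(ModuleCat.restrictScalars.{u} φ).mapDerivedCategoryFactors.symm⟩
  exact Adjunction.localization_unit_app _ _ _ _ _ _ _ K

omit [PreservesFiniteLimits (ModuleCat.extendScalars.{u, u, u} φ)] [PreservesFiniteColimits (ModuleCat.extendScalars.{u, u, u} φ)] in
/-- `restrictD` is semilinear. -/
lemma restrictD_map_smul {X Y : Dual.D B} (a : A) (f : X ⟶ Y) :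
    (DRing.restrictD φ).map (φ a • f) = a • (DRing.restrictD φ).map f := by
  suffices h : ∀ X : Dual.D B, (DRing.restrictD φ).map (φ a • 𝟙 X) = a • 𝟙 ((DRing.restrictD φ).obj X) by
    rw [← Category.comp_id f, ← Linear.comp_smul, Functor.map_comp, Functor.map_comp, h, Linear.comp_smul,
      CategoryTheory.Functor.map_id]
  intro X
  suffices hQ : ∀ K : DRing.Cx B, (DRing.restrictD φ).map (φ a • 𝟙 (DerivedCategory.Q.obj K)) = a • 𝟙 _ by
    let e := DerivedCategory.Q.objObjPreimageIso X
    have hX : φ a • 𝟙 X = e.inv ≫ (φ a • 𝟙 _) ≫ e.hom := by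
      rw [Linear.smul_comp, Category.id_comp, Linear.comp_smul, Iso.inv_hom_id]
    rw [hX, Functor.map_comp, Functor.map_comp, hQ, Linear.smul_comp, Category.id_comp, Linear.comp_smul,
      ← Functor.map_comp, Iso.inv_hom_id, CategoryTheory.Functor.map_id]
  intro K
  rw [← CategoryTheory.Functor.map_id DerivedCategory.Q K, ← Functor.map_smul,
    ← cancel_mono ((ModuleCat.restrictScalars.{u} φ).mapDerivedCategoryFactors.hom.app K), Linear.smul_comp, Category.id_comp]
  refine ((ModuleCat.restrictScalars.{u} φ).mapDerivedCategoryFactors.hom.naturality (φ a • 𝟙 K)).trans ?_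
  have h2 : ((ModuleCat.restrictScalars.{u} φ).mapHomologicalComplex (ComplexShape.up ℤ)).map (φ a • 𝟙 K) = a • 𝟙 _ := by
    ext n : 2
    ext x
    rfl
  show _ ≫ DerivedCategory.Q.map (((ModuleCat.restrictScalars.{u} φ).mapHomologicalComplex (ComplexShape.up ℤ)).map (φ a • 𝟙 K)) = _
  rw [h2, Functor.map_smul, CategoryTheory.Functor.map_id, Linear.comp_smul]
  erw [Category.comp_id]

end Groth.Agent.DualLib
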