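import Groth.Agent.DCat.DTenBase
import Groth.Agent.RelPC.Basic
import Groth.Agent.DualLib.FlatBase
import Groth.Agent.DualLib.Basic

/-! Derived base change as a left adjoint: composition, shifts, semilinearity. -/

set_option autoImplicit false
set_option backward.isDefEq.respectTransparency false
set_option backward.defeqAttrib.useBackward true
set_option linter.style.haveILetI false

universe u

open CategoryTheory CategoryTheory.Limits

attribute [local instance] HasDerivedCategory.standard

namespace Groth.Agent.DualLib.LBC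

open Groth.Agent.DCat

variable {A B C : Type u} [CommRing A] [CommRing B] [CommRing C] (φ : A →+* B)

/-- `L(B ⊗_A -) ⊣ res`. -/
noncomputable def adj [DRing.HasLBaseChange φ] : DRing.LBaseChange φ ⊣ DRing.restrictD φ :=
  let W₁ := HomotopyCategory.quasiIso (ModuleCat.{u} A) (ComplexShape.up ℤ)
  let W₂ := HomotopyCategory.quasiIso (ModuleCat.{u} B) (ComplexShape.up ℤ)
  let a := adjHot (ComplexShape.up ℤ) (ModuleCat.extendRestrictScalarsAdj.{u, u, u} φ)
  let α := (DRing.baseChangeKh φ).totalLeftDerivedCounit DerivedCategory.Qh W₁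
  let rs := ModuleCat.restrictScalars.{u} φ
  let β : rs.mapHomotopyCategory (ComplexShape.up ℤ) ⋙ DerivedCategory.Qh ⟶
      DerivedCategory.Qh ⋙ DRing.restrictD φ := rs.mapDerivedCategoryFactorsh.inv
  have hW₂ : ∀ X : HomotopyCategory (ModuleCat.{u} B) (ComplexShape.up ℤ),
      ∃ (X' : HomotopyCategory (ModuleCat.{u} B) (ComplexShape.up ℤ)) (s : X ⟶ X'),
        (⊤ : ObjectProperty (HomotopyCategory (ModuleCat.{u} B) (ComplexShape.up ℤ))) X' ∧ W₂ s :=
    fun X => ⟨X, 𝟙 X, trivial, W₂.id_mem X⟩
  have hF : ∀ ⦃X Y : HomotopyCategory (ModuleCat.{u} B) (ComplexShape.up ℤ)⦄ (s : X ⟶ Y),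
      (⊤ : ObjectProperty _) X → (⊤ : ObjectProperty _) Y → W₂ s →
        IsIso ((rs.mapHomotopyCategory (ComplexShape.up ℤ) ⋙ DerivedCategory.Qh).map s) := fun X Y s _ _ hs => by
    haveI := Localization.inverts DerivedCategory.Qh W₂ s hs
    exact (NatIso.isIso_map_iff rs.mapDerivedCategoryFactorsh s).1
      (inferInstanceAs (IsIso ((DRing.restrictD φ).map (DerivedCategory.Qh.map s))))
  haveI : (DRing.restrictD φ).IsRightDerivedFunctor β W₂ :=
    isRightDerived_of_isIso hW₂ hF β fun _ _ => inferInstance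
  have hG' : ∀ ⦃X Y : HomotopyCategory (ModuleCat.{u} A) (ComplexShape.up ℤ)⦄ (s : X ⟶ Y),
      kflatR A X → kflatR A Y → W₁ s → IsIso ((DRing.baseChangeKh φ ⋙ DRing.restrictD φ).map s) :=
    fun X Y s hX hY hs => by
      haveI := isIso_baseChangeKh_of_kflat φ s hX hY hs
      exact Functor.map_isIso _ ((DRing.baseChangeKh φ).map s)
  haveI : (DRing.LBaseChange φ ⋙ DRing.restrictD φ).IsLeftDerivedFunctor
      ((Functor.associator _ _ _).inv ≫ Functor.whiskerRight α _) W₁ :=
    isLeftDerived_of_isIso exists_kflatR hG' _ fun X hX => by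
      haveI := isIso_counit_of_mem exists_kflatR (isIso_baseChangeKh_of_kflat φ) α hX
      dsimp
      infer_instance
  have hF' : ∀ ⦃X Y : HomotopyCategory (ModuleCat.{u} B) (ComplexShape.up ℤ)⦄ (s : X ⟶ Y),
      (⊤ : ObjectProperty _) X → (⊤ : ObjectProperty _) Y → W₂ s →
        IsIso (((rs.mapHomotopyCategory (ComplexShape.up ℤ) ⋙ DerivedCategory.Qh) ⋙ DRing.LBaseChange φ).map s) :=
    fun X Y s hX hY hs => by
      haveI := hF s hX hY hs
      exact Functor.map_isIso _ ((rs.mapHomotopyCategory (ComplexShape.up ℤ) ⋙ DerivedCategory.Qh).map s)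
  haveI : (DRing.restrictD φ ⋙ DRing.LBaseChange φ).IsRightDerivedFunctor
      (Functor.whiskerRight β (DRing.LBaseChange φ) ≫ (Functor.associator _ _ _).hom) W₂ :=
    isRightDerived_of_isIso hW₂ hF' _ fun X _ => by
      dsimp
      infer_instance
  a.derived W₁ W₂ α β

/-- Restriction along a composite, as functors. -/
noncomputable def restrictComp (α : A →+* B) (β : B →+* C) (γ : A →+* C) (h : γ = β.comp α) :
    DRing.restrictD β ⋙ DRing.restrictD α ≅ DRing.restrictD γ := by
  let cα := (ModuleCat.restrictScalars.{u} α).mapHomologicalComplex (ComplexShape.up ℤ)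
  let cβ := (ModuleCat.restrictScalars.{u} β).mapHomologicalComplex (ComplexShape.up ℤ)
  let W := HomologicalComplex.quasiIso (ModuleCat.{u} C) (ComplexShape.up ℤ)
  let i : DerivedCategory.Q ⋙ DRing.restrictD β ⋙ DRing.restrictD α ≅
      (ModuleCat.restrictScalars.{u} γ).mapHomologicalComplex (ComplexShape.up ℤ) ⋙ DerivedCategory.Q :=
    (Functor.associator _ _ _).symm ≪≫
      Functor.isoWhiskerRight (ModuleCat.restrictScalars.{u} β).mapDerivedCategoryFactors _ ≪≫
      Functor.associator _ _ _ ≪≫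
      Functor.isoWhiskerLeft cβ (ModuleCat.restrictScalars.{u} α).mapDerivedCategoryFactors ≪≫
      (Functor.associator _ _ _).symm ≪≫
      Functor.isoWhiskerRight (NatIso.mapHomologicalComplex (ModuleCat.restrictScalarsComp'.{u} α β γ h).symm
        (ComplexShape.up ℤ)) _
  letI : Localization.Lifting DerivedCategory.Q W
      ((ModuleCat.restrictScalars.{u} γ).mapHomologicalComplex (ComplexShape.up ℤ) ⋙ DerivedCategory.Q)
      (DRing.restrictD β ⋙ DRing.restrictD α) := ⟨i⟩
  letI : Localization.Lifting DerivedCategory.Q W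
      ((ModuleCat.restrictScalars.{u} γ).mapHomologicalComplex (ComplexShape.up ℤ) ⋙ DerivedCategory.Q)
      (DRing.restrictD γ) := ⟨(ModuleCat.restrictScalars.{u} γ).mapDerivedCategoryFactors⟩
  exact Localization.liftNatIso DerivedCategory.Q W
    ((ModuleCat.restrictScalars.{u} γ).mapHomologicalComplex (ComplexShape.up ℤ) ⋙ DerivedCategory.Q)
    ((ModuleCat.restrictScalars.{u} γ).mapHomologicalComplex (ComplexShape.up ℤ) ⋙ DerivedCategory.Q) _ _ (Iso.refl _)

/-- Derived base change along a composite. -/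
noncomputable def compIso (α : A →+* B) (β : B →+* C) (γ : A →+* C) (h : γ = β.comp α) [DRing.HasLBaseChange α]
    [DRing.HasLBaseChange β] [DRing.HasLBaseChange γ] :
    DRing.LBaseChange α ⋙ DRing.LBaseChange β ≅ DRing.LBaseChange γ :=
  Adjunction.leftAdjointUniq (((adj α).comp (adj β)).ofNatIsoRight (restrictComp α β γ h)) (adj γ)

/-- Derived base change commutes with shifts. -/
noncomputable def shiftIso [DRing.HasLBaseChange φ] (n : ℤ) :
    shiftFunctor (Dual.D A) n ⋙ DRing.LBaseChange φ ≅ DRing.LBaseChange φ ⋙ shiftFunctor (Dual.D B) n :=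
  Adjunction.leftAdjointUniq (((shiftEquiv (Dual.D A) n).toAdjunction).comp (adj φ))
    (((adj φ).comp ((shiftEquiv (Dual.D B) n).toAdjunction)).ofNatIsoRight ((DRing.restrictD φ).commShiftIso (-n)))

/-- Flat base change agrees with derived base change. -/
noncomputable def extIso [DRing.HasLBaseChange φ] [PreservesFiniteLimits (ModuleCat.extendScalars.{u, u, u} φ)]
    [PreservesFiniteColimits (ModuleCat.extendScalars.{u, u, u} φ)] : DRing.LBaseChange φ ≅ extD φ :=
  Adjunction.leftAdjointUniq (adj φ) (adjD φ)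

/-- `L(B ⊗_A A) = B`. -/
theorem nonempty_self [DRing.HasLBaseChange φ] :
    Nonempty ((DRing.LBaseChange φ).obj (Dual.inD A A) ≅ Dual.inD B B) := by
  let F := ModuleCat.extendScalars.{u, u, u} φ
  let P : DRing.Cx A := (HomologicalComplex.single (ModuleCat.{u} A) (ComplexShape.up ℤ) 0).obj (ModuleCat.of A A)
  have hb : DRing.VanishesAbove P 0 := fun i hi => HomologicalComplex.isZero_single_obj_X _ _ _ _ (by omega)
  have hf : DRing.TermwiseFlat P := fun i => by
    rcases eq_or_ne i 0 with rfl | hi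
    · exact Module.Flat.of_linearEquiv (M := A)
        (HomologicalComplex.singleObjXSelf (ComplexShape.up ℤ) 0 (ModuleCat.of A A)).toLinearEquiv
    · haveI : Subsingleton (P.X i) :=
        ModuleCat.subsingleton_of_isZero (HomologicalComplex.isZero_single_obj_X _ _ _ _ hi)
      infer_instance
  let e : F.obj (ModuleCat.of A A) ≅ ModuleCat.of B B :=
    letI := φ.toAlgebra
    (Algebra.TensorProduct.rid A B B).toLinearEquiv.toModuleIso
  exact ⟨(DRing.LBaseChange φ).mapIso ((DerivedCategory.singleFunctorIsoCompQ (ModuleCat.{u} A) 0).app _) ≪≫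
    lbaseChangeIso φ (isKFlatFor_of_vanishesAbove P 0 hb hf) ≪≫
    DerivedCategory.Q.mapIso ((HomologicalComplex.singleMapHomologicalComplex F (ComplexShape.up ℤ) 0).app _) ≪≫
    ((DerivedCategory.singleFunctorIsoCompQ (ModuleCat.{u} B) 0).app _).symm ≪≫
    (DerivedCategory.singleFunctor (ModuleCat.{u} B) 0).mapIso e⟩

/-- The adjunction is semilinear. -/
lemma homEquiv_smul [DRing.HasLBaseChange φ] (X : Dual.D A) (Z : Dual.D B) (a : A)
    (f : (DRing.LBaseChange φ).obj X ⟶ Z) :
    (adj φ).homEquiv X Z (φ a • f) = a • (adj φ).homEquiv X Z f := by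
  rw [Adjunction.homEquiv_unit, Adjunction.homEquiv_unit]
  exact (congrArg (_ ≫ ·) (restrictD_map_smul φ a f)).trans (Linear.comp_smul _ _ _ _ _ _)

end Groth.Agent.DualLib.LBC
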