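import Groth.Agent.DualLib.Basic
import Mathlib.CategoryTheory.Abelian.Injective.Dimension
import Mathlib.Algebra.Category.ModuleCat.Ext.HasExt

/-! A ring of finite injective dimension over itself is its own dualizing complex. -/

set_option autoImplicit false
set_option backward.isDefEq.respectTransparency false
set_option backward.defeqAttrib.useBackward true
set_option linter.style.haveILetI false

universe u

open CategoryTheory CategoryTheory.Limits CategoryTheory.Pretriangulated

attribute [local instance] HasDerivedCategory.standard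

namespace Groth.Agent.DualLib

variable {A : Type u} [CommRing A]

lemma hd_single_subsingleton (M : Type u) [AddCommGroup M] [Module A M] (i : ℤ) (hi : i ≠ 0) :
    Subsingleton (Dual.HD A (Dual.inD A M) i) := by
  rcases lt_or_gt_of_ne hi with h | h
  · exact (DRingLib.isGE_iff_HD (Dual.inD A M) 0).1 inferInstance i h
  · exact (DRingLib.isLE_iff_HD (Dual.inD A M) 0).1 inferInstance i h

lemma subsingleton_E_self_of_neg (M : Type u) [AddCommGroup M] [Module A M] (i : ℤ) (hi : i < 0) :
    Subsingleton (E (Dual.inD A A) M i) := by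
  haveI : ((Dual.inD A A)⟦i⟧).IsGE (-i) :=
    (DerivedCategory.TStructure.t (C := ModuleCat.{u} A)).isGE_shift _ 0 i (-i) (by omega)
  exact ⟨fun φ ψ => sub_eq_zero.1
    ((DerivedCategory.TStructure.t (C := ModuleCat.{u} A)).zero (φ - ψ) 0 (-i) (by omega))⟩

/-- Finite injective dimension makes `A` dualizing. -/
theorem isDualizing_self [IsNoetherianRing A] (n : ℕ) (h : HasInjectiveDimensionLT (ModuleCat.of A A) n) :
    Dual.IsDualizing A (Dual.inD A A) where
  isNoetherianRing := inferInstance
  finite_injective_dimension := ⟨0, n, fun M _ _ i hi => by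
    rcases hi with hi | hi
    · exact subsingleton_E_self_of_neg M i hi
    · obtain ⟨k, rfl⟩ : ∃ k : ℕ, i = k := ⟨i.toNat, by omega⟩
      haveI : Subsingleton (Abelian.Ext (ModuleCat.of A M) (ModuleCat.of A A) k) :=
        ⟨fun a b => by rw [a.eq_zero_of_hasInjectiveDimensionLT n (by omega), b.eq_zero_of_hasInjectiveDimensionLT n (by omega)]⟩
      exact Abelian.Ext.homEquiv.symm.subsingleton⟩
  finite_cohomology := fun i => by
    rcases eq_or_ne i 0 with rfl | hi
    · exact DRingLib.finite_of_iso
        ((DerivedCategory.singleFunctorCompHomologyFunctorIso (ModuleCat.{u} A) 0).app (ModuleCat.of A A)).symm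
        (Module.Finite.self A)
    · haveI := hd_single_subsingleton (A := A) A i hi
      exact inferInstanceAs (Module.Finite A (Dual.HD A (Dual.inD A A) i))
  toEnd_bijective := by
    constructor
    · intro a b hab
      have h1 : a • 𝟙 (ModuleCat.of A A) = b • 𝟙 (ModuleCat.of A A) := (S0 A).map_injective (by
        rw [Functor.map_smul, Functor.map_smul, CategoryTheory.Functor.map_id]
        exact hab)
      simpa using congrArg (fun g : ModuleCat.of A A ⟶ ModuleCat.of A A => g.hom (1 : A)) h1
    · intro φ
      let s : (Dual.inD A A ⟶ Dual.inD A A) → (ModuleCat.of A A ⟶ ModuleCat.of A A) :=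
        fun φ => (S0 A).preimage φ
      refine ⟨(s φ).hom (1 : A), ?_⟩
      have : s φ = (s φ).hom (1 : A) • 𝟙 _ := ModuleCat.hom_ext (LinearMap.ext_ring (by simp))
      show (s φ).hom (1 : A) • 𝟙 _ = φ
      rw [← (S0 A).map_id, ← Functor.map_smul, ← this]
      exact (S0 A).map_preimage φ
  ext_self_subsingleton := fun i hi => by
    haveI := hd_single_subsingleton (A := A) A i hi
    exact (eSelf (Dual.inD A A) i).injective.subsingleton

/-- Conversely. -/
theorem exists_injDim_of_isDualizing (h : Dual.IsDualizing A (Dual.inD A A)) :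
    ∃ n : ℕ, HasInjectiveDimensionLT (ModuleCat.of A A) n := by
  obtain ⟨a, b, hab⟩ := h.finite_injective_dimension
  refine ⟨(b + 1).toNat, HasInjectiveDimensionLT.mk fun i hi Y e => Abelian.Ext.homEquiv.injective ?_⟩
  haveI := hab Y (i : ℤ) (Or.inr (by omega))
  exact Subsingleton.elim (α := Dual.inD A Y ⟶ (Dual.inD A A)⟦(i : ℤ)⟧) _ _

end Groth.Agent.DualLib
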