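import Groth.Agent.DualLib.OmegaBC
import Groth.Agent.Dual22Lib.FiniteShriek
import Groth.Agent.DualLib.Self
import Mathlib.RingTheory.TensorProduct.Maps

/-! `ω_{A/R}` is relative dualizing. -/

set_option autoImplicit false
set_option backward.isDefEq.respectTransparency false
set_option backward.defeqAttrib.useBackward true
set_option linter.style.haveILetI false

universe u

open CategoryTheory CategoryTheory.Limits DerivedCategory MvPolynomial
open scoped TensorProduct

attribute [local instance] HasDerivedCategory.standard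

namespace Groth.Agent.DualLib.Omega

open Groth.Agent Groth.Agent.DualLib.Shriek

variable {R A : Type u} [CommRing R] [IsNoetherianRing R] [CommRing A] [Algebra R A] {n : ℕ}
  (ψ : MvPolynomial (Fin n) R →ₐ[R] A) (hψ : Function.Surjective ψ)
  [DRing.HasLBaseChange (algebraMap R (MvPolynomial (Fin n) R))]
  {Rψ : Dual.D (MvPolynomial (Fin n) R) ⥤ Dual.D A} (adj : DRing.restrictD ψ.toRingHom ⊣ Rψ)

include hψ adj in
theorem subsingleton_HD_of_pos [Module.Flat R A] (i : ℤ) (hi : 0 < i) :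
    Subsingleton (Dual.HD A (Dual2.shriekVia n Rψ (Dual.inD R R)) i) := by
  refine subsingleton_of_forall_eq 0 fun x => ?_
  by_contra hx
  obtain ⟨m, hm, hle⟩ := Ideal.exists_le_maximal ((⊥ : Submodule A _).colon {x}) (fun htop => hx (by
    have h1 : (1 : A) ∈ (⊥ : Submodule A _).colon {x} := htop ▸ Submodule.mem_top
    simpa using Submodule.mem_colon_singleton.1 h1))
  haveI : Nontrivial (LocalizedModule m.primeCompl (Dual.HD A (Dual2.shriekVia n Rψ (Dual.inD R R)) i)) := by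
    rw [← not_subsingleton_iff_nontrivial, LocalizedModule.subsingleton_iff]
    intro hall
    obtain ⟨r, hr, hr0⟩ := hall x
    exact hr (hle (Submodule.mem_colon_singleton.2 ((Submodule.mem_bot A).2 hr0)))
  exact absurd (Shriek.le_zero_of_nontrivial ψ hψ adj m i this) (by omega)

variable [IsNoetherianRing A]

include hψ adj in
theorem finite_HD (i : ℤ) : Module.Finite A (Dual.HD A (Dual2.shriekVia n Rψ (Dual.inD R R)) i) :=
  (Dual22Lib.bounded_finite_shriekVia ψ hψ adj (Dual.inD R R) 0 (fun i hi =>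
    (DRingLib.isGE_iff_HD (Dual.inD R R) 0).1 inferInstance i hi)).2 (fun i => by
      rcases eq_or_ne i 0 with rfl | hi
      · exact DRingLib.finite_of_iso
          ((DerivedCategory.singleFunctorCompHomologyFunctorIso (ModuleCat.{u} R) 0).app (ModuleCat.of R R)).symm
          (Module.Finite.self R)
      · haveI := hd_single_subsingleton (A := R) R i hi
        exact inferInstanceAs (Module.Finite R (Dual.HD R (Dual.inD R R) i))) i

include hψ adj in
theorem isRelPerfect_shriekVia [Module.Flat R A] :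
    Dual2.IsRelPerfect R A (Dual2.shriekVia n Rψ (Dual.inD R R)) := by
  haveI : Algebra.FiniteType R A := Algebra.FiniteType.of_surjective ψ hψ
  refine ⟨DRingLib.pc'_of_forall fun m => DRingLib.pc_of_finite_homology (b := 0) ?_ fun i _ => finite_HD ψ hψ adj i,
    _, _, Shriek.hasTorAmplitudeIn_shriekVia ψ hψ adj n (fun q => fibreDimAt_le ψ hψ q)⟩
  exact (DerivedCategory.isLE_iff _ _).2 fun i hi =>
    (DCat.subsingleton_HD_iff _ i).1 (subsingleton_HD_of_pos ψ hψ adj i hi)

omit [IsNoetherianRing R] [IsNoetherianRing A] [DRing.HasLBaseChange (algebraMap R (MvPolynomial (Fin n) R))] in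
/-- `id^! = id`. -/
theorem nonempty_shriekVia_trivial (m : ℕ) (π : MvPolynomial (Fin m) A →+* A) (hπ : π.comp C = RingHom.id A)
    [DRing.HasLBaseChange (algebraMap A (MvPolynomial (Fin m) A))]
    (Rπ : Dual.D (MvPolynomial (Fin m) A) ⥤ Dual.D A) (adjπ : DRing.restrictD π ⊣ Rπ) (K : Dual.D A) :
    Nonempty (Dual2.shriekVia m Rπ K ≅ K) := by
  obtain ⟨R₁, ⟨adj₁⟩⟩ := exists_rightAdjoint (algebraMap A A)
  haveI : Module.Finite A A := Module.Finite.self A
  obtain ⟨e⟩ := nonempty_shriekVia_finite m π hπ Rπ adjπ R₁ adj₁ K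
  obtain ⟨N, ⟨eN⟩, hN⟩ := exists_rep K
  obtain ⟨f⟩ := frob_of_bijective (algebraMap A A) Function.bijective_id R₁ adj₁ N
  let i : (exCx (algebraMap A A)).obj N ≅ N :=
    (NatIso.mapHomologicalComplex (ModuleCat.extendScalarsId A) (ComplexShape.up ℤ)).app N ≪≫
      (Functor.mapHomologicalComplexIdIso (ModuleCat.{u} A) (ComplexShape.up ℤ)).app N
  exact ⟨e ≪≫ R₁.mapIso eN.symm ≪≫ f ≪≫ Q.mapIso i ≪≫ eN⟩

include hψ adj in
theorem isRelDualizing_shriekVia [Module.Flat R A]
    [DRing.HasLBaseChange (Algebra.TensorProduct.includeLeftRingHom : A →+* TensorProduct R A A)]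
    (Rμ : Dual.D (TensorProduct R A A) ⥤ Dual.D A)
    (adjμ : DRing.restrictD (Algebra.TensorProduct.lmul' R (S := A)).toRingHom ⊣ Rμ) :
    Dual2.IsRelDualizing R A Rμ (Dual2.shriekVia n Rψ (Dual.inD R R)) := by
  refine ⟨isRelPerfect_shriekVia ψ hψ adj, ?_⟩
  let ω := Dual2.shriekVia n Rψ (Dual.inD R R)
  let μ := (Algebra.TensorProduct.lmul' R (S := A)).toRingHom
  let σ := (Algebra.TensorProduct.comm R A A).toRingEquiv.toRingHom
  let iL : A →+* TensorProduct R A A := Algebra.TensorProduct.includeLeftRingHom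
  let iR := (Algebra.TensorProduct.includeRight : A →ₐ[R] A ⊗[R] A).toRingHom
  have hσ : iL = σ.comp iR := RingHom.ext fun a => rfl
  have hμσ : μ = μ.comp σ := by
    refine RingHom.ext fun z => ?_
    induction z using TensorProduct.induction_on with
    | zero => simp
    | tmul a b =>
      show (Algebra.TensorProduct.lmul' R (S := A)) (a ⊗ₜ b) = (Algebra.TensorProduct.lmul' R (S := A)) (b ⊗ₜ a)
      simp [mul_comm]
    | add x y hx hy => simp only [map_add, hx, hy]
  haveI := DCat.hasLBaseChange iR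
  haveI := DCat.hasLBaseChange (algebraMap A (MvPolynomial (Fin n) A))
  obtain ⟨Rψ', ⟨adj'⟩⟩ := exists_rightAdjoint (bcAlg (R' := A) ψ).toRingHom
  obtain ⟨eBC⟩ := nonempty_shriekVia_self_baseChange (R' := A) ψ adj adj' hψ
  obtain ⟨N, ⟨eN⟩, hN⟩ := exists_rep ω
  obtain ⟨bL⟩ := hN iL
  obtain ⟨bR⟩ := hN iR
  obtain ⟨Rσ, ⟨adjσ⟩⟩ := exists_rightAdjoint σ
  obtain ⟨fσ⟩ := frob_of_bijective σ (Algebra.TensorProduct.comm R A A).toRingEquiv.bijective Rσ adjσ ((exCx iR).obj N)
  obtain ⟨cσ⟩ := nonempty_comp_obj hμσ adjσ adjμ adjμ (Q.obj ((exCx iR).obj N))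
  let e₁ : Rμ.obj ((DRing.LBaseChange iL).obj ω) ≅ Rμ.obj (Dual2.shriekVia n Rψ' (Dual.inD A A)) :=
    Rμ.mapIso (bL ≪≫ Q.mapIso (exComp iR σ iL hσ N) ≪≫ fσ.symm) ≪≫ cσ.symm ≪≫ Rμ.mapIso (bR.symm ≪≫ eBC)
  let π := μ.comp (bcAlg (R' := A) ψ).toRingHom
  have hπ : π.comp C = RingHom.id A := RingHom.ext fun a => by
    show (Algebra.TensorProduct.lmul' R (S := A)) (bcAlg (R' := A) ψ (algebraMap A _ a)) = a
    rw [AlgHom.commutes, Algebra.TensorProduct.algebraMap_apply]
    simp
  obtain ⟨Rπ, ⟨adjπ⟩⟩ := exists_rightAdjoint π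
  let L := (DRing.LBaseChange (algebraMap A (MvPolynomial (Fin n) A))).obj (Dual.inD A A)
  obtain ⟨c⟩ := nonempty_comp_obj (h := π) rfl adj' adjμ adjπ L
  obtain ⟨s⟩ := nonempty_shift_obj adjμ (Rψ'.obj L) (n : ℤ)
  obtain ⟨t⟩ := nonempty_shriekVia_trivial n π hπ Rπ adjπ (Dual.inD A A)
  exact ⟨e₁ ≪≫ s ≪≫ (shiftFunctor (Dual.D A) (n : ℤ)).mapIso c.symm ≪≫ t⟩

end Groth.Agent.DualLib.Omega
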