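import Groth.Agent.DualLib.LBCAdj
import Groth.Agent.DualLib.OmegaRelDual
import Groth.Agent.DualLib.FreeCriterion
import Groth.Agent.Dual22Lib.GorInvertible
import Groth.Agent.SegreDim.GorEquiv

/-! The fibres are Gorenstein iff `ω_{A/R}` is invertible. -/

set_option autoImplicit false
set_option backward.isDefEq.respectTransparency false
set_option backward.defeqAttrib.useBackward true
set_option linter.style.haveILetI false

universe u

open CategoryTheory CategoryTheory.Limits DerivedCategory
open scoped TensorProduct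

attribute [local instance] HasDerivedCategory.standard

namespace Groth.Agent.DualLib.OmegaGor

open Groth.Agent Groth.Agent.DualLib

/-- An object over a local ring whose base change along a surjection is free of rank one is free. -/
theorem exists_iso_self_of_lbase {A B : Type u} [CommRing A] [CommRing B] [IsLocalRing A] [IsLocalRing B]
    [IsNoetherianRing A] (φ : A →+* B) (hφ : Function.Surjective φ) [DRing.HasLBaseChange φ] (X : Dual.D A) (b : ℤ)
    [X.IsLE b] (hfin : ∀ q, Module.Finite A (Dual.HD A X q))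
    (e : (DRing.LBaseChange φ).obj X ≅ Dual.inD B B) : Nonempty (X ≅ Dual.inD A A) := by
  haveI : IsLocalHom φ := IsLocalHom.of_surjective φ hφ
  let κ := IsLocalRing.ResidueField B
  let g := IsLocalRing.ResidueField.map φ
  have hg : Function.Bijective g := by
    refine ⟨RingHom.injective _, fun y => ?_⟩
    obtain ⟨z, rfl⟩ := IsLocalRing.residue_surjective y
    obtain ⟨x, rfl⟩ := hφ z
    exact ⟨IsLocalRing.residue A x, IsLocalRing.ResidueField.map_residue φ x⟩
  let gE : IsLocalRing.ResidueField A ≃+* κ := RingEquiv.ofBijective g hg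
  have hgs : ∀ (a : A) (x : IsLocalRing.ResidueField A), gE (a • x) = φ a • gE x := fun a x => by
    rw [Algebra.smul_def, map_mul, Algebra.smul_def]
    rfl
  let v : IsLocalRing.ResidueField A ≃ₗ[A] (ModuleCat.restrictScalars.{u} φ).obj (ModuleCat.of B κ) :=
    { toFun := fun x => gE x
      map_add' := fun x y => map_add gE x y
      map_smul' := hgs
      invFun := gE.symm
      left_inv := gE.symm_apply_apply
      right_inv := gE.apply_symm_apply }
  let Z := Dual.inD B κ
  let w : (DRing.restrictD φ).obj Z ≅ kD A :=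
    ((ModuleCat.restrictScalars.{u} φ).mapDerivedCategorySingleFunctor 0).app (ModuleCat.of B κ) ≪≫
      (singleFunctor (ModuleCat.{u} A) 0).mapIso v.toModuleIso.symm
  let wj := fun j : ℤ => ((DRing.restrictD φ).commShiftIso j).app Z ≪≫ (shiftFunctor (Dual.D A) j).mapIso w
  let T : ∀ j : ℤ, (Dual.inD B B ⟶ Z⟦j⟧) ≃ (X ⟶ (kD A)⟦j⟧) := fun j =>
    (e.symm.homFromEquiv).trans (((LBC.adj φ).homEquiv X (Z⟦j⟧)).trans (wj j).homToEquiv)
  refine exists_iso_self_of_hom_residue X b hfin (fun j hj => ?_) ?_
  · haveI := hd_single_subsingleton (A := B) κ j hj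
    haveI : Subsingleton (Dual.inD B B ⟶ Z⟦j⟧) := (eSelf Z j).injective.subsingleton
    exact (T j).symm.injective.subsingleton
  · let c : κ ≃ₗ[B] (Dual.inD B B ⟶ Z⟦(0 : ℤ)⟧) :=
      (((singleFunctorCompHomologyFunctorIso (ModuleCat.{u} B) 0).app (ModuleCat.of B κ)).toLinearEquiv.symm) ≪≫ₗ
        (eSelf Z 0).symm
    have hT : ∀ (a : A) (f : Dual.inD B B ⟶ Z⟦(0 : ℤ)⟧), T 0 (φ a • f) = a • T 0 f := fun a f => by
      show ((LBC.adj φ).homEquiv X (Z⟦(0 : ℤ)⟧) (e.hom ≫ (φ a • f))) ≫ (wj 0).hom =
        a • (((LBC.adj φ).homEquiv X (Z⟦(0 : ℤ)⟧) (e.hom ≫ f)) ≫ (wj 0).hom)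
      rw [Linear.comp_smul, LBC.homEquiv_smul, Linear.smul_comp]
    have hadd : ∀ f f' : Dual.inD B B ⟶ Z⟦(0 : ℤ)⟧, T 0 (f + f') = T 0 f + T 0 f' := fun f f' => by
      show ((LBC.adj φ).homEquiv X (Z⟦(0 : ℤ)⟧) (e.hom ≫ (f + f'))) ≫ (wj 0).hom = _
      rw [Preadditive.comp_add, Adjunction.homEquiv_unit, Functor.map_add, Preadditive.comp_add, Preadditive.add_comp,
        ← Adjunction.homEquiv_unit, ← Adjunction.homEquiv_unit]
      rfl
    refine ⟨(LinearEquiv.symm
      { toFun := fun x => T 0 (c (gE x))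
        invFun := fun y => gE.symm (c.symm ((T 0).symm y))
        left_inv := fun x => by beta_reduce; rw [Equiv.symm_apply_apply, c.symm_apply_apply, gE.symm_apply_apply]
        right_inv := fun y => by beta_reduce; rw [gE.apply_symm_apply, c.apply_symm_apply, Equiv.apply_symm_apply]
        map_add' := fun x y => by rw [map_add, map_add, hadd]
        map_smul' := fun a x => by rw [hgs, map_smul, hT]; rfl })⟩

/-- Base change around a commutative square. -/
theorem nonempty_square {A A' B C : Type u} [CommRing A] [CommRing A'] [CommRing B] [CommRing C] (α : A →+* B)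
    (σ : B →+* C) (ι : A →+* A') (τ : A' →+* C) (h : τ.comp ι = σ.comp α) [DRing.HasLBaseChange α]
    [DRing.HasLBaseChange σ] [DRing.HasLBaseChange ι] [DRing.HasLBaseChange τ] (X : Dual.D A) :
    Nonempty ((DRing.LBaseChange σ).obj ((DRing.LBaseChange α).obj X) ≅
      (DRing.LBaseChange τ).obj ((DRing.LBaseChange ι).obj X)) :=
  haveI := DCat.hasLBaseChange (σ.comp α)
  ⟨(LBC.compIso α σ _ rfl).app X ≪≫ ((LBC.compIso ι τ _ h.symm).app X).symm⟩

/-- Base change of a shift of the ring. -/
theorem nonempty_shift_self {A B : Type u} [CommRing A] [CommRing B] (φ : A →+* B) [DRing.HasLBaseChange φ] {X : Dual.D A}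
    (m : ℤ) (e : X ≅ (Dual.inD A A)⟦m⟧) : Nonempty ((DRing.LBaseChange φ).obj X ≅ (Dual.inD B B)⟦m⟧) := by
  obtain ⟨s⟩ := LBC.nonempty_self φ
  exact ⟨(DRing.LBaseChange φ).mapIso e ≪≫ (LBC.shiftIso φ m).app _ ≪≫ (shiftFunctor (Dual.D B) m).mapIso s⟩

section Fibre

variable {R A : Type u} [CommRing R] [CommRing A] [Algebra R A] (r : Ideal R) [r.IsPrime]

/-- Elements of a fibre are fractions. -/
theorem exists_frac (z : r.ResidueField ⊗[R] A) : ∃ s : R, s ∉ r ∧ ∃ a : A, s • z = 1 ⊗ₜ[R] a := by
  induction z using TensorProduct.induction_on with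
  | zero => exact ⟨1, (Ideal.ne_top_iff_one r).1 (Ideal.IsPrime.ne_top inferInstance), 0, by simp⟩
  | tmul x a =>
    obtain ⟨x, rfl⟩ := IsLocalRing.residue_surjective x
    obtain ⟨c, s, rfl⟩ := IsLocalization.exists_mk'_eq r.primeCompl x
    refine ⟨s, s.2, c • a, ?_⟩
    rw [TensorProduct.smul_tmul', ← TensorProduct.smul_tmul]
    congr 1
    rw [Algebra.smul_def, Algebra.smul_def, mul_one,
      IsScalarTower.algebraMap_apply R (Localization.AtPrime r) r.ResidueField,
      IsScalarTower.algebraMap_apply R (Localization.AtPrime r) r.ResidueField, IsLocalRing.ResidueField.algebraMap_eq,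
      ← map_mul, IsLocalization.mk'_spec']
  | add x y hx hy =>
    obtain ⟨s, hs, a, ha⟩ := hx
    obtain ⟨t, ht, b, hb⟩ := hy
    refine ⟨t * s, r.primeCompl.mul_mem ht hs, t • a + s • b, ?_⟩
    rw [smul_add, mul_smul, ha, mul_comm t s, mul_smul, hb, TensorProduct.tmul_add, TensorProduct.tmul_smul,
      TensorProduct.tmul_smul]

/-- The map from the local ring of a point to the local ring of the fibre is surjective. -/
theorem surjective_localRingHom (y : Ideal (r.ResidueField ⊗[R] A)) [y.IsPrime] (q : Ideal A) [q.IsPrime]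
    (hq : q = y.comap (Algebra.TensorProduct.includeRight : A →ₐ[R] r.ResidueField ⊗[R] A).toRingHom) :
    Function.Surjective (Localization.localRingHom q y
      (Algebra.TensorProduct.includeRight : A →ₐ[R] r.ResidueField ⊗[R] A).toRingHom hq) := by
  intro z
  obtain ⟨b, t, rfl⟩ := IsLocalization.exists_mk'_eq y.primeCompl z
  obtain ⟨s, hs, a, ha⟩ := exists_frac r b
  obtain ⟨s', hs', a', ha'⟩ := exists_frac r (t : r.ResidueField ⊗[R] A)
  have hunit : ∀ s : R, s ∉ r → IsUnit (algebraMap R (r.ResidueField ⊗[R] A) s) := fun s hs => by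
    have h : IsUnit (algebraMap R r.ResidueField s) :=
      isUnit_iff_ne_zero.2 fun h0 => hs (Ideal.algebraMap_residueField_eq_zero.1 h0)
    exact h.map (algebraMap r.ResidueField (r.ResidueField ⊗[R] A))
  have hmem : s • a' ∈ q.primeCompl := by
    intro hmem
    rw [SetLike.mem_coe, hq, Ideal.mem_comap] at hmem
    have h1 : (Algebra.TensorProduct.includeRight : A →ₐ[R] r.ResidueField ⊗[R] A).toRingHom (s • a') =
        algebraMap R _ s * (algebraMap R _ s' * (t : r.ResidueField ⊗[R] A)) := by
      show (1 : r.ResidueField) ⊗ₜ[R] (s • a') = _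
      rw [← Algebra.smul_def, ← Algebra.smul_def, ha', TensorProduct.tmul_smul]
    rw [h1] at hmem
    exact t.2 ((Ideal.unit_mul_mem_iff_mem y (hunit s' hs')).1 ((Ideal.unit_mul_mem_iff_mem y (hunit s hs)).1 hmem))
  refine ⟨IsLocalization.mk' (Localization.AtPrime q) (s' • a) ⟨s • a', hmem⟩, ?_⟩
  rw [Localization.localRingHom_mk', IsLocalization.mk'_eq_iff_eq]
  congr 1
  show (t : r.ResidueField ⊗[R] A) * ((1 : r.ResidueField) ⊗ₜ[R] (s' • a)) = ((1 : r.ResidueField) ⊗ₜ[R] (s • a')) * b
  rw [TensorProduct.tmul_smul, TensorProduct.tmul_smul, ← ha, ← ha']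
  simp only [Algebra.smul_def]
  ring

/-- There is a point of the fibre over every point. -/
theorem exists_prime_over (q : PrimeSpectrum A) :
    ∃ y : PrimeSpectrum ((q.asIdeal.comap (algebraMap R A)).ResidueField ⊗[R] A),
      q.asIdeal = y.asIdeal.comap (Algebra.TensorProduct.includeRight :
        A →ₐ[R] (q.asIdeal.comap (algebraMap R A)).ResidueField ⊗[R] A).toRingHom := by
  let g := Ideal.ResidueField.mapₐ (R := R) (q.asIdeal.comap (algebraMap R A)) q.asIdeal (Algebra.ofId R A) rfl
  let l := Algebra.TensorProduct.lift g (IsScalarTower.toAlgHom R A q.asIdeal.ResidueField) fun _ _ => mul_comm _ _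
  refine ⟨⟨RingHom.ker l.toRingHom, RingHom.ker_isPrime _⟩, Ideal.ext fun a => ?_⟩
  show a ∈ q.asIdeal ↔ l ((1 : (q.asIdeal.comap (algebraMap R A)).ResidueField) ⊗ₜ[R] a) = 0
  rw [Algebra.TensorProduct.lift_tmul, map_one, one_mul]
  exact Ideal.algebraMap_residueField_eq_zero.symm

end Fibre

section Spread

variable {A : Type u} [CommRing A] [IsNoetherianRing A] {W : Dual.D A}

/-- An object with finite cohomology which is free of rank one at a prime is so near it. -/
theorem exists_away_iso (a b : ℤ) [W.IsGE a] [W.IsLE b] (hfin : ∀ i, Module.Finite A (Dual.HD A W i))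
    (p : PrimeSpectrum A) (j : ℤ) (h : ∀ i : ℤ, i ≠ j → p ∉ Module.support A (Dual.HD A W i))
    (e : Localization.AtPrime p.asIdeal ⊗[A] Dual.HD A W j ≃ₗ[Localization.AtPrime p.asIdeal] Localization.AtPrime p.asIdeal)
    [∀ f : A, DRing.HasLBaseChange (algebraMap A (Localization.Away f))] :
    ∃ (f : A) (_ : f ∉ p.asIdeal) (m : ℤ), Nonempty ((DRing.LBaseChange (algebraMap A (Localization.Away f))).obj W ≅
      (Dual.inD (Localization.Away f) (Localization.Away f))⟦m⟧) := by
  haveI := hfin j
  obtain ⟨g, hg, ⟨eg⟩⟩ := Dual22Lib.exists_away_equiv_self p (Dual.HD A W j) e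
  have hk : ∀ i : ℤ, i ≠ j → ∃ f : A, f ∉ p.asIdeal ∧ ∀ x : Dual.HD A W i, f • x = 0 := fun i hi => by
    have h1 := h i hi
    haveI := hfin i
    rw [Module.mem_support_iff_of_finite] at h1
    obtain ⟨f, hf, hf'⟩ := SetLike.not_le_iff_exists.1 h1
    exact ⟨f, hf', Module.mem_annihilator.1 hf⟩
  choose! k hkp hk using hk
  let F := g * ∏ i ∈ (Finset.Icc a b).filter (· ≠ j), k i
  have hF : F ∉ p.asIdeal := p.asIdeal.primeCompl.mul_mem hg
    (Submonoid.prod_mem p.asIdeal.primeCompl fun i hi => hkp i (Finset.mem_filter.1 hi).2)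
  let B := Localization.Away F
  haveI : IsLocalization (Submonoid.powers F) B := inferInstance
  obtain ⟨_, _⟩ := Dual22Lib.preserves_extendScalars (B := B) (Submonoid.powers F)
  refine ⟨F, hF, -j, ?_⟩
  obtain ⟨eW⟩ : Nonempty ((extD (algebraMap A B)).obj W ≅
      ((singleFunctor (ModuleCat.{u} B) 0).obj (ModuleCat.of B B))⟦-j⟧) := by
    refine Dual22Lib.exists_iso_inD _ j (fun i hi => ?_) _ ?_
    · obtain ⟨eT⟩ := nonempty_HD_tensor (Submonoid.powers F) W i
      suffices hs : Subsingleton (B ⊗[A] Dual.HD A W i) from eT.injective.subsingleton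
      by_cases hib : i ∈ Finset.Icc a b
      · refine subsingleton_of_forall_eq 0 fun z => ?_
        have hu : IsUnit (algebraMap A B (k i)) :=
          isUnit_of_dvd_unit ((algebraMap A B).map_dvd (dvd_mul_of_dvd_right
            (Finset.dvd_prod_of_mem k (Finset.mem_filter.2 ⟨hib, hi⟩)) g)) (IsLocalization.Away.algebraMap_isUnit F)
        have hz : algebraMap A B (k i) • z = 0 := by
          rw [IsScalarTower.algebraMap_smul]
          induction z using TensorProduct.induction_on with
          | zero => simp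
          | tmul x m => rw [← TensorProduct.tmul_smul, hk i hi m, TensorProduct.tmul_zero]
          | add x y hx hy => rw [smul_add, hx, hy, add_zero]
        exact (hu.smul_eq_zero).1 hz
      · haveI : Subsingleton (Dual.HD A W i) := by
          rw [Finset.mem_Icc, not_and_or, not_le, not_le] at hib
          rcases hib with hh | hh
          · exact ModuleCat.subsingleton_of_isZero (isZero_of_isGE W a i hh)
          · exact ModuleCat.subsingleton_of_isZero (isZero_of_isLE W b i hh)
        infer_instance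
    · let Bg := Localization.Away g
      letI : Algebra Bg B := (IsLocalization.Away.lift g (g := algebraMap A B)
        (isUnit_of_dvd_unit ((algebraMap A B).map_dvd (dvd_mul_right g _))
          (IsLocalization.Away.algebraMap_isUnit F))).toAlgebra
      haveI : IsScalarTower A Bg B := IsScalarTower.of_algebraMap_eq fun x => (IsLocalization.Away.lift_eq g _ x).symm
      exact (nonempty_HD_tensor (Submonoid.powers F) W j).some ≪≫ₗ
        (TensorProduct.AlgebraTensorModule.cancelBaseChange A Bg B B (Dual.HD A W j)).symm ≪≫ₗ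
        TensorProduct.AlgebraTensorModule.congr (LinearEquiv.refl B B) eg ≪≫ₗ
        (Algebra.TensorProduct.rid Bg B B).toLinearEquiv
  exact ⟨(LBC.extIso (algebraMap A B)).app W ≪≫ eW⟩

end Spread

section Main

variable {R A : Type u} [CommRing R] [CommRing A] [IsNoetherianRing R] [IsNoetherianRing A] [Algebra R A] {n : ℕ}
  (ψ : MvPolynomial (Fin n) R →ₐ[R] A) (hψ : Function.Surjective ψ)
  [DRing.HasLBaseChange (algebraMap R (MvPolynomial (Fin n) R))]
  {Rψ : Dual.D (MvPolynomial (Fin n) R) ⥤ Dual.D A} (adj : DRing.restrictD ψ.toRingHom ⊣ Rψ)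
  [Module.Flat R A]

include hψ adj in
/-- The fibres of `ω` are dualizing. -/
theorem isDualizing_fibre (k : Type u) [Field k] [Algebra R k]
    [DRing.HasLBaseChange (Algebra.TensorProduct.includeRight : A →ₐ[R] k ⊗[R] A).toRingHom] :
    Dual.IsDualizing (k ⊗[R] A) ((DRing.LBaseChange
      (Algebra.TensorProduct.includeRight : A →ₐ[R] k ⊗[R] A).toRingHom).obj
        (Dual2.shriekVia n Rψ (Dual.inD R R))) := by
  haveI : Algebra.FiniteType R A := Algebra.FiniteType.of_surjective ψ hψ
  haveI := DCat.hasLBaseChange (algebraMap k (MvPolynomial (Fin n) k))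
  haveI : IsNoetherianRing (k ⊗[R] A) := Algebra.FiniteType.isNoetherianRing k _
  obtain ⟨Rk, ⟨adjk⟩⟩ := Shriek.exists_rightAdjoint (Omega.bcAlg (R' := k) ψ).toRingHom
  obtain ⟨e⟩ := Omega.nonempty_shriekVia_self_baseChange (R' := k) ψ adj adjk hψ
  haveI : Module.Injective k k := Module.injective_of_isSemisimpleRing k k
  haveI : Injective (ModuleCat.of k k) := Module.injective_object_of_injective_module k k
  exact isDualizing_of_iso e.symm (Dual22Lib.isDualizing_shriekVia (Omega.bcAlg (R' := k) ψ)
    (Shriek.bcPres_surjective ψ hψ) adjk (isDualizing_self 1 inferInstance))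

omit [IsNoetherianRing R] [IsNoetherianRing A] [Algebra R A] in
/-- A shift of the ring that is dualizing gives Gorenstein. -/
theorem gorenstein_of_iso {C : Type u} [CommRing C] [IsLocalRing C] [IsNoetherianRing C] {W : Dual.D C}
    (hW : Dual.IsDualizing C W) (m : ℤ) (e : W ≅ (Dual.inD C C)⟦m⟧) : LocCoh.IsGorensteinLocalRing C := by
  obtain ⟨N, hN⟩ := exists_injDim_of_isDualizing
    (isDualizing_of_iso ((shiftFunctor (Dual.D C) (-m)).mapIso e ≪≫ ((shiftEquiv (Dual.D C) m).unitIso.app _).symm)
      (isDualizing_shift hW (-m)))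
  exact { exists_hasInjectiveDimensionLT := ⟨N, hN⟩ }

omit [IsNoetherianRing R] [IsNoetherianRing A] [Algebra R A] in
/-- The local ring of a fibre, from a chart where the object is a shift of the ring. -/
theorem gorenstein_localization {A B : Type u} [CommRing A] [CommRing B] [IsNoetherianRing B] (α : A →+* B)
    [DRing.HasLBaseChange α] (X : Dual.D A) (hd : Dual.IsDualizing B ((DRing.LBaseChange α).obj X))
    (y : Ideal B) [y.IsPrime] (f : A) (hf : α f ∉ y) [DRing.HasLBaseChange (algebraMap A (Localization.Away f))] (m : ℤ)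
    (e : (DRing.LBaseChange (algebraMap A (Localization.Away f))).obj X ≅
      (Dual.inD (Localization.Away f) (Localization.Away f))⟦m⟧) :
    LocCoh.IsGorensteinLocalRing (Localization.AtPrime y) := by
  haveI : IsNoetherianRing (Localization.AtPrime y) :=
    IsLocalization.isNoetherianRing y.primeCompl (Localization.AtPrime y) inferInstance
  let σ := algebraMap B (Localization.AtPrime y)
  have hu : IsUnit ((σ.comp α) f) := IsLocalization.map_units (Localization.AtPrime y) (⟨α f, hf⟩ : y.primeCompl)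
  let τ : Localization.Away f →+* Localization.AtPrime y := IsLocalization.Away.lift f (g := σ.comp α) hu
  haveI := DCat.hasLBaseChange σ
  haveI := DCat.hasLBaseChange τ
  obtain ⟨_, _⟩ := Dual22Lib.preserves_extendScalars (B := Localization.AtPrime y) y.primeCompl
  have hcomm : τ.comp (algebraMap A (Localization.Away f)) = σ.comp α := IsLocalization.Away.lift_comp f hu
  obtain ⟨sq⟩ := nonempty_square α σ (algebraMap A (Localization.Away f)) τ hcomm X
  obtain ⟨s⟩ := nonempty_shift_self τ m e
  exact gorenstein_of_iso (isDualizing_extD y.primeCompl hd) m (((LBC.extIso σ).app _).symm ≪≫ sq ≪≫ s)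

include hψ adj in
theorem gorenstein_of_invertible [∀ f : A, DRing.HasLBaseChange (algebraMap A (Localization.Away f))]
    (h : ∀ q : PrimeSpectrum A, ∃ (f : A) (_ : f ∉ q.asIdeal) (m : ℤ),
      Nonempty ((DRing.LBaseChange (algebraMap A (Localization.Away f))).obj
        (Dual2.shriekVia n Rψ (Dual.inD R R)) ≅ (Dual.inD (Localization.Away f) (Localization.Away f))⟦m⟧))
    (r : PrimeSpectrum R) : LocCoh.IsGorensteinRing (A ⊗[R] r.asIdeal.ResidueField) := by
  haveI : Algebra.FiniteType R A := Algebra.FiniteType.of_surjective ψ hψ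
  let k := r.asIdeal.ResidueField
  let B := k ⊗[R] A
  haveI : IsNoetherianRing B := Algebra.FiniteType.isNoetherianRing k _
  let α := (Algebra.TensorProduct.includeRight : A →ₐ[R] B).toRingHom
  haveI := DCat.hasLBaseChange α
  haveI : LocCoh.IsGorensteinRing B :=
    { noetherian := (inferInstance : IsNoetherianRing B).noetherian
      isGorensteinLocalRing_localization := fun y _ => by
        obtain ⟨f, hf, m, ⟨e⟩⟩ := h ⟨y.comap α, inferInstance⟩
        exact gorenstein_localization α _ (isDualizing_fibre ψ hψ adj k) y f hf m e }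
  exact SegreDim.gorensteinRing_of_ringEquiv (Algebra.TensorProduct.comm R k A).toRingEquiv

include hψ adj in
theorem invertible_of_gorenstein [∀ f : A, DRing.HasLBaseChange (algebraMap A (Localization.Away f))]
    (h : ∀ r : PrimeSpectrum R, LocCoh.IsGorensteinRing (A ⊗[R] r.asIdeal.ResidueField)) (q : PrimeSpectrum A) :
    ∃ (f : A) (_ : f ∉ q.asIdeal) (m : ℤ),
      Nonempty ((DRing.LBaseChange (algebraMap A (Localization.Away f))).obj
        (Dual2.shriekVia n Rψ (Dual.inD R R)) ≅ (Dual.inD (Localization.Away f) (Localization.Away f))⟦m⟧) := by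
  haveI : Algebra.FiniteType R A := Algebra.FiniteType.of_surjective ψ hψ
  let ω := Dual2.shriekVia n Rψ (Dual.inD R R)
  obtain ⟨⟨a, ha⟩, -⟩ := Dual22Lib.bounded_finite_shriekVia ψ hψ adj (Dual.inD R R) 0 (fun i hi =>
    (DRingLib.isGE_iff_HD (Dual.inD R R) 0).1 inferInstance i hi)
  haveI : ω.IsGE a := (DRingLib.isGE_iff_HD ω a).2 ha
  haveI : ω.IsLE 0 := (DRingLib.isLE_iff_HD ω 0).2 fun i hi => Omega.subsingleton_HD_of_pos ψ hψ adj i hi
  have hfin := fun i => Omega.finite_HD ψ hψ adj i
  obtain ⟨y, hy⟩ := exists_prime_over (R := R) q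
  let r : PrimeSpectrum R := ⟨q.asIdeal.comap (algebraMap R A), inferInstance⟩
  let k := r.asIdeal.ResidueField
  let B := k ⊗[R] A
  haveI : IsNoetherianRing B := Algebra.FiniteType.isNoetherianRing k _
  haveI := h r
  haveI : LocCoh.IsGorensteinRing B :=
    SegreDim.gorensteinRing_of_ringEquiv (Algebra.TensorProduct.comm R A k).toRingEquiv
  let α := (Algebra.TensorProduct.includeRight : A →ₐ[R] B).toRingHom
  haveI := DCat.hasLBaseChange α
  have hd := isDualizing_fibre ψ hψ adj k
  let C := Localization.AtPrime y.asIdeal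
  haveI : IsNoetherianRing C := IsLocalization.isNoetherianRing y.asIdeal.primeCompl C inferInstance
  let σ := algebraMap B C
  obtain ⟨_, _⟩ := Dual22Lib.preserves_extendScalars (B := C) y.asIdeal.primeCompl
  obtain ⟨j, hj, ⟨ej⟩⟩ := (gorenstein_iff hd y).1 (LocCoh.IsGorensteinRing.isGorensteinLocalRing_localization y.asIdeal)
  obtain ⟨eC⟩ : Nonempty ((extD σ).obj ((DRing.LBaseChange α).obj ω) ≅
      ((singleFunctor (ModuleCat.{u} C) 0).obj (ModuleCat.of C C))⟦-j⟧) := by
    refine Dual22Lib.exists_iso_inD _ j (fun i hi => ?_) _ ?_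
    · obtain ⟨eT⟩ := nonempty_HD_tensor y.asIdeal.primeCompl ((DRing.LBaseChange α).obj ω) i
      haveI := subsingleton_tensor_of_notMem y _ (hj i hi)
      exact eT.injective.subsingleton
    · exact (nonempty_HD_tensor y.asIdeal.primeCompl ((DRing.LBaseChange α).obj ω) j).some ≪≫ₗ ej
  let Aq := Localization.AtPrime q.asIdeal
  haveI : IsNoetherianRing Aq := IsLocalization.isNoetherianRing q.asIdeal.primeCompl Aq inferInstance
  obtain ⟨_, _⟩ := Dual22Lib.preserves_extendScalars (B := Aq) q.asIdeal.primeCompl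
  let τ := Localization.localRingHom q.asIdeal y.asIdeal α hy
  haveI := DCat.hasLBaseChange σ
  haveI := DCat.hasLBaseChange τ
  haveI := DCat.hasLBaseChange (algebraMap A Aq)
  have hcomm : τ.comp (algebraMap A Aq) = σ.comp α :=
    RingHom.ext fun x => Localization.localRingHom_to_map q.asIdeal y.asIdeal α hy x
  obtain ⟨sq⟩ := nonempty_square α σ (algebraMap A Aq) τ hcomm ω
  let X := (extD (algebraMap A Aq)).obj ω
  let eX : (DRing.LBaseChange τ).obj X ≅ (Dual.inD C C)⟦-j⟧ :=
    (DRing.LBaseChange τ).mapIso ((LBC.extIso (algebraMap A Aq)).app ω).symm ≪≫ sq.symm ≪≫ (LBC.extIso σ).app _ ≪≫ eC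
  let G := X⟦j⟧
  let eG : (DRing.LBaseChange τ).obj G ≅ Dual.inD C C :=
    (LBC.shiftIso τ j).app X ≪≫ (shiftFunctor (Dual.D C) j).mapIso eX ≪≫
      ((shiftEquiv (Dual.D C) j).counitIso.app (Dual.inD C C))
  have hXfin : ∀ i, Module.Finite Aq (Dual.HD Aq X i) := fun i => by
    haveI := hfin i
    exact finite_HD_extD (B := Aq) ω i
  haveI : X.IsLE 0 := (DRingLib.isLE_iff_HD X 0).2 fun i hi => by
    obtain ⟨eT⟩ := nonempty_HD_tensor q.asIdeal.primeCompl ω i
    haveI := Omega.subsingleton_HD_of_pos ψ hψ adj i hi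
    exact eT.injective.subsingleton
  haveI : G.IsLE (-j) := (ts Aq).isLE_shift X 0 j (-j) (by omega)
  let sI := fun i : ℤ => (((homologyFunctor (ModuleCat.{u} Aq) 0).shiftIso j i (j + i) rfl).app X).toLinearEquiv
  have hGfin : ∀ i, Module.Finite Aq (Dual.HD Aq G i) := fun i =>
    @Module.Finite.equiv _ _ _ _ _ _ _ _ (hXfin (j + i)) (sI i).symm
  obtain ⟨eF⟩ := exists_iso_self_of_lbase τ (surjective_localRingHom r.asIdeal y.asIdeal q.asIdeal hy) G (-j) hGfin eG
  refine exists_away_iso a 0 hfin q j (fun i hi => ?_) ?_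
  · rw [Module.notMem_support_iff]
    obtain ⟨eT⟩ := nonempty_HD_tensor q.asIdeal.primeCompl ω i
    haveI : Subsingleton (Dual.HD Aq G (i - j)) :=
      haveI := hd_single_subsingleton (A := Aq) Aq (i - j) (by omega)
      ((homologyFunctor (ModuleCat.{u} Aq) (i - j)).mapIso eF).toLinearEquiv.injective.subsingleton
    haveI : Subsingleton (Dual.HD Aq X (j + (i - j))) :=
      @Function.Injective.subsingleton _ _ _ (sI (i - j)).symm.injective ‹Subsingleton (Dual.HD Aq G (i - j))›
    have h2 : Subsingleton (Dual.HD Aq X i) := by rwa [show j + (i - j) = i from by omega] at this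
    haveI : Subsingleton (Aq ⊗[A] Dual.HD A ω i) := eT.symm.injective.subsingleton
    exact (LocalizedModule.equivTensorProduct q.asIdeal.primeCompl _).injective.subsingleton
  · exact (nonempty_HD_tensor q.asIdeal.primeCompl ω j).some.symm ≪≫ₗ
      (((homologyFunctor (ModuleCat.{u} Aq) 0).shiftIso j 0 j (add_zero j)).app X).toLinearEquiv.symm ≪≫ₗ
      ((homologyFunctor (ModuleCat.{u} Aq) 0).mapIso eF).toLinearEquiv ≪≫ₗ
      ((singleFunctorCompHomologyFunctorIso (ModuleCat.{u} Aq) 0).app (ModuleCat.of Aq Aq)).toLinearEquiv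

end Main

end Groth.Agent.DualLib.OmegaGor
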