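import Mathlib.AlgebraicGeometry.AffineScheme
import Groth.Agent.DualLib.OmegaGor
import Groth.Agent.Dual22Lib.GorMor
import Groth.Agent.CommAlg6.FibreLocal
import Groth.Agent.EGA43.Separating.FlatFP
import Groth.Agent.DualLib.LBCAdj
import Groth.Agent.DualLib.OmegaRelDual
import Groth.Agent.DualLib.FreeCriterion
import Groth.Agent.Dual22Lib.GorInvertible
import Groth.Agent.SegreDim.GorEquiv

/-! Openness of the Gorenstein locus of a flat morphism locally of finite presentation. -/

set_option autoImplicit false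
set_option backward.isDefEq.respectTransparency false
set_option backward.defeqAttrib.useBackward true
set_option linter.style.haveILetI false

universe u

open CategoryTheory CategoryTheory.Limits DerivedCategory
open scoped TensorProduct

attribute [local instance] HasDerivedCategory.standard

namespace Groth.Agent.DualLib.GorOpen

open Groth.Agent.DualLib.OmegaGor AlgebraicGeometry

section Main

variable {R A : Type u} [CommRing R] [IsNoetherianRing R] [CommRing A] [Algebra R A] [IsNoetherianRing A]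
  [Module.Flat R A] {n : ℕ}
  (ψ : MvPolynomial (Fin n) R →ₐ[R] A) (hψ : Function.Surjective ψ)
  [DRing.HasLBaseChange (algebraMap R (MvPolynomial (Fin n) R))]
  {Rψ : Dual.D (MvPolynomial (Fin n) R) ⥤ Dual.D A} (adj : DRing.restrictD ψ.toRingHom ⊣ Rψ)

include hψ adj in
theorem invertible_of_gorenstein_at [∀ f : A, DRing.HasLBaseChange (algebraMap A (Localization.Away f))]
    (q : PrimeSpectrum A) (y : PrimeSpectrum ((q.asIdeal.comap (algebraMap R A)).ResidueField ⊗[R] A))
    (hy : q.asIdeal = y.asIdeal.comap (Algebra.TensorProduct.includeRight :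
      A →ₐ[R] (q.asIdeal.comap (algebraMap R A)).ResidueField ⊗[R] A).toRingHom)
    (h : LocCoh.IsGorensteinLocalRing (Localization.AtPrime y.asIdeal)) :
    ∃ (f : A) (_ : f ∉ q.asIdeal) (m : ℤ),
      Nonempty ((DRing.LBaseChange (algebraMap A (Localization.Away f))).obj
        (Dual2.shriekVia n Rψ (Dual.inD R R)) ≅ (Dual.inD (Localization.Away f) (Localization.Away f))⟦m⟧) := by
  haveI : Algebra.FiniteType R A := Algebra.FiniteType.of_surjective ψ hψ
  let ω := Dual2.shriekVia n Rψ (Dual.inD R R)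
  obtain ⟨⟨a, ha⟩, -⟩ := Dual22Lib.bounded_finite_shriekVia ψ hψ adj (Dual.inD R R) 0 (fun i hi =>
    (DRingLib.isGE_iff_HD (Dual.inD R R) 0).1 inferInstance i hi)
  haveI : ω.IsGE a := (DRingLib.isGE_iff_HD ω a).2 ha
  haveI : ω.IsLE 0 := (DRingLib.isLE_iff_HD ω 0).2 fun i hi => Omega.subsingleton_HD_of_pos ψ hψ adj i hi
  have hfin := fun i => Omega.finite_HD ψ hψ adj i
  let r : PrimeSpectrum R := ⟨q.asIdeal.comap (algebraMap R A), inferInstance⟩
  let k := r.asIdeal.ResidueField
  let B := k ⊗[R] A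
  haveI : IsNoetherianRing B := Algebra.FiniteType.isNoetherianRing k _
  let α := (Algebra.TensorProduct.includeRight : A →ₐ[R] B).toRingHom
  haveI := DCat.hasLBaseChange α
  have hd := isDualizing_fibre ψ hψ adj k
  let C := Localization.AtPrime y.asIdeal
  haveI : IsNoetherianRing C := IsLocalization.isNoetherianRing y.asIdeal.primeCompl C inferInstance
  let σ := algebraMap B C
  obtain ⟨_, _⟩ := Dual22Lib.preserves_extendScalars (B := C) y.asIdeal.primeCompl
  obtain ⟨j, hj, ⟨ej⟩⟩ := (gorenstein_iff hd y).1 h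
  obtain ⟨eC⟩ : Nonempty ((extD σ).obj ((DRing.LBaseChange α).obj ω) ≅
      ((singleFunctor (ModuleCat.{u} C) 0).obj (ModuleCat.of C C))⟦-j⟧) := by
    refine Dual22Lib.exists_iso_inD _ j (fun i hi => ?_) _ ?_
    · obtain ⟨eT⟩ := nonempty_HD_tensor y.asIdeal.primeCompl ((DRing.LBaseChange α).obj ω) i
      haveI := subsingleton_tensor_of_notMem y _ (hj i hi)
      exact eT.injective.subsingleton
    · exact (nonempty_HD_tensor y.asIdeal.primeCompl ((DRing.LBaseChange α).obj ω) j).some ≪≫ₗ ej
  let Aq := Localization.AtPrime q.asIdeal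
  haveI : IsNoetherianRing Aq := IsLocalization.isNoetherianRing q.asIdeal.primeCompl Aq inferInstance
  obtain ⟨_, _⟩ := Dual22Lib.preserves_extendScalars (B := Aq) q.asIdeal.primeCompl
  let τ := Localization.localRingHom q.asIdeal y.asIdeal α hy
  haveI := DCat.hasLBaseChange σ
  haveI := DCat.hasLBaseChange τ
  haveI := DCat.hasLBaseChange (algebraMap A Aq)
  have hcomm : τ.comp (algebraMap A Aq) = σ.comp α :=
    RingHom.ext fun x => Localization.localRingHom_to_map q.asIdeal y.asIdeal α hy x
  obtain ⟨sq⟩ := nonempty_square α σ (algebraMap A Aq) τ hcomm ω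
  let X := (extD (algebraMap A Aq)).obj ω
  let eX : (DRing.LBaseChange τ).obj X ≅ (Dual.inD C C)⟦-j⟧ :=
    (DRing.LBaseChange τ).mapIso ((LBC.extIso (algebraMap A Aq)).app ω).symm ≪≫ sq.symm ≪≫ (LBC.extIso σ).app _ ≪≫ eC
  let G := X⟦j⟧
  let eG : (DRing.LBaseChange τ).obj G ≅ Dual.inD C C :=
    (LBC.shiftIso τ j).app X ≪≫ (shiftFunctor (Dual.D C) j).mapIso eX ≪≫
      ((shiftEquiv (Dual.D C) j).counitIso.app (Dual.inD C C))
  have hXfin : ∀ i, Module.Finite Aq (Dual.HD Aq X i) := fun i => by
    haveI := hfin i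
    exact finite_HD_extD (B := Aq) ω i
  haveI : X.IsLE 0 := (DRingLib.isLE_iff_HD X 0).2 fun i hi => by
    obtain ⟨eT⟩ := nonempty_HD_tensor q.asIdeal.primeCompl ω i
    haveI := Omega.subsingleton_HD_of_pos ψ hψ adj i hi
    exact eT.injective.subsingleton
  haveI : G.IsLE (-j) := (ts Aq).isLE_shift X 0 j (-j) (by omega)
  let sI := fun i : ℤ => (((homologyFunctor (ModuleCat.{u} Aq) 0).shiftIso j i (j + i) rfl).app X).toLinearEquiv
  have hGfin : ∀ i, Module.Finite Aq (Dual.HD Aq G i) := fun i =>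
    @Module.Finite.equiv _ _ _ _ _ _ _ _ (hXfin (j + i)) (sI i).symm
  obtain ⟨eF⟩ := exists_iso_self_of_lbase τ (surjective_localRingHom r.asIdeal y.asIdeal q.asIdeal hy) G (-j) hGfin eG
  refine exists_away_iso a 0 hfin q j (fun i hi => ?_) ?_
  · rw [Module.notMem_support_iff]
    obtain ⟨eT⟩ := nonempty_HD_tensor q.asIdeal.primeCompl ω i
    haveI : Subsingleton (Dual.HD Aq G (i - j)) :=
      haveI := hd_single_subsingleton (A := Aq) Aq (i - j) (by omega)
      ((homologyFunctor (ModuleCat.{u} Aq) (i - j)).mapIso eF).toLinearEquiv.injective.subsingleton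
    haveI : Subsingleton (Dual.HD Aq X (j + (i - j))) :=
      @Function.Injective.subsingleton _ _ _ (sI (i - j)).symm.injective ‹Subsingleton (Dual.HD Aq G (i - j))›
    have h2 : Subsingleton (Dual.HD Aq X i) := by rwa [show j + (i - j) = i from by omega] at this
    haveI : Subsingleton (Aq ⊗[A] Dual.HD A ω i) := eT.symm.injective.subsingleton
    exact (LocalizedModule.equivTensorProduct q.asIdeal.primeCompl _).injective.subsingleton
  · exact (nonempty_HD_tensor q.asIdeal.primeCompl ω j).some.symm ≪≫ₗ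
      (((homologyFunctor (ModuleCat.{u} Aq) 0).shiftIso j 0 j (add_zero j)).app X).toLinearEquiv.symm ≪≫ₗ
      ((homologyFunctor (ModuleCat.{u} Aq) 0).mapIso eF).toLinearEquiv ≪≫ₗ
      ((singleFunctorCompHomologyFunctorIso (ModuleCat.{u} Aq) 0).app (ModuleCat.of Aq Aq)).toLinearEquiv

end Main

section Affine

variable (R A : Type u) [CommRing R] [CommRing A] [Algebra R A]

/-- Gorenstein points of an affine morphism. -/
theorem gorAt_spec_iff [Module.Flat R A] (q : PrimeSpectrum A) :
    Dual3.IsGorensteinAt (Spec.map (CommRingCat.ofHom (algebraMap R A))) q ↔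
      LocCoh.IsGorensteinLocalRing (EGA4.FibLocRing R A q.asIdeal) := by
  haveI : Flat (Spec.map (CommRingCat.ofHom (algebraMap R A))) :=
    (Flat.SpecMap_iff).2 (RingHom.flat_algebraMap_iff.2 ‹_›)
  rw [AlgSpLib.gorAt_iff_gorHom]
  refine (and_iff_right (Flat.stalkMap (Spec.map (CommRingCat.ofHom (algebraMap R A))) q)).trans ?_
  let e := Scheme.arrowStalkMapSpecIso (CommRingCat.ofHom (algebraMap R A)) q
  let F := ((Spec.map (CommRingCat.ofHom (algebraMap R A))).stalkMap q).hom
  let p := q.asIdeal.comap (algebraMap R A)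
  let l := Localization.localRingHom p q.asIdeal (algebraMap R A) rfl
  let σ : ((Spec (CommRingCat.of R)).presheaf.stalk ((Spec.map (CommRingCat.ofHom (algebraMap R A))) q)) ≃+*
      Localization.AtPrime p := (Arrow.leftFunc.mapIso e).commRingCatIsoToRingEquiv
  let τ : ((Spec (CommRingCat.of A)).presheaf.stalk q) ≃+* Localization.AtPrime q.asIdeal :=
    (Arrow.rightFunc.mapIso e).commRingCatIsoToRingEquiv
  have w : τ.toRingHom.comp F = l.comp σ.toRingHom := (congrArg CommRingCat.Hom.hom (Arrow.w e.hom)).symm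
  refine DualLib.GorFlat.gor_congr (Ideal.quotientEquiv _ _ τ ?_)
  show p.map (algebraMap R (Localization.AtPrime q.asIdeal)) = Ideal.map τ.toRingHom (Ideal.map F _)
  rw [Ideal.map_map, w, ← Ideal.map_map]
  have hσ : (IsLocalRing.maximalIdeal _).map σ.toRingHom = IsLocalRing.maximalIdeal (Localization.AtPrime p) :=
    IsLocalRing.map_maximalIdeal_of_surjective σ.toRingHom σ.surjective
  rw [hσ, ← Localization.AtPrime.map_eq_maximalIdeal, Ideal.map_map]
  congr 1
  refine RingHom.ext fun r => ?_
  show _ = l (algebraMap R (Localization.AtPrime p) r)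
  rw [Localization.localRingHom_to_map, ← IsScalarTower.algebraMap_apply]

/-- The Gorenstein locus over a Noetherian base is open. -/
theorem isOpen_noetherian [IsNoetherianRing R] [Algebra.FiniteType R A] [Module.Flat R A] :
    IsOpen {q : PrimeSpectrum A | Dual3.IsGorensteinAt (Spec.map (CommRingCat.ofHom (algebraMap R A))) q} := by
  haveI : IsNoetherianRing A := Algebra.FiniteType.isNoetherianRing R A
  obtain ⟨n, ψ, hψ⟩ := Algebra.FiniteType.iff_quotient_mvPolynomial''.1 (inferInstance : Algebra.FiniteType R A)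
  haveI := DCat.hasLBaseChange (algebraMap R (MvPolynomial (Fin n) R))
  haveI : ∀ f : A, DRing.HasLBaseChange (algebraMap A (Localization.Away f)) := fun f => DCat.hasLBaseChange _
  obtain ⟨Rψ, ⟨adj⟩⟩ := Shriek.exists_rightAdjoint ψ.toRingHom
  rw [isOpen_iff_forall_mem_open]
  intro q hq
  have hmem : ∀ (q : PrimeSpectrum A) (y : PrimeSpectrum ((q.asIdeal.comap (algebraMap R A)).ResidueField ⊗[R] A)),
      (q.asIdeal = y.asIdeal.comap (Algebra.TensorProduct.includeRight :
        A →ₐ[R] (q.asIdeal.comap (algebraMap R A)).ResidueField ⊗[R] A).toRingHom) →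
      (Dual3.IsGorensteinAt (Spec.map (CommRingCat.ofHom (algebraMap R A))) q ↔
        LocCoh.IsGorensteinLocalRing (Localization.AtPrime y.asIdeal)) := fun q y hy => by
    have key : ∀ (Q : Ideal A) [Q.IsPrime], Q = q.asIdeal →
        (LocCoh.IsGorensteinLocalRing (EGA4.FibLocRing R A Q) ↔
          LocCoh.IsGorensteinLocalRing (EGA4.FibLocRing R A q.asIdeal)) := by
      rintro Q _ rfl
      exact Iff.rfl
    obtain ⟨-, ⟨e⟩⟩ := CommAlg6.fiber_localization_equiv (A := R) (B := A) (q.asIdeal.comap (algebraMap R A)) y.asIdeal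
    rw [gorAt_spec_iff R A q, ← key _ hy.symm]
    exact (DualLib.GorFlat.gor_congr e).symm
  obtain ⟨y, hy⟩ := exists_prime_over (R := R) q
  obtain ⟨f, hf, m, ⟨e⟩⟩ := invertible_of_gorenstein_at ψ hψ adj q y hy ((hmem q y hy).1 hq)
  refine ⟨PrimeSpectrum.basicOpen f, fun q' hq' => ?_, (PrimeSpectrum.basicOpen f).2, hf⟩
  obtain ⟨y', hy'⟩ := exists_prime_over (R := R) q'
  let k := (q'.asIdeal.comap (algebraMap R A)).ResidueField
  haveI : IsNoetherianRing (k ⊗[R] A) := Algebra.FiniteType.isNoetherianRing k _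
  let α := (Algebra.TensorProduct.includeRight : A →ₐ[R] k ⊗[R] A).toRingHom
  haveI := DCat.hasLBaseChange α
  have hf' : α f ∉ y'.asIdeal := fun h => hq' (by rw [hy']; exact h)
  exact (hmem q' y' hy').2 (gorenstein_localization α _ (isDualizing_fibre ψ hψ adj k) y'.asIdeal f hf' m e)

/-- The Gorenstein locus of a flat algebra of finite presentation is open. -/
theorem isOpen_affine [Algebra.FinitePresentation R A] [Module.Flat R A] :
    IsOpen {q : PrimeSpectrum A | Dual3.IsGorensteinAt (Spec.map (CommRingCat.ofHom (algebraMap R A))) q} := by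
  obtain ⟨R₀, _, _, _, A₀, _, _, _, _, ⟨e⟩⟩ := EGA43.Separating.exists_flat_fp_model R A
  let φ : A₀ →+* A := e.toRingEquiv.toRingHom.comp
    (Algebra.TensorProduct.includeRight : A₀ →ₐ[R₀] R ⊗[R₀] A₀).toRingHom
  let f := Spec.map (CommRingCat.ofHom (algebraMap R₀ A₀))
  let g := Spec.map (CommRingCat.ofHom (algebraMap R₀ R))
  let f' := Spec.map (CommRingCat.ofHom (algebraMap R A))
  let g' := Spec.map (CommRingCat.ofHom φ)
  have hsq : IsPullback g' f' f g := by
    let E : CommRingCat.of (R ⊗[R₀] A₀) ≅ CommRingCat.of A := e.toRingEquiv.toCommRingCatIso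
    have h := (isPullback_SpecMap_of_isPushout _ _ _ _
      (CommRingCat.isPushout_tensorProduct R₀ R A₀).flip)
    refine h.of_iso (Scheme.Spec.mapIso E.symm.op) (Iso.refl _) (Iso.refl _) (Iso.refl _) ?_ ?_ (by simp [f]) (by simp [g])
    · simp only [Iso.refl_hom, Category.comp_id]
      show _ = Spec.map E.inv ≫ Spec.map _
      rw [← Spec.map_comp]
      congr 1
      ext x
      show (Algebra.TensorProduct.includeRight : A₀ →ₐ[R₀] R ⊗[R₀] A₀) x = e.symm (φ x)
      exact (e.symm_apply_apply _).symm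
    · simp only [Iso.refl_hom, Category.comp_id]
      show _ = Spec.map E.inv ≫ Spec.map _
      rw [← Spec.map_comp]
      congr 1
      ext r
      show _ = e.symm (algebraMap R A r)
      rw [AlgEquiv.commutes]
      rfl
  haveI : LocallyOfFiniteType f :=
    (HasRingHomProperty.Spec_iff (P := @LocallyOfFiniteType)).2 (RingHom.finiteType_algebraMap.2 inferInstance)
  have hfl : ∀ x, (f.stalkMap x).hom.Flat := fun x => by
    haveI : Flat f := (Flat.SpecMap_iff).2 (RingHom.flat_algebraMap_iff.2 ‹_›)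
    exact Flat.stalkMap f x
  have key : ∀ x' : PrimeSpectrum A, Dual3.IsGorensteinAt f' x' ↔ Dual3.IsGorensteinAt f (g' x') := fun x' => by
    obtain ⟨h1, h2, -⟩ := Dual22Lib.GorMor.baseChange_triple f g f' g' hsq x'
      (fun w => Dual22Lib.GorMor.gor_fibre_baseChange_iff_of_lft f g w)
    exact ⟨h2 (hfl _), h1⟩
  have hopen := (isOpen_noetherian R₀ A₀).preimage g'.continuous
  have hset : {q : PrimeSpectrum A | Dual3.IsGorensteinAt f' q} = g' ⁻¹' {q | Dual3.IsGorensteinAt f q} :=
    Set.ext key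
  rw [hset]
  exact hopen

end Affine

end Groth.Agent.DualLib.GorOpen
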