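import Groth.Agent.DualLib.ShriekAmp

/-! `ω_{A/R}` for flat `R → A`: tor amplitude `[-d, 0]`. -/

set_option autoImplicit false
set_option backward.isDefEq.respectTransparency false
set_option backward.defeqAttrib.useBackward true
set_option linter.style.haveILetI false

universe u

open CategoryTheory CategoryTheory.Limits CochainComplex CochainComplex.HomComplex MonoidalCategory
open scoped TensorProduct

attribute [local instance] HasDerivedCategory.standard

namespace Groth.Agent.DualLib.Shriek

open Groth.Agent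

section Theta

variable {R P : Type u} [CommRing R] [CommRing P] [Algebra R P] (F : DRing.Cx P)

/-- The single complex. -/
noncomputable abbrev sgl (N : Type u) [AddCommGroup N] [Module P N] : DRing.Cx P :=
  (singleFunctor (ModuleCat.{u} P) 0).obj (ModuleCat.of P N)

/-- The dual complex, restricted to the base. -/
noncomputable abbrev dualR : DRing.Cx R :=
  (DRing.restrictCx (algebraMap R P)).obj (DRing.homCx F (sgl (P := P) P))

/-- Cochains into a single complex as linear maps. -/
noncomputable def evSgl (N : Type u) [AddCommGroup N] [Module P N] (p i : ℤ) (h : p + i = 0) :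
    Cochain F (sgl N) i ≃ₗ[P] (F.X p →ₗ[P] N) where
  toFun z := (Cochain.toSingleEquiv h z).hom
  invFun f := (Cochain.toSingleEquiv h).symm (ModuleCat.ofHom f)
  left_inv z := (Cochain.toSingleEquiv h).symm_apply_apply z
  right_inv f := by
    show (Cochain.toSingleEquiv h ((Cochain.toSingleEquiv h).symm (ModuleCat.ofHom f))).hom = f
    rw [AddEquiv.apply_symm_apply]; rfl
  map_add' z w := by rw [map_add]; rfl
  map_smul' a z := by
    show ((a • z).v p 0 h ≫ _).hom = a • _
    rw [Cochain.smul_v, Linear.smul_comp]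
    rfl

variable (M : ModuleCat.{u} R)

/-- `x ↦ x ⊗ m`. -/
noncomputable def iot (m : M) : sgl (P := P) P ⟶ sgl (P := P) (P ⊗[R] M) :=
  (singleFunctor (ModuleCat.{u} P) 0).map (ModuleCat.ofHom ((TensorProduct.AlgebraTensorModule.mk R P P M).flip m))

lemma evSgl_postcomp {N N' : Type u} [AddCommGroup N] [Module P N] [AddCommGroup N'] [Module P N'] (f : N →ₗ[P] N')
    (p i : ℤ) (h : p + i = 0) (z : Cochain F (sgl N) i) :
    evSgl F N' p i h (z.comp (Cochain.ofHom ((singleFunctor (ModuleCat.{u} P) 0).map (ModuleCat.ofHom f))) (add_zero i)) =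
      f ∘ₗ evSgl F N p i h z := by
  show ((z.comp (Cochain.ofHom ((singleFunctor (ModuleCat.{u} P) 0).map (ModuleCat.ofHom f))) (add_zero i)).v p 0 h ≫
      (HomologicalComplex.singleObjXSelf (ComplexShape.up ℤ) 0 (ModuleCat.of P N')).hom).hom =
    f ∘ₗ (z.v p 0 h ≫ (HomologicalComplex.singleObjXSelf (ComplexShape.up ℤ) 0 (ModuleCat.of P N)).hom).hom
  rw [Cochain.comp_zero_cochain_v, Cochain.ofHom_v, Category.assoc,
    ← ModuleCat.hom_ofHom f, ← ModuleCat.hom_comp, Category.assoc]
  congr 2

/-- The evaluation in a degree. -/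
noncomputable def thetaLin (i : ℤ) :
    ((dualR (R := R) F).X i) ⊗[R] M →ₗ[R]
      ((DRing.restrictCx (algebraMap R P)).obj (DRing.homCx F (sgl (P := P) (P ⊗[R] M)))).X i :=
  TensorProduct.lift (LinearMap.mk₂ R
    (fun (z : Cochain F (sgl (P := P) P) i) (m : M) => (z.comp (Cochain.ofHom (iot M m)) (add_zero i) : Cochain F (sgl (P := P) (P ⊗[R] M)) i))
    (fun z w m => Cochain.add_comp _ _ _ _)
    (fun r z m => Cochain.smul_comp _ _ _ _)
    (fun z m m' => by
      show z.comp (Cochain.ofHom (iot M (m + m'))) (add_zero i) = _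
      rw [show iot (P := P) M (m + m') = iot M m + iot M m' by
        rw [iot, map_add]; exact Functor.map_add (singleFunctor (ModuleCat.{u} P) 0), Cochain.ofHom_add, Cochain.comp_add])
    (fun r z m => by
      show z.comp (Cochain.ofHom (iot M (r • m))) (add_zero i) = algebraMap R P r • z.comp (Cochain.ofHom (iot M m)) (add_zero i)
      rw [show iot (P := P) M (r • m) = algebraMap R P r • iot M m by
        rw [iot, iot, ← Functor.map_smul]
        refine congrArg _ (ModuleCat.hom_ext (LinearMap.ext fun x => ?_))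
        show x ⊗ₜ[R] (r • m) = algebraMap R P r • (x ⊗ₜ[R] m)
        rw [algebraMap_smul, TensorProduct.tmul_smul]]
      rw [← Cochain.comp_smul]
      congr 1
      ext
      simp))

/-- The evaluation map. -/
noncomputable def theta : DRing.tensorCx (dualR (R := R) F) M ⟶
    (DRing.restrictCx (algebraMap R P)).obj (DRing.homCx F (sgl (P := P) (P ⊗[R] M))) where
  f i := (ConcreteCategory.ofHom (C := ModuleCat.{u} R) (thetaLin F M i) :
    (DRing.tensorCx (dualR (R := R) F) M).X i ⟶
      ((DRing.restrictCx (algebraMap R P)).obj (DRing.homCx F (sgl (P := P) (P ⊗[R] M)))).X i)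
  comm' i j _ := by
    refine ModuleCat.hom_ext (TensorProduct.ext' fun (z : Cochain F (sgl (P := P) P) i) (m : M) => ?_)
    exact δ_comp_ofHom z (iot M m) j

lemma thetaLin_bijective (i : ℤ) [Module.Finite P (F.X (-i))] [Module.Projective P (F.X (-i))] :
    Function.Bijective (thetaLin (R := R) F M i) := by
  let Q : Type u := F.X (-i)
  let e := TensorProduct.AlgebraTensorModule.cancelBaseChange R P P (Q →ₗ[P] P) M
  let eL : ((dualR (R := R) F).X i) ≃ₗ[R] (Q →ₗ[P] P) :=
    { (evSgl F P (-i) i (by omega)).toAddEquiv with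
      map_smul' := fun r z => by
        show evSgl F P (-i) i (by omega) (algebraMap R P r • (show Cochain F (sgl (P := P) P) i from z)) = r • _
        rw [map_smul, algebraMap_smul]
        rfl }
  have key : ∀ x, evSgl F (P ⊗[R] M) (-i) i (by omega) (thetaLin F M i x) =
      dualTensorHom P Q (P ⊗[R] M) (e.symm (TensorProduct.congr eL (LinearEquiv.refl R M) x)) := by
    intro x
    induction x using TensorProduct.induction_on with
    | zero => simp only [map_zero]
    | tmul z m =>
      simp only [thetaLin, TensorProduct.lift.tmul, LinearMap.mk₂_apply, TensorProduct.congr_tmul,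
        LinearEquiv.refl_apply, e, TensorProduct.AlgebraTensorModule.cancelBaseChange_symm_tmul]
      refine (evSgl_postcomp F _ (-i) i (by omega) z).trans ?_
      refine LinearMap.ext fun q => ?_
      rw [dualTensorHom_apply]
      show (eL z q) ⊗ₜ[R] m = (eL z q) • ((1 : P) ⊗ₜ[R] m)
      rw [TensorProduct.smul_tmul', smul_eq_mul, mul_one]
    | add x y hx hy =>
      simp only [map_add]
      rw [← hx, ← hy]
  have hb : Function.Bijective fun x => evSgl F (P ⊗[R] M) (-i) i (by omega) (thetaLin F M i x) := by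
    simp only [key]
    exact (dualTensorHom_bijective (R := P) (M := Q)).comp
      (e.symm.bijective.comp (TensorProduct.congr eL (LinearEquiv.refl R M)).bijective)
  exact (Function.Bijective.of_comp_iff' (evSgl F (P ⊗[R] M) (-i) i (by omega)).bijective _).1 hb

lemma flat_dualR [Module.Flat R P] (i : ℤ) [Module.Finite P (F.X (-i))] [Module.Projective P (F.X (-i))] :
    Module.Flat R ((dualR (R := R) F).X i) := by
  let Q : Type u := F.X (-i)
  haveI : Module.Flat R (Q →ₗ[P] P) := Module.Flat.trans R P (Q →ₗ[P] P)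
  let eL : ((dualR (R := R) F).X i) ≃ₗ[R] (Q →ₗ[P] P) :=
    { (evSgl F P (-i) i (by omega)).toAddEquiv with
      map_smul' := fun r z => by
        show evSgl F P (-i) i (by omega) (algebraMap R P r • (show Cochain F (sgl (P := P) P) i from z)) = r • _
        rw [map_smul, algebraMap_smul]
        rfl }
  exact Module.Flat.of_linearEquiv eL

lemma isZero_dualR {n : ℕ} (hF : DRing.VanishesOutside F (-(n : ℤ)) 0) (i : ℤ) (hi : i < 0 ∨ (n : ℤ) < i) :
    IsZero ((dualR (R := R) F).X i) := by
  refine (ModuleCat.restrictScalars (algebraMap R P)).map_isZero ?_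
  haveI : Subsingleton (F.X (-i) →ₗ[P] P) := by
    haveI := ModuleCat.subsingleton_of_isZero (hF (-i) (by omega))
    infer_instance
  haveI : Subsingleton (Cochain F (sgl (P := P) P) i) := (evSgl F P (-i) i (by omega)).injective.subsingleton
  exact ModuleCat.isZero_of_subsingleton (ModuleCat.of P (Cochain F (sgl (P := P) P) i))

/-- Exactness of `Hom(F, P) ⊗_R -` in a degree from the finite modules. -/
theorem exactAt_dualR_tensor [Module.Flat R P] (hF : DRing.TermwiseFiniteProjective F) (i : ℤ)
    (h : ∀ (N : Type u) [AddCommGroup N] [Module R N] [Module.Finite R N],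
      (DRing.homCx F (sgl (P := P) (P ⊗[R] N))).ExactAt i) :
    (DRing.tensorCx (dualR (R := R) F) M).ExactAt i := by
  have hiso : ∀ (N : ModuleCat.{u} R) (j : ℤ), IsIso ((theta F N).f j) := fun N j => by
    haveI := (hF (-j)).1
    haveI := (hF (-j)).2
    exact (ConcreteCategory.isIso_iff_bijective _).2 (thetaLin_bijective F N j)
  have hfin : ∀ (N : Submodule R M), N.FG → (DRing.tensorCx (dualR (R := R) F) (ModuleCat.of R N)).ExactAt i :=
    fun N hN => by
    haveI : Module.Finite R N := Module.Finite.iff_fg.2 hN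
    haveI := hiso (ModuleCat.of R N)
    haveI : IsIso (theta F (ModuleCat.of R N)) := HomologicalComplex.Hom.isIso_of_components _
    refine HomologicalComplex.ExactAt.of_iso ?_ (asIso (theta F (ModuleCat.of R N))).symm
    rw [HomologicalComplex.exactAt_iff]
    exact ((HomologicalComplex.exactAt_iff _ _).1 (h N)).map (ModuleCat.restrictScalars (algebraMap R P))
  let G := dualR (R := R) F
  rw [HomologicalComplex.exactAt_iff' _ (i - 1) i (i + 1) (by simp) (by simp), ShortComplex.moduleCat_exact_iff]
  intro (z : G.X i ⊗[R] M) (hz : (G.d i (i + 1)).hom.rTensor M z = 0)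
  obtain ⟨N, hN, hz'⟩ := TensorProduct.exists_finite_submodule_right_of_setFinite {z} (Set.finite_singleton z)
  obtain ⟨w, hw⟩ := hz' (Set.mem_singleton z)
  haveI := (hF (-(i + 1))).1
  haveI := (hF (-(i + 1))).2
  haveI := flat_dualR (R := R) F (i + 1)
  have hinj : Function.Injective (N.subtype.lTensor (G.X (i + 1))) :=
    Module.Flat.lTensor_preserves_injective_linearMap _ N.injective_subtype
  have hw0 : (G.d i (i + 1)).hom.rTensor N w = 0 := by
    apply hinj
    rw [map_zero, ← LinearMap.comp_apply, LinearMap.lTensor_comp_rTensor, ← LinearMap.rTensor_comp_lTensor,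
      LinearMap.comp_apply, hw]
    exact hz
  have h1 := hfin N (Module.Finite.iff_fg.1 hN)
  rw [HomologicalComplex.exactAt_iff' _ (i - 1) i (i + 1) (by simp) (by simp), ShortComplex.moduleCat_exact_iff] at h1
  obtain ⟨y, hy⟩ := h1 w hw0
  refine ⟨N.subtype.lTensor (G.X (i - 1)) y, ?_⟩
  show (G.d (i - 1) i).hom.rTensor M (N.subtype.lTensor (G.X (i - 1)) y) = z
  rw [← LinearMap.comp_apply, LinearMap.rTensor_comp_lTensor, ← LinearMap.lTensor_comp_rTensor,
    LinearMap.comp_apply, ← hw]
  exact congrArg _ hy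

end Theta

section Main

/-- Global dimension of polynomial rings over fields, through an isomorphism. -/
theorem pdLE_of_ringEquiv (k : Type u) [Field k] {C : Type u} [CommRing C] {n : ℕ}
    (e : C ≃+* MvPolynomial (Fin n) k) (N : Type u) [AddCommGroup N] [Module C N] : CommAlg6.PdLE C N n := by
  letI : Module (MvPolynomial (Fin n) k) N := Module.compHom N e.symm.toRingHom
  letI : Module k N := Module.compHom N (algebraMap k (MvPolynomial (Fin n) k))
  haveI : IsScalarTower k (MvPolynomial (Fin n) k) N := IsScalarTower.of_algebraMap_smul fun _ _ => rfl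
  haveI : HasProjectiveDimensionLE (ModuleCat.of (MvPolynomial (Fin n) k) N) n := CAlgH3.PdPolynomial.pdLE_mvPolynomial k n N
  haveI := RingHomInvPair.of_ringEquiv e.symm
  haveI := RingHomInvPair.symm (RingHomClass.toRingHom e.symm) (RingHomClass.toRingHom e.symm.symm)
  let σ : ModuleCat.of (MvPolynomial (Fin n) k) N ≃ₛₗ[RingHomClass.toRingHom e.symm] ModuleCat.of C N :=
    { toFun := fun x => x
      invFun := fun x => x
      left_inv := fun _ => rfl
      right_inv := fun _ => rfl
      map_add' := fun _ _ => rfl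
      map_smul' := fun _ _ => rfl }
  exact ModuleCat.hasProjectiveDimensionLE_of_semiLinearEquiv (M := ModuleCat.of (MvPolynomial (Fin n) k) N)
    (N := ModuleCat.of C N) (e := e.symm) σ n

variable {R A : Type u} [CommRing R] [IsNoetherianRing R] [CommRing A] [Algebra R A] [Module.Flat R A] {n : ℕ}
  (ψ : MvPolynomial (Fin n) R →ₐ[R] A) (hψ : Function.Surjective ψ)
  [DRing.HasLBaseChange (algebraMap R (MvPolynomial (Fin n) R))]
  {Rψ : Dual.D (MvPolynomial (Fin n) R) ⥤ Dual.D A} (adj : DRing.restrictD ψ.toRingHom ⊣ Rψ)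

omit [DRing.HasLBaseChange (algebraMap R (MvPolynomial (Fin n) R))] in
include hψ in
/-- `A` has projective dimension `≤ n` over the polynomial ring. -/
theorem pdLE_restrict :
    CommAlg6.PdLE (MvPolynomial (Fin n) R) ((ModuleCat.restrictScalars ψ.toRingHom).obj (ModuleCat.of A A)) n := by
  let P := MvPolynomial (Fin n) R
  letI : Algebra P A := ψ.toRingHom.toAlgebra
  haveI : IsScalarTower R P A := IsScalarTower.of_algHom ψ
  show CommAlg6.PdLE P A n
  haveI : Module.Finite P A := Module.Finite.of_surjective (Algebra.linearMap P A) hψ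
  haveI : Module.FinitePresentation P A := Module.finitePresentation_of_finite P A
  refine EGA43.PdFlat.pdLE_of_fibres (A := R) (B := P) n fun p => ?_
  exact pdLE_of_ringEquiv p.asIdeal.ResidueField ((Algebra.TensorProduct.comm R P p.asIdeal.ResidueField).toRingEquiv.trans
    (MvPolynomial.algebraTensorAlgEquiv R p.asIdeal.ResidueField (σ := Fin n)).toRingEquiv) _

include hψ adj in
/-- The upper bound on the degrees. -/
theorem le_zero_of_nontrivial (q : Ideal A) [q.IsPrime] (i : ℤ)
    (h : Nontrivial (LocalizedModule q.primeCompl (Dual.HD A (Dual2.shriekVia n Rψ (Dual.inD R R)) i))) : i ≤ 0 := by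
  by_contra hi
  rw [nontrivial_localized_iff ψ hψ adj q i] at h
  let P := MvPolynomial (Fin n) R
  letI : Algebra P A := ψ.toRingHom.toAlgebra
  let e : (P ⧸ RingHom.ker ψ.toRingHom) ≃ₗ[P] (ModuleCat.restrictScalars ψ.toRingHom).obj (ModuleCat.of A A) :=
    (Ideal.quotientKerAlgEquivOfSurjective (f := Algebra.ofId P A) hψ).toLinearEquiv
  have hpd : HasProjectiveDimensionLE (ModuleCat.of P (P ⧸ RingHom.ker ψ.toRingHom)) n :=
    (CommAlg6.pdLE_congr e n).2 (pdLE_restrict ψ hψ)
  obtain ⟨j, hj⟩ : ∃ j : ℕ, (n : ℤ) + i = j := ⟨((n : ℤ) + i).toNat, by omega⟩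
  rw [hj] at h
  haveI : Subsingleton (Abelian.Ext (ModuleCat.of P (P ⧸ RingHom.ker ψ.toRingHom)) (ModuleCat.of P P) j) :=
    HasProjectiveDimensionLT.subsingleton _ (n + 1) j (by omega) _
  haveI : Subsingleton (E (Dual.inD P P) (P ⧸ RingHom.ker ψ.toRingHom) (j : ℤ)) :=
    (Abelian.Ext.homEquiv (X := ModuleCat.of P (P ⧸ RingHom.ker ψ.toRingHom)) (Y := ModuleCat.of P P) (n := j)).symm.injective.subsingleton
  refine not_subsingleton_iff_nontrivial.2 h ?_
  rw [LocalizedModule.subsingleton_iff]
  exact fun θ => ⟨1, one_mem _, Subsingleton.elim _ _⟩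

include hψ adj in
/-- Tor amplitude over the base. -/
theorem hasTorAmplitudeIn_shriekVia [Algebra.FiniteType R A] (d : ℕ)
    (hd : ∀ q : PrimeSpectrum A,
      FlatMor.fibreDimAt (AlgebraicGeometry.Spec.map (CommRingCat.ofHom (algebraMap R A))) q ≤ (d : WithBot ℕ∞)) :
    DRing.HasTorAmplitudeIn R (-(d : ℤ)) 0 ((DRing.restrictD (algebraMap R A)).obj (Dual2.shriekVia n Rψ (Dual.inD R R))) := by
  let P := MvPolynomial (Fin n) R
  let A' := (ModuleCat.restrictScalars ψ.toRingHom).obj (ModuleCat.of A A)
  haveI : Module.Finite P A' := by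
    letI : Algebra P A := ψ.toRingHom.toAlgebra
    exact (Module.Finite.of_surjective (Algebra.linearMap P A) hψ : Module.Finite P A)
  obtain ⟨F, π, hK, hπ, hF, hFp⟩ := exists_resolution n A' (pdLE_restrict ψ hψ)
  haveI := hK
  haveI := hπ
  obtain ⟨b⟩ := nonempty_lbase_inD (R := R) (n := n)
  obtain ⟨v⟩ := nonempty_restrict_value adj π (sgl (P := P) P)
  let s := (DerivedCategory.singleFunctorIsoCompQ (ModuleCat.{u} P) 0).app (ModuleCat.of P P)
  let G := dualR (R := R) F
  let X := Rψ.obj ((DRing.LBaseChange (algebraMap R P)).obj (Dual.inD R R))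
  let E₀ := DerivedCategory.Q.objPreimage X
  let e₀ : DerivedCategory.Q.obj E₀ ≅ X := DerivedCategory.Q.objObjPreimageIso X
  have halg : algebraMap R A = ψ.toRingHom.comp (algebraMap R P) := ψ.comp_algebraMap.symm
  let cmp : (DRing.restrictCx (algebraMap R A)).obj E₀ ≅
      (DRing.restrictCx (algebraMap R P)).obj ((DRing.restrictCx ψ.toRingHom).obj E₀) :=
    HomologicalComplex.Hom.isoOfComponents
      (fun i => (ModuleCat.restrictScalarsComp' (algebraMap R P) ψ.toRingHom (algebraMap R A) halg).app (E₀.X i))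
      fun i j _ => ((ModuleCat.restrictScalarsComp' (algebraMap R P) ψ.toRingHom (algebraMap R A) halg).hom.naturality
        (E₀.d i j))
  let fA := (ModuleCat.restrictScalars.{u} (algebraMap R A)).mapDerivedCategoryFactors
  let fR := (ModuleCat.restrictScalars.{u} (algebraMap R P)).mapDerivedCategoryFactors
  let fψ := (ModuleCat.restrictScalars.{u} ψ.toRingHom).mapDerivedCategoryFactors
  let w : DRing.toD G ≅ (DRing.restrictD (algebraMap R A)).obj X :=
    ((DRing.restrictD (algebraMap R A)).mapIso e₀.symm ≪≫ fA.app E₀ ≪≫ DerivedCategory.Q.mapIso cmp ≪≫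
      (fR.app ((DRing.restrictCx ψ.toRingHom).obj E₀)).symm ≪≫
      (DRing.restrictD (algebraMap R P)).mapIso ((fψ.app E₀).symm ≪≫ (DRing.restrictD ψ.toRingHom).mapIso e₀ ≪≫
        (DRing.restrictD ψ.toRingHom).mapIso (Rψ.mapIso (b ≪≫ s)) ≪≫ v) ≪≫ fR.app (DRing.homCx F (sgl (P := P) P))).symm
  haveI : ∀ M : ModuleCat.{u} R, DRing.HasLTensor R M := fun M => DCat.hasLTensor M
  have hGf : DRing.TermwiseFlat G := fun i => by
    haveI := (hFp (-i)).1
    haveI := (hFp (-i)).2
    exact flat_dualR F i
  have hGb : DRing.VanishesAbove G (n : ℤ) := fun i hi => isZero_dualR F hF i (Or.inr hi)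
  have hG : DRing.HasTorAmplitudeIn R ((n : ℤ) - d) n ((DRing.restrictD (algebraMap R A)).obj X) :=
    DCat.flatAmp_of_vanish fun M i hi => by
      rw [DCat.isZero_ltensor_iff M (DCat.isKFlatFor_of_vanishesAbove G n hGb hGf) w i]
      by_cases hz : i < 0 ∨ (n : ℤ) < i
      · exact HomologicalComplex.ExactAt.of_isZero ((tensorRight M).map_isZero (isZero_dualR F hF i hz))
      · have hdn : d ≤ n := by omega
        refine exactAt_dualR_tensor F M hFp i fun N _ _ _ => exactAt_homCx π _ i ?_
        letI : Algebra P A := ψ.toRingHom.toAlgebra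
        let e : (P ⧸ RingHom.ker ψ.toRingHom) ≃ₗ[P] A' :=
          (Ideal.quotientKerAlgEquivOfSurjective (f := Algebra.ofId P A) hψ).toLinearEquiv
        haveI := subsingleton_E_tensor ψ hψ d (n - d) (by omega) hd N i (by omega)
        exact (econgr (Dual.inD P (P ⊗[R] N)) e i).injective.subsingleton
  obtain ⟨E, hE, hf, ⟨eE⟩⟩ := hG
  refine ⟨E⟦(n : ℤ)⟧, fun i hi => hE (i + n) (by omega), fun i => hf (i + n), ⟨?_⟩⟩
  exact (DerivedCategory.Q.commShiftIso (n : ℤ)).app E ≪≫
    (CategoryTheory.shiftFunctor (Dual.D R) (n : ℤ)).mapIso eE ≪≫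
    (((DRing.restrictD (algebraMap R A)).commShiftIso (n : ℤ)).app X).symm

end Main

end Groth.Agent.DualLib.Shriek
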