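import Groth.Agent.DualLib.ShriekDeg
import Groth.Agent.SyzygyLF.Basic
import Groth.Agent.DimLib.Algebra
import Mathlib.RingTheory.RegularLocalRing.Polynomial

/-! Supports of the cohomology of `φ^! k` over a field: dimension at most minus the degree. -/

set_option autoImplicit false
set_option backward.isDefEq.respectTransparency false
set_option backward.defeqAttrib.useBackward true
set_option linter.style.haveILetI false

universe u

open CategoryTheory CategoryTheory.Limits DerivedCategory
open scoped TensorProduct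

attribute [local instance] HasDerivedCategory.standard

namespace Groth.Agent.DualLib.Shriek

open Groth.Agent.DualLib.FiniteAdjoint

/-- `Ext^j(N, B) = 0` above the dimension of a regular local ring. -/
theorem subsingleton_E_of_regular {B : Type u} [CommRing B] [IsRegularLocalRing B] (N : Type u) [AddCommGroup N]
    [Module B N] [Module.Finite B N] (m : ℕ) (hm : ringKrullDim B ≤ (m : WithBot ℕ∞)) (j : ℤ) (hj : (m : ℤ) < j) :
    Subsingleton (E (Dual.inD B B) N j) := by
  lift j to ℕ using (by omega)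
  haveI := SyzygyLF.hasProjectiveDimensionLT_of_regular (ModuleCat.of B N) m hm
  haveI : Subsingleton (Abelian.Ext (ModuleCat.of B N) (ModuleCat.of B B) j) :=
    HasProjectiveDimensionLT.subsingleton _ (m + 1) j (by omega) _
  exact (Abelian.Ext.homEquiv (X := ModuleCat.of B N) (Y := ModuleCat.of B B) (n := j)).symm.injective.subsingleton

/-- Localization, above the height. -/
theorem localized_E_torsion_high {P : Type u} [CommRing P] [IsRegularRing P] (I p : Ideal P) [p.IsPrime] (h : ℕ)
    (hh : (p.height : WithBot ℕ∞) ≤ (h : WithBot ℕ∞)) (j : ℤ) (hj : (h : ℤ) < j)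
    (θ : E (Dual.inD P P) (P ⧸ I) j) : ∃ s ∈ p.primeCompl, s • θ = 0 := by
  let B := Localization.AtPrime p
  haveI : IsRegularLocalRing B := inferInstance
  haveI : Module.Flat P B := IsLocalization.flat B p.primeCompl
  haveI := preservesFiniteLimits_flat (A := P) (B := B)
  haveI := preservesFiniteColimits_ext (A := P) (B := B)
  haveI : (Dual.inD P P).IsGE 0 := inferInstance
  refine (subsingleton_E_iff (B := B) p.primeCompl (P ⧸ I) (Y := Dual.inD P P) (a := 0) inferInstance j).1 ?_ θ
  haveI := subsingleton_E_of_regular (B := B) (B ⧸ I.map (algebraMap P B)) h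
    ((IsLocalization.AtPrime.ringKrullDim_eq_height p B).trans_le hh) j hj
  obtain ⟨eM⟩ := nonempty_ext_tensor (B := B) (ModuleCat.of P (P ⧸ I))
  obtain ⟨eP⟩ := nonempty_ext_tensor (B := B) (ModuleCat.of P P)
  let eF : (ModuleCat.extendScalars.{u, u, u} (algebraMap P B)).obj (ModuleCat.of P (P ⧸ I)) ≃ₗ[B]
      B ⧸ I.map (algebraMap P B) :=
    eM ≪≫ₗ (Algebra.TensorProduct.quotIdealMapEquivTensorQuot B I).symm.toLinearEquiv
  let eY : (extD (algebraMap P B)).obj (Dual.inD P P) ≅ Dual.inD B B :=
    extSingle (B := B) P ≪≫ (singleFunctor (ModuleCat.{u} B) 0).mapIso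
      (eP ≪≫ₗ TensorProduct.AlgebraTensorModule.rid P B B).toModuleIso
  exact ((Linear.homCongr B (Iso.refl _) ((shiftFunctor (Dual.D B) j).mapIso eY)) ≪≫ₗ
    (econgr (Dual.inD B B) eF j).symm).injective.subsingleton

variable {k A : Type u} [Field k] [CommRing A] [Algebra k A] {n : ℕ}
  (ψ : MvPolynomial (Fin n) k →ₐ[k] A) (hψ : Function.Surjective ψ)
  [DRing.HasLBaseChange (algebraMap k (MvPolynomial (Fin n) k))]
  {Rψ : Dual.D (MvPolynomial (Fin n) k) ⥤ Dual.D A} (adj : DRing.restrictD ψ.toRingHom ⊣ Rψ)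

include hψ adj in
/-- The dimension of the closure of a point of the support of `H^i`. -/
theorem ringKrullDim_quotient_le_of_nontrivial (q : Ideal A) [q.IsPrime] (i : ℤ) (d : ℕ) (hd : (d : ℤ) = -i)
    (h : Nontrivial (LocalizedModule q.primeCompl (Dual.HD A (Dual2.shriekVia n Rψ (Dual.inD k k)) i))) :
    ringKrullDim (A ⧸ q) ≤ (d : WithBot ℕ∞) := by
  let P := MvPolynomial (Fin n) k
  let p : Ideal P := q.comap ψ.toRingHom
  rw [nontrivial_localized_iff ψ hψ adj q i] at h
  have he : ringKrullDim (A ⧸ q) = ringKrullDim (P ⧸ p) := by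
    let φ : P →+* A ⧸ q := (Ideal.Quotient.mk q).comp ψ.toRingHom
    have hker : RingHom.ker φ = p := by rw [← RingHom.comap_ker, Ideal.mk_ker]
    exact (ringKrullDim_eq_of_ringEquiv
      ((Ideal.quotEquivOfEq hker.symm).trans
        (RingHom.quotientKerEquivOfSurjective (f := φ) (Ideal.Quotient.mk_surjective.comp hψ)))).symm
  have hsum := DimLib.height_add_ringKrullDim_quotient (k := k) (A := P) p
  rw [MvPolynomial.ringKrullDim_of_isNoetherianRing (R := k), ringKrullDim_eq_zero_of_field, zero_add,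
    Nat.card_fin] at hsum
  obtain ⟨a, ha⟩ := ENat.ne_top_iff_exists.1 (Ideal.height_ne_top_of_isPrime (I := p))
  rw [← ha] at hsum
  by_contra hlt
  refine not_subsingleton_iff_nontrivial.2 h ?_
  rw [LocalizedModule.subsingleton_iff]
  intro θ
  refine localized_E_torsion_high _ p a (by rw [← ha]; rfl) _ ?_ θ
  rw [he, not_le] at hlt
  rcases hr : ringKrullDim (P ⧸ p) with _ | (_ | r)
  · rw [hr] at hlt; exact absurd hlt not_lt_bot
  · rw [hr] at hsum; exact absurd hsum (by
      show ((a : ℕ∞) : WithBot ℕ∞) + ((⊤ : ℕ∞) : WithBot ℕ∞) ≠ _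
      rw [← WithBot.coe_add, add_top]
      intro h; exact ENat.top_ne_natCast n (WithBot.coe_inj.1 h))
  · rw [hr] at hsum hlt
    replace hr : ringKrullDim (P ⧸ p) = ((r : ℕ∞) : WithBot ℕ∞) := hr
    have h1 : a + r = n := by
      have := hsum; exact_mod_cast (show ((a : ℕ∞) : WithBot ℕ∞) + ((r : ℕ∞) : WithBot ℕ∞) = ((n : ℕ∞) : WithBot ℕ∞) from this)
    have h2 : d < r := by
      exact_mod_cast (show ((d : ℕ∞) : WithBot ℕ∞) < ((r : ℕ∞) : WithBot ℕ∞) from hlt)
    omega

end Groth.Agent.DualLib.Shriek
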