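import Groth.Agent.DualLib.OmegaGor
import Groth.Agent.DualLib.GorOpen
import Groth.Agent.DualLib.ShriekDim
import Groth.Agent.DualLib.ShriekAmpMain
import Groth.Agent.Dual22Lib.SchStalk
import Groth.Agent.DRingLib.PCDescent
import Groth.Agent.AlgSpLib.RelDimLocus
import Groth.Agent.EGA43.FibDepth.Fibre
import Groth.Agent.EGA43.CMChart.Main

/-!
# Cohen–Macaulay fibres and concentration of `ω_{A/R}`
-/

set_option autoImplicit false
set_option backward.isDefEq.respectTransparency false
set_option backward.defeqAttrib.useBackward true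
set_option linter.style.haveILetI false
set_option linter.unusedSectionVars false

universe u

open CategoryTheory CategoryTheory.Limits CategoryTheory.Pretriangulated DerivedCategory AlgebraicGeometry
open scoped TensorProduct

attribute [local instance] HasDerivedCategory.standard

namespace Groth.Agent.DualLib.OmegaCM

open Groth.Agent.DualLib.OmegaGor

/-- The top degree is unchanged by base change to a quotient of a local ring. -/
theorem isLE_lbase_iff {A B : Type u} [CommRing A] [CommRing B] [IsLocalRing A] [IsLocalRing B]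
    (φ : A →+* B) (hφ : Function.Surjective φ) [DRing.HasLBaseChange φ] (X : Dual.D A) (b : ℤ) [X.IsLE b]
    (hfin : ∀ q, Module.Finite A (Dual.HD A X q)) (t : ℤ) :
    X.IsLE t ↔ ((DRing.LBaseChange φ).obj X).IsLE t := by
  refine ⟨fun h => DRingLib.isLE_lbaseChange φ t, fun h => ?_⟩
  haveI : IsLocalHom φ := IsLocalHom.of_surjective φ hφ
  let κ := IsLocalRing.ResidueField B
  let g := IsLocalRing.ResidueField.map φ
  have hg : Function.Bijective g := by
    refine ⟨RingHom.injective _, fun y => ?_⟩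
    obtain ⟨z, rfl⟩ := IsLocalRing.residue_surjective y
    obtain ⟨x, rfl⟩ := hφ z
    exact ⟨IsLocalRing.residue A x, IsLocalRing.ResidueField.map_residue φ x⟩
  let gE : IsLocalRing.ResidueField A ≃+* κ := RingEquiv.ofBijective g hg
  let v : IsLocalRing.ResidueField A ≃ₗ[A] (ModuleCat.restrictScalars.{u} φ).obj (ModuleCat.of B κ) :=
    { toFun := fun x => gE x
      map_add' := fun x y => map_add gE x y
      map_smul' := fun a x => by
        rw [Algebra.smul_def, map_mul]
        rfl
      invFun := gE.symm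
      left_inv := gE.symm_apply_apply
      right_inv := gE.apply_symm_apply }
  let Z := Dual.inD B κ
  let w : (DRing.restrictD φ).obj Z ≅ kD A :=
    ((ModuleCat.restrictScalars.{u} φ).mapDerivedCategorySingleFunctor 0).app (ModuleCat.of B κ) ≪≫
      (singleFunctor (ModuleCat.{u} A) 0).mapIso v.toModuleIso.symm
  let wj := fun j : ℤ => ((DRing.restrictD φ).commShiftIso j).app Z ≪≫ (shiftFunctor (Dual.D A) j).mapIso w
  refine isLE_of_noHom X hfin (b - t).toNat t ((ts A).isLE_of_le X b _ (by omega)) fun j hj => ?_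
  haveI : ((Z)⟦j⟧).IsGE (-j) := (ts B).isGE_shift Z 0 j (-j) (by omega)
  haveI : Subsingleton ((DRing.LBaseChange φ).obj X ⟶ Z⟦j⟧) :=
    subsingleton_of_forall_eq 0 fun f => (ts B).zero f t (-j) (by omega)
  exact (((LBC.adj φ).homEquiv X (Z⟦j⟧)).trans (wj j).homToEquiv).symm.injective.subsingleton

/-- The support through a localization. -/
theorem mem_support_iff_extD {A : Type u} [CommRing A] (W : Dual.D A) (p : PrimeSpectrum A)
    [PreservesFiniteLimits (ModuleCat.extendScalars.{u, u, u} (algebraMap A (Localization.AtPrime p.asIdeal)))]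
    [PreservesFiniteColimits (ModuleCat.extendScalars.{u, u, u} (algebraMap A (Localization.AtPrime p.asIdeal)))]
    (i : ℤ) :
    p ∈ Module.support A (Dual.HD A W i) ↔
      Nontrivial (Dual.HD (Localization.AtPrime p.asIdeal)
        ((extD (algebraMap A (Localization.AtPrime p.asIdeal))).obj W) i) := by
  obtain ⟨eT⟩ := nonempty_HD_tensor p.asIdeal.primeCompl W i
  rw [Module.mem_support_iff]
  let e := LocalizedModule.equivTensorProduct p.asIdeal.primeCompl (Dual.HD A W i)
  exact ⟨fun h => haveI := h; haveI := e.injective.nontrivial; eT.symm.injective.nontrivial,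
    fun h => haveI := h; haveI := eT.injective.nontrivial; e.symm.injective.nontrivial⟩

variable {R A : Type u} [CommRing R] [CommRing A] [IsNoetherianRing R] [IsNoetherianRing A] [Algebra R A] {n : ℕ}
  (ψ : MvPolynomial (Fin n) R →ₐ[R] A) (hψ : Function.Surjective ψ)
  [DRing.HasLBaseChange (algebraMap R (MvPolynomial (Fin n) R))]
  {Rψ : Dual.D (MvPolynomial (Fin n) R) ⥤ Dual.D A} (adj : DRing.restrictD ψ.toRingHom ⊣ Rψ)
  [Module.Flat R A] (r : Ideal R) [r.IsPrime]

/-- The inclusion of the fibre. -/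
noncomputable abbrev incl : A →+* r.ResidueField ⊗[R] A :=
  (Algebra.TensorProduct.includeRight : A →ₐ[R] r.ResidueField ⊗[R] A).toRingHom

include hψ adj in
/-- The top degree at a point is read off on the fibre. -/
theorem top_iff [DRing.HasLBaseChange (incl (A := A) r)] (y : PrimeSpectrum (r.ResidueField ⊗[R] A)) (t : ℤ) :
    (∀ i : ℤ, t < i → PrimeSpectrum.comap (incl r) y ∉ Module.support A
      (Dual.HD A (Dual2.shriekVia n Rψ (Dual.inD R R)) i)) ↔
    (∀ i : ℤ, t < i → y ∉ Module.support (r.ResidueField ⊗[R] A) (Dual.HD (r.ResidueField ⊗[R] A)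
      ((DRing.LBaseChange (incl (A := A) r)).obj (Dual2.shriekVia n Rψ (Dual.inD R R))) i)) := by
  haveI : Algebra.FiniteType R A := Algebra.FiniteType.of_surjective ψ hψ
  let q := PrimeSpectrum.comap (incl r) y
  let ω := Dual2.shriekVia n Rψ (Dual.inD R R)
  let W := (DRing.LBaseChange (incl (A := A) r)).obj ω
  let B := r.ResidueField ⊗[R] A
  haveI : IsNoetherianRing B := Algebra.FiniteType.isNoetherianRing r.ResidueField _
  let C := Localization.AtPrime y.asIdeal
  let σ := algebraMap B C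
  obtain ⟨_, _⟩ := Dual22Lib.preserves_extendScalars (B := C) y.asIdeal.primeCompl
  let Aq := Localization.AtPrime q.asIdeal
  obtain ⟨_, _⟩ := Dual22Lib.preserves_extendScalars (B := Aq) q.asIdeal.primeCompl
  let τ := Localization.localRingHom q.asIdeal y.asIdeal (incl r) rfl
  haveI := DCat.hasLBaseChange σ
  haveI := DCat.hasLBaseChange τ
  haveI := DCat.hasLBaseChange (algebraMap A Aq)
  have hcomm : τ.comp (algebraMap A Aq) = σ.comp (incl r) :=
    RingHom.ext fun x => Localization.localRingHom_to_map q.asIdeal y.asIdeal (incl r) rfl x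
  obtain ⟨sq⟩ := nonempty_square (incl r) σ (algebraMap A Aq) τ hcomm ω
  let X := (extD (algebraMap A Aq)).obj ω
  let eC : (DRing.LBaseChange τ).obj X ≅ (extD σ).obj W :=
    (DRing.LBaseChange τ).mapIso ((LBC.extIso (algebraMap A Aq)).app ω).symm ≪≫ sq.symm ≪≫ (LBC.extIso σ).app W
  have hXfin : ∀ i, Module.Finite Aq (Dual.HD Aq X i) := fun i => by
    haveI := Omega.finite_HD ψ hψ adj i
    exact finite_HD_extD (B := Aq) ω i
  haveI : X.IsLE 0 := (DRingLib.isLE_iff_HD X 0).2 fun i hi => by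
    obtain ⟨eT⟩ := nonempty_HD_tensor q.asIdeal.primeCompl ω i
    haveI := Omega.subsingleton_HD_of_pos ψ hψ adj i hi
    exact eT.injective.subsingleton
  have h1 := isLE_lbase_iff τ (surjective_localRingHom r y.asIdeal q.asIdeal rfl) X 0 hXfin t
  have h2 : ((DRing.LBaseChange τ).obj X).IsLE t ↔ ((extD σ).obj W).IsLE t :=
    ⟨fun h => DerivedCategory.TStructure.t.isLE_of_iso eC t,
      fun h => DerivedCategory.TStructure.t.isLE_of_iso eC.symm t⟩
  rw [DRingLib.isLE_iff_HD, h2, DRingLib.isLE_iff_HD] at h1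
  refine (forall₂_congr fun i _ => ?_).trans (h1.trans (forall₂_congr fun i _ => ?_))
  · rw [mem_support_iff_extD, not_nontrivial_iff_subsingleton]
  · rw [mem_support_iff_extD, not_nontrivial_iff_subsingleton]

include hψ adj in
/-- The degrees on the fibre. -/
theorem fibre_bounds [Algebra.FiniteType R A] [DRing.HasLBaseChange (incl (A := A) r)]
    (y : PrimeSpectrum (r.ResidueField ⊗[R] A)) (d : ℕ)
    (hd : FlatMor.fibreDimAt (Spec.map (CommRingCat.ofHom (algebraMap R A))) (PrimeSpectrum.comap (incl r) y) ≤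
      (d : WithBot ℕ∞))
    (i : ℤ) (h : y ∈ Module.support (r.ResidueField ⊗[R] A) (Dual.HD (r.ResidueField ⊗[R] A)
      ((DRing.LBaseChange (incl (A := A) r)).obj (Dual2.shriekVia n Rψ (Dual.inD R R))) i)) :
    -(d : ℤ) ≤ i ∧ i ≤ 0 ∧
      ∀ m : ℕ, (m : ℤ) = -i → ringKrullDim ((r.ResidueField ⊗[R] A) ⧸ y.asIdeal) ≤ (m : WithBot ℕ∞) := by
  let k := r.ResidueField
  haveI : IsNoetherianRing (k ⊗[R] A) := Algebra.FiniteType.isNoetherianRing k _
  haveI := DCat.hasLBaseChange (algebraMap k (MvPolynomial (Fin n) k))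
  obtain ⟨Rk, ⟨adjk⟩⟩ := Shriek.exists_rightAdjoint (Omega.bcAlg (R' := k) ψ).toRingHom
  obtain ⟨e⟩ := Omega.nonempty_shriekVia_self_baseChange (R' := k) ψ adj adjk hψ
  rw [((homologyFunctor (ModuleCat.{u} (k ⊗[R] A)) i).mapIso e).toLinearEquiv.support_eq, Module.mem_support_iff] at h
  haveI : Module.Flat k (k ⊗[R] A) := inferInstance
  have hs := Shriek.bcPres_surjective ψ hψ (R' := k)
  refine ⟨Shriek.neg_le_of_nontrivial (Omega.bcAlg (R' := k) ψ) hs adjk y d ?_ i h,
    Shriek.le_zero_of_nontrivial (Omega.bcAlg (R' := k) ψ) hs adjk y.asIdeal i h, fun m hm =>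
      Shriek.ringKrullDim_quotient_le_of_nontrivial (Omega.bcAlg (R' := k) ψ) hs adjk y.asIdeal i m hm h⟩
  let f := Spec.map (CommRingCat.ofHom (algebraMap R A))
  haveI : LocallyOfFiniteType f :=
    (HasRingHomProperty.Spec_iff (P := @LocallyOfFiniteType)).2 (RingHom.finiteType_algebraMap.2 inferInstance)
  have hsq := isPullback_SpecMap_of_isPushout _ _ _ _ (CommRingCat.isPushout_tensorProduct R k A).flip
  exact (AlgSpLib.fibreDimAt_baseChange hsq y).trans_le hd

attribute [local instance] Algebra.TensorProduct.rightAlgebra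

/-- Local fibre dimension `d` is attained on a generisation. -/
theorem exists_dim_ge [Algebra.FiniteType R A] (q : PrimeSpectrum A) (hr : r = q.asIdeal.comap (algebraMap R A))
    (d : ℕ) (hd : (d : WithBot ℕ∞) ≤ FlatMor.fibreDimAt (Spec.map (CommRingCat.ofHom (algebraMap R A))) q) :
    ∃ y y' : PrimeSpectrum (r.ResidueField ⊗[R] A), PrimeSpectrum.comap (incl r) y = q ∧ y' ≤ y ∧
      (d : WithBot ℕ∞) ≤ ringKrullDim ((r.ResidueField ⊗[R] A) ⧸ y'.asIdeal) := by
  let B := r.ResidueField ⊗[R] A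
  obtain ⟨y, hy⟩ := EGA43.FibDepth.exists_prime_over (A := R) (p := r) B q hr
  rcases Nat.eq_zero_or_pos d with rfl | hd0
  · exact ⟨y, y, hy, le_rfl, ringKrullDim_nonneg_of_nontrivial⟩
  let f := Spec.map (CommRingCat.ofHom (algebraMap R A))
  haveI : LocallyOfFiniteType f :=
    (HasRingHomProperty.Spec_iff (P := @LocallyOfFiniteType)).2 (RingHom.finiteType_algebraMap.2 inferInstance)
  have h : ¬ FlatMor.fibreDimAt f q ≤ ((d - 1 : ℕ) : WithBot ℕ∞) := fun hle => by
    have := hd.trans hle
    rw [Nat.cast_le] at this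
    omega
  rw [FlatMorDim.fibreDimAt_le_iff] at h
  push Not at h
  obtain ⟨q', hf, hs, htr⟩ := h
  have hle : (show PrimeSpectrum A from q').asIdeal ≤ q.asIdeal :=
    (PrimeSpectrum.le_iff_specializes (show PrimeSpectrum A from q') q).2 hs
  have hr' : r = q'.asIdeal.comap (algebraMap R A) := hr.trans (congrArg PrimeSpectrum.asIdeal hf).symm
  obtain ⟨y', hy'⟩ := EGA43.FibDepth.exists_prime_over (A := R) (p := r) B q' hr'
  refine ⟨y, y', hy, EGA43.FibDepth.le_of_comap_le (R := A) r (by rw [hy, hy']; exact hle), ?_⟩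
  rw [EGA43.FibDepth.ringKrullDim_quotient_eq_trd (R := A) r y', hy']
  have h0 := EGA43.DimFormula.trdegHom_specMap (R := CommRingCat.of R) (S := CommRingCat.of A)
    (CommRingCat.ofHom (algebraMap R A)) q'
  have hA : (CommRingCat.ofHom (algebraMap R A)).hom.toAlgebra = ‹Algebra R A› :=
    Algebra.algebra_ext _ _ fun _ => rfl
  rw [hA] at h0
  have hge : d ≤ EGA43.FibDepth.trd R (q' : PrimeSpectrum A) := by
    have h1 : DimLib.trdegHom (f.residueFieldMap q').hom = EGA43.FibDepth.trd R (show PrimeSpectrum A from q') := h0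
    rw [← h1]; omega
  exact_mod_cast hge

/-- The Cohen–Macaulay points of the fibres, in an affine chart. -/
theorem cm_fibre_iff (y : PrimeSpectrum (r.ResidueField ⊗[R] A)) (hr : r = (PrimeSpectrum.comap (incl r) y).asIdeal.comap (algebraMap R A)) :
    LocCoh.IsCohenMacaulayLocalRing
        (((Spec.map (CommRingCat.ofHom (algebraMap R A))).fiber
          ((Spec.map (CommRingCat.ofHom (algebraMap R A))) (PrimeSpectrum.comap (incl r) y))).presheaf.stalk
          ((Spec.map (CommRingCat.ofHom (algebraMap R A))).asFiber (PrimeSpectrum.comap (incl r) y))) ↔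
      LocCoh.IsCohenMacaulayLocalRing (Localization.AtPrime y.asIdeal) := by
  let q : PrimeSpectrum A := PrimeSpectrum.comap (incl r) y
  let f := Spec.map (CommRingCat.ofHom (algebraMap R A))
  obtain ⟨e⟩ := EGA43.CMChart.exists_fibre_stalk_equiv f q
  obtain ⟨e'⟩ := EGA43.CMChart.exists_fibre_stalk_equiv f q
  obtain ⟨-, ⟨e₂⟩⟩ := CommAlg6.fiber_localization_equiv (A := R) (B := A) r y.asIdeal
  let a := Scheme.arrowStalkMapSpecIso (CommRingCat.ofHom (algebraMap R A)) q
  let F := (f.stalkMap q).hom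
  let p := q.asIdeal.comap (algebraMap R A)
  let l := Localization.localRingHom p q.asIdeal (algebraMap R A) rfl
  let σ : ((Spec (CommRingCat.of R)).presheaf.stalk (f q)) ≃+* Localization.AtPrime p :=
    (Arrow.leftFunc.mapIso a).commRingCatIsoToRingEquiv
  let τ : ((Spec (CommRingCat.of A)).presheaf.stalk q) ≃+* Localization.AtPrime q.asIdeal :=
    (Arrow.rightFunc.mapIso a).commRingCatIsoToRingEquiv
  have w : τ.toRingHom.comp F = l.comp σ.toRingHom := (congrArg CommRingCat.Hom.hom (Arrow.w a.hom)).symm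
  have e₁ : (↥((Spec (CommRingCat.of A)).presheaf.stalk q) ⧸
      (IsLocalRing.maximalIdeal ((Spec (CommRingCat.of R)).presheaf.stalk (f q))).map F) ≃+*
      EGA4.FibLocRing R A q.asIdeal := by
    refine Ideal.quotientEquiv _ _ τ ?_
    show p.map (algebraMap R (Localization.AtPrime q.asIdeal)) = Ideal.map τ.toRingHom (Ideal.map F _)
    rw [Ideal.map_map, w, ← Ideal.map_map]
    have hσ : (IsLocalRing.maximalIdeal _).map σ.toRingHom = IsLocalRing.maximalIdeal (Localization.AtPrime p) :=
      IsLocalRing.map_maximalIdeal_of_surjective σ.toRingHom σ.surjective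
    rw [hσ, ← Localization.AtPrime.map_eq_maximalIdeal, Ideal.map_map]
    congr 1
    refine RingHom.ext fun s => ?_
    show _ = l (algebraMap R (Localization.AtPrime p) s)
    rw [Localization.localRingHom_to_map, ← IsScalarTower.algebraMap_apply]
  let e₃ := (e.symm.trans e₁).trans e₂.symm
  exact ⟨fun h => CAlgH3.isCohenMacaulayLocalRing_of_ringEquiv (h := h) e₃,
    fun h => @CAlgH3.isCohenMacaulayLocalRing_of_ringEquiv (Localization.AtPrime y.asIdeal) _ inferInstance _ e₃.symm h⟩

include hψ adj in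
/-- Cohen–Macaulay fibre of dimension `d` gives concentration in degree `-d`. -/
theorem concentrated_of_cm [Algebra.FiniteType R A] (y y' : PrimeSpectrum (r.ResidueField ⊗[R] A)) (hle : y' ≤ y)
    (d : ℕ)
    (hd : FlatMor.fibreDimAt (Spec.map (CommRingCat.ofHom (algebraMap R A))) (PrimeSpectrum.comap (incl r) y) ≤
      (d : WithBot ℕ∞))
    (hy' : (d : WithBot ℕ∞) ≤ ringKrullDim ((r.ResidueField ⊗[R] A) ⧸ y'.asIdeal))
    (hcm : LocCoh.IsCohenMacaulayLocalRing (Localization.AtPrime y.asIdeal)) :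
    (∀ i : ℤ, -(d : ℤ) < i → PrimeSpectrum.comap (incl r) y ∉ Module.support A
      (Dual.HD A (Dual2.shriekVia n Rψ (Dual.inD R R)) i)) ∧
    PrimeSpectrum.comap (incl r) y ∈ Module.support A (Dual.HD A (Dual2.shriekVia n Rψ (Dual.inD R R)) (-(d : ℤ))) := by
  haveI := DCat.hasLBaseChange (incl (A := A) r)
  haveI : IsNoetherianRing (r.ResidueField ⊗[R] A) := Algebra.FiniteType.isNoetherianRing r.ResidueField _
  have hW := isDualizing_fibre ψ hψ adj r.ResidueField
  obtain ⟨i, hi⟩ := DualLib.exists_mem_support hW y'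
  have hiy : y ∈ Module.support _ (Dual.HD (r.ResidueField ⊗[R] A) ((DRing.LBaseChange (incl (A := A) r)).obj
      (Dual2.shriekVia n Rψ (Dual.inD R R))) i) := by
    rw [(eSelf _ i).support_eq] at hi
    exact Module.mem_support_mono hle hi
  rw [(eSelf _ i).support_eq] at hi
  have hd' : FlatMor.fibreDimAt (Spec.map (CommRingCat.ofHom (algebraMap R A))) (PrimeSpectrum.comap (incl r) y') ≤
      (d : WithBot ℕ∞) := by
    haveI : LocallyOfFiniteType (Spec.map (CommRingCat.ofHom (algebraMap R A))) :=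
      (HasRingHomProperty.Spec_iff (P := @LocallyOfFiniteType)).2 (RingHom.finiteType_algebraMap.2 inferInstance)
    exact Specializes.mem_open (s := {x : PrimeSpectrum A |
        FlatMor.fibreDimAt (Spec.map (CommRingCat.ofHom (algebraMap R A))) x ≤ (d : WithBot ℕ∞)})
      (((PrimeSpectrum.le_iff_specializes y' y).1 hle).map (PrimeSpectrum.continuous_comap (incl r)))
      (FlatMorDim.isOpen_fibreDimAt_le (Spec.map (CommRingCat.ofHom (algebraMap R A))) d) hd
  obtain ⟨h1, h2, h3⟩ := fibre_bounds ψ hψ adj r y' d hd' i hi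
  obtain ⟨m, hm⟩ : ∃ m : ℕ, (m : ℤ) = -i := ⟨(-i).toNat, by omega⟩
  have hdm : d ≤ m := by exact_mod_cast hy'.trans (h3 m hm)
  have hid : i = -(d : ℤ) := by omega
  subst hid
  obtain ⟨j, -, huniq⟩ := (Dual22Lib.isCM_iff_existsUnique hW y).1 hcm
  have hup : ∀ i : ℤ, -(d : ℤ) < i → y ∉ Module.support (r.ResidueField ⊗[R] A) (Dual.HD (r.ResidueField ⊗[R] A)
      ((DRing.LBaseChange (incl (A := A) r)).obj (Dual2.shriekVia n Rψ (Dual.inD R R))) i) := fun i hi' hmem => by
    have := (huniq i hmem).trans (huniq _ hiy).symm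
    omega
  refine ⟨(top_iff ψ hψ adj r y _).2 hup, ?_⟩
  by_contra hno
  refine (top_iff ψ hψ adj r y (-(d : ℤ) - 1)).1 (fun i hi' => ?_) (-(d : ℤ)) (by omega) hiy
  rcases eq_or_ne i (-(d : ℤ)) with rfl | hne
  · exact hno
  · exact (top_iff ψ hψ adj r y _).2 hup i (by omega)

include hψ adj in
/-- Concentration in one degree near a point gives a Cohen–Macaulay fibre there. -/
theorem cm_of_concentrated [Algebra.FiniteType R A] (y y' : PrimeSpectrum (r.ResidueField ⊗[R] A)) (hle : y' ≤ y)
    (d : ℕ)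
    (hd : FlatMor.fibreDimAt (Spec.map (CommRingCat.ofHom (algebraMap R A))) (PrimeSpectrum.comap (incl r) y) ≤
      (d : WithBot ℕ∞))
    (hy' : (d : WithBot ℕ∞) ≤ ringKrullDim ((r.ResidueField ⊗[R] A) ⧸ y'.asIdeal)) (m : ℤ)
    (hm : ∀ i : ℤ, i ≠ m → ∀ q : PrimeSpectrum A, q ≤ PrimeSpectrum.comap (incl r) y →
      q ∉ Module.support A (Dual.HD A (Dual2.shriekVia n Rψ (Dual.inD R R)) i)) :
    LocCoh.IsCohenMacaulayLocalRing (Localization.AtPrime y.asIdeal) := by
  haveI := DCat.hasLBaseChange (incl (A := A) r)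
  haveI : IsNoetherianRing (r.ResidueField ⊗[R] A) := Algebra.FiniteType.isNoetherianRing r.ResidueField _
  haveI : LocallyOfFiniteType (Spec.map (CommRingCat.ofHom (algebraMap R A))) :=
    (HasRingHomProperty.Spec_iff (P := @LocallyOfFiniteType)).2 (RingHom.finiteType_algebraMap.2 inferInstance)
  have hW := isDualizing_fibre ψ hψ adj r.ResidueField
  let W := (DRing.LBaseChange (incl (A := A) r)).obj (Dual2.shriekVia n Rψ (Dual.inD R R))
  have hq' : PrimeSpectrum.comap (incl r) y' ≤ PrimeSpectrum.comap (incl r) y := Ideal.comap_mono hle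
  have hd' : FlatMor.fibreDimAt (Spec.map (CommRingCat.ofHom (algebraMap R A))) (PrimeSpectrum.comap (incl r) y') ≤
      (d : WithBot ℕ∞) :=
    Specializes.mem_open (s := {x : PrimeSpectrum A |
        FlatMor.fibreDimAt (Spec.map (CommRingCat.ofHom (algebraMap R A))) x ≤ (d : WithBot ℕ∞)})
      (((PrimeSpectrum.le_iff_specializes y' y).1 hle).map (PrimeSpectrum.continuous_comap (incl r)))
      (FlatMorDim.isOpen_fibreDimAt_le (Spec.map (CommRingCat.ofHom (algebraMap R A))) d) hd
  obtain ⟨i, hi⟩ := DualLib.exists_mem_support hW y'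
  rw [(eSelf _ i).support_eq] at hi
  obtain ⟨h1, h2, h3⟩ := fibre_bounds ψ hψ adj r y' d hd' i hi
  obtain ⟨m', hm'⟩ : ∃ m' : ℕ, (m' : ℤ) = -i := ⟨(-i).toNat, by omega⟩
  have hdm : d ≤ m' := by exact_mod_cast hy'.trans (h3 m' hm')
  have hid : i = -(d : ℤ) := by omega
  subst hid
  have honly : ∀ i : ℤ, y' ∈ Module.support (r.ResidueField ⊗[R] A) (Dual.HD (r.ResidueField ⊗[R] A) W i) →
      i = -(d : ℤ) := fun i hi => by
    obtain ⟨g1, g2, g3⟩ := fibre_bounds ψ hψ adj r y' d hd' i hi
    obtain ⟨m', hm'⟩ : ∃ m' : ℕ, (m' : ℤ) = -i := ⟨(-i).toNat, by omega⟩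
    have : d ≤ m' := by exact_mod_cast hy'.trans (g3 m' hm')
    omega
  have hmd : m ≤ -(d : ℤ) := by
    by_contra hlt
    have h0 := (top_iff ψ hψ adj r y' (-(d : ℤ))).2 fun i hi' hmem => by have := honly i hmem; omega
    have h4 := (top_iff ψ hψ adj r y' (-(d : ℤ) - 1)).1 fun i hi' => by
      rcases eq_or_ne i m with rfl | hne
      · exact h0 i (by omega)
      · exact hm i hne _ hq'
    exact h4 _ (by omega) hi
  have hyd : y ∈ Module.support (r.ResidueField ⊗[R] A) (Dual.HD (r.ResidueField ⊗[R] A) W (-(d : ℤ))) :=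
    Module.mem_support_mono hle hi
  refine (Dual22Lib.isCM_iff_existsUnique hW y).2 ⟨-(d : ℤ), hyd, fun i hi' => ?_⟩
  obtain ⟨g1, -, -⟩ := fibre_bounds ψ hψ adj r y d hd i hi'
  by_contra hne
  exact (top_iff ψ hψ adj r y (-(d : ℤ))).1 (fun i hi => hm i (by omega) _ le_rfl) i (by omega) hi'

end Groth.Agent.DualLib.OmegaCM
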