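import Groth.Agent.DualLib.ShriekFlat

/-! `(g ∘ f)^! = g^! ∘ f^!` for ring maps, bounded below objects. -/

set_option autoImplicit false
set_option backward.isDefEq.respectTransparency false
set_option backward.defeqAttrib.useBackward true
set_option linter.style.haveILetI false

universe u

open CategoryTheory CategoryTheory.Limits DerivedCategory MvPolynomial

attribute [local instance] HasDerivedCategory.standard

namespace Groth.Agent.DualLib.Shriek

variable {S S' : Type u} [CommRing S] [CommRing S'] {φ : S →+* S'}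

lemma quasiIso_exCx_map (hφ : φ.Flat) {P N : DRing.Cx S} (s : P ⟶ N) [QuasiIso s] : QuasiIso ((exCx φ).map s) := by
  haveI : PreservesColimitsOfSize.{0, 0} (ModuleCat.extendScalars.{u, u, u} φ) :=
    (ModuleCat.extendRestrictScalarsAdj φ).leftAdjoint_preservesColimits
  haveI : (ModuleCat.extendScalars.{u, u, u} φ).PreservesMonomorphisms :=
    ⟨fun g _ => DCat.FlatPull.mono_extendScalars_of_flat φ hφ g⟩
  haveI : (ModuleCat.extendScalars.{u, u, u} φ).PreservesHomology :=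
    Functor.preservesHomology_of_preservesMonos_and_cokernels _
  infer_instance

/-- Derived base change along a flat map is termwise. -/
theorem nonempty_lbase_flat (hφ : φ.Flat) [DRing.HasLBaseChange φ] (N : DRing.Cx S) :
    Nonempty ((DRing.LBaseChange φ).obj (Q.obj N) ≅ Q.obj ((exCx φ).obj N)) := by
  obtain ⟨⟨P⟩, s, hP, hs⟩ := DCat.exists_kflatR ((HomotopyCategory.quotient _ (ComplexShape.up ℤ)).obj N)
  obtain ⟨s, rfl⟩ := (HomotopyCategory.quotient _ (ComplexShape.up ℤ)).map_surjective s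
  haveI : QuasiIso s := (HomotopyCategory.quotient_map_mem_quasiIso_iff s).1 hs
  haveI := quasiIso_exCx_map hφ s
  exact ⟨(DRing.LBaseChange φ).mapIso (asIso (Q.map s)).symm ≪≫ DCat.lbaseChangeIso φ hP ≪≫
    asIso (Q.map ((exCx φ).map s))⟩

/-- Flat base change preserves isomorphisms of complexes in the derived category. -/
theorem nonempty_exCx_iso (hφ : φ.Flat) {M N : DRing.Cx S} (e : Q.obj M ≅ Q.obj N) :
    Nonempty (Q.obj ((exCx φ).obj M) ≅ Q.obj ((exCx φ).obj N)) := by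
  haveI := DCat.hasLBaseChange φ
  obtain ⟨a⟩ := nonempty_lbase_flat hφ M
  obtain ⟨b⟩ := nonempty_lbase_flat hφ N
  exact ⟨a.symm ≪≫ (DRing.LBaseChange φ).mapIso e ≪≫ b⟩

/-- Flat base change commutes with shifts. -/
theorem nonempty_lbase_shift (hφ : φ.Flat) [DRing.HasLBaseChange φ] (N : DRing.Cx S) (n : ℤ) :
    Nonempty ((DRing.LBaseChange φ).obj ((Q.obj N)⟦n⟧) ≅ (Q.obj ((exCx φ).obj N))⟦n⟧) := by
  obtain ⟨e⟩ := nonempty_lbase_flat hφ (N⟦n⟧)
  exact ⟨(DRing.LBaseChange φ).mapIso (((Q (C := ModuleCat.{u} S)).commShiftIso n).app N).symm ≪≫ e ≪≫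
    Q.mapIso (((exCx φ).commShiftIso n).app N) ≪≫ ((Q (C := ModuleCat.{u} S')).commShiftIso n).app _⟩

lemma flat_C (R : Type u) [CommRing R] (σ : Type) : (C : R →+* MvPolynomial σ R).Flat := by
  rw [← MvPolynomial.algebraMap_eq, RingHom.flat_algebraMap_iff]
  infer_instance

/-- Composition. -/
theorem nonempty_shriekVia_comp {A B C' : Type u} [CommRing A] [CommRing B] [CommRing C'] [IsNoetherianRing A]
    [Algebra A B] [Algebra B C'] [Algebra A C'] [IsScalarTower A B C'] (n : ℕ)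
    (ψ : MvPolynomial (Fin n) A →+* B) (hψ : Function.Surjective ψ) (hψA : ψ.comp C = algebraMap A B)
    [DRing.HasLBaseChange (algebraMap A (MvPolynomial (Fin n) A))]
    (Rψ : Dual.D (MvPolynomial (Fin n) A) ⥤ Dual.D B) (adj : DRing.restrictD ψ ⊣ Rψ)
    (m : ℕ) (χ : MvPolynomial (Fin m) B →+* C') (hχ : Function.Surjective χ) (hχB : χ.comp C = algebraMap B C')
    [DRing.HasLBaseChange (algebraMap B (MvPolynomial (Fin m) B))]
    (Rχ : Dual.D (MvPolynomial (Fin m) B) ⥤ Dual.D C') (adjχ : DRing.restrictD χ ⊣ Rχ)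
    (k : ℕ) (θ : MvPolynomial (Fin k) A →+* C') (hθ : Function.Surjective θ) (hθA : θ.comp C = algebraMap A C')
    [DRing.HasLBaseChange (algebraMap A (MvPolynomial (Fin k) A))]
    (Rθ : Dual.D (MvPolynomial (Fin k) A) ⥤ Dual.D C') (adjθ : DRing.restrictD θ ⊣ Rθ)
    (K : Dual.D A) (c : ℤ) [K.IsGE c] :
    Nonempty (Dual2.shriekVia k Rθ K ≅ Dual2.shriekVia m Rχ (Dual2.shriekVia n Rψ K)) := by
  obtain ⟨N, hNc, hNK, hNi, ⟨eN⟩⟩ := DCat.Amplitude.exists_kInjective_rep K c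
  have hCn : (algebraMap A (MvPolynomial (Fin n) A)).Flat := by
    rw [MvPolynomial.algebraMap_eq]; exact flat_C A _
  obtain ⟨b₀⟩ := nonempty_lbase_flat hCn N
  let X₀ : Dual.D (MvPolynomial (Fin n) A) := Q.obj ((exCx (algebraMap A (MvPolynomial (Fin n) A))).obj N)
  haveI : CochainComplex.IsStrictlyGE ((exCx (algebraMap A (MvPolynomial (Fin n) A))).obj N) c :=
    (CochainComplex.isStrictlyGE_iff _ c).2 fun i hi =>
      (ModuleCat.extendScalars.{u, u, u} _).map_isZero ((CochainComplex.isStrictlyGE_iff N c).1 hNc i hi)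
  haveI : X₀.IsGE c := inferInstanceAs ((Q.obj _).IsGE c)
  let π' : MvPolynomial (Fin m) (MvPolynomial (Fin n) A) →+* MvPolynomial (Fin m) B := MvPolynomial.map ψ
  obtain ⟨R', ⟨adj'⟩⟩ := exists_rightAdjoint π'
  have hsq : (C : B →+* MvPolynomial (Fin m) B).comp ψ = π'.comp C :=
    RingHom.ext fun r => (MvPolynomial.map_C ψ r).symm
  obtain ⟨I, W, ⟨eI⟩, ⟨eW⟩, ⟨eF⟩⟩ := nonempty_flatBC hψ (MvPolynomial.map_surjective ψ hψ) hsq
    (MvPolynomial.ker_map ψ) (flat_C _ _) adj adj' X₀ c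
  let Ψ : MvPolynomial (Fin m) (MvPolynomial (Fin n) A) →+* C' := χ.comp π'
  let σ : MvPolynomial (Fin (m + n)) A →+* MvPolynomial (Fin m) (MvPolynomial (Fin n) A) :=
    ((renameEquiv A finSumFinEquiv.symm).trans (sumAlgEquiv A (Fin m) (Fin n))).toRingEquiv.toRingHom
  have hσ : Function.Bijective σ := RingEquiv.bijective _
  have hσC : σ.comp C = C.comp (algebraMap A (MvPolynomial (Fin n) A)) := RingHom.ext fun a => by
    show ((renameEquiv A finSumFinEquiv.symm).trans (sumAlgEquiv A (Fin m) (Fin n))) (algebraMap A _ a) = _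
    rw [AlgEquiv.commutes]
    rfl
  obtain ⟨RΨ, ⟨adjΨ⟩⟩ := exists_rightAdjoint Ψ
  obtain ⟨Rσ, ⟨adjσ⟩⟩ := exists_rightAdjoint σ
  obtain ⟨RΦ, ⟨adjΦ⟩⟩ := exists_rightAdjoint (Ψ.comp σ)
  haveI := DCat.hasLBaseChange (algebraMap A (MvPolynomial (Fin (m + n)) A))
  have hΦA : (Ψ.comp σ).comp C = algebraMap A C' := by
    rw [RingHom.comp_assoc, hσC]
    refine RingHom.ext fun a => ?_
    show χ (π' (C (algebraMap A _ a))) = _
    rw [MvPolynomial.map_C, MvPolynomial.algebraMap_eq]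
    show χ.comp C (ψ.comp C a) = _
    rw [hψA, hχB, ← IsScalarTower.algebraMap_apply]
  obtain ⟨e₀⟩ := nonempty_shriekVia_iso k θ hθ hθA Rθ adjθ (m + n) (Ψ.comp σ)
    ((hχ.comp (MvPolynomial.map_surjective ψ hψ)).comp hσ.2) hΦA RΦ adjΦ K
  have hCmn : (algebraMap A (MvPolynomial (Fin (m + n)) A)).Flat := by
    rw [MvPolynomial.algebraMap_eq]; exact flat_C A _
  obtain ⟨b₁⟩ := nonempty_lbase_flat hCmn N
  obtain ⟨e₁⟩ := nonempty_comp_obj rfl adjσ adjΨ adjΦ (Q.obj ((exCx (algebraMap A (MvPolynomial (Fin (m + n)) A))).obj N))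
  obtain ⟨e₂⟩ := frob_of_bijective σ hσ Rσ adjσ ((exCx (algebraMap A (MvPolynomial (Fin (m + n)) A))).obj N)
  let c₂ : (exCx σ).obj ((exCx (algebraMap A (MvPolynomial (Fin (m + n)) A))).obj N) ≅
      (exCx C).obj ((exCx (algebraMap A (MvPolynomial (Fin n) A))).obj N) :=
    (exComp _ σ _ rfl N).symm ≪≫ exComp _ C _ (by rw [MvPolynomial.algebraMap_eq]; exact hσC) N
  obtain ⟨e₃⟩ := nonempty_exCx_iso (flat_C (MvPolynomial (Fin n) A) (Fin m)) eI
  obtain ⟨e₄⟩ := nonempty_comp_obj rfl adj' adjχ adjΨ (Q.obj ((exCx C).obj I))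
  have hCm : (algebraMap B (MvPolynomial (Fin m) B)).Flat := by
    rw [MvPolynomial.algebraMap_eq]; exact flat_C B _
  obtain ⟨e₅⟩ := nonempty_lbase_shift hCm W (n : ℤ)
  obtain ⟨e₆⟩ := nonempty_shift_obj adjχ (Q.obj ((exCx (algebraMap B (MvPolynomial (Fin m) B))).obj W)) (n : ℤ)
  let L : RΦ.obj ((DRing.LBaseChange (algebraMap A (MvPolynomial (Fin (m + n)) A))).obj K) ≅
      Rχ.obj (Q.obj ((exCx (algebraMap B (MvPolynomial (Fin m) B))).obj W)) :=
    RΦ.mapIso ((DRing.LBaseChange _).mapIso eN.symm ≪≫ b₁) ≪≫ e₁ ≪≫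
      RΨ.mapIso (e₂ ≪≫ Q.mapIso c₂ ≪≫ e₃.symm) ≪≫ e₄ ≪≫ Rχ.mapIso eF
  let Y : Dual2.shriekVia n Rψ K ≅ (Q.obj W)⟦(n : ℤ)⟧ :=
    (shiftFunctor (Dual.D B) (n : ℤ)).mapIso (Rψ.mapIso ((DRing.LBaseChange _).mapIso eN.symm ≪≫ b₀) ≪≫ eW)
  exact ⟨e₀ ≪≫ (shiftFunctor (Dual.D C') ((m + n : ℕ) : ℤ)).mapIso L ≪≫
    (shiftFunctorAdd' (Dual.D C') (n : ℤ) (m : ℤ) ((m + n : ℕ) : ℤ) (by omega)).app _ ≪≫
    (shiftFunctor (Dual.D C') (m : ℤ)).mapIso
      (e₆.symm ≪≫ Rχ.mapIso (e₅.symm ≪≫ (DRing.LBaseChange _).mapIso Y.symm))⟩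

end Groth.Agent.DualLib.Shriek
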