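import Groth.Agent.DualLib.ShriekGrade
import Groth.Agent.DualLib.ShriekCompose
import Groth.Agent.Dual22Lib.FiniteShriek
import Groth.Agent.LocCoh.Depth

/-! Degrees of `ω_{A/R}`. -/

set_option autoImplicit false
set_option backward.isDefEq.respectTransparency false
set_option backward.defeqAttrib.useBackward true
set_option linter.style.haveILetI false

universe u

open CategoryTheory CategoryTheory.Limits DerivedCategory
open scoped TensorProduct

attribute [local instance] HasDerivedCategory.standard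

namespace Groth.Agent.DualLib.Shriek

open Groth.Agent.DualLib.FiniteAdjoint

/-- `Ext^j(B/J, B) = 0` below the depth. -/
theorem subsingleton_E_of_le_idealDepth {B : Type u} [CommRing B] [IsNoetherianRing B] (J : Ideal B) (c : ℕ)
    (hc : (c : ℕ∞) ≤ _root_.LocCoh.idealDepth J B) (j : ℤ) (hj : j < c) :
    Subsingleton (E (Dual.inD B B) (B ⧸ J) j) := by
  rcases lt_or_ge j 0 with h | h
  · haveI : (Dual.inD B B).IsGE 0 := inferInstance
    exact subsingleton_E_of_lt 0 (B ⧸ J) j h
  · lift j to ℕ using h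
    haveI := (Groth.Agent.LocCoh.natCast_le_idealDepth_iff_ext J B c).1 hc j (by exact_mod_cast hj)
    exact (Abelian.Ext.homEquiv (X := ModuleCat.of B (B ⧸ J)) (Y := ModuleCat.of B B) (n := j)).symm.injective.subsingleton

/-- Localization. -/
theorem localized_E_torsion {P : Type u} [CommRing P] [IsNoetherianRing P] (I p : Ideal P) [p.IsPrime] (c : ℕ)
    (hc : (c : ℕ∞) ≤ _root_.LocCoh.idealDepth (I.map (algebraMap P (Localization.AtPrime p))) (Localization.AtPrime p))
    (j : ℤ) (hj : j < c) (θ : E (Dual.inD P P) (P ⧸ I) j) : ∃ s ∈ p.primeCompl, s • θ = 0 := by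
  let B := Localization.AtPrime p
  haveI : Module.Flat P B := IsLocalization.flat B p.primeCompl
  haveI := preservesFiniteLimits_flat (A := P) (B := B)
  haveI := preservesFiniteColimits_ext (A := P) (B := B)
  haveI : (Dual.inD P P).IsGE 0 := inferInstance
  refine (subsingleton_E_iff (B := B) p.primeCompl (P ⧸ I) (Y := Dual.inD P P) (a := 0) inferInstance j).1 ?_ θ
  haveI := subsingleton_E_of_le_idealDepth (I.map (algebraMap P B)) c hc j hj
  obtain ⟨eM⟩ := nonempty_ext_tensor (B := B) (ModuleCat.of P (P ⧸ I))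
  obtain ⟨eP⟩ := nonempty_ext_tensor (B := B) (ModuleCat.of P P)
  let eF : (ModuleCat.extendScalars.{u, u, u} (algebraMap P B)).obj (ModuleCat.of P (P ⧸ I)) ≃ₗ[B]
      B ⧸ I.map (algebraMap P B) :=
    eM ≪≫ₗ (Algebra.TensorProduct.quotIdealMapEquivTensorQuot B I).symm.toLinearEquiv
  let eY : (extD (algebraMap P B)).obj (Dual.inD P P) ≅ Dual.inD B B :=
    extSingle (B := B) P ≪≫ (singleFunctor (ModuleCat.{u} B) 0).mapIso
      (eP ≪≫ₗ TensorProduct.AlgebraTensorModule.rid P B B).toModuleIso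
  exact ((Linear.homCongr B (Iso.refl _) ((shiftFunctor (Dual.D B) j).mapIso eY)) ≪≫ₗ
    (econgr (Dual.inD B B) eF j).symm).injective.subsingleton

variable {R A : Type u} [CommRing R] [IsNoetherianRing R] [CommRing A] [Algebra R A] {n : ℕ}
  (ψ : MvPolynomial (Fin n) R →ₐ[R] A) (hψ : Function.Surjective ψ)
  [DRing.HasLBaseChange (algebraMap R (MvPolynomial (Fin n) R))]
  {Rψ : Dual.D (MvPolynomial (Fin n) R) ⥤ Dual.D A} (adj : DRing.restrictD ψ.toRingHom ⊣ Rψ)

/-- `R ⊗ P = P`. -/
theorem nonempty_lbase_inD :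
    Nonempty ((DRing.LBaseChange (algebraMap R (MvPolynomial (Fin n) R))).obj (Dual.inD R R) ≅
      Dual.inD (MvPolynomial (Fin n) R) (MvPolynomial (Fin n) R)) := by
  let P := MvPolynomial (Fin n) R
  haveI := preservesFiniteLimits_flat (A := R) (B := P)
  haveI := preservesFiniteColimits_ext (A := R) (B := P)
  obtain ⟨e⟩ := nonempty_LBaseChange_iso (RingHom.flat_algebraMap_iff.2 (inferInstance : Module.Flat R P)) (Dual.inD R R)
  obtain ⟨eP⟩ := nonempty_ext_tensor (B := P) (ModuleCat.of R R)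
  exact ⟨e ≪≫ extSingle (B := P) R ≪≫ (singleFunctor (ModuleCat.{u} P) 0).mapIso
    (eP ≪≫ₗ TensorProduct.AlgebraTensorModule.rid R P P).toModuleIso⟩

include hψ adj in
/-- Support of `H^i(φ^! R)` via `Ext_P(A, P)`. -/
theorem nontrivial_localized_iff (q : Ideal A) [q.IsPrime] (i : ℤ) :
    Nontrivial (LocalizedModule q.primeCompl (Dual.HD A (Dual2.shriekVia n Rψ (Dual.inD R R)) i)) ↔
      Nontrivial (LocalizedModule (q.comap ψ.toRingHom).primeCompl
        (E (Dual.inD (MvPolynomial (Fin n) R) (MvPolynomial (Fin n) R))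
          (MvPolynomial (Fin n) R ⧸ RingHom.ker ψ.toRingHom) ((n : ℤ) + i))) := by
  let P := MvPolynomial (Fin n) R
  letI : Algebra P A := ψ.toRingHom.toAlgebra
  obtain ⟨b⟩ := nonempty_lbase_inD (R := R) (n := n)
  let L := Dual.inD P P
  let σ : Dual.HD A (Dual2.shriekVia n Rψ (Dual.inD R R)) i ≃ₗ[A] Dual.HD A (Rψ.obj L) ((n : ℤ) + i) :=
    (((homologyFunctor (ModuleCat.{u} A) 0).shiftIso (n : ℤ) i ((n : ℤ) + i) rfl).app _).toLinearEquiv ≪≫ₗ
      ((homologyFunctor (ModuleCat.{u} A) ((n : ℤ) + i)).mapIso (Rψ.mapIso b)).toLinearEquiv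
  obtain ⟨e, he⟩ := exists_relE (A := P) (B := A) adj A L ((n : ℤ) + i)
  let l : P →ₗ[P] res P A A :=
    { toFun := fun a => (ψ a : A)
      map_add' := fun a b => map_add ψ a b
      map_smul' := fun a b => map_mul ψ a b }
  let φ : (P ⧸ RingHom.ker ψ.toRingHom) →ₗ[P] res P A A := Submodule.liftQ _ l fun a ha => ha
  have hφ : Function.Bijective φ := by
    refine ⟨?_, fun z => ?_⟩
    · rw [← LinearMap.ker_eq_bot, Submodule.ker_liftQ, eq_bot_iff]
      rintro _ ⟨a, ha, rfl⟩
      rw [Submodule.mem_bot, Submodule.mkQ_apply, Submodule.Quotient.mk_eq_zero]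
      exact ha
    · obtain ⟨a, ha⟩ := hψ z
      exact ⟨Submodule.Quotient.mk a, ha⟩
  let τ := σ ≪≫ₗ (eSelf (Rψ.obj L) ((n : ℤ) + i)).symm
  let c := econgr L (LinearEquiv.ofBijective φ hφ) ((n : ℤ) + i)
  refine Dual22Lib.nontrivial_localized_iff_of_semilinear (A := P) (B := A) hψ
    ((τ.toAddEquiv.trans e).trans c.toAddEquiv) (fun a m => ?_) q
  show c (e (τ (algebraMap P A a • m))) = a • c (e (τ m))
  rw [map_smul, he, map_smul]

include hψ adj in
/-- The lower bound on the degrees. -/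
theorem neg_le_of_nontrivial [Algebra.FiniteType R A] (q : PrimeSpectrum A) (d : ℕ)
    (hd : FlatMor.fibreDimAt (AlgebraicGeometry.Spec.map (CommRingCat.ofHom (algebraMap R A))) q ≤ (d : WithBot ℕ∞))
    (i : ℤ) (h : Nontrivial (LocalizedModule q.asIdeal.primeCompl
      (Dual.HD A (Dual2.shriekVia n Rψ (Dual.inD R R)) i))) : -(d : ℤ) ≤ i := by
  by_contra hlt
  rw [nontrivial_localized_iff ψ hψ adj q.asIdeal i] at h
  let p := q.asIdeal.comap ψ.toRingHom
  refine not_subsingleton_iff_nontrivial.2 h ?_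
  rw [LocalizedModule.subsingleton_iff]
  intro θ
  have hc := natCast_le_idealDepth_ker n ψ hψ q d (n - d)
  rcases le_or_gt d n with hdn | hdn
  · exact localized_E_torsion _ p (n - d) (hc (by omega) hd) _ (by omega) θ
  · haveI : (Dual.inD (MvPolynomial (Fin n) R) (MvPolynomial (Fin n) R)).IsGE 0 := inferInstance
    haveI := subsingleton_E_of_lt (W := Dual.inD (MvPolynomial (Fin n) R) (MvPolynomial (Fin n) R)) 0
      (MvPolynomial (Fin n) R ⧸ RingHom.ker ψ.toRingHom) ((n : ℤ) + i) (by omega)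
    exact ⟨1, one_mem _, Subsingleton.elim _ _⟩

end Groth.Agent.DualLib.Shriek
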