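import Groth.Agent.DualLib.OmegaRigid
import Groth.Agent.DualLib.ShriekDeg
import Groth.Agent.EGA43.FibDepth.FibreDim

/-! `ω_{A/R}` for flat `R → A`: endomorphisms. -/

set_option autoImplicit false
set_option backward.isDefEq.respectTransparency false
set_option backward.defeqAttrib.useBackward true
set_option linter.style.haveILetI false

universe u

open CategoryTheory CategoryTheory.Limits DerivedCategory

attribute [local instance] HasDerivedCategory.standard

namespace Groth.Agent.DualLib.Omega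

open Groth.Agent Groth.Agent.DualLib.Shriek

/-- Scalars on an object are transported along isomorphisms and shifts. -/
theorem bijective_smul_id_of_iso {B : Type u} [CommRing B] {X Y : Dual.D B} (e : X ≅ Y)
    (h : Function.Bijective fun a : B => a • 𝟙 X) : Function.Bijective fun a : B => a • 𝟙 Y := by
  have h' : (fun a : B => a • 𝟙 Y) = Iso.homCongr e e ∘ fun a => a • 𝟙 X := funext fun a => by
    simp [Iso.homCongr]
  rw [h']
  exact (Iso.homCongr e e).bijective.comp h

theorem bijective_smul_id_shift {B : Type u} [CommRing B] (X : Dual.D B) (k : ℤ)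
    (h : Function.Bijective fun a : B => a • 𝟙 X) :
    Function.Bijective fun a : B => a • 𝟙 (X⟦k⟧) := by
  have h' : (fun a : B => a • 𝟙 (X⟦k⟧)) =
      (fun g : X ⟶ X => (shiftFunctor (Dual.D B) k).map g) ∘ fun a => a • 𝟙 X := funext fun a => by
    show _ = (shiftFunctor (Dual.D B) k).map (a • 𝟙 X)
    rw [Functor.map_smul, CategoryTheory.Functor.map_id]
  rw [h']
  exact (Functor.FullyFaithful.ofFullyFaithful (shiftFunctor (Dual.D B) k)).map_bijective X X |>.comp h

variable {R A : Type u} [CommRing R] [IsNoetherianRing R] [CommRing A] [Algebra R A] [Module.Flat R A] {n : ℕ}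
  (ψ : MvPolynomial (Fin n) R →ₐ[R] A) (hψ : Function.Surjective ψ)

include hψ in
/-- The resolution of a presentation. -/
theorem exists_res : ∃ (F : DRing.Cx (MvPolynomial (Fin n) R))
    (π : F ⟶ sgl (P := MvPolynomial (Fin n) R) ((ModuleCat.restrictScalars ψ.toRingHom).obj (ModuleCat.of A A))),
      Res ψ.toRingHom F n π := by
  let A' := (ModuleCat.restrictScalars ψ.toRingHom).obj (ModuleCat.of A A)
  haveI : Module.Finite (MvPolynomial (Fin n) R) A' := by
    letI : Algebra (MvPolynomial (Fin n) R) A := ψ.toRingHom.toAlgebra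
    exact (Module.Finite.of_surjective (Algebra.linearMap (MvPolynomial (Fin n) R) A) hψ :
      Module.Finite (MvPolynomial (Fin n) R) A)
  obtain ⟨F, π, h1, h2, h3, h4⟩ := exists_resolution n A' (pdLE_restrict ψ hψ)
  exact ⟨F, π, ⟨hψ, h2, h1, h3, h4⟩⟩

variable [DRing.HasLBaseChange (algebraMap R (MvPolynomial (Fin n) R))]
  {Rψ : Dual.D (MvPolynomial (Fin n) R) ⥤ Dual.D A}

omit [Module.Flat R A] in
/-- `ω_{A/R}` as a shift. -/
theorem nonempty_shriekVia_iso_om :
    Nonempty (Dual2.shriekVia n Rψ (Dual.inD R R) ≅ (om Rψ)⟦(n : ℤ)⟧) := by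
  obtain ⟨b⟩ := nonempty_lbase_inD (R := R) (n := n)
  exact ⟨(shiftFunctor (Dual.D A) (n : ℤ)).mapIso (Rψ.mapIso (b ≪≫
    (DerivedCategory.singleFunctorIsoCompQ (ModuleCat.{u} (MvPolynomial (Fin n) R)) 0).app _))⟩

variable (adj : DRing.restrictD ψ.toRingHom ⊣ Rψ)

include hψ adj in
/-- `End(ω) = A`. -/
theorem bijective_smul_id_shriekVia :
    Function.Bijective (fun a : A => a • 𝟙 (Dual2.shriekVia n Rψ (Dual.inD R R))) ∧
      ∀ i : ℤ, i ≠ 0 → Subsingleton (Dual2.shriekVia n Rψ (Dual.inD R R) ⟶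
        (Dual2.shriekVia n Rψ (Dual.inD R R))⟦i⟧) := by
  obtain ⟨F, π, h⟩ := exists_res ψ hψ
  obtain ⟨e⟩ := nonempty_shriekVia_iso_om (A := A) (Rψ := Rψ) (R := R) (n := n)
  refine ⟨bijective_smul_id_of_iso e.symm (bijective_smul_id_shift _ _ (bijective_smul_id h adj)), fun i hi => ?_⟩
  haveI := subsingleton_self_shift h adj i hi
  haveI : Subsingleton ((om Rψ)⟦(n : ℤ)⟧ ⟶ ((om Rψ)⟦i⟧)⟦(n : ℤ)⟧) :=
    ((Functor.FullyFaithful.ofFullyFaithful (shiftFunctor (Dual.D A) (n : ℤ))).map_bijective _ _).2.subsingleton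
  exact (Iso.homCongr e ((shiftFunctor (Dual.D A) i).mapIso e ≪≫ shiftComm (om Rψ) (n : ℤ) i)).injective.subsingleton

omit [Module.Flat R A] [DRing.HasLBaseChange (algebraMap R (MvPolynomial (Fin n) R))] in
include hψ in
/-- Fibres have dimension at most `n`. -/
theorem fibreDimAt_le (q : PrimeSpectrum A) :
    FlatMor.fibreDimAt (AlgebraicGeometry.Spec.map (CommRingCat.ofHom (algebraMap R A))) q ≤ (n : WithBot ℕ∞) := by
  haveI : Algebra.FiniteType R A := Algebra.FiniteType.of_surjective ψ hψ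
  let f := AlgebraicGeometry.Spec.map (CommRingCat.ofHom (algebraMap R A))
  haveI : AlgebraicGeometry.LocallyOfFiniteType f :=
    (AlgebraicGeometry.HasRingHomProperty.Spec_iff (P := @AlgebraicGeometry.LocallyOfFiniteType)).2
      ((RingHom.finiteType_algebraMap (A := R) (B := A)).2 inferInstance)
  refine (FlatMorDim.fibreDimAt_le_iff f q n).2 fun q' _ _ => ?_
  have h0 := EGA43.DimFormula.trdegHom_specMap (R := CommRingCat.of R) (S := CommRingCat.of A)
    (CommRingCat.ofHom (algebraMap R A)) q'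
  have hA : (CommRingCat.ofHom (algebraMap R A)).hom.toAlgebra = ‹Algebra R A› :=
    Algebra.algebra_ext _ _ fun _ => rfl
  rw [hA] at h0
  refine le_of_eq_of_le h0 ?_
  rw [← EGA43.FibDepth.trd_comap_of_surjectiveOnStalks ψ (RingHom.surjectiveOnStalks_of_surjective hψ) q']
  exact EGA43.FibDepth.trd_mvPolynomial_le _

end Groth.Agent.DualLib.Omega
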