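import Groth.Agent.DualLib.ShriekLocal
import Groth.Agent.DualLib.GorOpen
import Groth.Agent.Dual22Lib.Lpull
import Groth.Agent.Dual22Lib.GorInvertible

/-!
# The Gorenstein points of a flat morphism are the points where `f^! O` is invertible
-/

set_option autoImplicit false
set_option backward.isDefEq.respectTransparency false
set_option backward.defeqAttrib.useBackward true
set_option linter.style.haveILetI false
set_option linter.unusedSectionVars false
set_option synthInstance.maxHeartbeats 100000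

universe u

open CategoryTheory CategoryTheory.Limits AlgebraicGeometry Opposite
open Groth.Agent.DCat Groth.Agent.Dual22Lib
open scoped TensorProduct

attribute [local instance] HasDerivedCategory.standard
attribute [-instance] Int.instConditionallyCompleteLinearOrder

namespace Groth.Agent.DualLib.ShriekGor

variable [∀ (U V : Scheme.{u}) (j : U ⟶ V) [IsOpenImmersion j], PreservesFiniteLimits (Scheme.Modules.restrictFunctor j)]
  [∀ (S : CommRingCat.{u}), PreservesFiniteLimits (tilde.functor S)]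

variable {X Y : Scheme.{u}}

/-- Charts of a flat morphism are flat. -/
theorem flat_chart {f : X ⟶ Y} [Flat f] {G : DCoh.D X} {x : X} (C : ShriekLocal.Chart f G x) :
    Module.Flat C.R C.B := by
  haveI : Flat (Spec.map (CommRingCat.ofHom (algebraMap C.R C.B)) ≫ C.jY) := by
    rw [← C.comm]; infer_instance
  haveI : Flat (Spec.map (CommRingCat.ofHom (algebraMap C.R C.B))) := Flat.of_stalkMap _ fun y => by
    have h := Flat.stalkMap (Spec.map (CommRingCat.ofHom (algebraMap C.R C.B)) ≫ C.jY) y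
    rw [Scheme.Hom.stalkMap_comp] at h
    let σ := (asIso (C.jY.stalkMap ((Spec.map (CommRingCat.ofHom (algebraMap C.R C.B))) y))).commRingCatIsoToRingEquiv
    have h' := RingHom.Flat.comp (RingHom.Flat.of_bijective (f := σ.symm.toRingHom) σ.symm.bijective) h
    have hc : ((C.jY.stalkMap _ ≫ (Spec.map (CommRingCat.ofHom (algebraMap C.R C.B))).stalkMap y).hom).comp
        σ.symm.toRingHom = ((Spec.map (CommRingCat.ofHom (algebraMap C.R C.B))).stalkMap y).hom :=
      RingHom.ext fun a => congrArg ((Spec.map (CommRingCat.ofHom (algebraMap C.R C.B))).stalkMap y).hom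
        (σ.apply_symm_apply a)
    exact hc ▸ h'
  exact RingHom.flat_algebraMap_iff.1 ((Flat.SpecMap_iff (f := CommRingCat.ofHom (algebraMap C.R C.B))).1 inferInstance)

/-- Gorenstein at a point, seen in a chart. -/
theorem gorAt_chart_iff {f : X ⟶ Y} [Flat f] {G : DCoh.D X} {x : X} (C : ShriekLocal.Chart f G x) :
    Dual3.IsGorensteinAt f x ↔ ∃ (g : C.B) (_ : g ∉ C.pt.asIdeal) (m : ℤ)
      (_ : DRing.HasLBaseChange (algebraMap C.B (Localization.Away g))),
      Nonempty ((DRing.LBaseChange (algebraMap C.B (Localization.Away g))).obj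
        (Dual2.shriekVia C.n C.Rψ (Dual.inD C.R C.R)) ≅ (Dual.inD (Localization.Away g) (Localization.Away g))⟦m⟧) := by
  haveI := flat_chart C
  haveI : ∀ g : C.B, DRing.HasLBaseChange (algebraMap C.B (Localization.Away g)) := fun g => DCat.hasLBaseChange _
  have h0 : Dual3.IsGorensteinAt f x ↔
      Dual3.IsGorensteinAt (Spec.map (CommRingCat.ofHom (algebraMap C.R C.B))) C.pt := by
    have key : ∀ (u v : Spec (CommRingCat.of C.B) ⟶ Y), u = v →
        (Dual3.IsGorensteinAt u C.pt ↔ Dual3.IsGorensteinAt v C.pt) := by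
      intro u v huv; subst huv; exact Iff.rfl
    have hpt : Dual3.IsGorensteinAt f x ↔ Dual3.IsGorensteinAt f (C.jX C.pt) := by rw [C.hpt]
    exact hpt.trans ((isGorensteinAt_openImmersion_comp_iff C.jX f C.pt).symm.trans
      ((key _ _ C.comm).trans (isGorensteinAt_comp_openImmersion_iff _ C.jY C.pt)))
  obtain ⟨y, hy⟩ := OmegaGor.exists_prime_over (R := C.R) C.pt
  let q : PrimeSpectrum C.B := C.pt
  have hmem : Dual3.IsGorensteinAt (Spec.map (CommRingCat.ofHom (algebraMap C.R C.B))) q ↔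
      LocCoh.IsGorensteinLocalRing (Localization.AtPrime y.asIdeal) := by
    have key : ∀ (Q : Ideal C.B) [Q.IsPrime], Q = q.asIdeal →
        (LocCoh.IsGorensteinLocalRing (EGA4.FibLocRing C.R C.B Q) ↔
          LocCoh.IsGorensteinLocalRing (EGA4.FibLocRing C.R C.B q.asIdeal)) := by
      rintro Q _ rfl
      exact Iff.rfl
    obtain ⟨-, ⟨e⟩⟩ := CommAlg6.fiber_localization_equiv (A := C.R) (B := C.B)
      (q.asIdeal.comap (algebraMap C.R C.B)) y.asIdeal
    rw [GorOpen.gorAt_spec_iff C.R C.B q, ← key _ hy.symm]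
    exact (DualLib.GorFlat.gor_congr e).symm
  rw [h0]
  refine ⟨fun h => ?_, fun ⟨g, hg, m, _, ⟨e⟩⟩ => hmem.2 ?_⟩
  · obtain ⟨g, hg, m, he⟩ := GorOpen.invertible_of_gorenstein_at C.ψ C.surj C.adj q y hy (hmem.1 h)
    exact ⟨g, hg, m, inferInstance, he⟩
  · let k := (q.asIdeal.comap (algebraMap C.R C.B)).ResidueField
    haveI : IsNoetherianRing (k ⊗[C.R] C.B) := Algebra.FiniteType.isNoetherianRing k _
    let α := (Algebra.TensorProduct.includeRight : C.B →ₐ[C.R] k ⊗[C.R] C.B).toRingHom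
    haveI := DCat.hasLBaseChange α
    exact OmegaGor.gorenstein_localization α _ (OmegaGor.isDualizing_fibre C.ψ C.surj C.adj k) y.asIdeal g
      (fun hh => hg (hy ▸ hh)) m e

/-- Invertible near a point, seen in a chart. -/
theorem invertible_chart_iff {f : X ⟶ Y} {G : DCoh.D X} {x : X} (C : ShriekLocal.Chart f G x) :
    (∃ U : X.Opens, x ∈ U ∧ Dual3.IsInvertibleD ((DCoh.restrictD U.ι).obj G)) ↔
    ∃ (g : C.B) (_ : g ∉ C.pt.asIdeal) (m : ℤ)
      (_ : DRing.HasLBaseChange (algebraMap C.B (Localization.Away g))),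
      Nonempty ((DRing.LBaseChange (algebraMap C.B (Localization.Away g))).obj
        (Dual2.shriekVia C.n C.Rψ (Dual.inD C.R C.R)) ≅ (Dual.inD (Localization.Away g) (Localization.Away g))⟦m⟧) := by
  constructor
  · rintro ⟨U, hxU, hU⟩
    obtain ⟨V, m, hxV, ⟨eV⟩⟩ := hU ⟨x, hxU⟩
    let l : (V : Scheme.{u}) ⟶ X := V.ι ≫ U.ι
    obtain ⟨cV⟩ := DCat.PerfLocal.rd_comp V.ι U.ι G
    let eG : (DCoh.restrictD l).obj G ≅
        (DCoh.inD (V : Scheme.{u}) (Coh.structureModule (V : Scheme.{u})))⟦m⟧ := cV ≪≫ eV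
    obtain ⟨_, ⟨g, rfl⟩, hg, hsub⟩ :=
      PrimeSpectrum.isTopologicalBasis_basic_opens.exists_subset_of_mem_open
        (show C.pt ∈ C.jX ⁻¹' (Set.range l) from ⟨⟨⟨x, hxU⟩, hxV⟩, C.hpt.symm⟩)
        (l.isOpenEmbedding.isOpen_range.preimage C.jX.continuous)
    let A' := Localization.Away g
    let ι₁ : Spec (CommRingCat.of A') ⟶ Spec (CommRingCat.of C.B) := Spec.map (CommRingCat.ofHom (algebraMap C.B A'))
    haveI : IsOpenImmersion ι₁ := IsOpenImmersion.of_isLocalization g
    obtain ⟨_, _⟩ := preserves_extendScalars (B := A') (Submonoid.powers g)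
    haveI := DCat.hasLBaseChange (algebraMap C.B A')
    obtain ⟨e₁⟩ := nonempty_chart_restrict (X := X) (algebraMap C.B A') C.jX C.iso (ι₁ ≫ C.jX) rfl
    have hr : Set.range (ι₁ ≫ C.jX) ⊆ Set.range l := by
      rintro _ ⟨z, rfl⟩
      exact hsub ((PrimeSpectrum.localization_away_comap_range A' g).le ⟨z, rfl⟩)
    let k := IsOpenImmersion.lift l (ι₁ ≫ C.jX) hr
    have hk : k ≫ l = ι₁ ≫ C.jX := IsOpenImmersion.lift_fac _ _ _
    haveI : IsOpenImmersion (k ≫ l) := by rw [hk]; infer_instance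
    haveI : IsOpenImmersion k := IsOpenImmersion.of_comp k l
    obtain ⟨cw⟩ := DCat.PerfLocal.rd_comp k l G
    have key : ∀ (u : Spec (CommRingCat.of A') ⟶ X) [IsOpenImmersion u], u = k ≫ l →
        Nonempty ((DCoh.restrictD u).obj G ≅ (DCoh.restrictD (k ≫ l)).obj G) := by
      intro u _ hu; subst hu; exact ⟨Iso.refl _⟩
    obtain ⟨ek⟩ := key _ hk.symm
    obtain ⟨eω⟩ := exists_iso_of_tildeD_iso
      (e₁.symm ≪≫ ek ≪≫ cw ≪≫ (DCoh.restrictD k).mapIso eG ≪≫ restrictShiftIso k m ≪≫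
        (tildeShiftIso (CommRingCat.of A') m).symm)
    exact ⟨g, hg, m, inferInstance, ⟨(LBC.extIso (algebraMap C.B A')).app _ ≪≫ eω⟩⟩
  · rintro ⟨g, hg, m, hL, ⟨eω⟩⟩
    let A' := Localization.Away g
    let ι₁ : Spec (CommRingCat.of A') ⟶ Spec (CommRingCat.of C.B) := Spec.map (CommRingCat.ofHom (algebraMap C.B A'))
    haveI : IsOpenImmersion ι₁ := IsOpenImmersion.of_isLocalization g
    obtain ⟨_, _⟩ := preserves_extendScalars (B := A') (Submonoid.powers g)
    let k := ι₁ ≫ C.jX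
    obtain ⟨e₁⟩ := nonempty_chart_restrict (X := X) (algebraMap C.B A') C.jX C.iso k rfl
    let eK := e₁ ≪≫ (DCoh.tildeD (CommRingCat.of A')).mapIso (((LBC.extIso (algebraMap C.B A')).app _).symm ≪≫ eω) ≪≫
      tildeShiftIso (CommRingCat.of A') m
    refine ⟨k.opensRange, ?_, fun z => ⟨⊤, m, trivial, ?_⟩⟩
    · obtain ⟨y₂, hy₂⟩ := (PrimeSpectrum.localization_away_comap_range A' g).ge hg
      exact ⟨y₂, by show C.jX (ι₁ y₂) = x; exact (congrArg _ hy₂).trans C.hpt⟩
    · obtain ⟨cc⟩ := DCat.PerfLocal.rd_comp k.isoOpensRange.inv k G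
      have key : ∀ (l : (k.opensRange : Scheme.{u}) ⟶ X) [IsOpenImmersion l], k.isoOpensRange.inv ≫ k = l →
          Nonempty ((DCoh.restrictD l).obj G ≅
            (DCoh.inD (k.opensRange : Scheme.{u}) (Coh.structureModule (k.opensRange : Scheme.{u})))⟦m⟧) := by
        intro l _ hl
        subst hl
        exact ⟨cc ≪≫ (DCoh.restrictD _).mapIso eK ≪≫ restrictShiftIso _ _⟩
      obtain ⟨e⟩ := key _ k.isoOpensRange_inv_comp
      exact ⟨(DCoh.restrictD (⊤ : (k.opensRange : Scheme.{u}).Opens).ι).mapIso e ≪≫ restrictShiftIso _ _⟩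

end Groth.Agent.DualLib.ShriekGor
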