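import Groth.Agent.DualLib.ShriekLocal
import Groth.Agent.DualLib.ShriekGor
import Groth.Agent.DualLib.OmegaCM
import Groth.Agent.EGA43.CMChart.Main
import Groth.Agent.Dual22Lib.Lpull
import Groth.Agent.DualLib.OmegaShriek
import Groth.Agent.DCat.LTensorModule

/-!
# Cohen–Macaulay points of a flat morphism and concentration of `f^! O`
-/

set_option autoImplicit false
set_option backward.isDefEq.respectTransparency false
set_option backward.defeqAttrib.useBackward true
set_option linter.style.haveILetI false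
set_option linter.unusedSectionVars false
set_option synthInstance.maxHeartbeats 100000

universe u

open CategoryTheory CategoryTheory.Limits AlgebraicGeometry Opposite
open Groth.Agent.DCat Groth.Agent.Dual22Lib
open scoped TensorProduct

attribute [local instance] HasDerivedCategory.standard
attribute [-instance] Int.instConditionallyCompleteLinearOrder

namespace Groth.Agent.DualLib.ShriekCM

variable [∀ (U V : Scheme.{u}) (j : U ⟶ V) [IsOpenImmersion j], PreservesFiniteLimits (Scheme.Modules.restrictFunctor j)]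

/-- Charts exist around every point, in the open given by a property stable under shrinking. -/
theorem nonempty_chart_within {X Y : Scheme.{u}} [IsNoetherian Y] {f : X ⟶ Y} [LocallyOfFiniteType f]
    (c : DEt.Compactification f)
    [DCoh.HasRpush c.fbar] (hc : DCoh.RpushPreservesQCoh c.fbar) (a : DCoh.DQCoh Y ⥤ DCoh.DQCoh c.Xbar)
    (adj : DCoh.RpushQ c.fbar hc ⊣ a) (O : DCoh.DQCoh Y)
    (hO : Nonempty (O.obj ≅ DCoh.inD Y (Coh.structureModule Y))) (x : X) (W : X.Opens) (hxW : x ∈ W) :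
    ∃ C : ShriekLocal.Chart f ((Dual3.shriekC c a).obj O) x, Set.range C.jX ⊆ (W : Set X) := by
  haveI : ∀ (S : CommRingCat.{u}), PreservesFiniteLimits (tilde.functor S) := AffSchLib.preservesFiniteLimits_tilde
  obtain ⟨eO⟩ := hO
  haveI : IsLocallyNoetherian X := LocallyOfFiniteType.isLocallyNoetherian f
  have hA : RepLib.RepObj c.fbar O.obj (a.obj O).obj := ⟨fun {_} =>
    ⟨(a.obj O).property, (adj.counit.app O).hom, fun L hL => SupportAdj.rep_counit c.fbar hc a adj O L hL⟩⟩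
  obtain ⟨T₀, hT₀, hxT, -⟩ := exists_isAffineOpen_mem_and_subset (U := (⊤ : Y.Opens)) (x := f x) trivial
  obtain ⟨U₀, hU₀, hx₀, hUW⟩ := exists_isAffineOpen_mem_and_subset (U := f ⁻¹ᵁ T₀ ⊓ W) (x := x) ⟨hxT, hxW⟩
  let T : Y.affineOpens := ⟨T₀, hT₀⟩
  let U : X.affineOpens := ⟨U₀, hU₀⟩
  have h : U.1 ≤ f ⁻¹ᵁ T.1 := fun z hz => (hUW hz).1
  have hx : x ∈ U.1 := hx₀
  haveI : (DCoh.inD Y (Coh.structureModule Y)).IsGE 0 :=
    (inferInstance : ((DerivedCategory.singleFunctor Y.Modules 0).obj (Coh.structureModule Y)).IsGE 0)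
  haveI : O.obj.IsGE 0 := DerivedCategory.TStructure.t.isGE_of_iso eO.symm 0
  haveI : IsNoetherianRing Γ(Y, T.1) := IsLocallyNoetherian.component_noetherian T
  haveI : IsNoetherianRing Γ(X, U.1) := IsLocallyNoetherian.component_noetherian U
  letI : Algebra Γ(Y, T.1) Γ(X, U.1) := (f.appLE T.1 U.1 h).hom.toAlgebra
  obtain ⟨eR⟩ := ShriekLocal.nonempty_structure_tilde Γ(Y, T.1)
  let eQ : (DCoh.restrictD T.2.fromSpec).obj O.obj ≅
      (DCoh.tildeD (CommRingCat.of Γ(Y, T.1))).obj (Dual.inD Γ(Y, T.1) Γ(Y, T.1)) :=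
    (DCoh.restrictD T.2.fromSpec).mapIso eO ≪≫
      ((Scheme.Modules.restrictFunctor T.2.fromSpec).mapDerivedCategorySingleFunctor 0).app _ ≪≫
      (DerivedCategory.singleFunctor _ 0).mapIso (Scheme.Modules.restrictUnitIso T.2.fromSpec) ≪≫ eR.symm
  have hcomm : (U.2.fromSpec ≫ c.j) ≫ c.fbar =
      Spec.map (CommRingCat.ofHom (f.appLE T.1 U.1 h).hom) ≫ T.2.fromSpec := by
    rw [Category.assoc, c.fac]
    exact (IsAffineOpen.SpecMap_appLE_fromSpec f T.2 U.2 h).symm
  obtain ⟨n, ψ, hψ, hcomp, hiso⟩ := ChartShriek.exists_local c.fbar hA 0 O.property (R := Γ(Y, T.1)) (B := Γ(X, U.1))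
    (f.appLE T.1 U.1 h).hom T.2.fromSpec (U.2.fromSpec ≫ c.j) hcomm _ eQ
  haveI : DRing.HasLBaseChange (algebraMap Γ(Y, T.1) (MvPolynomial (Fin n) Γ(Y, T.1))) := DCat.hasLBaseChange _
  obtain ⟨Rψ, ⟨adjψ⟩⟩ := Shriek.exists_rightAdjoint ψ
  obtain ⟨i⟩ := hiso Rψ adjψ
  obtain ⟨y, hy⟩ : x ∈ Set.range U.2.fromSpec := by rw [U.2.range_fromSpec]; exact hx
  let ψ' : MvPolynomial (Fin n) Γ(Y, T.1) →ₐ[Γ(Y, T.1)] Γ(X, U.1) :=
    { ψ with commutes' := fun r => RingHom.congr_fun hcomp r }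
  haveI : Algebra.FiniteType Γ(Y, T.1) Γ(X, U.1) := Algebra.FiniteType.of_surjective ψ' hψ
  obtain ⟨w⟩ := PerfLocal.rd_comp U.2.fromSpec c.j (a.obj O).obj
  refine ⟨{ R := Γ(Y, T.1), B := Γ(X, U.1), jY := T.2.fromSpec, jX := U.2.fromSpec, pt := y, hpt := hy
            comm := (IsAffineOpen.SpecMap_appLE_fromSpec f T.2 U.2 h).symm
            n := n, ψ := ψ', surj := hψ, Rψ := Rψ, adj := adjψ, iso := w.symm ≪≫ i }, ?_⟩
  show Set.range U.2.fromSpec ⊆ (W : Set X)
  rw [U.2.range_fromSpec]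
  exact fun z hz => (hUW hz).2


/-- An isomorphism on the target does not change Cohen–Macaulayness. -/
theorem isCMAt_comp_openImmersion_iff {X Y Z : Scheme.{u}} (g : X ⟶ Y) (j : Y ⟶ Z) [IsOpenImmersion j] (x : X) :
    MoreMor.IsCMAt (g ≫ j) x ↔ MoreMor.IsCMAt g x := by
  obtain ⟨e₁⟩ := EGA43.CMChart.exists_fibre_stalk_equiv (g ≫ j) x
  obtain ⟨e₂⟩ := EGA43.CMChart.exists_fibre_stalk_equiv g x
  let h := (g.stalkMap x).hom
  let σ : ↥(Z.presheaf.stalk (j (g x))) ≃+* ↥(Y.presheaf.stalk (g x)) :=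
    (asIso (j.stalkMap (g x))).commRingCatIsoToRingEquiv
  have hc : ((g ≫ j).stalkMap x).hom = h.comp σ.toRingHom := by rw [Scheme.Hom.stalkMap_comp]; rfl
  have hflat : ((g ≫ j).stalkMap x).hom.Flat ↔ h.Flat := by
    rw [hc]
    refine ⟨fun hh => ?_, fun hh => RingHom.Flat.comp (RingHom.Flat.of_bijective σ.bijective) hh⟩
    have : h = (h.comp σ.toRingHom).comp σ.symm.toRingHom :=
      RingHom.ext fun a => (congrArg h (σ.apply_symm_apply a)).symm
    rw [this]
    exact RingHom.Flat.comp (RingHom.Flat.of_bijective σ.symm.bijective) hh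
  let q := Ideal.quotEquivOfEq (R := ↥(X.presheaf.stalk x))
    (I := (IsLocalRing.maximalIdeal (Z.presheaf.stalk ((g ≫ j) x))).map ((g ≫ j).stalkMap x).hom)
    (J := (IsLocalRing.maximalIdeal (Y.presheaf.stalk (g x))).map h) (by
      rw [hc, ← Ideal.map_map]
      congr 1
      exact IsLocalRing.map_maximalIdeal_of_surjective σ.toRingHom σ.surjective)
  refine and_congr hflat ⟨fun hh => ?_, fun hh => ?_⟩
  · haveI := hh
    exact CAlgH3.isCohenMacaulayLocalRing_of_ringEquiv ((e₁.symm.trans q).trans e₂)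
  · haveI := hh
    exact CAlgH3.isCohenMacaulayLocalRing_of_ringEquiv ((e₂.symm.trans q.symm).trans e₁)

variable [∀ (S : CommRingCat.{u}), PreservesFiniteLimits (tilde.functor S)]

/-- Cohen–Macaulay at a point, in a chart. -/
theorem cmAt_chart_iff {X Y : Scheme.{u}} {f : X ⟶ Y} [Flat f] {G : DCoh.D X} {x : X} (C : ShriekLocal.Chart f G x)
    (r : Ideal C.R) [r.IsPrime] (hr : r = C.pt.asIdeal.comap (algebraMap C.R C.B))
    (y : PrimeSpectrum (r.ResidueField ⊗[C.R] C.B)) (hy : PrimeSpectrum.comap (OmegaCM.incl r) y = C.pt) :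
    MoreMor.IsCMAt f x ↔ LocCoh.IsCohenMacaulayLocalRing (Localization.AtPrime y.asIdeal) := by
  haveI := ShriekGor.flat_chart C
  let g := Spec.map (CommRingCat.ofHom (algebraMap C.R C.B))
  haveI : Flat g := (Flat.SpecMap_iff).2 (RingHom.flat_algebraMap_iff.2 inferInstance)
  have h0 : MoreMor.IsCMAt f x ↔ MoreMor.IsCMAt g (PrimeSpectrum.comap (OmegaCM.incl r) y) := by
    have hpt : MoreMor.IsCMAt f x ↔ MoreMor.IsCMAt f (C.jX (PrimeSpectrum.comap (OmegaCM.incl r) y)) := by
      rw [show C.jX (PrimeSpectrum.comap (OmegaCM.incl r) y) = x from (congrArg C.jX hy).trans C.hpt]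
    exact hpt.trans ((EGA43.CMChart.isCMAt_comp_iff C.jX f _).symm.trans
      ((EGA43.CMChart.isCMAt_congr C.comm _).trans (isCMAt_comp_openImmersion_iff g C.jY _)))
  rw [h0]
  exact (and_iff_right (Flat.stalkMap g _)).trans (OmegaCM.cm_fibre_iff r y (by rw [hy]; exact hr))

/-- A morphism whose fibre components all have dimension `d` has local fibre dimension `d`. -/
theorem fibreDimAt_eq_of_components {X Y : Scheme.{u}} (f : X ⟶ Y) [LocallyOfFiniteType f] (d : ℕ)
    (hd : ∀ (y : Y) (Z : Set ↥(f.fiber y)), Z ∈ irreducibleComponents ↥(f.fiber y) →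
      topologicalKrullDim ↥Z = (d : WithBot ℕ∞)) (x : X) :
    FlatMor.fibreDimAt f x = (d : WithBot ℕ∞) := by
  let p := f.fiberToSpecResidueField (f x)
  haveI : LocallyOfFiniteType p :=
    inferInstanceAs (LocallyOfFiniteType (Limits.pullback.snd f (Y.fromSpecResidueField (f x))))
  let z := f.asFiber x
  have hle : FlatMor.fibreDimAt f x ≤ (d : WithBot ℕ∞) := by
    refine (FlatMorDim.localDim_le_iff (k := Y.residueField (f x)) p z d).2 fun w _ => ?_
    have h1 := DimLib.topologicalKrullDim_eq_ptDim_of_isGenericPoint (k := Y.residueField (f x)) p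
      (isGenericPoint_closure (x := w))
    have h2 : closure ({w} : Set ↥(f.fiber (f x))) ⊆ irreducibleComponent w :=
      closure_minimal (Set.singleton_subset_iff.2 mem_irreducibleComponent) isClosed_irreducibleComponent
    have h3 := ((Topology.IsEmbedding.inclusion h2).isInducing).topologicalKrullDim_le
    rw [h1, hd _ _ (irreducibleComponent_mem_irreducibleComponents w)] at h3
    exact_mod_cast h3
  refine le_antisymm hle ?_
  rcases Nat.eq_zero_or_pos d with rfl | hd0
  · refine le_iInf fun U => ?_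
    haveI : Nonempty ↥(U.1 : Set ↥(f.fiber (f x))) := ⟨⟨z, U.2⟩⟩
    haveI : Nonempty (TopologicalSpace.IrreducibleCloseds ↥(U.1 : Set ↥(f.fiber (f x)))) :=
      ⟨⟨irreducibleComponent (⟨z, U.2⟩ : ↥(U.1 : Set ↥(f.fiber (f x)))), isIrreducible_irreducibleComponent,
        isClosed_irreducibleComponent⟩⟩
    exact Order.krullDim_nonneg
  · by_contra hlt
    rw [not_le] at hlt
    have h1 : FlatMor.fibreDimAt f x ≤ ((d - 1 : ℕ) : WithBot ℕ∞) := by
      rcases hv : FlatMor.fibreDimAt f x with _ | (_ | v)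
      · exact bot_le
      · rw [hv] at hle
        exact absurd (WithBot.coe_le_coe.1 hle) (not_le.2 (ENat.natCast_lt_top d))
      · rw [hv] at hlt
        have : v < d := by exact_mod_cast (show ((v : ℕ∞) : WithBot ℕ∞) < ((d : ℕ∞) : WithBot ℕ∞) from hlt)
        show ((v : ℕ∞) : WithBot ℕ∞) ≤ (((d - 1 : ℕ) : ℕ∞) : WithBot ℕ∞)
        exact_mod_cast (show v ≤ d - 1 by omega)
    obtain ⟨η, hη⟩ := QuasiSober.sober (isIrreducible_irreducibleComponent (x := z)) isClosed_irreducibleComponent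
    have h2 := (FlatMorDim.localDim_le_iff (k := Y.residueField (f x)) p z (d - 1)).1 h1 η
      (hη.specializes mem_irreducibleComponent)
    have h3 := DimLib.topologicalKrullDim_eq_ptDim_of_isGenericPoint (k := Y.residueField (f x)) p hη
    rw [hd _ _ (irreducibleComponent_mem_irreducibleComponents z)] at h3
    have : d = DimLib.ptDim p η := by exact_mod_cast h3
    omega

/-- A vanishing above `t` improves the upper end of the amplitude. -/
theorem amp_top {R : Type u} [CommRing R] {K : Dual.D R} {a b : ℤ} (h : DRing.HasTorAmplitudeIn R a b K) (t : ℤ)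
    (ht : ∀ i : ℤ, t < i → Subsingleton (Dual.HD R K i)) : DRing.HasTorAmplitudeIn R a t K := by
  haveI : ∀ M : ModuleCat.{u} R, DRing.HasLTensor R M := fun M => DCat.hasLTensor M
  obtain ⟨P, hP, -, hPb, ⟨e⟩⟩ := DCat.exists_flat_rep (b := t) (K := K)
    fun i hi => (DCat.subsingleton_HD_iff K i).1 (ht i hi)
  refine DCat.flatAmp_of_vanish fun M i hi => ?_
  rcases hi with hi | hi
  · exact DCat.vanish_of_flatAmp h M (Or.inl hi)
  · rw [DCat.isZero_ltensor_iff M hP e i]
    exact HomologicalComplex.ExactAt.of_isZero ((MonoidalCategory.tensorRight M).map_isZero (hPb i hi))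

/-- A chart at a point serves at all of its points. -/
noncomputable def chartAt {X Y : Scheme.{u}} {f : X ⟶ Y} {G : DCoh.D X} {x : X} (C : ShriekLocal.Chart f G x)
    (q : PrimeSpectrum C.B) : ShriekLocal.Chart f G (C.jX q) where
  R := C.R
  B := C.B
  jY := C.jY
  jX := C.jX
  pt := q
  hpt := rfl
  comm := C.comm
  n := C.n
  ψ := C.ψ
  surj := C.surj
  Rψ := C.Rψ
  adj := C.adj
  iso := C.iso

/-- Fibre dimensions at the points of a chart. -/
theorem fibreDimAt_chartPt {X Y : Scheme.{u}} {f : X ⟶ Y} {G : DCoh.D X} {x : X} (C : ShriekLocal.Chart f G x)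
    (q : PrimeSpectrum C.B) :
    FlatMor.fibreDimAt (Spec.map (CommRingCat.ofHom (algebraMap C.R C.B))) q = FlatMor.fibreDimAt f (C.jX q) :=
  (ShriekLocal.fibreDimAt_chart (chartAt C q)).trans (ShriekLocal.localFibreDim_eq f (C.jX q))

/-- Concentration at the point of a chart, from Cohen–Macaulayness. -/
theorem support_of_cm {X Y : Scheme.{u}} {f : X ⟶ Y} [Flat f] {G : DCoh.D X} {x : X} (C : ShriekLocal.Chart f G x)
    (d : ℕ) (hd : FlatMor.fibreDimAt f x = (d : WithBot ℕ∞)) (hcm : MoreMor.IsCMAt f x) :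
    (∀ i : ℤ, -(d : ℤ) < i → C.pt ∉ Module.support C.B
      (Dual.HD C.B (Dual2.shriekVia C.n C.Rψ (Dual.inD C.R C.R)) i)) ∧
    C.pt ∈ Module.support C.B (Dual.HD C.B (Dual2.shriekVia C.n C.Rψ (Dual.inD C.R C.R)) (-(d : ℤ))) := by
  haveI := ShriekGor.flat_chart C
  have hd' : FlatMor.fibreDimAt (Spec.map (CommRingCat.ofHom (algebraMap C.R C.B))) C.pt = (d : WithBot ℕ∞) :=
    (fibreDimAt_chartPt C C.pt).trans (by rw [C.hpt]; exact hd)
  obtain ⟨y, y', hy, hle, hdim⟩ := OmegaCM.exists_dim_ge (C.pt.asIdeal.comap (algebraMap C.R C.B)) C.pt rfl d hd'.ge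
  have h := (cmAt_chart_iff C _ rfl y hy).1 hcm
  have := OmegaCM.concentrated_of_cm C.ψ C.surj C.adj _ y y' hle d (by rw [hy]; exact hd'.le) hdim h
  rwa [hy] at this

/-- The local fibre dimension of a morphism locally of finite type is a natural number. -/
theorem exists_fibreDimAt_eq {X Y : Scheme.{u}} {f : X ⟶ Y} {G : DCoh.D X} {x : X} (C : ShriekLocal.Chart f G x) :
    ∃ d : ℕ, FlatMor.fibreDimAt f x = (d : WithBot ℕ∞) := by
  have h1 : FlatMor.fibreDimAt f x ≤ (C.n : WithBot ℕ∞) := by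
    have := (fibreDimAt_chartPt C C.pt).symm.trans_le (Omega.fibreDimAt_le C.ψ C.surj C.pt)
    rwa [C.hpt] at this
  have h0 : (0 : WithBot ℕ∞) ≤ FlatMor.fibreDimAt f x := by
    refine le_iInf fun U => ?_
    haveI : Nonempty (TopologicalSpace.IrreducibleCloseds ↥(U.1 : Set ↥(f.fiber (f x)))) :=
      ⟨⟨irreducibleComponent (⟨f.asFiber x, U.2⟩ : ↥(U.1 : Set ↥(f.fiber (f x)))), isIrreducible_irreducibleComponent,
        isClosed_irreducibleComponent⟩⟩
    exact Order.krullDim_nonneg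
  rcases hv : FlatMor.fibreDimAt f x with _ | (_ | v)
  · rw [hv] at h0; exact absurd h0 (not_le.2 (WithBot.bot_lt_coe _))
  · rw [hv] at h1; exact absurd (WithBot.coe_le_coe.1 h1) (not_le.2 (ENat.natCast_lt_top C.n))
  · exact ⟨v, rfl⟩

end Groth.Agent.DualLib.ShriekCM
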