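import Groth.Agent.DualLib.OmegaStalk
import Groth.Agent.DualLib.ShriekCM
import Groth.Agent.DualLib.ShriekDim
import Groth.Agent.DualLib.LocalDim
import Groth.Agent.DualLib.LocalDepth
import Groth.Agent.DimLib.Maximal
import Groth.Agent.DimLib.Morphism
import Groth.Agent.S0369

/-!
# The degrees of the dualizing complex of a scheme proper over a field
-/

set_option autoImplicit false
set_option backward.isDefEq.respectTransparency false
set_option backward.defeqAttrib.useBackward true
set_option linter.style.haveILetI false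
set_option linter.unusedSectionVars false
set_option synthInstance.maxHeartbeats 100000

universe u

open CategoryTheory CategoryTheory.Limits AlgebraicGeometry DerivedCategory
open Groth.Agent.DCat Groth.Agent.Dual22Lib

attribute [local instance] HasDerivedCategory.standard
attribute [-instance] Int.instConditionallyCompleteLinearOrder

namespace Groth.Agent.DualLib.OmegaField

variable {k : Type u} [Field k] {X : Scheme.{u}} {f : X ⟶ Spec (CommRingCat.of k)} [IsProper f]
  [∀ (U V : Scheme.{u}) (j : U ⟶ V) [IsOpenImmersion j], PreservesFiniteLimits (Scheme.Modules.restrictFunctor j)]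
  [∀ (S : CommRingCat.{u}), PreservesFiniteLimits (tilde.functor S)]
  [DCoh.HasRpush f] (hf : DCoh.RpushPreservesQCoh f) (a : DCoh.DQCoh (Spec (CommRingCat.of k)) ⥤ DCoh.DQCoh X)
  (adj : DCoh.RpushQ f hf ⊣ a) (O : DCoh.DQCoh (Spec (CommRingCat.of k)))
  (hO : Nonempty (O.obj ≅ DCoh.inD (Spec (CommRingCat.of k)) (Coh.structureModule (Spec (CommRingCat.of k)))))
include hO adj

theorem bounds (d : ℕ) (hd : topologicalKrullDim X = (d : WithBot ℕ∞)) :
    (∀ (i : ℤ) (x : X), Nontrivial ((DCoh.HD (a.obj O).obj i).presheaf.stalk x) → -(d : ℤ) ≤ i ∧ i ≤ 0) ∧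
      ∀ (i : ℤ) (n : ℕ), (n : ℤ) = -i →
        topologicalKrullDim {x : X | Nontrivial ((DCoh.HD (a.obj O).obj i).presheaf.stalk x)} ≤ (n : WithBot ℕ∞) := by
  letI : X.Over (Spec (CommRingCat.of k)) := ⟨f⟩
  haveI : IsProper (X ↘ Spec (CommRingCat.of k)) := ‹IsProper f›
  obtain ⟨-, h1, h2⟩ := Groth.Agent.S1811.result k X d hd f rfl hf a adj O hO
  refine ⟨fun i x hi => ?_, h2⟩
  by_contra hc
  haveI := hi
  exact not_subsingleton ((DCoh.HD (a.obj O).obj i).presheaf.stalk x)
    (OmegaStalk.subsingleton_stalk_of_isZero (h1 i (by omega)) x)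

/-- At the generic point of a component the only degree is minus the dimension of the component. -/
theorem degree_generic (d : ℕ) (hd : topologicalKrullDim X = (d : WithBot ℕ∞)) {η : X} (hη : ∀ z, z ⤳ η → η = z)
    (i : ℤ) (hi : Nontrivial ((DCoh.HD (a.obj O).obj i).presheaf.stalk η)) : i = -(DimLib.ptDim f η : ℤ) := by
  haveI : IsNoetherian (Spec (CommRingCat.of k)) := {}
  haveI : IsLocallyNoetherian X := LocallyOfFiniteType.isLocallyNoetherian f
  haveI : CompactSpace X := QuasiCompact.compactSpace_of_compactSpace f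
  haveI : IsNoetherian X := { }
  have hG := OmegaStalk.isDualizingSch_over_field k X f hf a adj O hO
  obtain ⟨hb, hdim⟩ := bounds hf a adj O hO d hd
  obtain ⟨h1, h2⟩ := hb i η hi
  have hsub : closure ({η} : Set X) ⊆ {z : X | Nontrivial ((DCoh.HD (a.obj O).obj i).presheaf.stalk z)} :=
    fun z hz => OmegaStalk.nontrivial_of_specializes hG (specializes_iff_mem_closure.2 hz) i hi
  have hle := ((Topology.IsEmbedding.inclusion hsub).isInducing.topologicalKrullDim_le).trans
    (hdim i (-i).toNat (by omega))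
  have hcl := DimLib.topologicalKrullDim_eq_ptDim_of_isGenericPoint f (isGenericPoint_closure (x := η))
  rw [hcl, Nat.cast_le] at hle
  obtain ⟨η', U, hη', hUo, hηU, hUZ, -⟩ := DimLib.exists_component_data (DimLib.closure_mem_components hη)
  obtain rfl : η' = η := hη'.eq isGenericPoint_closure
  let c : DEt.Compactification f :=
    { Xbar := X, j := 𝟙 X, fbar := f, isOpenImmersion := inferInstance, isProper := ‹_›, fac := Category.id_comp f }
  haveI : DCoh.HasRpush c.fbar := ‹DCoh.HasRpush f›
  obtain ⟨C, hC⟩ := ShriekCM.nonempty_chart_within c hf a adj O hO η' ⟨U, hUo⟩ hηU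
  haveI : IsOpenImmersion c.j := c.isOpenImmersion
  obtain ⟨w⟩ := DCat.PerfLocal.rd_comp C.jX c.j (a.obj O).obj
  have hpt : (C.jX ≫ c.j) C.pt = η' := C.hpt
  rw [← hpt] at hi
  have hq := (nontrivial_stalk_iff (C.jX ≫ c.j) (w ≪≫ C.iso) C.pt i).1 hi
  rw [Module.mem_support_iff] at hq
  have := Shriek.neg_le_of_nontrivial C.ψ C.surj C.adj C.pt (DimLib.ptDim f η') ?_ i hq
  · omega
  refine (iInf_le _ ⟨⊤, trivial⟩).trans ((topologicalKrullDim_subspace_le _ _).trans ?_)
  refine ((Spec.map (CommRingCat.ofHom (algebraMap C.R C.B))).fiberι _).isEmbedding.isInducing.topologicalKrullDim_le.trans ?_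
  rw [← hcl]
  let g : ↥(Spec (CommRingCat.of C.B)) → ↥(closure ({η'} : Set X)) := fun z => ⟨C.jX z, hUZ (hC ⟨z, rfl⟩)⟩
  exact Topology.IsInducing.topologicalKrullDim_le (f := g) (Topology.IsInducing.of_comp
    (C.jX.continuous.subtype_mk _) continuous_subtype_val C.jX.isOpenEmbedding.isInducing)

omit hO adj in
/-- The dimension of a quotient in a chart is the dimension of the point. -/
theorem ringKrullDim_quotient_eq_ptDim {B : Type u} [CommRing B] (j : Spec (CommRingCat.of B) ⟶ X) [IsOpenImmersion j]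
    (y : PrimeSpectrum B) : ringKrullDim (B ⧸ y.asIdeal) = (DimLib.ptDim f (j y) : WithBot ℕ∞) := by
  have h := DimLib.topologicalKrullDim_eq_ptDim_of_isGenericPoint (j ≫ f)
    (isGenericPoint_closure (x := (show Spec (CommRingCat.of B) from y)))
  rw [DimLib.ptDim_comp_preimmersion] at h
  rw [← h, ← PrimeSpectrum.topologicalKrullDim_eq_ringKrullDim]
  have hc := PrimeSpectrum.isClosedEmbedding_comap_of_surjective (B ⧸ y.asIdeal) (Ideal.Quotient.mk y.asIdeal)
    Ideal.Quotient.mk_surjective
  have he : closure ({y} : Set (PrimeSpectrum B)) =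
      Set.range (PrimeSpectrum.comap (Ideal.Quotient.mk y.asIdeal)) := by
    rw [_root_.range_comap_of_surjective _ _ Ideal.Quotient.mk_surjective, Ideal.mk_ker, PrimeSpectrum.closure_singleton]
  show _ = topologicalKrullDim ↥(closure ({y} : Set (PrimeSpectrum B)))
  rw [he]
  exact IsHomeomorph.topologicalKrullDim_eq _ hc.isEmbedding.toHomeomorph.isHomeomorph

/-- Minimal primes of a chart are generic points. -/
theorem deg_minimal (d : ℕ) (hd : topologicalKrullDim X = (d : WithBot ℕ∞)) {B : Type u} [CommRing B] [IsNoetherianRing B]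
    (j : Spec (CommRingCat.of B) ⟶ X) [IsOpenImmersion j] {ω : Dual.D B} (hω : Dual.IsDualizing B ω)
    (e : (DCoh.restrictD j).obj (a.obj O).obj ≅ (DCoh.tildeD (CommRingCat.of B)).obj ω)
    {q : PrimeSpectrum B} (hq : ∀ r, r ≤ q → r = q) :
    DualLib.deg hω q = -(DimLib.ptDim f (j q) : ℤ) ∧ ∀ z, z ⤳ j q → j q = z := by
  have hgen : ∀ z, z ⤳ j q → j q = z := fun z hz => by
    obtain ⟨r, rfl⟩ := hz.mem_open j.isOpenEmbedding.isOpen_range ⟨q, rfl⟩
    exact congrArg j (hq r ((PrimeSpectrum.le_iff_specializes _ _).2 (j.isOpenEmbedding.isInducing.specializes_iff.1 hz))).symm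
  refine ⟨degree_generic hf a adj O hO d hd hgen _ ((nontrivial_stalk_iff j e q _).2 ?_), hgen⟩
  rw [← mem_support_HD_iff hω]
  exact DualLib.mem_support_of_minimal' hω le_rfl B (fun r _ hr => hq r hr)
    (Module.mem_support_iff_of_finite.2 (by simp [Module.annihilator_eq_bot.2 inferInstance]))

/-- Closed points have degree zero. -/
theorem deg_maximal (d : ℕ) (hd : topologicalKrullDim X = (d : WithBot ℕ∞)) {B : Type u} [CommRing B] [IsNoetherianRing B]
    (j : Spec (CommRingCat.of B) ⟶ X) [IsOpenImmersion j] {ω : Dual.D B} (hω : Dual.IsDualizing B ω)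
    (e : (DCoh.restrictD j).obj (a.obj O).obj ≅ (DCoh.tildeD (CommRingCat.of B)).obj ω)
    {m : PrimeSpectrum B} (hm : m.asIdeal.IsMaximal) : DualLib.deg hω m = 0 := by
  obtain ⟨q, hq, hqm⟩ := Ideal.exists_minimalPrimes_le (bot_le : (⊥ : Ideal B) ≤ m.asIdeal)
  let q' : PrimeSpectrum B := ⟨q, hq.1.1⟩
  obtain ⟨h1, -⟩ := deg_minimal hf a adj O hO d hd j hω e (q := q') fun r hr =>
    PrimeSpectrum.ext (le_antisymm hr (hq.2 ⟨r.2, bot_le⟩ hr))
  have hdim := ringKrullDim_quotient_eq_ptDim (f := f) j q'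
  obtain ⟨s, hs1, hs2, hs3⟩ := DualLib.exists_series_deg hω (show q' ≤ m from hqm)
  let φ := Spec.preimage (j ≫ f)
  letI : Algebra k B := φ.hom.toAlgebra
  haveI : Algebra.FiniteType k B := RingHom.finiteType_algebraMap.1
    ((HasRingHomProperty.Spec_iff (P := @LocallyOfFiniteType) (φ := φ)).1 (by rw [Spec.map_preimage]; infer_instance))
  haveI : q.IsPrime := hq.1.1
  haveI : (m.asIdeal.map (Ideal.Quotient.mk q)).IsMaximal :=
    Ideal.IsMaximal.map_of_surjective_of_ker_le Ideal.Quotient.mk_surjective (by rwa [Ideal.mk_ker])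
  have hht := DimLib.height_eq_of_isMaximal (k := k) (A := B ⧸ q) (m.asIdeal.map (Ideal.Quotient.mk q))
  rw [show ringKrullDim (B ⧸ q) = (DimLib.ptDim f (j q') : WithBot ℕ∞) from hdim] at hht
  let M : PrimeSpectrum (B ⧸ q) := ⟨m.asIdeal.map (Ideal.Quotient.mk q), inferInstance⟩
  have hM : PrimeSpectrum.comap (Ideal.Quotient.mk q) M = m := PrimeSpectrum.ext (by
    show (Ideal.map _ _).comap _ = _
    rw [Ideal.comap_map_of_surjective _ Ideal.Quotient.mk_surjective, ← RingHom.ker_eq_comap_bot, Ideal.mk_ker,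
      sup_eq_left.2 hqm])
  have hhm : Order.height M = (DimLib.ptDim f (j q') : ℕ∞) := by
    rw [← PrimeSpectrum.height_eq_orderHeight]
    exact WithBot.coe_inj.1 hht
  obtain ⟨t, ht1, ht2⟩ := Order.exists_series_of_height_eq_coe M hhm
  let t' : LTSeries (PrimeSpectrum B) := t.map (PrimeSpectrum.comap (Ideal.Quotient.mk q))
    (Monotone.strictMono_of_injective (f := PrimeSpectrum.comap (Ideal.Quotient.mk q)) (fun _ _ h => Ideal.comap_mono h)
      (PrimeSpectrum.comap_injective_of_surjective _ Ideal.Quotient.mk_surjective))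
  have h3 := DualLib.deg_add_length hω t'
  have h4 : DualLib.deg hω q' ≤ DualLib.deg hω t'.head := DualLib.deg_mono hω (by
    show q ≤ (Ideal.comap (Ideal.Quotient.mk q) _)
    exact Ideal.mk_ker.ge.trans (Ideal.ker_le_comap _))
  have h5 : t'.last = m := by rw [LTSeries.last_map, ht1, hM]
  have h6 : (t'.length : ℤ) = (DimLib.ptDim f (j q') : ℤ) := by exact_mod_cast ht2
  rw [h5] at h3
  have h7 : s.length ≤ DimLib.ptDim f (j q') := by
    let u : LTSeries (PrimeSpectrum.zeroLocus (q : Set B)) :=
      { length := s.length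
        toFun := fun i => ⟨s i, (show q ≤ (s i).asIdeal from (le_of_eq (congrArg PrimeSpectrum.asIdeal hs1).symm).trans (s.head_le i))⟩
        step := fun i => s.step i }
    have := Order.LTSeries.length_le_krullDim u
    rw [← ringKrullDim_quotient, show ringKrullDim (B ⧸ q) = (DimLib.ptDim f (j q') : WithBot ℕ∞) from hdim] at this
    exact_mod_cast this
  omega

/-- The lowest cohomology sheaf: support and Serre's condition. -/
theorem top_sheaf (d : ℕ) (hd : topologicalKrullDim X = (d : WithBot ℕ∞)) (x : X) :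
    LocCoh.HasSk 2 (X.presheaf.stalk x) ((DCoh.HD (a.obj O).obj (-(d : ℤ))).presheaf.stalk x) ∧
    (Nontrivial ((DCoh.HD (a.obj O).obj (-(d : ℤ))).presheaf.stalk x) ↔
      ∃ Z ∈ irreducibleComponents X, topologicalKrullDim ↥Z = (d : WithBot ℕ∞) ∧ x ∈ Z) := by
  have hG := OmegaStalk.isDualizingSch_over_field k X f hf a adj O hO
  obtain ⟨hb, -⟩ := bounds hf a adj O hO d hd
  haveI : IsNoetherian (Spec (CommRingCat.of k)) := {}
  haveI : IsLocallyNoetherian X := LocallyOfFiniteType.isLocallyNoetherian f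
  constructor
  · by_cases hn : Nontrivial ((DCoh.HD (a.obj O).obj (-(d : ℤ))).presheaf.stalk x)
    swap
    · haveI := not_nontrivial_iff_subsingleton.1 hn
      intro p _
      haveI : Subsingleton (LocalizedModule p.primeCompl ((DCoh.HD (a.obj O).obj (-(d : ℤ))).presheaf.stalk x)) :=
        LocalizedModule.subsingleton_iff.2 fun m => ⟨1, one_mem _, Subsingleton.elim _ _⟩
      rw [Module.supportDim_eq_bot_of_subsingleton]
      exact (min_le_right _ _).trans bot_le
    obtain ⟨B, _, j, _, ω, y, rfl, hω, ⟨e⟩⟩ := OmegaStalk.exists_chart hG x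
    haveI := hω.isNoetherianRing
    haveI : PreservesFiniteColimits (tilde.functor (CommRingCat.of B)) :=
      haveI := (tilde.adjunction (R := CommRingCat.of B)).leftAdjoint_preservesColimits
      inferInstance
    obtain ⟨ν⟩ := DQCoh.nonempty_homology_natIso (tilde.functor (CommRingCat.of B)) (-(d : ℤ))
    let H := (homologyFunctor (ModuleCat.{u} B) (-(d : ℤ))).obj ω
    let eM : (DCoh.HD (a.obj O).obj (-(d : ℤ))).restrict j ≅ tilde (R := CommRingCat.of B) H :=
      (DCat.SuppOpen.hdMapIso (Scheme.Modules.restrictFunctor j) _ _).symm ≪≫ (homologyFunctor _ _).mapIso e ≪≫ ν.app _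
    obtain ⟨σ, Φ, hΦ⟩ := ChartStalk.exists_stalk_semilinear j _ H eM y
    let B' := Localization.AtPrime y.asIdeal
    haveI : IsNoetherianRing B' := IsLocalization.isNoetherianRing y.asIdeal.primeCompl B' inferInstance
    obtain ⟨_, _⟩ := Dual22Lib.preserves_extendScalars (B := B') y.asIdeal.primeCompl
    let W := (extD (algebraMap B B')).obj ω
    have hW : Dual.IsDualizing B' W := isDualizing_extD y.asIdeal.primeCompl hω
    obtain ⟨c, hc⟩ := exists_normalized hW
    have hWc := isDualizing_shift hW c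
    obtain ⟨n, hn'⟩ := Groth.Agent.LocCoh.exists_dim_eq (R := B')
    obtain ⟨hsupp, hsk⟩ := Groth.Agent.S0369.result B' (W⟦c⟧) hWc hc n hn'
    let sI : ∀ i : ℤ, Dual.HD B' (W⟦c⟧) i ≃ₗ[B'] Dual.HD B' W (c + i) := fun i =>
      (((homologyFunctor (ModuleCat.{u} B') 0).shiftIso c i (c + i) rfl).app W).toLinearEquiv
    haveI : Module.Finite B H := hω.finite_cohomology _
    obtain ⟨eT⟩ := nonempty_HD_tensor y.asIdeal.primeCompl ω (-(d : ℤ))
    let eL : Dual.HD B' W (-(d : ℤ)) ≃ₗ[B'] LocalizedModule y.asIdeal.primeCompl H :=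
      eT ≪≫ₗ (LocalizedModule.equivTensorProduct y.asIdeal.primeCompl H).symm
    haveI : Nontrivial (Dual.HD B' W (-(d : ℤ))) :=
      haveI : Nontrivial (LocalizedModule y.asIdeal.primeCompl H) :=
        Module.mem_support_iff.1 ((nontrivial_stalk_iff j e y _).1 hn)
      eL.toEquiv.nontrivial
    have hsA : ∀ q : PrimeSpectrum B', q ∈ Module.support B' B' := fun q =>
      Module.mem_support_iff_of_finite.2 (by simp [Module.annihilator_eq_bot.2 inferInstance])
    have hco : ∀ q : PrimeSpectrum B', Order.coheight q ≤ n := fun q => by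
      have h : (Order.coheight q : WithBot ℕ∞) ≤ ringKrullDim B' := Order.coheight_le_krullDim q
      rw [hn'] at h
      exact_mod_cast h
    have hnt : Nontrivial (Dual.HD B' W (c + -(n : ℤ))) := by
      have h := hn'
      rw [ringKrullDim, Order.krullDim_eq_iSup_coheight] at h
      obtain ⟨q, hq⟩ : ∃ q : PrimeSpectrum B', Order.coheight q = (n : ℕ∞) := by
        by_contra! hne
        rcases Nat.eq_zero_or_pos n with rfl | hpos
        · exact hne (IsLocalRing.closedPoint B') (le_antisymm (hco _) bot_le)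
        · have hb' : ∀ q : PrimeSpectrum B', (Order.coheight q : WithBot ℕ∞) ≤ ((n - 1 : ℕ) : WithBot ℕ∞) := fun q => by
            obtain ⟨e', he'⟩ := DualLib.exists_coheight_eq q
            have h1 := hco q
            rw [he', Nat.cast_le] at h1
            have h2 := hne q
            rw [he', Ne, Nat.cast_inj] at h2
            rw [he']
            exact WithBot.coe_le_coe.2 (Nat.cast_le.2 (show e' ≤ n - 1 by omega))
          have := h.ge.trans (iSup_le hb')
          rw [Nat.cast_le] at this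
          omega
      have hmin : ∀ r, r ∈ Module.support B' B' → r ≤ q → r = q := fun r _ hr => by
        by_contra hne
        have h1 := (Order.coheight_add_one_le (lt_of_le_of_ne hr hne)).trans (hco r)
        rw [hq] at h1
        norm_cast at h1
        omega
      have hmem := DualLib.mem_support_of_minimal hWc hc hq B' hmin (hsA q)
      haveI : Nontrivial (E (W⟦c⟧) B' (-(n : ℤ))) := by
        by_contra hc'
        haveI := not_nontrivial_iff_subsingleton.1 hc'
        rw [Module.support_eq_empty] at hmem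
        exact hmem
      exact ((eSelf (W⟦c⟧) (-(n : ℤ))) ≪≫ₗ sI _).symm.toEquiv.nontrivial
    have h1 : -(d : ℤ) ≤ c + -(n : ℤ) := by
      obtain ⟨eT'⟩ := nonempty_HD_tensor y.asIdeal.primeCompl ω (c + -(n : ℤ))
      let H' := (homologyFunctor (ModuleCat.{u} B) (c + -(n : ℤ))).obj ω
      haveI := hnt
      haveI : Nontrivial (LocalizedModule y.asIdeal.primeCompl H') :=
        ((LocalizedModule.equivTensorProduct y.asIdeal.primeCompl H').trans eT'.symm).toEquiv.nontrivial
      exact (hb _ _ ((nontrivial_stalk_iff j e y _).2 (Module.mem_support_iff.2 this))).1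
    have h2 : c + -(n : ℤ) ≤ -(d : ℤ) := by
      by_contra hlt
      haveI : Subsingleton (Dual.HD B' (W⟦c⟧) (-(d : ℤ) - c)) :=
        haveI := DualLib.subsingleton_of_lt hWc hc B' n (fun q _ => hco q) (-(d : ℤ) - c) (by omega)
        (eSelf _ _).symm.toEquiv.subsingleton
      haveI : Subsingleton (Dual.HD B' W (c + (-(d : ℤ) - c))) := (sI _).symm.toEquiv.subsingleton
      have key : ∀ z : ℤ, z = -(d : ℤ) → ¬ Subsingleton (Dual.HD B' W z) := by
        rintro z rfl; exact not_subsingleton _
      exact key _ (by omega) this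
    have key : ∀ z : ℤ, z = -(d : ℤ) → LocCoh.HasSk 2 B' (Dual.HD B' W z) → LocCoh.HasSk 2 B' (Dual.HD B' W (-(d : ℤ))) := by
      rintro z rfl h; exact h
    exact (ChartStalk.depth_supportDim_eq σ Φ hΦ).2.2 2 ((EGA43.FibDepth.hasSk_congr eL 2).1
      (key (c + -(n : ℤ)) (by omega) ((EGA43.FibDepth.hasSk_congr (sI _) 2).1 hsk)))
  · constructor
    · intro hn
      obtain ⟨B, _, j, _, ω, y, rfl, hω, ⟨e⟩⟩ := OmegaStalk.exists_chart hG x
      haveI := hω.isNoetherianRing
      have h := (mem_support_HD_iff hω y _).2 ((nontrivial_stalk_iff j e y _).1 hn)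
      obtain ⟨q, hqy, hdeg⟩ : ∃ q, q ≤ y ∧ DualLib.deg hω q ≤ -(d : ℤ) := by
        by_contra! hc
        exact DualLib.notMem_support_range hω y _ B (fun q _ hq => Or.inl (hc q hq)) h
      obtain ⟨q0, hq0, hq0q⟩ := Ideal.exists_minimalPrimes_le (bot_le : (⊥ : Ideal B) ≤ q.asIdeal)
      let η : PrimeSpectrum B := ⟨q0, hq0.1.1⟩
      have hmin : ∀ r, r ≤ η → r = η := fun r hr => PrimeSpectrum.ext (le_antisymm hr (hq0.2 ⟨r.2, bot_le⟩ hr))
      obtain ⟨hdeg0, hgen⟩ := deg_minimal hf a adj O hO d hd j hω e hmin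
      have h1 := DualLib.deg_mono hω (show η ≤ q from hq0q)
      have h2 : DimLib.ptDim f (j η) ≤ d := by
        have := DimLib.topologicalKrullDim_eq_ptDim_of_isGenericPoint f (isGenericPoint_closure (x := j η))
        have h3 := topologicalKrullDim_subspace_le X (closure ({j η} : Set X))
        rw [this, hd] at h3
        exact_mod_cast h3
      refine ⟨closure {j η}, DimLib.closure_mem_components hgen, ?_, ?_⟩
      · rw [DimLib.topologicalKrullDim_eq_ptDim_of_isGenericPoint f (isGenericPoint_closure (x := j η)), Nat.cast_inj]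
        omega
      · exact specializes_iff_mem_closure.1
          (((PrimeSpectrum.le_iff_specializes _ _).1 (le_trans hq0q hqy : η ≤ y)).map j.continuous)
    · rintro ⟨Z, hZ, hdZ, hxZ⟩
      obtain ⟨η, hη, hgen⟩ := DimLib.exists_genericPoint_of_mem_components hZ
      obtain ⟨i, hi⟩ := OmegaStalk.exists_nontrivial hG η
      have h := degree_generic hf a adj O hO d hd hgen i hi
      have h2 := DimLib.topologicalKrullDim_eq_ptDim_of_isGenericPoint f hη
      rw [hdZ, Nat.cast_inj] at h2
      exact OmegaStalk.nontrivial_of_specializes hG (hη.specializes hxZ) _ (by rw [h2, ← h]; exact hi)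

/-- The depth criterion at closed points. -/
theorem depth_closed (d : ℕ) (hd : topologicalKrullDim X = (d : WithBot ℕ∞)) (x : X) (hx : IsClosed ({x} : Set X)) (i : ℤ) :
    (∃ l : ℤ, i ≤ l ∧ l ≤ 0 ∧ Nontrivial ((DCoh.HD (a.obj O).obj l).presheaf.stalk x)) ↔
      (LocCoh.depth (X.presheaf.stalk x) (X.presheaf.stalk x) : ℕ∞) ≤ ((-i).toNat : ℕ∞) ∧ i ≤ 0 := by
  have hG := OmegaStalk.isDualizingSch_over_field k X f hf a adj O hO
  obtain ⟨B, _, j, _, ω, y, rfl, hω, ⟨e⟩⟩ := OmegaStalk.exists_chart hG x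
  haveI := hω.isNoetherianRing
  have hy : y.asIdeal.IsMaximal := (PrimeSpectrum.isClosed_singleton_iff_isMaximal y).1 (by
    have := hx.preimage j.continuous
    rwa [show j ⁻¹' ({j y} : Set X) = {y} from Set.ext fun z => j.isOpenEmbedding.injective.eq_iff] at this)
  have h0 := deg_maximal hf a adj O hO d hd j hω e hy
  let B' := Localization.AtPrime y.asIdeal
  haveI : IsNoetherianRing B' := IsLocalization.isNoetherianRing y.asIdeal.primeCompl B' inferInstance
  let σ : B' ≃+* X.presheaf.stalk (j y) :=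
    (StructureSheaf.stalkIso B y).toRingEquiv.trans (asIso (j.stalkMap y)).commRingCatIsoToRingEquiv.symm
  haveI : IsLocalRing B' := inferInstance
  obtain ⟨n, hn⟩ := CAlgH3.exists_depth_eq_natCast (R := B') (M := LocalizedModule y.asIdeal.primeCompl B)
  have hys : y ∈ Module.support B B := Module.mem_support_iff_of_finite.2 (by simp [Module.annihilator_eq_bot.2 inferInstance])
  obtain ⟨hup, hat⟩ := DualLib.localDepth_spec hω y n B hys hn
  have hdep : LocCoh.depth (X.presheaf.stalk (j y)) (X.presheaf.stalk (j y)) = (n : ℕ∞) := by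
    rw [← hn, CAlgH3.depth_congr (CAlgH3.localizedModuleSelf y.asIdeal)]
    exact (CAlgH3.depth_ringEquiv σ).symm
  rw [hdep, Nat.cast_le]
  constructor
  · rintro ⟨l, hil, hl, hln⟩
    refine ⟨?_, hil.trans hl⟩
    by_contra hlt
    exact hup l (by omega) ((mem_support_HD_iff hω y l).2 ((nontrivial_stalk_iff j e y l).1 hln))
  · rintro ⟨h1, h2⟩
    refine ⟨-(n : ℤ), by omega, by omega, (nontrivial_stalk_iff j e y _).2 ((mem_support_HD_iff hω y _).1 ?_)⟩
    have key : ∀ z : ℤ, z = -(n : ℤ) → y ∈ Module.support B (E ω B z) → y ∈ Module.support B (E ω B (-(n : ℤ))) := by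
      rintro z rfl h; exact h
    exact key _ (by omega) hat

end Groth.Agent.DualLib.OmegaField
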