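import Groth.Agent.DualLib.Trunc
import Groth.Agent.DCat.DTenAmp
import Groth.Agent.DRingLib.PCGen
import Groth.Agent.S6965
import Mathlib.CategoryTheory.Preadditive.AdditiveFunctor
import Mathlib.CategoryTheory.Adjunction.Limits

/-! Cohomology of the internal hom in `D(A)` and biduality for finite modules. -/

set_option autoImplicit false
set_option backward.isDefEq.respectTransparency false
set_option backward.defeqAttrib.useBackward true
set_option linter.style.haveILetI false

universe u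

open CategoryTheory CategoryTheory.Limits CategoryTheory.Pretriangulated MonoidalCategory Opposite

attribute [local instance] HasDerivedCategory.standard

namespace Groth.Agent.DualLib

open Groth.Agent.DCat

variable {A : Type u} [CommRing A]

theorem isSymMonoidal [DTen.HasLTen A] [DTen.HasLTen₃ A] : DTen.IsSymMonoidal A := by
  have hu : IsKFlatFor (modT A) (𝟙_ (DRing.Cx A)) := isKFlatFor_unitShift (A := A) 0
  haveI hs : ∀ X : Dual.D A × Dual.D A, IsIso ((DTen.symm A).app X) := fun X => isIso_symm_app' X.1 X.2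
  haveI : ∀ X, IsIso ((DTen.unitR A).app X) := fun X => by
    refine (NatTrans.isIso_app_iff_of_iso (DTen.unitR A) (DerivedCategory.Q.objObjPreimageIso X)).1 ?_
    rw [DTen.unitR_app]
    haveI := isIso_ε_of_right (K := DerivedCategory.Q.objPreimage X) hu
    infer_instance
  haveI : ∀ X, IsIso ((DTen.unitL A).app X) := fun X => by
    refine (NatTrans.isIso_app_iff_of_iso (DTen.unitL A) (DerivedCategory.Q.objObjPreimageIso X)).1 ?_
    rw [DTen.unitL_app]
    haveI := isIso_ε_of_left (L := DerivedCategory.Q.objPreimage X) hu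
    infer_instance
  haveI : ∀ X, IsIso ((DTen.assocL A).app X) := fun X => (isIso_assoc_legs X.1 X.2.1 X.2.2).1
  haveI : ∀ X, IsIso ((DTen.assocR A).app X) := fun X => (isIso_assoc_legs X.1 X.2.1 X.2.2).2
  exact ⟨NatIso.isIso_of_isIso_app _, NatIso.isIso_of_isIso_app _, NatIso.isIso_of_isIso_app _,
    NatIso.isIso_of_isIso_app _, NatIso.isIso_of_isIso_app _⟩

section Linear

variable [DTen.HasLTen A]

/-- Multiplication by a scalar in the first variable. -/
lemma LTen_map_smul_id (a : A) (X L : Dual.D A) :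
    (DTen.LTen₂ A).map (Prod.mkHom (a • 𝟙 X) (𝟙 L)) = a • 𝟙 ((DTen.LTen₂ A).obj (X, L)) := by
  obtain ⟨K, hK, ⟨e⟩⟩ := exists_kflat_obj X
  obtain ⟨P, hP, ⟨e'⟩⟩ := exists_kflat_obj L
  haveI := isIso_ε_of_kflat hK hP
  have h0 : (DTen.LTen₂ A).map (Prod.mkHom (a • 𝟙 (DerivedCategory.Q.obj K)) (𝟙 (DerivedCategory.Q.obj P))) =
      a • 𝟙 _ := by
    have nat := (DTen.ε A).naturality ((Prod.mkHom (a • 𝟙 K) (𝟙 P)) : (K, P) ⟶ (K, P))
    dsimp at nat
    simp only [MonoidalCategory.whiskerLeft_id, Category.comp_id] at nat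
    rw [CategoryTheory.Functor.map_id, Functor.map_smul, CategoryTheory.Functor.map_id] at nat
    have e1 : (a • 𝟙 K) ▷ P = a • 𝟙 (K ⊗ P) := by
      refine HomologicalComplex.hom_ext _ _ fun n => ?_
      apply HomologicalComplex.mapBifunctor.hom_ext
      intro p q hpq
      erw [HomologicalComplex.ι_mapBifunctorMap]
      refine ModuleCat.MonoidalCategory.tensor_ext fun x y => ?_
      simp [TensorProduct.smul_tmul']
      rfl
    rw [e1, Functor.map_smul, CategoryTheory.Functor.map_id, Linear.comp_smul, Category.comp_id] at nat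
    rw [← cancel_mono ((DTen.ε A).app (K, P)), Linear.smul_comp, Category.id_comp]
    exact nat
  haveI := isIso_LTen_map e.hom e'.hom
  rw [← cancel_epi ((DTen.LTen₂ A).map (Prod.mkHom e.hom e'.hom)), Linear.comp_smul, Category.comp_id,
    ← Functor.map_comp]
  have : Prod.mkHom e.hom e'.hom ≫ Prod.mkHom (a • 𝟙 X) (𝟙 L) =
      Prod.mkHom (a • 𝟙 (DerivedCategory.Q.obj K)) (𝟙 (DerivedCategory.Q.obj P)) ≫ Prod.mkHom e.hom e'.hom := by
    refine Prod.ext ?_ ?_ <;> simp
  rw [this, Functor.map_comp, h0, Linear.smul_comp, Category.id_comp]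

variable [DTen.HasRHom A]

instance additive_tensorRightD (L : Dual.D A) : (DTen.tensorRightD A L).Additive := by
  haveI := (DTen.rhomAdj A L).leftAdjoint_preservesColimits
  haveI : PreservesBinaryBiproducts (DTen.tensorRightD A L) :=
    preservesBinaryBiproducts_of_preservesBinaryCoproducts _
  exact Functor.additive_of_preservesBinaryBiproducts _

instance linear_tensorRightD (L : Dual.D A) : (DTen.tensorRightD A L).Linear A where
  map_smul {X Y} f r := by
    have : r • f = f ≫ (r • 𝟙 Y) := by rw [Linear.comp_smul, Category.comp_id]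
    rw [this, Functor.map_comp]
    change _ ≫ (DTen.LTen₂ A).map (Prod.mkHom (r • 𝟙 Y) (𝟙 L)) = _
    rw [LTen_map_smul_id, Linear.comp_smul]
    exact congrArg (r • ·) (Category.comp_id _)

/-- The tensor-hom adjunction is linear. -/
noncomputable def adjLin (X L M : Dual.D A) :
    (X ⟶ (DTen.RHomR A L).obj M) ≃ₗ[A] ((DTen.tensorRightD A L).obj X ⟶ M) :=
  LinearEquiv.ofBijective
    { toFun := fun f => (DTen.tensorRightD A L).map f ≫ (DTen.rhomAdj A L).counit.app M
      map_add' := fun f g => by rw [Functor.map_add, Preadditive.add_comp]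
      map_smul' := fun a f => by rw [Functor.map_smul, Linear.smul_comp]; rfl }
    (by
      have h := ((DTen.rhomAdj A L).homEquiv X M).symm.bijective
      convert h using 1
      funext f
      exact ((DTen.rhomAdj A L).homEquiv_counit (g := f)).symm)

lemma exists_iso_RHomR_shift_one (L M : Dual.D A) :
    Nonempty (((DTen.RHomR A L).obj M)⟦(1 : ℤ)⟧ ≅ (DTen.RHomR A L).obj (M⟦(1 : ℤ)⟧)) := by
  obtain ⟨δ, hδ⟩ := mapsTri_RHomR L _ (rot_of_distTriang _ (contractible_distinguished M))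
  haveI := (DTen.rhomAdj A L).rightAdjoint_preservesLimits
  haveI : PreservesBinaryBiproducts (DTen.RHomR A L) :=
    preservesBinaryBiproducts_of_preservesBinaryProducts _
  haveI : (DTen.RHomR A L).Additive := Functor.additive_of_preservesBinaryBiproducts _
  have hz : IsZero ((DTen.RHomR A L).obj (contractibleTriangle M).rotate.obj₂) :=
    (DTen.RHomR A L).map_isZero (isZero_zero _)
  haveI : IsIso δ := (Triangle.isZero₂_iff_isIso₃ _ hδ).1 hz
  exact ⟨(asIso δ).symm⟩

lemma exists_iso_RHomR_shift (L : Dual.D A) : ∀ (i : ℤ) (M : Dual.D A),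
    Nonempty (((DTen.RHomR A L).obj M)⟦i⟧ ≅ (DTen.RHomR A L).obj (M⟦i⟧)) := by
  intro i
  induction i using Int.induction_on with
  | zero => exact fun M => ⟨(shiftFunctorZero _ ℤ).app _ ≪≫ ((DTen.RHomR A L).mapIso ((shiftFunctorZero _ ℤ).app M)).symm⟩
  | succ n ih =>
    intro M
    obtain ⟨e⟩ := ih M
    obtain ⟨e'⟩ := exists_iso_RHomR_shift_one L (M⟦(n : ℤ)⟧)
    exact ⟨(shiftFunctorAdd' _ (n : ℤ) 1 _ rfl).app _ ≪≫ (shiftFunctor _ (1 : ℤ)).mapIso e ≪≫ e' ≪≫
      (DTen.RHomR A L).mapIso ((shiftFunctorAdd' _ (n : ℤ) 1 _ rfl).app M).symm⟩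
  | pred n ih =>
    intro M
    obtain ⟨e'⟩ := exists_iso_RHomR_shift_one L (M⟦-(n : ℤ) - 1⟧)
    obtain ⟨e⟩ := ih M
    refine ⟨(shiftFunctor (Dual.D A) (1 : ℤ)).preimageIso ?_⟩
    exact ((shiftFunctorAdd' (Dual.D A) (-(n : ℤ) - 1) 1 (-(n : ℤ)) (by omega)).app _).symm ≪≫ e ≪≫
      (DTen.RHomR A L).mapIso ((shiftFunctorAdd' (Dual.D A) (-(n : ℤ) - 1) 1 (-(n : ℤ)) (by omega)).app M) ≪≫ e'.symm

variable [DTen.HasLTen₃ A]

/-- `H^i RHom(L, M) = Hom(L, M⟦i⟧)`. -/
noncomputable def hdRHom (L M : Dual.D A) (i : ℤ) :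
    Dual.HD A ((DTen.RHomR A L).obj M) i ≃ₗ[A] (L ⟶ M⟦i⟧) :=
  haveI : DTen.IsSymMonoidal A := isSymMonoidal
  (eSelf _ i).symm ≪≫ₗ
    { toFun := fun φ => φ ≫ (exists_iso_RHomR_shift L i M).some.hom
      invFun := fun φ => φ ≫ (exists_iso_RHomR_shift L i M).some.inv
      left_inv := fun φ => by simp
      right_inv := fun φ => by simp
      map_add' := fun φ ψ => Preadditive.add_comp _ _ _ _ _ _
      map_smul' := fun a φ => Linear.smul_comp _ _ _ _ _ _ } ≪≫ₗ
    adjLin _ L (M⟦i⟧) ≪≫ₗ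
    { toFun := fun φ => (DTen.leftUnitor L).inv ≫ φ
      invFun := fun φ => (DTen.leftUnitor L).hom ≫ φ
      left_inv := fun φ => Iso.hom_inv_id_assoc _ φ
      right_inv := fun φ => Iso.inv_hom_id_assoc _ φ
      map_add' := fun φ ψ => Preadditive.comp_add _ _ _ _ _ _
      map_smul' := fun a φ => Linear.comp_smul _ _ _ _ _ _ }

variable [IsNoetherianRing A] [DTen.IsSymMonoidal A]

omit [DTen.HasLTen₃ A] [DTen.IsSymMonoidal A] [DTen.HasLTen A] [DTen.HasRHom A] [IsNoetherianRing A] in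
lemma exists_injAmplitude {ω : Dual.D A} (hω : Dual.IsDualizing A ω) :
    ∃ a b : ℤ, DRing.HasInjAmplitudeIn A a b ω := by
  obtain ⟨a, b, hab⟩ := hω.finite_injective_dimension
  exact ⟨a, b, ((S6965.result A ω a b).out 0 1).2 (fun N [AddCommGroup N] [Module A N] i hi => hab N i hi)⟩

omit [IsNoetherianRing A] in
lemma exists_iso_RHom_self {ω : Dual.D A} (hω : Dual.IsDualizing A ω) :
    Nonempty ((DTen.RHomR A ω).obj ω ≅ DTen.unit A) := by
  let G := (DTen.RHomR A ω).obj ω
  have hz : ∀ i : ℤ, i ≠ 0 → Subsingleton (Dual.HD A G i) := fun i hi =>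
    haveI := hω.ext_self_subsingleton i hi
    (hdRHom ω ω i).injective.subsingleton
  haveI : G.IsGE 0 := (DRingLib.isGE_iff_HD G 0).2 fun i hi => hz i (by omega)
  haveI : G.IsLE 0 := (DRingLib.isLE_iff_HD G 0).2 fun i hi => hz i (by omega)
  obtain ⟨e⟩ := exists_single_iso G 0
  let z : (ω ⟶ ω⟦(0 : ℤ)⟧) ≃ₗ[A] (ω ⟶ ω) :=
    { toFun := fun φ => φ ≫ (shiftFunctorZero (Dual.D A) ℤ).hom.app ω
      invFun := fun φ => φ ≫ (shiftFunctorZero (Dual.D A) ℤ).inv.app ω
      left_inv := fun φ => by simp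
      right_inv := fun φ => by simp
      map_add' := fun φ ψ => Preadditive.add_comp _ _ _ _ _ _
      map_smul' := fun a φ => Linear.smul_comp _ _ _ _ _ _ }
  let s : A ≃ₗ[A] (ω ⟶ ω) := LinearEquiv.ofBijective (LinearMap.toSpanSingleton A _ (𝟙 ω)) hω.toEnd_bijective
  exact ⟨e.symm ≪≫ (S0 A).mapIso ((hdRHom ω ω 0).trans (z.trans s.symm)).toModuleIso⟩

/-- Biduality for finite modules. -/
theorem exists_biduality {ω : Dual.D A} (hω : Dual.IsDualizing A ω) (M : Type u) [AddCommGroup M] [Module A M]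
    [Module.Finite A M] :
    Nonempty ((DTen.RHomR A ((DTen.RHomR A (Dual.inD A M)).obj ω)).obj ω ≅ Dual.inD A M) := by
  obtain ⟨a, b, hab⟩ := exists_injAmplitude hω
  obtain ⟨a', b', hge, -⟩ := exists_bound hω
  have hpc : DRing.IsPseudoCoherent' A (Dual.inD A M) := by
    refine DRingLib.pc'_of_forall fun m => DRingLib.pc_of_finite_homology (b := 0) inferInstance fun i _ => ?_
    rcases eq_or_ne i 0 with rfl | hi
    · exact DRingLib.finite_of_iso
        ((DerivedCategory.singleFunctorCompHomologyFunctorIso (ModuleCat.{u} A) 0).app (ModuleCat.of A M)).symm ‹_›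
    · haveI : Subsingleton (Dual.HD A (Dual.inD A M) i) := by
        rcases lt_or_gt_of_ne hi with h | h
        · exact (DRingLib.isGE_iff_HD (Dual.inD A M) 0).1 inferInstance i h
        · exact (DRingLib.isLE_iff_HD (Dual.inD A M) 0).1 inferInstance i h
      exact inferInstanceAs (Module.Finite A (Dual.HD A (Dual.inD A M) i))
  haveI := isIso_evalHom_of_pseudoCoherent (K := Dual.inD A M) ω ω hpc a' a b hab
  obtain ⟨e⟩ := exists_iso_RHom_self hω
  exact ⟨(asIso (DTen.evalHom (Dual.inD A M) ω ω)).symm ≪≫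
    (DTen.LTen₂ A).mapIso (Iso.prod e (Iso.refl _)) ≪≫ DTen.leftUnitor _⟩

end Linear

end Groth.Agent.DualLib
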