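import Groth.Agent.DualLib.Trunc
import Groth.Agent.DCat.DTenHom
import Groth.Agent.S6965

/-! Maps into objects of finite injective amplitude. -/

set_option autoImplicit false
set_option backward.isDefEq.respectTransparency false
set_option backward.defeqAttrib.useBackward true
set_option linter.style.haveILetI false

universe u

open CategoryTheory CategoryTheory.Limits CategoryTheory.Pretriangulated DerivedCategory

attribute [local instance] HasDerivedCategory.standard

namespace Groth.Agent.DualLib

variable {A : Type u} [CommRing A] {L : Dual.D A} {a b : ℤ} (hL : DRing.HasInjAmplitudeIn A a b L)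
include hL

lemma isGE_of_injAmp : L.IsGE a := by
  obtain ⟨I, hv, -, ⟨e⟩⟩ := hL
  haveI : I.IsStrictlyGE a := (CochainComplex.isStrictlyGE_iff I a).2 fun j hj => hv j (Or.inl hj)
  haveI : (DRing.toD I).IsGE a := (DerivedCategory.isGE_Q_obj_iff I a).2 inferInstance
  exact (ts A).isGE_of_iso e a

/-- Objects far to the left have no maps into `L⟦i⟧`. -/
lemma subsingleton_hom_of_isLE (X : Dual.D A) (p i : ℤ) [X.IsLE p] (h : p + i < a) :
    Subsingleton (X ⟶ L⟦i⟧) := by
  haveI := isGE_of_injAmp hL
  haveI : (L⟦i⟧).IsGE (a - i) := (ts A).isGE_shift L a i (a - i) (by omega)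
  exact subsingleton_of_forall_eq 0 fun φ => (ts A).zero φ p (a - i) (by omega)

/-- Objects far to the right have no maps into `L⟦i⟧`. -/
lemma subsingleton_hom_of_isGE (X : Dual.D A) (p i : ℤ) [X.IsGE p] (h : b < p + i) :
    Subsingleton (X ⟶ L⟦i⟧) := by
  obtain ⟨I, hv, hI, ⟨e⟩⟩ := hL
  obtain ⟨K, hK, ⟨eX⟩⟩ := X.exists_iso_Q_obj_of_isGE p
  let J : DRing.Cx A := I⟦i⟧
  haveI : I.IsStrictlyGE a := (CochainComplex.isStrictlyGE_iff I a).2 fun j hj => hv j (Or.inl hj)
  haveI : ∀ j, Injective (I.X j) := fun j =>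
    haveI := hI j
    Module.injective_object_of_injective_module A (I.X j)
  haveI : I.IsKInjective := CochainComplex.isKInjective_of_injective I a
  haveI : J.IsKInjective := inferInstance
  let eL : L⟦i⟧ ≅ DerivedCategory.Q.obj J :=
    (shiftFunctor (Dual.D A) i).mapIso e.symm ≪≫ ((DerivedCategory.Q.commShiftIso i).app I).symm
  refine subsingleton_of_forall_eq 0 fun φ => ?_
  rw [← cancel_epi eX.inv, ← cancel_mono eL.hom, comp_zero, zero_comp, Category.assoc]
  obtain ⟨f, hf⟩ := DCat.Q_map_surjective (X := K) (I := J) (eX.inv ≫ φ ≫ eL.hom)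
  have h0 : f = 0 := by
    ext j : 1
    rcases lt_or_ge j p with hj | hj
    · exact (K.isZero_of_isStrictlyGE p j hj).eq_of_src _ _
    · exact (hv (j + i) (Or.inr (by omega))).eq_of_tgt _ _
  rw [← hf, h0, Functor.map_zero]

omit hL in
/-- Maps from a bounded object with finite cohomology. -/
theorem finite_hom_bounded [IsNoetherianRing A] (W : Dual.D A)
    (hW : ∀ (M : Type u) [AddCommGroup M] [Module A M] [Module.Finite A M] (j : ℤ), Module.Finite A (E W M j)) :
    ∀ (n : ℕ) (c : ℤ) (X : Dual.D A), X.IsGE c → X.IsLE (c + n - 1) → (∀ q, Module.Finite A (Dual.HD A X q)) →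
      ∀ i : ℤ, Module.Finite A (X ⟶ W⟦i⟧) := by
  intro n
  induction n with
  | zero =>
    intro c X hge hle _ i
    haveI := isZero_hom W ((ts A).isZero X (c + (0 : ℕ) - 1) c (by omega)) i
    infer_instance
  | succ n ih =>
    intro c X hge hle hX i
    haveI h₁ : (((ts A).truncLT (c + n)).obj X).IsLE (c + n - 1) := (ts A).isLE_truncLT_obj _ _ _ (by omega)
    haveI : (((ts A).truncLT (c + n)).obj X).IsGE c := inferInstance
    haveI : Module.Finite A (((ts A).truncLT (c + n)).obj X ⟶ W⟦i⟧) := by
      refine ih c _ inferInstance h₁ (fun q => ?_) i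
      rcases lt_or_ge q (c + n) with hq | hq
      · haveI := hX q
        exact Module.Finite.equiv (hTruncLT X (c + n) q hq).symm
      · haveI := ModuleCat.subsingleton_of_isZero
          (isZero_of_isLE (((ts A).truncLT (c + n)).obj X) (c + n - 1) q (by omega))
        infer_instance
    haveI : X.IsLE (c + n) := by
      have : c + ((n + 1 : ℕ) : ℤ) - 1 = c + n := by push_cast; omega
      exact this ▸ hle
    haveI : (((ts A).truncGE (c + n)).obj X).IsGE (c + n) := inferInstance
    haveI : (((ts A).truncGE (c + n)).obj X).IsLE (c + n) := inferInstance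
    obtain ⟨e⟩ := exists_single_iso (((ts A).truncGE (c + n)).obj X) (c + n)
    haveI : Module.Finite A (Dual.HD A (((ts A).truncGE (c + n)).obj X) (c + n)) :=
      haveI := hX (c + n)
      Module.Finite.equiv (hTruncGE X (c + n) (c + n) le_rfl)
    haveI := hW (Dual.HD A (((ts A).truncGE (c + n)).obj X) (c + n)) (i + (c + n))
    haveI : Module.Finite A (((ts A).truncGE (c + n)).obj X ⟶ W⟦i⟧) :=
      Module.Finite.equiv ((singleHom W (ModuleCat.of A (Dual.HD A (((ts A).truncGE (c + n)).obj X) (c + n)))
        (c + n) i (i + (c + n)) rfl).symm.trans (homCongr W e.symm i))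
    exact finite_of_exact _ _ (exact_trunc (W := W) X (c + n) i)

/-- `Hom(K, L⟦i⟧)` is finite. -/
theorem finite_hom_of_injAmp [IsNoetherianRing A] (hfL : ∀ q, Module.Finite A (Dual.HD A L q))
    (K : Dual.D A) (hK : ∀ q, Module.Finite A (Dual.HD A K q)) (i : ℤ) : Module.Finite A (K ⟶ L⟦i⟧) := by
  have hW : ∀ (M : Type u) [AddCommGroup M] [Module A M] [Module.Finite A M] (j : ℤ), Module.Finite A (E L M j) :=
    fun M _ _ _ j => finite_E hfL a (fun N _ _ _ j hj => subsingleton_hom_of_isLE hL _ 0 j (by omega)) M j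
  let c := a - i
  let Y := ((ts A).truncGE c).obj K
  haveI hlt : (((ts A).truncLT c).obj K).IsLE (c - 1) := (ts A).isLE_truncLT_obj _ _ _ (by omega)
  haveI := subsingleton_hom_of_isLE hL (((ts A).truncLT c).obj K) (c - 1) i (by omega)
  have hs : Function.Surjective (pre L (((ts A).truncGEπ c).app K) i) := fun φ =>
    (exact_trunc (W := L) K c i φ).1 (Subsingleton.elim _ _)
  let d := max c (b - i + 1)
  haveI hY : Y.IsGE c := inferInstance
  haveI := subsingleton_hom_of_isGE hL (((ts A).truncGE d).obj Y) d i (by omega)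
  have hi : Function.Injective (pre L (((ts A).truncLTι d).app Y) i) := by
    rw [injective_iff_map_eq_zero]
    intro φ hφ
    obtain ⟨ψ, rfl⟩ := (exact_trunc (W := L) Y d i φ).1 hφ
    rw [Subsingleton.elim ψ 0, map_zero]
  haveI : (((ts A).truncLT d).obj Y).IsGE c := inferInstance
  haveI h₁ : (((ts A).truncLT d).obj Y).IsLE (d - 1) := (ts A).isLE_truncLT_obj _ _ _ (by omega)
  haveI : Module.Finite A (((ts A).truncLT d).obj Y ⟶ L⟦i⟧) := by
    refine finite_hom_bounded L hW (d - c).toNat c _ inferInstance ((ts A).isLE_of_le _ (d - 1) _ (by omega))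
      (fun q => ?_) i
    rcases lt_or_ge q d with hq | hq
    · rcases lt_or_ge q c with hqc | hqc
      · haveI := ModuleCat.subsingleton_of_isZero (isZero_of_isGE (((ts A).truncLT d).obj Y) c q hqc)
        infer_instance
      · haveI := hK q
        exact Module.Finite.equiv ((hTruncGE K c q hqc).trans (hTruncLT Y d q hq).symm)
    · haveI := ModuleCat.subsingleton_of_isZero (isZero_of_isLE (((ts A).truncLT d).obj Y) (d - 1) q (by omega))
      infer_instance
  haveI : IsNoetherian A (((ts A).truncLT d).obj Y ⟶ L⟦i⟧) := isNoetherian_of_isNoetherianRing_of_finite A _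
  haveI : Module.Finite A (Y ⟶ L⟦i⟧) := Module.Finite.of_injective _ hi
  exact Module.Finite.of_surjective _ hs

end Groth.Agent.DualLib
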