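import Mathlib.Algebra.Module.Injective
import Mathlib.RingTheory.Localization.BaseChange
import Mathlib.RingTheory.Noetherian.Basic
import Mathlib.RingTheory.Localization.Submodule
import Mathlib.Algebra.Category.ModuleCat.ChangeOfRings
import Mathlib.Algebra.Module.FinitePresentation

/-! Localizations of injective modules over Noetherian rings are injective. -/

set_option autoImplicit false

universe u v

open scoped TensorProduct

namespace Groth.Agent.DualLib

variable {A : Type u} [CommRing A] [IsNoetherianRing A] (S : Submonoid A) {B : Type u} [CommRing B] [Algebra A B]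
  [IsLocalization S B]

include S in
theorem injective_tensor (E : Type u) [AddCommGroup E] [Module A E] (hE : Module.Injective A E) :
    Module.Injective B (B ⊗[A] E) := by
  let ℓ := TensorProduct.mk A B E 1
  haveI : IsLocalizedModule S ℓ :=
    (isLocalizedModule_iff_isBaseChange S B _).2 (TensorProduct.isBaseChange A E B)
  refine Module.Baer.injective fun J g => ?_
  let I : Ideal A := J.comap (algebraMap A B)
  let r : I →ₗ[A] B ⊗[A] E :=
    { toFun := fun a => g ⟨algebraMap A B a.1, a.2⟩
      map_add' := fun a b => by
        rw [← map_add]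
        exact congrArg g (Subtype.ext (map_add (algebraMap A B) a.1 b.1))
      map_smul' := fun c a => by
        show g ⟨algebraMap A B (c * a.1), _⟩ = c • g ⟨algebraMap A B a.1, a.2⟩
        rw [← IsScalarTower.algebraMap_smul B c (g _), ← map_smul]
        exact congrArg g (Subtype.ext (map_mul (algebraMap A B) c a.1)) }
  haveI : Module.FinitePresentation A I := Module.finitePresentation_of_finite A I
  obtain ⟨h, s, hs⟩ := Module.FinitePresentation.exists_lift_of_isLocalizedModule S ℓ r
  obtain ⟨h', hh'⟩ := (Module.Baer.of_injective hE).extension_property I.subtype I.injective_subtype h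
  obtain ⟨v, hv⟩ := IsLocalization.map_units B s
  let y : B ⊗[A] E := (↑v⁻¹ : B) • ℓ (h' 1)
  refine ⟨LinearMap.toSpanSingleton B _ y, fun b hb => ?_⟩
  obtain ⟨a, t, rfl⟩ := IsLocalization.exists_mk'_eq S b
  have ha : a ∈ I := by
    show algebraMap A B a ∈ J
    rw [← IsLocalization.mk'_spec B a t]
    exact J.mul_mem_right _ hb
  have h1 : ℓ (h ⟨a, ha⟩) = (s : A) • g ⟨algebraMap A B a, ha⟩ := LinearMap.congr_fun hs ⟨a, ha⟩
  have h2 : h ⟨a, ha⟩ = a • h' 1 := by
    have := LinearMap.congr_fun hh' ⟨a, ha⟩
    rw [← this, LinearMap.comp_apply, ← map_smul, smul_eq_mul, mul_one]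
    rfl
  rw [h2, map_smul, ← IsScalarTower.algebraMap_smul B a, ← IsScalarTower.algebraMap_smul B (s : A)] at h1
  have h3 : g ⟨algebraMap A B a, ha⟩ = algebraMap A B a • y := by
    show _ = algebraMap A B a • (↑v⁻¹ : B) • ℓ (h' 1)
    rw [smul_comm, h1, ← hv, smul_smul, Units.inv_mul, one_smul]
  have h4 : algebraMap A B t • g ⟨IsLocalization.mk' B a t, hb⟩ = algebraMap A B t • IsLocalization.mk' B a t • y := by
    rw [← map_smul, smul_smul, mul_comm, IsLocalization.mk'_spec, ← h3]
    exact congrArg g (Subtype.ext (show algebraMap A B t * IsLocalization.mk' B a t = algebraMap A B a by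
      rw [mul_comm, IsLocalization.mk'_spec]))
  obtain ⟨w, hw⟩ := IsLocalization.map_units B t
  rw [LinearMap.toSpanSingleton_apply]
  have := congrArg (fun z => (↑w⁻¹ : B) • z) h4
  simp only [← hw, smul_smul, ← mul_assoc, Units.inv_mul, one_mul, one_smul] at this
  exact this.symm

include S in
theorem injective_extendScalars (M : ModuleCat.{u} A) (hM : Module.Injective A M) :
    Module.Injective B ((ModuleCat.extendScalars.{u, u, u} (algebraMap A B)).obj M) := by
  have key : ∀ (φ : A →+* B) (i' : Algebra A B), φ.toAlgebra = i' →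
      (letI := i'; Module.Injective B (B ⊗[A] M)) → Module.Injective B ((ModuleCat.extendScalars.{u, u, u} φ).obj M) := by
    rintro φ _ rfl h
    exact h
  exact key _ inferInstance (Algebra.algebra_ext _ _ fun _ => rfl) (injective_tensor S M hM)

end Groth.Agent.DualLib
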