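import Groth.Agent.DualLib.LocBase
import Groth.Agent.DualLib.InjLoc
import Groth.Agent.DualLib.InjAmp
import Groth.Agent.DualLib.Biduality

/-! Localizations of dualizing complexes. -/

set_option autoImplicit false
set_option backward.isDefEq.respectTransparency false
set_option backward.defeqAttrib.useBackward true
set_option linter.style.haveILetI false

universe u

open CategoryTheory CategoryTheory.Limits CategoryTheory.Pretriangulated DerivedCategory

attribute [local instance] HasDerivedCategory.standard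

namespace Groth.Agent.DualLib

variable {A : Type u} [CommRing A]

/-- Being dualizing is invariant under isomorphism. -/
theorem isDualizing_of_iso {X Y : Dual.D A} (e : X ≅ Y) (h : Dual.IsDualizing A X) : Dual.IsDualizing A Y where
  isNoetherianRing := h.isNoetherianRing
  finite_injective_dimension := by
    obtain ⟨a, b, hab⟩ := h.finite_injective_dimension
    exact ⟨a, b, fun M _ _ i hi =>
      haveI := hab M i hi
      (Iso.homCongr (Iso.refl (Dual.inD A M)) ((shiftFunctor (Dual.D A) i).mapIso e)).symm.injective.subsingleton⟩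
  finite_cohomology i :=
    haveI := h.finite_cohomology i
    Module.Finite.equiv ((homologyFunctor (ModuleCat.{u} A) i).mapIso e).toLinearEquiv
  toEnd_bijective := by
    have : (fun a : A => a • 𝟙 Y) = (fun f => e.inv ≫ f ≫ e.hom) ∘ fun a : A => a • 𝟙 X := by
      funext a
      simp
    rw [this]
    exact Function.Bijective.comp (Iso.homCongr e e).bijective h.toEnd_bijective
  ext_self_subsingleton i hi :=
    haveI := h.ext_self_subsingleton i hi
    (Iso.homCongr e ((shiftFunctor (Dual.D A) i).mapIso e)).symm.injective.subsingleton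

variable {B : Type u} [CommRing B] (S : Submonoid A) [Algebra A B] [IsLocalization S B]
  [PreservesFiniteLimits (ModuleCat.extendScalars.{u, u, u} (algebraMap A B))]
  [PreservesFiniteColimits (ModuleCat.extendScalars.{u, u, u} (algebraMap A B))]

omit [IsLocalization S B] in
/-- `LBaseChange` is computed by the exact functor. -/
theorem nonempty_LBaseChange_iso (hflat : (algebraMap A B).Flat) [DRing.HasLBaseChange (algebraMap A B)]
    (X : Dual.D A) :
    Nonempty ((DRing.LBaseChange (algebraMap A B)).obj X ≅ (extD (algebraMap A B)).obj X) := by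
  obtain ⟨e⟩ := CAlgSmall.PCZariski.nonempty_lbaseChange_iso (algebraMap A B) hflat (Q.objPreimage X)
  exact ⟨(DRing.LBaseChange (algebraMap A B)).mapIso (Q.objObjPreimageIso X).symm ≪≫ e ≪≫
    ((ModuleCat.extendScalars.{u, u, u} (algebraMap A B)).mapDerivedCategoryFactors.app _).symm ≪≫
    (extD (algebraMap A B)).mapIso (Q.objObjPreimageIso X)⟩

include S in
/-- Localization keeps finite injective amplitude. -/
theorem injAmp_extD [IsNoetherianRing A] {X : Dual.D A} {a b : ℤ} (h : DRing.HasInjAmplitudeIn A a b X) :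
    DRing.HasInjAmplitudeIn B a b ((extD (algebraMap A B)).obj X) := by
  obtain ⟨I, hv, hI, ⟨e⟩⟩ := h
  exact ⟨((ModuleCat.extendScalars.{u, u, u} (algebraMap A B)).mapHomologicalComplex (ComplexShape.up ℤ)).obj I,
    fun i hi => (ModuleCat.extendScalars.{u, u, u} (algebraMap A B)).map_isZero (hv i hi),
    fun i => injective_extendScalars S (I.X i) (hI i),
    ⟨((ModuleCat.extendScalars.{u, u, u} (algebraMap A B)).mapDerivedCategoryFactors.app I).symm ≪≫
      (extD (algebraMap A B)).mapIso e⟩⟩

omit [IsLocalization S B] in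
theorem finite_HD_extD (X : Dual.D A) (i : ℤ) [h : Module.Finite A (Dual.HD A X i)] :
    Module.Finite B (Dual.HD B ((extD (algebraMap A B)).obj X) i) := by
  have key : ∀ (φ : A →+* B) (i' : Algebra A B), φ.toAlgebra = i' →
      Module.Finite B ((ModuleCat.extendScalars.{u, u, u} φ).obj ((homologyFunctor (ModuleCat.{u} A) i).obj X)) := by
    rintro φ _ rfl
    letI := φ.toAlgebra
    exact inferInstanceAs (Module.Finite B (TensorProduct A B (Dual.HD A X i)))
  haveI := key (algebraMap A B) inferInstance (Algebra.algebra_ext _ _ fun _ => rfl)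
  exact Module.Finite.equiv (DCat.SuppOpen.hdMapIso (ModuleCat.extendScalars.{u, u, u} (algebraMap A B)) X i).symm.toLinearEquiv

include S in
/-- `S`-torsion cone of the unit. -/
theorem exists_triangle_unit [IsNoetherianRing A] (X : Dual.D A) {a : ℤ} (hX : X.IsGE a) :
    ∃ (C : Dual.D A) (g : (DRing.restrictD (algebraMap A B)).obj ((extD (algebraMap A B)).obj X) ⟶ C)
      (h : C ⟶ X⟦(1 : ℤ)⟧),
      Triangle.mk ((adjD (algebraMap A B)).unit.app X) g h ∈ distinguishedTriangles ∧
        (∀ (i : ℤ) (z : Dual.HD A C i), ∃ s ∈ S, s • z = 0) ∧ C.IsGE (a - 1) := by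
  obtain ⟨C, g, h, hT⟩ := Pretriangulated.distinguished_cocone_triangle ((adjD (algebraMap A B)).unit.app X)
  let Y := (DRing.restrictD (algebraMap A B)).obj ((extD (algebraMap A B)).obj X)
  refine ⟨C, g, h, hT, fun i z => ?_, ?_⟩
  · let d := (HomologySequence.δ (Triangle.mk ((adjD (algebraMap A B)).unit.app X) g h) i (i + 1)).hom
    have h1 := (ShortComplex.ShortExact.moduleCat_exact_iff_function_exact _).1
      (HomologySequence.exact₁ _ hT i (i + 1))
    obtain ⟨s, hs, h2⟩ := (torsIso_homology_unit S X (i + 1)).1 (d z) (h1.apply_apply_eq_zero z)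
    have h3 := (ShortComplex.ShortExact.moduleCat_exact_iff_function_exact _).1
      (HomologySequence.exact₃ _ hT i (i + 1))
    obtain ⟨y, hy⟩ := (h3 (s • z)).1 ((map_smul d s z).trans h2)
    obtain ⟨t, ht, m, hm⟩ := (torsIso_homology_unit S X i).2 y
    have h4 := (ShortComplex.ShortExact.moduleCat_exact_iff_function_exact _).1
      (HomologySequence.exact₂ _ hT i)
    refine ⟨t * s, S.mul_mem ht hs, ?_⟩
    rw [mul_smul, ← hy]
    refine ((map_smul _ t y).symm.trans (congrArg _ hm.symm)).trans ?_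
    exact h4.apply_apply_eq_zero m
  · rw [DRingLib.isGE_iff_HD]
    intro i hi
    haveI hY : Subsingleton (Dual.HD A Y i) := by
      refine subsingleton_of_forall_eq 0 fun y => ?_
      obtain ⟨t, ht, m, hm⟩ := (torsIso_homology_unit S X i).2 y
      haveI := ModuleCat.subsingleton_of_isZero (isZero_of_isGE X a i (by omega))
      haveI := isIso_smul_restrict (B := B) S ((extD (algebraMap A B)).obj X) ⟨t, ht⟩
      have h5 : t • y = 0 :=
        by exact hm.symm.trans ((congrArg _ (Subsingleton.elim (α := Dual.HD A X i) m 0)).trans (map_zero _))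
      let F := homologyFunctor (ModuleCat.{u} A) i
      haveI : IsIso (F.map (t • 𝟙 Y)) := inferInstance
      have h6 : (F.map (t • 𝟙 Y)).hom y = 0 := by
        rw [DCat.DC.homologyFunctor_map_smul_id]
        exact h5
      exact (asIso (F.map (t • 𝟙 Y))).toLinearEquiv.injective (h6.trans (map_zero _).symm)
    haveI : Subsingleton (Dual.HD A X (i + 1)) :=
      ModuleCat.subsingleton_of_isZero (isZero_of_isGE X a (i + 1) (by omega))
    have h3 := (ShortComplex.ShortExact.moduleCat_exact_iff_function_exact _).1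
      (HomologySequence.exact₃ _ hT i (i + 1))
    refine subsingleton_of_forall_eq 0 fun z => ?_
    obtain ⟨y, rfl⟩ := (h3 z).1 (Subsingleton.elim (α := Dual.HD A X (i + 1)) _ _)
    exact (congrArg _ (Subsingleton.elim (α := Dual.HD A Y i) y 0)).trans (map_zero _)

include S in
/-- **Localizations of dualizing complexes are dualizing.** -/
theorem isDualizing_extD [IsNoetherianRing A] {ω : Dual.D A} (hω : Dual.IsDualizing A ω) :
    Dual.IsDualizing B ((extD (algebraMap A B)).obj ω) := by
  let φ := algebraMap A B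
  let G := (extD φ).obj ω
  let η := (adjD φ).unit.app ω
  let R := DRing.restrictD φ
  obtain ⟨a, b, hab⟩ := exists_injAmplitude hω
  obtain ⟨a', b', hge, hle⟩ := exists_bound hω
  have hGB : DRing.HasInjAmplitudeIn B a b G := injAmp_extD S hab
  obtain ⟨C, g, h, hT, hC, hCge⟩ := exists_triangle_unit (B := B) S ω hge
  haveI := hCge
  haveI : ω.IsLE (a' + ((b' + 1 - a').toNat : ℤ) - 1) := (ts A).isLE_of_le ω b' _ (by omega)
  have htors : ∀ (i : ℤ) (ψ : ω ⟶ C⟦i⟧), ∃ s ∈ S, s • ψ = 0 :=
    torsion_hom S C (a' - 1) hC (b' + 1 - a').toNat a' ω hge inferInstance hω.finite_cohomology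
  have hsmul : ∀ (s : S) (i : ℤ) (Z : Dual.D A) (ψ : Z ⟶ (R.obj G)⟦i⟧), (s : A) • ψ = 0 → ψ = 0 := by
    intro s i Z ψ h0
    haveI := isIso_smul_restrict (B := B) S G s
    haveI : IsIso ((s : A) • 𝟙 ((R.obj G)⟦i⟧)) := by
      rw [← CategoryTheory.Functor.map_id (shiftFunctor (Dual.D A) i), ← Functor.map_smul]
      infer_instance
    rw [← cancel_mono ((s : A) • 𝟙 ((R.obj G)⟦i⟧)), zero_comp, Linear.comp_smul, Category.comp_id, h0]
  -- maps into the restricted object are fractions of maps into `ω`
  have hsurj : ∀ (i : ℤ) (ψ : ω ⟶ (R.obj G)⟦i⟧), ∃ s ∈ S, ∃ θ : ω ⟶ ω⟦i⟧, θ ≫ η⟦i⟧' = s • ψ := by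
    intro i ψ
    obtain ⟨s, hs, h0⟩ := htors i (ψ ≫ g⟦i⟧')
    have hT' := Triangle.shift_distinguished _ hT i
    obtain ⟨θ, hθ⟩ := Triangle.coyoneda_exact₂ _ hT' (s • ψ) (by
      show (s • ψ) ≫ (i.negOnePow • g⟦i⟧') = 0
      rw [Linear.comp_units_smul, Linear.smul_comp, h0, smul_zero])
    refine ⟨s, hs, i.negOnePow • θ, ?_⟩
    rw [hθ]
    show (i.negOnePow • θ) ≫ η⟦i⟧' = θ ≫ (i.negOnePow • η⟦i⟧')
    rw [Linear.units_smul_comp, Linear.comp_units_smul]
  refine ⟨IsLocalization.isNoetherianRing S B inferInstance, ⟨a, b, fun N _ _ i hi => ?_⟩,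
    fun i => @finite_HD_extD _ _ _ _ _ _ _ ω i (hω.finite_cohomology i), ?_, fun i hi => ?_⟩
  · rcases hi with hi | hi
    · exact subsingleton_hom_of_isLE hGB _ 0 i (by omega)
    · exact subsingleton_hom_of_isGE hGB _ 0 i (by omega)
  · have hbij := ((adjD φ).homEquiv ω G).bijective
    have hval : ∀ f : G ⟶ G, (adjD φ).homEquiv ω G f = η ≫ R.map f := fun f => Adjunction.homEquiv_unit _ _ _ _
    let Ψ : B →ₗ[A] (ω ⟶ R.obj G) :=
      { toFun := fun c => η ≫ R.map (c • 𝟙 G)
        map_add' := fun c c' => by rw [add_smul, Functor.map_add, Preadditive.comp_add]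
        map_smul' := fun x c => by
          rw [RingHom.id_apply, Algebra.smul_def, mul_smul, restrictD_map_smul, Linear.comp_smul] }
    have hone : ∀ x : A, Ψ (algebraMap A B x) = x • η := fun x => by
      show η ≫ R.map (algebraMap A B x • 𝟙 G) = _
      rw [restrictD_map_smul, CategoryTheory.Functor.map_id, Linear.comp_smul]
      exact congrArg (x • ·) (Category.comp_id η)
    have hker : ∀ x : A, x • η = 0 → ∃ s ∈ S, s * x = 0 := by
      intro x hx
      obtain ⟨ψ, hψ⟩ := Triangle.coyoneda_exact₂ _ (inv_rot_of_distTriang _ hT) (x • 𝟙 ω) (by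
        show (x • 𝟙 ω) ≫ η = 0
        rw [Linear.smul_comp, Category.id_comp, hx])
      obtain ⟨s, hs, h0⟩ := htors (-1) ψ
      refine ⟨s, hs, hω.toEnd_bijective.injective ?_⟩
      show (s * x) • 𝟙 ω = (0 : A) • 𝟙 ω
      rw [zero_smul, mul_smul, hψ, ← Linear.smul_comp, h0, zero_comp]
    have hsurj0 : ∀ ψ : ω ⟶ R.obj G, ∃ s ∈ S, ∃ x : A, x • η = s • ψ := by
      intro ψ
      obtain ⟨s, hs, h0⟩ := htors 0 (ψ ≫ g ≫ (shiftFunctorZero (Dual.D A) ℤ).inv.app C)
      obtain ⟨θ, hθ⟩ := Triangle.coyoneda_exact₂ _ hT (s • ψ) (by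
        show (s • ψ) ≫ g = 0
        rw [← cancel_mono ((shiftFunctorZero (Dual.D A) ℤ).inv.app C), zero_comp, Category.assoc,
          Linear.smul_comp, h0])
      obtain ⟨x, rfl⟩ := hω.toEnd_bijective.surjective θ
      refine ⟨s, hs, x, ?_⟩
      rw [hθ]
      show x • η = (x • 𝟙 ω) ≫ η
      rw [Linear.smul_comp]
      exact congrArg (x • ·) (Category.id_comp η).symm
    have hΨ : Function.Bijective Ψ := by
      refine ⟨(injective_iff_map_eq_zero Ψ).2 fun c hc => ?_, fun ψ => ?_⟩
      · obtain ⟨x, t, rfl⟩ := IsLocalization.exists_mk'_eq S c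
        have h0 : x • η = 0 := by
          rw [← hone, ← IsLocalization.mk'_spec B x t, mul_comm, ← Algebra.smul_def, map_smul, hc, smul_zero]
        obtain ⟨s, hs, hsx⟩ := hker x h0
        exact (IsLocalization.mk'_eq_zero_iff x t).2 ⟨⟨s, hs⟩, hsx⟩
      · obtain ⟨s, hs, x, hx⟩ := hsurj0 ψ
        refine ⟨IsLocalization.mk' B x ⟨s, hs⟩, ?_⟩
        have h0 : s • (Ψ (IsLocalization.mk' B x ⟨s, hs⟩) - ψ) = 0 := by
          rw [smul_sub, sub_eq_zero, ← map_smul, Algebra.smul_def]
          exact (congrArg Ψ (IsLocalization.mk'_spec' B x ⟨s, hs⟩)).trans ((hone x).trans hx)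
        rw [← sub_eq_zero]
        rw [← cancel_mono ((shiftFunctorZero (Dual.D A) ℤ).inv.app (R.obj G)), zero_comp]
        exact hsmul ⟨s, hs⟩ 0 _ _ (by
          show s • (_ ≫ _) = 0
          rw [← Linear.smul_comp, h0, zero_comp])
    have hcomp : (fun f => (adjD φ).homEquiv ω G f) ∘ (fun c : B => c • 𝟙 G) = Ψ := funext fun c => hval _
    exact (Function.Bijective.of_comp_iff' hbij _).1 (by rw [hcomp]; exact hΨ)
  · haveI := hω.ext_self_subsingleton i hi
    have hz : Subsingleton (ω ⟶ (R.obj G)⟦i⟧) := subsingleton_of_forall_eq 0 fun ψ => by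
      obtain ⟨s, hs, θ, hθ⟩ := hsurj i ψ
      exact hsmul ⟨s, hs⟩ i ω ψ (by rw [← hθ, Subsingleton.elim θ 0, zero_comp])
    haveI : Subsingleton (ω ⟶ (R ⋙ shiftFunctor (Dual.D A) i).obj G) := hz
    exact (((adjD φ).homEquiv ω (G⟦i⟧)).trans
      ((R.commShiftIso i).app G).homToEquiv).injective.subsingleton

end Groth.Agent.DualLib

namespace Groth.Agent.DualLib

variable {A B : Type u} [CommRing A] [CommRing B] [Algebra A B] (S : Submonoid A) [IsLocalization S B]

include S in
/-- The derived base change of a dualizing complex to a localization is dualizing. -/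
theorem isDualizing_LBaseChange [IsNoetherianRing A] [DRing.HasLBaseChange (algebraMap A B)]
    {ω : Dual.D A} (hω : Dual.IsDualizing A ω) :
    Dual.IsDualizing B ((DRing.LBaseChange (algebraMap A B)).obj ω) := by
  have hflat : (algebraMap A B).Flat := RingHom.flat_algebraMap_iff.2 (IsLocalization.flat B S)
  haveI := ModuleCat.preservesFiniteLimits_extendScalars_of_flat hflat
  haveI : PreservesFiniteColimits (ModuleCat.extendScalars.{u, u, u} (algebraMap A B)) :=
    haveI : PreservesColimitsOfSize.{0, 0} (ModuleCat.extendScalars.{u, u, u} (algebraMap A B)) :=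
      (ModuleCat.extendRestrictScalarsAdj.{u, u, u} (algebraMap A B)).leftAdjoint_preservesColimits
    inferInstance
  obtain ⟨e⟩ := nonempty_LBaseChange_iso hflat ω
  exact isDualizing_of_iso e.symm (isDualizing_extD S hω)

end Groth.Agent.DualLib
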