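import Groth.Agent.DualLib.LocCohOmega
import Groth.Agent.DualLib.Trunc
import Groth.Agent.DCat.DTenHom
import Groth.Agent.DCat.RDUnbounded
import Groth.Prelude.Def_DRing3

/-! `H^i(RΓ_I K) = colim Hom(A/Iⁿ, K⟦i⟧)`. -/

set_option autoImplicit false
set_option backward.isDefEq.respectTransparency false
set_option backward.defeqAttrib.useBackward true
set_option linter.style.haveILetI false

universe u

open CategoryTheory CategoryTheory.Limits Opposite

attribute [local instance] HasDerivedCategory.standard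

namespace Groth.Agent.DualLib.GammaHDI

open Groth.Agent.DCat

variable {A : Type u} [CommRing A] (J : DRing.Cx A) (i : ℤ)

/-- Cocycles with values in `J^i`. -/
noncomputable def cyc (N : ModuleCat.{u} A) : Submodule A (N →ₗ[A] J.X i) where
  carrier := {f | (J.d i (i + 1)).hom ∘ₗ f = 0}
  zero_mem' := LinearMap.comp_zero _
  add_mem' {f g} hf hg := by
    show (J.d i (i + 1)).hom ∘ₗ (f + g) = 0
    rw [LinearMap.comp_add, hf, hg, add_zero]
  smul_mem' c f hf := by
    show (J.d i (i + 1)).hom ∘ₗ (c • f) = 0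
    rw [LinearMap.comp_smul, hf, smul_zero]

variable {J i}

/-- The chain map of a cocycle. -/
noncomputable def toCx {N : ModuleCat.{u} A} (f : cyc J i N) :
    (CochainComplex.singleFunctor (ModuleCat.{u} A) i).obj N ⟶ J :=
  HomologicalComplex.mkHomFromSingle (ModuleCat.ofHom f.1) (fun k hk => by
    obtain rfl : i + 1 = k := hk
    exact ModuleCat.hom_ext f.2)

lemma toCx_f {N : ModuleCat.{u} A} (f : cyc J i N) :
    (toCx f).f i = (HomologicalComplex.singleObjXSelf (ComplexShape.up ℤ) i N).hom ≫ ModuleCat.ofHom f.1 :=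
  HomologicalComplex.mkHomFromSingle_f _ _

lemma toCx_add {N : ModuleCat.{u} A} (f g : cyc J i N) : toCx (f + g) = toCx f + toCx g :=
  HomologicalComplex.from_single_hom_ext (by
    rw [HomologicalComplex.add_f_apply, toCx_f, toCx_f, toCx_f, ← Preadditive.comp_add]
    rfl)

lemma toCx_smul {N : ModuleCat.{u} A} (a : A) (f : cyc J i N) : toCx (a • f) = a • toCx f :=
  HomologicalComplex.from_single_hom_ext (by
    rw [HomologicalComplex.smul_f_apply, toCx_f, toCx_f, ← Linear.comp_smul]
    rfl)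

variable [J.IsKInjective] {K : Dual.D A} (e : DerivedCategory.Q.obj J ≅ K)

/-- `single₀ N ≅ (single_i N)⟦i⟧`. -/
noncomputable abbrev shIso (i : ℤ) (N : ModuleCat.{u} A) :
    ((DerivedCategory.singleFunctor (ModuleCat.{u} A) i).obj N)⟦i⟧ ≅ (S0 A).obj N :=
  ((DerivedCategory.singleFunctors (ModuleCat.{u} A)).shiftIso i 0 i (by omega)).app N

/-- The map into `K⟦i⟧` of a cocycle. -/
noncomputable def lam (N : ModuleCat.{u} A) : cyc J i N →ₗ[A] ((S0 A).obj N ⟶ K⟦i⟧) where
  toFun f := (shIso i N).inv ≫ (DerivedCategory.Q.map (toCx f) ≫ e.hom)⟦i⟧'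
  map_add' f g := by
    rw [toCx_add, Functor.map_add, Preadditive.add_comp, Functor.map_add, Preadditive.comp_add]
  map_smul' a f := by
    rw [toCx_smul, Functor.map_smul, Linear.smul_comp, Functor.map_smul, Linear.comp_smul]
    rfl

lemma lam_surjective (N : ModuleCat.{u} A) : Function.Surjective (lam (i := i) e N) := fun x => by
  obtain ⟨y, hy⟩ := (shiftFunctor (Dual.D A) i).map_surjective ((shIso i N).hom ≫ x)
  obtain ⟨g, hg⟩ := Q_map_surjective (X := (CochainComplex.singleFunctor (ModuleCat.{u} A) i).obj N) (I := J) (y ≫ e.inv)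
  let f : N →ₗ[A] J.X i := ((HomologicalComplex.singleObjXSelf (ComplexShape.up ℤ) i N).inv ≫ g.f i).hom
  have hf : f ∈ cyc J i N := by
    show (J.d i (i + 1)).hom ∘ₗ f = 0
    refine congrArg ModuleCat.Hom.hom (?_ : ((HomologicalComplex.singleObjXSelf (ComplexShape.up ℤ) i N).inv ≫ g.f i) ≫
      J.d i (i + 1) = 0)
    rw [Category.assoc, g.comm]
    have : ((CochainComplex.singleFunctor (ModuleCat.{u} A) i).obj N).d i (i + 1) = 0 :=
      HomologicalComplex.single_obj_d _ _ _ _ _
    rw [this, zero_comp, comp_zero]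
  have hg' : toCx (⟨f, hf⟩ : cyc J i N) = g := HomologicalComplex.from_single_hom_ext (by
    rw [toCx_f]
    show _ ≫ (HomologicalComplex.singleObjXSelf (ComplexShape.up ℤ) i N).inv ≫ g.f i = _
    rw [Iso.hom_inv_id_assoc])
  refine ⟨⟨f, hf⟩, ?_⟩
  show (shIso i N).inv ≫ (DerivedCategory.Q.map (toCx _) ≫ e.hom)⟦i⟧' = x
  rw [hg', hg, Category.assoc, e.inv_hom_id]
  erw [Category.comp_id, hy, Iso.inv_hom_id_assoc]

lemma lam_eq_zero {N : ModuleCat.{u} A} (f : cyc J i N) (hf : lam e N f = 0) :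
    ∃ h : N →ₗ[A] J.X (i - 1), (J.d (i - 1) i).hom ∘ₗ h = f.1 := by
  have h1 : DerivedCategory.Q.map (toCx f) = DerivedCategory.Q.map 0 := by
    rw [Functor.map_zero, ← cancel_mono e.hom, Limits.zero_comp]
    apply (shiftFunctor (Dual.D A) i).map_injective
    rw [Functor.map_zero, ← cancel_epi (shIso i N).inv, Limits.comp_zero]
    exact hf
  let H := HomotopyCategory.homotopyOfEq _ _ (homotopy_of_Q_map_eq h1)
  have hc := H.comm i
  rw [dNext_eq H.hom (show (ComplexShape.up ℤ).Rel i (i + 1) by simp),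
    prevD_eq H.hom (show (ComplexShape.up ℤ).Rel (i - 1) i by simp)] at hc
  have hz : ((CochainComplex.singleFunctor (ModuleCat.{u} A) i).obj N).d i (i + 1) = 0 :=
    HomologicalComplex.single_obj_d _ _ _ _ _
  rw [hz, zero_comp, zero_add, HomologicalComplex.zero_f, add_zero, toCx_f] at hc
  refine ⟨((HomologicalComplex.singleObjXSelf (ComplexShape.up ℤ) i N).inv ≫ H.hom i (i - 1)).hom, ?_⟩
  refine congrArg ModuleCat.Hom.hom (?_ : ((HomologicalComplex.singleObjXSelf (ComplexShape.up ℤ) i N).inv ≫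
    H.hom i (i - 1)) ≫ J.d (i - 1) i = ModuleCat.ofHom f.1)
  rw [Category.assoc, ← hc, Iso.inv_hom_id_assoc]

lemma lam_natural {M N : ModuleCat.{u} A} (g : M ⟶ N) (f : cyc J i N)
    (hf : (f.1 ∘ₗ g.hom) ∈ cyc J i M) : lam e M ⟨f.1 ∘ₗ g.hom, hf⟩ = (S0 A).map g ≫ lam e N f := by
  have h1 : toCx (⟨f.1 ∘ₗ g.hom, hf⟩ : cyc J i M) =
      (CochainComplex.singleFunctor (ModuleCat.{u} A) i).map g ≫ toCx f :=
    HomologicalComplex.from_single_hom_ext (by
      rw [HomologicalComplex.comp_f, toCx_f, toCx_f]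
      erw [HomologicalComplex.single_map_f_self]
      simp only [Category.assoc, Iso.inv_hom_id_assoc]
      rfl)
  show (shIso i M).inv ≫ _ = (S0 A).map g ≫ (shIso i N).inv ≫ _
  rw [h1]
  simp only [Functor.map_comp, Category.assoc]
  rw [← Category.assoc, ← Category.assoc ((S0 A).map g)]
  congr 1
  exact (((DerivedCategory.singleFunctors (ModuleCat.{u} A)).shiftIso i 0 i (by omega)).inv.naturality g).symm

variable (I : Ideal A)

/-- `Γ_I J`. -/
noncomputable abbrev GC (J : DRing.Cx A) : DRing.Cx A :=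
  ((DRing.gammaI I).mapHomologicalComplex (ComplexShape.up ℤ)).obj J

/-- `A/Iⁿ`. -/
noncomputable abbrev Qn (n : ℕ) : ModuleCat.{u} A := ModuleCat.of A (A ⧸ I ^ n)

variable {I}

omit [J.IsKInjective] in
lemma iCycles_cyclesMk (C : DRing.Cx A) (i : ℤ) (x : C.X i) (hx : (C.d i (i + 1)).hom x = 0) :
    (C.iCycles i).hom (C.cyclesMk x (i + 1) (by simp) hx) = x :=
  C.i_cyclesMk x (i + 1) (by simp) hx

omit [J.IsKInjective] in
/-- Cocycles as elements of the cycles object. -/
noncomputable def cyMk (C : DRing.Cx A) (i : ℤ) : LinearMap.ker (C.d i (i + 1)).hom →ₗ[A] C.cycles i where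
  toFun z := C.cyclesMk z.1 (i + 1) (by simp) z.2
  map_add' a b := (ModuleCat.mono_iff_injective (C.iCycles i)).1 inferInstance (by
    rw [map_add, iCycles_cyclesMk, iCycles_cyclesMk, iCycles_cyclesMk]
    rfl)
  map_smul' a b := (ModuleCat.mono_iff_injective (C.iCycles i)).1 inferInstance (by
    rw [RingHom.id_apply, map_smul, iCycles_cyclesMk, iCycles_cyclesMk]
    rfl)

omit [J.IsKInjective] in
/-- The value at `1` of a cocycle, in `(Γ_I J)^i`. -/
noncomputable def ev (n : ℕ) : cyc J i (Qn I n) →ₗ[A] (GC I J).cycles i :=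
  LinearMap.comp (cyMk (GC I J) i)
    ({ toFun := fun f => ⟨(⟨f.1 (Submodule.Quotient.mk 1), n, fun a ha => by
          rw [← map_smul, ← Submodule.Quotient.mk_smul,
            (Submodule.Quotient.mk_eq_zero (I ^ n)).2 (by rwa [smul_eq_mul, mul_one]), map_zero]⟩ : (GC I J).X i),
        Subtype.ext (LinearMap.congr_fun f.2 (Submodule.Quotient.mk 1))⟩
       map_add' := fun _ _ => Subtype.ext (Subtype.ext rfl)
       map_smul' := fun _ _ => Subtype.ext (Subtype.ext rfl) } :
      cyc J i (Qn I n) →ₗ[A] LinearMap.ker ((GC I J).d i (i + 1)).hom)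

omit [J.IsKInjective] in
lemma iCycles_ev (n : ℕ) (f : cyc J i (Qn I n)) :
    (((GC I J).iCycles i).hom (ev n f)).1 = f.1 (Submodule.Quotient.mk 1) := by
  exact congrArg Subtype.val (iCycles_cyclesMk (GC I J) i
    ⟨f.1 (Submodule.Quotient.mk 1), _⟩ (Subtype.ext (LinearMap.congr_fun f.2 (Submodule.Quotient.mk 1))))

omit [J.IsKInjective] in
lemma homologyπ_eq_zero_iff (C : DRing.Cx A) (i : ℤ) (z : C.cycles i) :
    (C.homologyπ i).hom z = 0 ↔ ∃ w : C.X (i - 1), (C.d (i - 1) i).hom w = (C.iCycles i).hom z := by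
  have hex : (ShortComplex.mk (C.toCycles (i - 1) i) (C.homologyπ i) (C.toCycles_comp_homologyπ _ _)).Exact :=
    ShortComplex.exact_of_g_is_cokernel _ (C.homologyIsCokernel (i - 1) i (by simp))
  rw [ShortComplex.moduleCat_exact_iff] at hex
  constructor
  · intro h
    obtain ⟨w, hw⟩ := hex z h
    exact ⟨w, by rw [← hw]; exact (congrArg (fun f => f.hom w) (C.toCycles_i (i - 1) i)).symm⟩
  · rintro ⟨w, hw⟩
    have : (C.toCycles (i - 1) i).hom w = z := (ModuleCat.mono_iff_injective (C.iCycles i)).1 inferInstance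
      ((congrArg (fun f => f.hom w) (C.toCycles_i (i - 1) i)).trans hw)
    rw [← this]
    exact congrArg (fun f => f.hom w) (C.toCycles_comp_homologyπ (i - 1) i)

/-- From maps out of `A/Iⁿ` to cohomology of `Γ_I J`. -/
theorem exists_stage (n : ℕ) : ∃ L : ((S0 A).obj (Qn I n) ⟶ K⟦i⟧) →ₗ[A] (GC I J).homology i,
    ∀ f : cyc J i (Qn I n), L (lam e _ f) = ((GC I J).homologyπ i).hom (ev n f) := by
  let q := (lam (i := i) e (Qn I n)).quotKerEquivOfSurjective (lam_surjective e _)
  have hker : LinearMap.ker (lam (i := i) e (Qn I n)) ≤ LinearMap.ker (((GC I J).homologyπ i).hom ∘ₗ ev n) := by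
    intro f hf
    obtain ⟨h, hh⟩ := lam_eq_zero e f hf
    refine (homologyπ_eq_zero_iff _ _ _).2 ⟨⟨h (Submodule.Quotient.mk 1), n, fun a ha => by
      rw [← map_smul, ← Submodule.Quotient.mk_smul,
        (Submodule.Quotient.mk_eq_zero (I ^ n)).2 (by rwa [smul_eq_mul, mul_one]), map_zero]⟩, Subtype.ext ?_⟩
    rw [iCycles_ev, ← hh]
    rfl
  refine ⟨Submodule.liftQ _ _ hker ∘ₗ q.symm.toLinearMap, fun f => ?_⟩
  have : q.symm (lam e _ f) = Submodule.Quotient.mk f := by
    rw [LinearEquiv.symm_apply_eq]; rfl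
  show Submodule.liftQ _ _ hker (q.symm (lam e _ f)) = _
  rw [this]
  rfl

theorem nonempty_equiv_homology (e : DerivedCategory.Q.obj J ≅ K) :
    Nonempty (Dual2.HDI A I K i ≃ₗ[A] (GC I J).homology i) := by
  choose L hL using exists_stage (I := I) (i := i) e
  let G := (localCohomology.ringModIdeals (localCohomology.idealPowersDiagram I) ⋙
      DerivedCategory.singleFunctor (ModuleCat.{u} A) 0).op ⋙ (linearYoneda A (Dual.D A)).obj (K⟦i⟧)
  have hnat : ∀ (n k : ℕ) (h : n ≤ k) (x : (S0 A).obj (Qn I n) ⟶ K⟦i⟧),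
      L k ((S0 A).map (LocCoh.qmap I h) ≫ x) = L n x := by
    intro n k h x
    obtain ⟨f, rfl⟩ := lam_surjective e _ x
    have hf : f.1 ∘ₗ (LocCoh.qmap I h).hom ∈ cyc J i (Qn I k) := by
      show (J.d i (i + 1)).hom ∘ₗ _ = 0
      rw [← LinearMap.comp_assoc, f.2, LinearMap.zero_comp]
    rw [← lam_natural e (LocCoh.qmap I h) f hf, hL, hL]
    congr 1
  let c : Cocone G :=
    { pt := ModuleCat.of A (ULift.{u + 1} ((GC I J).homology i))
      ι :=
        { app := fun n => ModuleCat.ofHom (ULift.moduleEquiv.symm.toLinearMap ∘ₗ L n.unop.unop)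
          naturality := fun n k φ => by
            apply ModuleCat.hom_ext
            exact LinearMap.ext fun x => congrArg ULift.up (hnat n.unop.unop k.unop.unop φ.unop.unop.le x) } }
  let Φ : Dual2.HDI A I K i →ₗ[A] (GC I J).homology i := ULift.moduleEquiv.toLinearMap ∘ₗ (colimit.desc G c).hom
  have hΦ : ∀ (n) (x : G.obj n), Φ ((colimit.ι G n).hom x) = L n.unop.unop x := fun n x => by
    show ULift.down ((colimit.ι G n ≫ colimit.desc G c).hom x) = _
    rw [colimit.ι_desc]
    rfl
  refine ⟨LinearEquiv.ofBijective Φ ⟨(injective_iff_map_eq_zero _).2 fun z hz => ?_, fun y => ?_⟩⟩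
  · obtain ⟨n, x, rfl⟩ := exists_rep_HDI _ _ _ z
    obtain ⟨f, rfl⟩ : ∃ f, lam e (Qn I n.unop.unop) f = x := lam_surjective e _ x
    rw [hΦ, hL] at hz
    obtain ⟨w, hw⟩ := (homologyπ_eq_zero_iff _ _ _).1 hz
    obtain ⟨k, hk⟩ := w.2
    let m := max n.unop.unop k
    let h : Qn I m →ₗ[A] J.X (i - 1) := Submodule.liftQ _ (LinearMap.toSpanSingleton A _ w.1) fun a ha =>
      hk a (Ideal.pow_le_pow_right (le_max_right _ _) ha)
    let g : n ⟶ op (op m) := (homOfLE (le_max_left n.unop.unop k : n.unop.unop ≤ m)).op.op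
    have hw' : (G.map g).hom (lam e _ f) = 0 := by
      show (S0 A).map (LocCoh.qmap I (le_max_left n.unop.unop k)) ≫ lam e _ f = 0
      have hf' : f.1 ∘ₗ (LocCoh.qmap I (le_max_left n.unop.unop k)).hom ∈ cyc J i (Qn I m) := by
        show (J.d i (i + 1)).hom ∘ₗ _ = 0
        rw [← LinearMap.comp_assoc, f.2, LinearMap.zero_comp]
      rw [← lam_natural e _ f hf']
      let hc : (CochainComplex.singleFunctor (ModuleCat.{u} A) i).obj (Qn I m) ⟶ J := toCx ⟨_, hf'⟩
      have hnull : DerivedCategory.Q.map hc = 0 := by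
        rw [← DerivedCategory.Q.map_zero]
        refine DerivedCategory.Q_map_eq_of_homotopy _ ?_
        refine Homotopy.ofEq ?_ |>.trans (Homotopy.nullHomotopy' fun p q _ =>
          if hp : p = i then
            if hq : q = i - 1 then
              (HomologicalComplex.singleObjXIsoOfEq (ComplexShape.up ℤ) i (Qn I m) p hp).hom ≫ ModuleCat.ofHom h ≫
                (J.XIsoOfEq hq).inv
            else 0
          else 0)
        refine HomologicalComplex.from_single_hom_ext ?_
        rw [Homotopy.nullHomotopicMap'_f (show (ComplexShape.up ℤ).Rel (i - 1) i by simp)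
          (show (ComplexShape.up ℤ).Rel i (i + 1) by simp)]
        have hd : ((HomologicalComplex.single (ModuleCat.{u} A) (ComplexShape.up ℤ) i).obj (Qn I m)).d i (i + 1) = 0 :=
          HomologicalComplex.single_obj_d _ _ _ _ _
        rw [hd, zero_comp, zero_add, dif_pos rfl, dif_pos rfl, toCx_f]
        show (HomologicalComplex.singleObjXSelf (ComplexShape.up ℤ) i (Qn I m)).hom ≫ _ = _
        rw [HomologicalComplex.XIsoOfEq_rfl, Iso.refl_inv, Category.comp_id, Category.assoc]
        congr 1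
        apply ModuleCat.hom_ext
        refine Submodule.linearMap_qext _ (LinearMap.ext_ring ?_)
        have h2 : (J.d (i - 1) i).hom w.1 = f.1 (Submodule.Quotient.mk 1) :=
          (congrArg Subtype.val hw).trans (iCycles_ev _ f)
        show f.1 ((LocCoh.qmap I _).hom (Submodule.Quotient.mk 1)) = (J.d (i - 1) i).hom (h (Submodule.Quotient.mk 1))
        rw [show h (Submodule.Quotient.mk 1) = w.1 from one_smul A w.1, h2]
        rfl
      show (shIso i (Qn I m)).inv ≫ (DerivedCategory.Q.map hc ≫ e.hom)⟦i⟧' = 0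
      rw [hnull, Limits.zero_comp, Functor.map_zero, Limits.comp_zero]
    exact (show (colimit.ι G n).hom (lam e _ f) = (colimit.ι G (op (op m))).hom ((G.map g).hom (lam e _ f)) by
      rw [← colimit.w G g]; rfl).trans (by rw [hw', map_zero])
  · obtain ⟨z, rfl⟩ := (ModuleCat.epi_iff_surjective ((GC I J).homologyπ i)).1 inferInstance y
    obtain ⟨n, hn⟩ := (((GC I J).iCycles i).hom z).2
    let f : cyc J i (Qn I n) := ⟨Submodule.liftQ _ (LinearMap.toSpanSingleton A _ (((GC I J).iCycles i).hom z).1)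
        fun a ha => hn a ha, Submodule.linearMap_qext _ (LinearMap.ext_ring (by
          have h1 := congrArg Subtype.val (congrArg (fun f => f.hom z) ((GC I J).iCycles_d i (i + 1)))
          show (J.d i (i + 1)).hom ((1 : A) • (((GC I J).iCycles i).hom z).1) = 0
          rw [one_smul]
          exact h1))⟩
    refine ⟨(colimit.ι G (op (op n))).hom (lam e _ f), (hΦ _ _).trans ((hL n f).trans ?_)⟩
    congr 1
    exact (ModuleCat.mono_iff_injective ((GC I J).iCycles i)).1 inferInstance
      (Subtype.ext (by rw [iCycles_ev]; exact one_smul A _))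

variable (I) in
/-- `H^i(RΓ_I K) = colim Hom(A/Iⁿ, K⟦i⟧)`. -/
theorem nonempty_HDI_RgammaI [DRing.HasRgammaI I] (K : Dual.D A) (i : ℤ) :
    Nonempty (Dual2.HDI A I K i ≃ₗ[A] Dual.HD A ((DRing.RgammaI I).obj K) i) := by
  let K' := DerivedCategory.Q.objPreimage K
  obtain ⟨J, s, hJ, hs⟩ := enoughKInj_of_isGrothendieckAbelian (A := ModuleCat.{u} A) K'
  haveI : J.IsKInjective := hJ
  haveI := hs
  let eK : DerivedCategory.Q.obj J ≅ K :=
    (asIso (DerivedCategory.Q.map s)).symm ≪≫ DerivedCategory.Q.objObjPreimageIso K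
  obtain ⟨Φ⟩ := nonempty_equiv_homology (I := I) (i := i) eK
  haveI := isIso_unit_of_kInj (enoughKInj_of_isGrothendieckAbelian (A := ModuleCat.{u} A)) (DRing.gammaIKh I) J hJ
  let unit := asIso (((DRing.gammaIKh I).totalRightDerivedUnit DerivedCategory.Qh
    (HomotopyCategory.quasiIso (ModuleCat.{u} A) (ComplexShape.up ℤ))).app
      ((HomotopyCategory.quotient (ModuleCat.{u} A) (ComplexShape.up ℤ)).obj J))
  let ε : DerivedCategory.Q.obj (GC I J) ≅ (DRing.RgammaI I).obj K :=
    ((DerivedCategory.quotientCompQhIso (ModuleCat.{u} A)).app (GC I J)).symm ≪≫ unit ≪≫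
      (DRing.RgammaI I).mapIso ((DerivedCategory.quotientCompQhIso (ModuleCat.{u} A)).app J ≪≫ eK)
  exact ⟨Φ ≪≫ₗ ((DerivedCategory.homologyFunctorFactors (ModuleCat.{u} A) i).symm.app (GC I J) ≪≫
    (DerivedCategory.homologyFunctor (ModuleCat.{u} A) i).mapIso ε).toLinearEquiv⟩

end Groth.Agent.DualLib.GammaHDI
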