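import Groth.Agent.DualLib.DualSystem
import Groth.Prelude.Def_DualLC

/-! Local cohomology of a normalized dualizing complex. -/

set_option autoImplicit false
set_option backward.isDefEq.respectTransparency false
set_option backward.defeqAttrib.useBackward true
set_option linter.style.haveILetI false

universe u

open CategoryTheory CategoryTheory.Limits Opposite

attribute [local instance] HasDerivedCategory.standard

namespace Groth.Agent.DualLib

variable {A : Type u} [CommRing A] [IsLocalRing A] [IsNoetherianRing A] {ω : Dual.D A}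
  (hω : Dual.IsDualizing A ω) (hn : Dual.IsNormalized A ω)

omit [IsLocalRing A] [IsNoetherianRing A] in
lemma exists_rep_HDI (I : Ideal A) (K : Dual.D A) (i : ℤ) (x : Dual2.HDI A I K i) :
    ∃ n z, (colimit.ι ((localCohomology.ringModIdeals (localCohomology.idealPowersDiagram I) ⋙
      DerivedCategory.singleFunctor (ModuleCat.{u} A) 0).op ⋙ (linearYoneda A (Dual.D A)).obj (K⟦i⟧)) n).hom z = x := by
  haveI := preservesSmallestFilteredColimits_of_preservesFilteredColimits.{u + 1, u + 1} (forget AddCommGrpCat.{u + 1})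
  haveI : PreservesColimitsOfShape ℕᵒᵖᵒᵖ (forget₂ (ModuleCat.{u + 1} A) AddCommGrpCat.{u + 1}) := inferInstance
  haveI : PreservesColimitsOfShape ℕᵒᵖᵒᵖ (forget AddCommGrpCat.{u + 1}) :=
    PreservesFilteredColimitsOfSize.preserves_filtered_colimits _
  haveI : PreservesColimitsOfShape ℕᵒᵖᵒᵖ (forget (ModuleCat.{u + 1} A)) :=
    comp_preservesColimitsOfShape (forget₂ (ModuleCat.{u + 1} A) AddCommGrpCat.{u + 1}) (forget AddCommGrpCat.{u + 1})
  exact Limits.Concrete.colimit_exists_rep _ x

include hn in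
lemma subsingleton_HDI_of_ne (i : ℤ) (hi : i ≠ 0) :
    Subsingleton (Dual2.HDI A (IsLocalRing.maximalIdeal A) ω i) := by
  refine subsingleton_of_forall_eq 0 fun x => ?_
  obtain ⟨n, z, rfl⟩ := exists_rep_HDI _ _ _ x
  haveI : Subsingleton (E ω (N A n.unop.unop) i) := subsingleton_of_ne hn _
    (support_subset_of_isFiniteLength (isFiniteLength_N _)) i hi
  rw [show z = 0 from Subsingleton.elim (α := E ω (N A n.unop.unop) i) z 0, map_zero]

include hω hn in
theorem nonempty_HDI_zero {E₀ : Type u} [AddCommGroup E₀] [Module A E₀]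
    {f₀ : IsLocalRing.ResidueField A →ₗ[A] E₀} (hf : InjHull.IsInjectiveHull f₀) :
    Nonempty (Dual2.HDI A (IsLocalRing.maximalIdeal A) ω 0 ≃ₗ[A] E₀) := by
  obtain ⟨ρ, hρ, hρr, hρc⟩ := exists_dualSystem hω hn hf
  let G := (localCohomology.ringModIdeals (localCohomology.idealPowersDiagram (IsLocalRing.maximalIdeal A)) ⋙
      DerivedCategory.singleFunctor (ModuleCat.{u} A) 0).op ⋙ (linearYoneda A (Dual.D A)).obj (ω⟦(0 : ℤ)⟧)
  let c : Cocone G :=
    { pt := ModuleCat.of A (ULift.{u + 1} E₀)
      ι :=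
        { app := fun n => ModuleCat.ofHom (ULift.moduleEquiv.symm.toLinearMap ∘ₗ ρ n.unop.unop)
          naturality := fun n k φ => by
            apply ModuleCat.hom_ext
            refine LinearMap.ext fun z => congrArg ULift.up ?_
            have h : n.unop.unop ≤ k.unop.unop := φ.unop.unop.le
            exact LinearMap.congr_fun (hρc h) z } }
  let Φ : Dual2.HDI A (IsLocalRing.maximalIdeal A) ω 0 →ₗ[A] E₀ := ULift.moduleEquiv.toLinearMap ∘ₗ (colimit.desc G c).hom
  have hΦ : ∀ (n) (z : G.obj n), Φ ((colimit.ι G n).hom z) = ρ n.unop.unop z := fun n z => by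
    show ULift.down ((colimit.ι G n ≫ colimit.desc G c).hom z) = _
    rw [colimit.ι_desc]
    rfl
  refine ⟨LinearEquiv.ofBijective Φ ⟨(injective_iff_map_eq_zero _).2 fun x hx => ?_, fun e => ?_⟩⟩
  · obtain ⟨n, z, rfl⟩ := exists_rep_HDI _ _ _ x
    have h0 : ρ n.unop.unop z = 0 := (hΦ n z).symm.trans hx
    rw [show z = 0 from hρ _ (h0.trans (map_zero _).symm), map_zero]
  · obtain ⟨n, hn'⟩ := (Matlis6.of_isInjectiveHull_residueField hf).isPowerTorsion e
    have he : e ∈ killed A E₀ n := hn'
    rw [← hρr n] at he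
    obtain ⟨z, rfl⟩ := he
    exact ⟨_, hΦ (op (op n)) z⟩

end Groth.Agent.DualLib
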