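import Groth.Agent.DualLib.CxDualityMain
import Groth.Agent.DualLib.LocCohOmega

/-! Local duality for complexes, phrased with `Dual2.HDI`. -/

set_option autoImplicit false
set_option backward.isDefEq.respectTransparency false
set_option backward.defeqAttrib.useBackward true
set_option linter.style.haveILetI false

universe u

open CategoryTheory CategoryTheory.Limits Opposite

attribute [local instance] HasDerivedCategory.standard

namespace Groth.Agent.DualLib.CxDuality

variable {A : Type u} [CommRing A] [IsLocalRing A] [IsNoetherianRing A] {ω : Dual.D A}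
  (hω : Dual.IsDualizing A ω) (hn : Dual.IsNormalized A ω)
  {E₀ : Type u} [AddCommGroup E₀] [Module A E₀]
  {f₀ : IsLocalRing.ResidueField A →ₗ[A] E₀} (hf₀ : InjHull.IsInjectiveHull f₀)
include hω hn hf₀

/-- **Local duality**: `H^i_m(K) = Hom(Hom(K, ω⟦-i⟧), E)`. -/
theorem nonempty_HDI_equiv (K : Dual.D A) (hK : ∀ q, Module.Finite A (Dual.HD A K q)) (i : ℤ) :
    Nonempty (Dual2.HDI A (IsLocalRing.maximalIdeal A) K i ≃ₗ[A] ((K ⟶ ω⟦(-i)⟧) →ₗ[A] E₀)) := by
  obtain ⟨ρ₀, h1, h2, h3⟩ := exists_dualSystem hω hn hf₀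
  let ρ : DualSystem ω E₀ := ⟨ρ₀, h1, h2, h3⟩
  obtain ⟨hI, hS⟩ := stat ρ hω hn hf₀ K hK i
  have h : -i + i = 0 := by omega
  let G := (localCohomology.ringModIdeals (localCohomology.idealPowersDiagram (IsLocalRing.maximalIdeal A)) ⋙
      DerivedCategory.singleFunctor (ModuleCat.{u} A) 0).op ⋙ (linearYoneda A (Dual.D A)).obj (K⟦i⟧)
  let c : Cocone G :=
    { pt := ModuleCat.of A ((K ⟶ ω⟦(-i)⟧) →ₗ[A] E₀)
      ι :=
        { app := fun n => ModuleCat.ofHom
            { toFun := fun x => prL ρ h (n := n.unop.unop) x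
              map_add' := fun x y => LinearMap.ext fun φ => pr_add_left ρ h x y φ
              map_smul' := fun a x => LinearMap.ext fun φ =>
                (congrArg (ρ.toFun n.unop.unop) (ShiftedHom.smul_comp a x φ h)).trans (map_smul _ _ _) }
          naturality := fun n k φ => by
            apply ModuleCat.hom_ext
            refine LinearMap.ext fun x => LinearMap.ext fun ψ => ?_
            exact pr_qm ρ h (show n.unop.unop ≤ k.unop.unop from φ.unop.unop.le) x ψ } }
  let Φ : Dual2.HDI A (IsLocalRing.maximalIdeal A) K i →ₗ[A] ((K ⟶ ω⟦(-i)⟧) →ₗ[A] E₀) := (colimit.desc G c).hom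
  have hΦ : ∀ (n) (x : G.obj n) (φ : K ⟶ ω⟦(-i)⟧), Φ ((colimit.ι G n).hom x) φ = pr ρ h (n := n.unop.unop) x φ := by
    intro n x φ
    show ((colimit.ι G n ≫ colimit.desc G c).hom x) φ = _
    rw [colimit.ι_desc]
    rfl
  refine ⟨LinearEquiv.ofBijective Φ ⟨(injective_iff_map_eq_zero _).2 fun z hz => ?_, fun t => ?_⟩⟩
  · obtain ⟨n, x, rfl⟩ := exists_rep_HDI _ _ _ z
    obtain ⟨k, hk, hk0⟩ := hI n.unop.unop x fun j h' φ => by
      obtain rfl : j = -i := by omega
      rw [← hΦ, hz]; rfl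
    let g : n ⟶ op (op k) := (homOfLE hk).op.op
    have hw : (G.map g).hom x = 0 := hk0
    have e : (colimit.ι G n).hom x = (colimit.ι G (op (op k))).hom ((G.map g).hom x) := by
      rw [← colimit.w G g]; rfl
    exact e.trans (by rw [hw, map_zero])
  · obtain ⟨n, x, hx⟩ := hS (-i) h t
    exact ⟨(colimit.ι G (op (op n))).hom x, LinearMap.ext fun φ => (hΦ (op (op n)) x φ).trans (hx φ)⟩

omit hn hf₀ in
/-- `Hom(K, ω⟦i⟧)` is finite. -/
theorem finite_hom (K : Dual.D A) (hK : ∀ q, Module.Finite A (Dual.HD A K q)) (i : ℤ) :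
    Module.Finite A (K ⟶ ω⟦i⟧) := by
  obtain ⟨a, b, hab⟩ := exists_injAmplitude hω
  exact finite_hom_of_injAmp hab hω.finite_cohomology K hK i

end Groth.Agent.DualLib.CxDuality
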