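import Groth.Agent.DualLib.Local
import Groth.Agent.CAlgH3.Depth
import Groth.Agent.EGA41Lib.SemiLocalSop

/-! Depth and non-vanishing of `Hom_{D(A)}(M, ω⟦i⟧)`. -/

set_option autoImplicit false
set_option backward.isDefEq.respectTransparency false
set_option backward.defeqAttrib.useBackward true
set_option linter.style.haveILetI false

universe u

open CategoryTheory CategoryTheory.Limits CategoryTheory.Pretriangulated
open scoped Pointwise

attribute [local instance] HasDerivedCategory.standard

namespace Groth.Agent.DualLib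

variable {A : Type u} [CommRing A] [IsLocalRing A] [IsNoetherianRing A]

omit [IsLocalRing A] [IsNoetherianRing A] in
lemma supportDim_le_of_coheight {M : Type*} [AddCommGroup M] [Module A M] (n : ℕ)
    (h : ∀ q ∈ Module.support A M, Order.coheight q ≤ n) : Module.supportDim A M ≤ (n : WithBot ℕ∞) := by
  refine iSup_le fun s => ?_
  have h1 : (s.length : ℕ∞) ≤ Order.coheight s.head.1 := by
    have := Order.length_le_coheight (x := s.head.1) (p := s.map (fun q => q.1) (fun _ _ hh => hh)) (by simp)
    simpa using this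
  exact_mod_cast h1.trans (h _ s.head.2)

omit [IsLocalRing A] [IsNoetherianRing A] in
lemma coheight_le_of_supportDim_le {M : Type u} [AddCommGroup M] [Module A M] {n : ℕ}
    (h : Module.supportDim A M ≤ (n : WithBot ℕ∞)) {p : PrimeSpectrum A} (hp : p ∈ Module.support A M) :
    Order.coheight p ≤ n :=
  WithBot.coe_le_coe.1 ((coheight_le_supportDim hp).trans h)

lemma exists_supportDim_eq {M : Type u} [AddCommGroup M] [Module A M] [Module.Finite A M] [Nontrivial M] :
    ∃ d : ℕ, Module.supportDim A M = d := by
  have h0 := Module.supportDim_ne_bot_of_nontrivial (R := A) (M := M)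
  have h1 := (Module.supportDim_le_ringKrullDim A M).trans_lt (ringKrullDim_lt_top (R := A))
  generalize hx : Module.supportDim A M = x at h0 h1
  induction x using WithBot.recBotCoe with
  | bot => exact absurd rfl h0
  | coe x =>
    induction x using ENat.recTopCoe with
    | top => exact absurd h1 (lt_irrefl _)
    | coe n => exact ⟨n, rfl⟩

omit [IsLocalRing A] in
lemma exists_coheight_eq [IsLocalRing A] (p : PrimeSpectrum A) : ∃ e : ℕ, Order.coheight p = e := by
  have h : (Order.coheight p : WithBot ℕ∞) < ⊤ := Order.coheight_le_krullDim p |>.trans_lt (ringKrullDim_lt_top (R := A))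
  exact ⟨_, (ENat.coe_toNat (fun hh => by rw [hh] at h; exact lt_irrefl _ h)).symm⟩

lemma support_subset_of_isFiniteLength {M : Type u} [AddCommGroup M] [Module A M] [Module.Finite A M]
    (h : IsFiniteLength A M) : Module.support A M ⊆ {IsLocalRing.closedPoint A} := fun p hp => by
  have hp0 := coheight_le_of_supportDim_le (n := 0) (by exact_mod_cast (EGA41Lib.isFiniteLength_iff_supportDim_le_zero M).1 h) hp
  by_contra hne
  have hlt : p < IsLocalRing.closedPoint A := lt_of_le_of_ne (IsLocalRing.le_maximalIdeal p.2.ne_top) hne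
  have := (Order.coheight_add_one_le hlt).trans hp0
  simp at this

variable {ω : Dual.D A} (hω : Dual.IsDualizing A ω) (hn : Dual.IsNormalized A ω)
include hω hn

/-- `Hom(M, ω) ≠ 0` if the maximal ideal is associated to `M`. -/
theorem nontrivial_of_mem_associatedPrimes {M : Type u} [AddCommGroup M] [Module A M] [Module.Finite A M]
    (h : IsLocalRing.maximalIdeal A ∈ associatedPrimes A M) : Nontrivial (E ω M 0) := by
  haveI := (IsLocalRing.maximalIdeal.isMaximal A).isPrime
  obtain ⟨f, hf⟩ := ((isAssociatedPrime_iff_exists_injective_linearMap _ M).1 h).2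
  haveI : Nontrivial (E ω (A ⧸ IsLocalRing.maximalIdeal A) 0) := nontrivial_residue hω hn
  have hs := surjective_emap (W := ω) hf (LinearMap.range f).mkQ_surjective (LinearMap.exact_map_mkQ_range f) 0
    (subsingleton_of_pos hω hn _ _ (by omega))
  exact Function.Surjective.nontrivial hs

theorem nontrivial_of_isFiniteLength (M : Type u) [AddCommGroup M] [Module A M] [Module.Finite A M] [Nontrivial M]
    (h : IsFiniteLength A M) : Nontrivial (E ω M 0) := by
  refine nontrivial_of_mem_associatedPrimes hω hn ?_
  obtain ⟨p, hp⟩ := associatedPrimes.nonempty A M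
  haveI : p.IsPrime := IsAssociatedPrime.isPrime hp
  have hs : (⟨p, this⟩ : PrimeSpectrum A) ∈ Module.support A M := by
    obtain ⟨f, hf⟩ := ((isAssociatedPrime_iff_exists_injective_linearMap p M).1 hp).2
    refine Module.support_subset_of_injective f hf ?_
    rw [Module.support_eq_zeroLocus, Ideal.annihilator_quotient]
    exact le_refl p
  have := support_subset_of_isFiniteLength h hs
  rw [Set.mem_singleton_iff] at this
  have e : p = IsLocalRing.maximalIdeal A := congrArg PrimeSpectrum.asIdeal this
  exact e ▸ hp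

/-- Depth is the degree of the first non-vanishing `Hom(M, ω⟦-i⟧)`. -/
theorem depth_spec : ∀ (n : ℕ) (M : Type u) [AddCommGroup M] [Module A M] [Module.Finite A M] [Nontrivial M],
    LocCoh.depth A M = n →
      (∀ i : ℤ, -(n : ℤ) < i → Subsingleton (E ω M i)) ∧ Nontrivial (E ω M (-(n : ℤ))) := by
  intro n
  induction n with
  | zero =>
    intro M _ _ _ _ hM
    refine ⟨fun i hi => subsingleton_of_pos hω hn M i (by simpa using hi), ?_⟩
    simpa using nontrivial_of_mem_associatedPrimes hω hn (CAlgH3.depth_eq_zero_iff.1 (by simpa using hM))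
  | succ n ih =>
    intro M _ _ _ _ hM
    obtain ⟨x, hxm, hreg⟩ := CAlgH3.exists_regular_of_one_le_depth (M := M) (by rw [hM]; simp)
    have hd : LocCoh.depth A (QuotSMulTop x M) = n := by
      have := CAlgH3.depth_quotSMulTop_add_one (M := M) hxm hreg
      rw [hM, Nat.cast_add, Nat.cast_one] at this
      exact WithTop.add_right_cancel ENat.one_ne_top this
    haveI : Nontrivial (QuotSMulTop x M) := by
      by_contra hc
      rw [not_nontrivial_iff_subsingleton] at hc
      rw [CAlgH3.depth_eq_top_of_subsingleton] at hd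
      exact ENat.top_ne_coe n hd
    obtain ⟨h1, h2⟩ := ih (QuotSMulTop x M) hd
    let f : M →ₗ[A] M := x • LinearMap.id
    have hex : Function.Exact f (Submodule.mkQ (x • (⊤ : Submodule A M))) := by
      intro m
      rw [Submodule.mkQ_apply, Submodule.Quotient.mk_eq_zero, Submodule.mem_smul_pointwise_iff_exists]
      exact ⟨fun ⟨y, _, hy⟩ => ⟨y, hy⟩, fun ⟨y, hy⟩ => ⟨y, trivial, hy⟩⟩
    have hinj : Function.Injective f := fun a b h => hreg h
    have hvan : ∀ i : ℤ, -((n + 1 : ℕ) : ℤ) < i → Subsingleton (E ω M i) := by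
      intro i hi
      haveI := finite hω M i
      haveI := h1 (i + 1) (by push_cast at hi; omega)
      obtain ⟨d, hd', -⟩ := exists_delta (W := ω) hinj (Submodule.mkQ_surjective _) hex i (i + 1) rfl
      refine Submodule.subsingleton_iff A |>.1 (subsingleton_of_bot_eq_top ?_)
      refine (Submodule.eq_bot_of_le_smul_of_le_jacobson_bot (IsLocalRing.maximalIdeal A) ⊤ Module.Finite.fg_top
        (fun φ _ => ?_) (IsLocalRing.maximalIdeal_le_jacobson _)).symm
      obtain ⟨ψ, hψ⟩ := (hd' φ).1 (Subsingleton.elim _ _)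
      rw [emap_smul_id] at hψ
      exact hψ ▸ Submodule.smul_mem_smul hxm trivial
    refine ⟨hvan, ?_⟩
    obtain ⟨d, -, hd'⟩ := exists_delta (W := ω) hinj (Submodule.mkQ_surjective _) hex (-((n + 1 : ℕ) : ℤ)) (-(n : ℤ))
      (by push_cast; omega)
    haveI := hvan (-(n : ℤ)) (by push_cast; omega)
    exact Function.Surjective.nontrivial (f := d) fun φ => (hd' φ).1 (Subsingleton.elim _ _)

/-- `Hom(M, ω⟦i⟧)_p = 0` for `p` minimal in the support of `M` and `i ≠ -dim A/p`. -/
theorem notMem_support_of_minimal {p : PrimeSpectrum A} {e : ℕ} (he : Order.coheight p = e) (M : Type u)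
    [AddCommGroup M] [Module A M] [Module.Finite A M] (hmin : ∀ q ∈ Module.support A M, q ≤ p → q = p)
    (i : ℤ) (hi : i ≠ -(e : ℤ)) : p ∉ Module.support A (E ω M i) := by
  rcases lt_or_gt_of_ne hi with hlt | hgt
  · refine devissage (Φ := fun N => p ∉ Module.support A (E ω N i)) {q | q ≤ p → q = p} ?_ ?_ ?_ ?_ M hmin
    · intro N _ _ _
      haveI := subsingleton_of_subsingleton ω i (M := N)
      rw [Module.notMem_support_iff']
      exact fun m => ⟨1, fun h => p.2.ne_top ((Ideal.eq_top_iff_one _).2 h), Subsingleton.elim _ _⟩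
    · intro q hq
      by_cases hqp : q ≤ p
      · obtain rfl := hq hqp
        haveI := subsingleton_of_lt hω hn (A ⧸ q.asIdeal) e (fun r hr => by
          refine le_trans (Order.coheight_anti ?_) he.le
          rw [Module.support_eq_zeroLocus, Ideal.annihilator_quotient] at hr
          exact hr) i hlt
        rw [Module.notMem_support_iff']
        exact fun m => ⟨1, fun h => q.2.ne_top ((Ideal.eq_top_iff_one _).2 h), Subsingleton.elim _ _⟩
      · exact notMem_support_of_kills (annihilator_le_annihilator ω i) (by rw [Ideal.annihilator_quotient]; exact hqp)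
    · intro N N' _ _ _ _ f h
      rwa [← (econgr ω f i).symm.support_eq]
    · intro N₁ N₂ N₃ _ _ _ _ _ _ _ _ _ f g hf hg hfg h₁ h₃
      exact notMem_support_of_exact (exact_emap hf hg hfg i) h₃ h₁
  · exact notMem_support_of_gt hω hn e p he M i (by omega)

lemma injective_smul_top_degree {p : PrimeSpectrum A} {e : ℕ} (he : Order.coheight p = e) {x : A} (hx : x ∉ p.asIdeal)
    (φ : E ω (A ⧸ p.asIdeal) (-(e : ℤ))) (hφ : x • φ = 0) : φ = 0 := by
  have hsub : Subsingleton (E ω (modQ p x) (-(e : ℤ))) := by
    rcases Nat.eq_zero_or_pos e with rfl | hpos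
    · haveI : Subsingleton (modQ p x) := by
        rw [← not_nontrivial_iff_subsingleton, ← Module.nonempty_support_iff (R := A)]
        rintro ⟨q, hq⟩
        have := (Order.coheight_add_one_le (support_modQ_gt hx hq)).trans he.le
        simp at this
      exact subsingleton_of_subsingleton ω _
    · refine subsingleton_of_lt hω hn (modQ p x) (e - 1) (fun q hq => ?_) _ (by omega)
      have h := (Order.coheight_add_one_le (support_modQ_gt hx hq)).trans he.le
      obtain ⟨k, rfl⟩ : ∃ k, e = k + 1 := ⟨e - 1, by omega⟩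
      rw [Nat.cast_add, Nat.cast_one] at h
      exact (ENat.add_le_add_iff_right ENat.one_ne_top).1 h
  have hj : Subsingleton (E ω (modQ p x) (-(e : ℤ))) := hsub
  obtain ⟨ψ, hψ⟩ := (exact_emap (W := ω) (injective_smul hx) (Submodule.mkQ_surjective _)
    (LinearMap.exact_map_mkQ_range _) (-(e : ℤ)) φ).1 (by rw [emap_smul_id, hφ])
  rw [← hψ, Subsingleton.elim ψ 0, map_zero]

lemma mem_support_top_of_base {r : PrimeSpectrum A} {e : ℕ} (he : Order.coheight r = e)
    (base : r ∈ Module.support A (E ω (A ⧸ r.asIdeal) (-(e : ℤ)))) (M : Type u) [AddCommGroup M] [Module A M]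
    [Module.Finite A M] (hmin : ∀ q ∈ Module.support A M, q ≤ r → q = r) (hr : r ∈ Module.support A M) :
    r ∈ Module.support A (E ω M (-(e : ℤ))) := by
  revert hmin hr
  refine devissage (Φ := fun N [AddCommGroup N] [Module A N] => (∀ q ∈ Module.support A N, q ≤ r → q = r) →
    r ∈ Module.support A N → r ∈ Module.support A (E ω N (-(e : ℤ)))) Set.univ ?_ ?_ ?_ ?_ M (Set.subset_univ _)
  · intro N _ _ h _ hc
    obtain ⟨m, hm⟩ := Module.mem_support_iff'.1 hc
    exact absurd (Subsingleton.elim _ _) (hm 1 fun h => r.2.ne_top ((Ideal.eq_top_iff_one _).2 h))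
  · intro q _ hq hc
    have hsq : Module.support A (A ⧸ q.asIdeal) = PrimeSpectrum.zeroLocus (q.asIdeal : Set A) := by
      rw [Module.support_eq_zeroLocus, Ideal.annihilator_quotient]
    rw [hsq] at hc
    obtain rfl := hq q (by rw [hsq]; exact le_refl q.asIdeal) hc
    exact base
  · intro N N' _ _ _ _ f h hmin hc
    rw [← (econgr ω f _).symm.support_eq]
    rw [← f.support_eq] at hmin hc
    exact h hmin hc
  · intro N₁ N₂ N₃ _ _ _ _ _ _ _ _ _ f g hf hg hfg h₁ h₃ hmin hc
    have hu := Module.support_of_exact hfg hf hg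
    have m₁ : ∀ q ∈ Module.support A N₁, q ≤ r → q = r := fun q hq => hmin q (hu ▸ Or.inl hq)
    have m₃ : ∀ q ∈ Module.support A N₃, q ≤ r → q = r := fun q hq => hmin q (hu ▸ Or.inr hq)
    rw [hu] at hc
    by_contra hE
    rcases hc with hc | hc
    · obtain ⟨d, hd, -⟩ := exists_delta (W := ω) hf hg hfg (-(e : ℤ)) (-(e : ℤ) + 1) rfl
      exact notMem_support_of_exact hd hE (notMem_support_of_minimal hω hn he N₃ m₃ _ (by omega)) (h₁ m₁ hc)
    · obtain ⟨d, -, hd⟩ := exists_delta (W := ω) hf hg hfg (-(e : ℤ) - 1) (-(e : ℤ)) (by omega)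
      exact notMem_support_of_exact hd (notMem_support_of_minimal hω hn he N₁ m₁ _ (by omega)) hE (h₃ m₃ hc)

theorem mem_support_quotient : ∀ (e : ℕ) (p : PrimeSpectrum A), Order.coheight p = e →
    p ∈ Module.support A (E ω (A ⧸ p.asIdeal) (-(e : ℤ))) := by
  intro e
  induction e with
  | zero =>
    intro p hp
    have hpm : p = IsLocalRing.closedPoint A := by
      by_contra hne
      have hlt : p < IsLocalRing.closedPoint A := lt_of_le_of_ne (IsLocalRing.le_maximalIdeal p.2.ne_top) hne
      have := (Order.coheight_add_one_le hlt).trans hp.le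
      simp at this
    subst hpm
    haveI := finite hω (A ⧸ (IsLocalRing.closedPoint A).asIdeal) (-((0 : ℕ) : ℤ))
    by_contra hc
    have := (subsingleton_iff_notMem (A := A)).2 hc
    rw [Nat.cast_zero, neg_zero] at this
    exact not_nontrivial_iff_subsingleton.2 this (nontrivial_residue hω hn)
  | succ e ih =>
    intro p hp
    obtain ⟨r, hpr, hr⟩ := exists_gt_coheight hp
    obtain ⟨x, hxr, hxp⟩ := SetLike.exists_of_lt ((PrimeSpectrum.asIdeal_lt_asIdeal p r).2 hpr)
    have hrN : r ∈ Module.support A (modQ p x) := by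
      rw [Module.mem_support_iff_of_finite]
      intro a ha
      have h1 : a • Submodule.Quotient.mk (Ideal.Quotient.mk p.asIdeal 1) = (0 : modQ p x) :=
        Module.mem_annihilator.1 ha _
      rw [← Submodule.Quotient.mk_smul, Submodule.Quotient.mk_eq_zero] at h1
      obtain ⟨y, hy⟩ := h1
      obtain ⟨y, rfl⟩ := Ideal.Quotient.mk_surjective y
      change Ideal.Quotient.mk p.asIdeal (x * y) = Ideal.Quotient.mk p.asIdeal (a * 1) at hy
      rw [mul_one, eq_comm, Ideal.Quotient.eq] at hy
      have := r.asIdeal.add_mem (hpr.le hy) (r.asIdeal.mul_mem_right y hxr)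
      rwa [sub_add_cancel] at this
    have hmin : ∀ q ∈ Module.support A (modQ p x), q ≤ r → q = r := fun q hq hqr => by
      by_contra hne
      have h := Order.coheight_add_one_le (lt_of_le_of_ne hqr hne)
      have h2 := (Order.coheight_add_one_le (support_modQ_gt hxp hq)).trans hp.le
      rw [hr] at h
      have h3 : ((e : ℕ∞) + 1 + 1) ≤ ((e + 1 : ℕ) : ℕ∞) := (add_le_add h le_rfl).trans h2
      norm_cast at h3
      omega
    have hrE := mem_support_top_of_base hω hn hr (ih r hr) (modQ p x) hmin hrN
    have h0 : r ∉ Module.support A (E ω (A ⧸ p.asIdeal) (-(e : ℤ))) :=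
      notMem_support_step hω (injective_smul hxp) hxr _
        (notMem_support_of_gt hω hn e r hr (modQ p x) _ (by omega))
    obtain ⟨d, -, hd⟩ := exists_delta (W := ω) (injective_smul hxp) (Submodule.mkQ_surjective _)
      (LinearMap.exact_map_mkQ_range _) (-((e + 1 : ℕ) : ℤ)) (-(e : ℤ)) (by push_cast; omega)
    have h1 : r ∈ Module.support A (E ω (A ⧸ p.asIdeal) (-((e + 1 : ℕ) : ℤ))) := by
      by_contra hc
      exact notMem_support_of_exact hd hc h0 hrE
    obtain ⟨m, hm⟩ := Module.mem_support_iff'.1 h1
    refine Module.mem_support_iff'.2 ⟨m, fun s hs hsm => ?_⟩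
    have := injective_smul_top_degree hω hn hp hs m hsm
    exact hm 1 (fun h => r.2.ne_top ((Ideal.eq_top_iff_one _).2 h)) (by rw [this, smul_zero])

/-- `Hom(M, ω⟦-dim A/p⟧)_p ≠ 0` for `p` minimal in the support of `M`. -/
theorem mem_support_of_minimal {p : PrimeSpectrum A} {e : ℕ} (he : Order.coheight p = e) (M : Type u)
    [AddCommGroup M] [Module A M] [Module.Finite A M] (hmin : ∀ q ∈ Module.support A M, q ≤ p → q = p)
    (hp : p ∈ Module.support A M) : p ∈ Module.support A (E ω M (-(e : ℤ))) :=
  mem_support_top_of_base hω hn he (mem_support_quotient hω hn e p he) M hmin hp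

/-- The dimension of the support of `Hom(M, ω⟦i⟧)`. -/
theorem supportDim_le (M : Type u) [AddCommGroup M] [Module A M] [Module.Finite A M] (i : ℤ) :
    Module.supportDim A (E ω M i) ≤ ((-i).toNat : WithBot ℕ∞) := by
  refine supportDim_le_of_coheight _ fun q hq => ?_
  obtain ⟨e, he⟩ := exists_coheight_eq q
  rw [he, Nat.cast_le]
  by_contra hlt
  exact notMem_support_of_gt hω hn e q he M i (by omega) hq

end Groth.Agent.DualLib
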