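import Groth.Agent.DualLib.Biduality
import Groth.Agent.DualLib.Depth

/-! The residue field is dual to itself: `RHom(k, ω)` is one-dimensional in a single degree. -/

set_option autoImplicit false
set_option backward.isDefEq.respectTransparency false
set_option backward.defeqAttrib.useBackward true
set_option linter.style.haveILetI false

universe u

open CategoryTheory CategoryTheory.Limits CategoryTheory.Pretriangulated

attribute [local instance] HasDerivedCategory.standard

namespace Groth.Agent.DualLib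

variable {A : Type u} [CommRing A] [IsNoetherianRing A] {W : Dual.D A}

/-- Cohomology killed by `y` in `n` degrees: `y ^ n` kills all maps. -/
lemma pow_smul_eq_zero (y : A) : ∀ (n : ℕ) (c : ℤ) (Y : Dual.D A), Y.IsGE (c + 1) → Y.IsLE (c + n) →
    (∀ j : ℤ, ∀ z : Dual.HD A Y j, y • z = 0) → ∀ (F : Dual.D A) (φ : F ⟶ Y), y ^ n • φ = 0 := by
  intro n
  induction n with
  | zero =>
    intro c Y hge hle _ F φ
    have h0 : IsZero Y := (ts A).isZero Y (c + (0 : ℕ)) (c + 1) (by omega)
    rw [h0.eq_of_tgt φ 0, smul_zero]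
  | succ n ih =>
    intro c Y hge hle hy F φ
    haveI : Y.IsLE (c + 1 + n) := by
      have : c + ((n + 1 : ℕ) : ℤ) = c + 1 + n := by push_cast; omega
      exact this ▸ hle
    let b : ℤ := c + 1 + n
    haveI : (((ts A).truncGE b).obj Y).IsGE b := inferInstance
    haveI : (((ts A).truncGE b).obj Y).IsLE b := inferInstance
    have hy' : y • 𝟙 (((ts A).truncGE b).obj Y) = 0 := by
      refine DCat.eq_zero_of_homology_map_eq_zero _ b ?_
      rw [DCat.DC.homologyFunctor_map_smul_id]
      refine ModuleCat.hom_ext (LinearMap.ext fun z => ?_)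
      obtain ⟨z, rfl⟩ := (hTruncGE Y b b le_rfl).surjective z
      show y • (hTruncGE Y b b le_rfl) z = 0
      rw [← map_smul, hy, map_zero]
    have h1 : (y • φ) ≫ ((ts A).truncGEπ b).app Y = 0 := by
      calc (y • φ) ≫ ((ts A).truncGEπ b).app Y = φ ≫ ((ts A).truncGEπ b).app Y ≫ (y • 𝟙 _) := by
            rw [Linear.smul_comp, Linear.comp_smul, Linear.comp_smul, Category.comp_id]
        _ = 0 := by rw [hy', comp_zero, comp_zero]
    obtain ⟨g, hg⟩ := Triangle.coyoneda_exact₂ _ ((ts A).triangleLTGE_distinguished b Y) (y • φ) h1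
    haveI : (((ts A).truncLT b).obj Y).IsLE (c + n) := (ts A).isLE_truncLT_obj _ _ _ (by omega)
    haveI : (((ts A).truncLT b).obj Y).IsGE (c + 1) := inferInstance
    have hy'' : ∀ j : ℤ, ∀ z : Dual.HD A (((ts A).truncLT b).obj Y) j, y • z = 0 := fun j z => by
      rcases lt_or_ge j b with hj | hj
      · refine (hTruncLT Y b j hj).injective ?_
        rw [map_smul, hy, map_zero]
      · haveI : (((ts A).truncLT b).obj Y).IsLE (b - 1) := (ts A).isLE_truncLT_obj _ _ _ (by omega)
        haveI := (DRingLib.isLE_iff_HD (((ts A).truncLT b).obj Y) (b - 1)).1 inferInstance j (by omega)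
        exact Subsingleton.elim _ _
    rw [pow_succ, mul_smul, hg, ← Linear.smul_comp, ih c _ inferInstance inferInstance hy'' F g, zero_comp]

/-- For a dualizing complex, every prime is in the support of some cohomology module. -/
lemma exists_mem_support {ω : Dual.D A} (hω : Dual.IsDualizing A ω) (q : PrimeSpectrum A) :
    ∃ i : ℤ, q ∈ Module.support A (E ω A i) := by
  by_contra! hc
  obtain ⟨a, b, hge, hle⟩ := exists_bound hω
  choose s hs using fun i : ℤ => show ∃ s ∉ q.asIdeal, ∀ z : Dual.HD A ω i, s • z = 0 by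
    haveI := finite hω A i
    have := hc i
    rw [Module.mem_support_iff_of_finite, SetLike.not_le_iff_exists] at this
    obtain ⟨s, hs, hsq⟩ := this
    refine ⟨s, hsq, fun z => ?_⟩
    obtain ⟨w, rfl⟩ := (eSelf ω i).surjective z
    rw [← map_smul, Module.mem_annihilator.1 hs w, map_zero]
  let y := ∏ i ∈ Finset.Icc a b, s i
  have hy : ∀ j : ℤ, ∀ z : Dual.HD A ω j, y • z = 0 := fun j z => by
    by_cases hj : j ∈ Finset.Icc a b
    · obtain ⟨t, ht⟩ : s j ∣ y := Finset.dvd_prod_of_mem s hj
      rw [ht, mul_comm, mul_smul, (hs j).2, smul_zero]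
    · haveI : Subsingleton (Dual.HD A ω j) := by
        rw [Finset.mem_Icc, not_and_or, not_le, not_le] at hj
        rcases hj with h | h
        · exact (DRingLib.isGE_iff_HD ω a).1 hge j h
        · exact (DRingLib.isLE_iff_HD ω b).1 hle j h
      exact Subsingleton.elim _ _
  haveI : ω.IsLE (a - 1 + ((b - a + 1).toNat : ℤ)) := (ts A).isLE_of_le ω b _ (by omega)
  haveI : ω.IsGE (a - 1 + 1) := (ts A).isGE_of_ge ω _ a (by omega)
  have h0 := pow_smul_eq_zero y (b - a + 1).toNat (a - 1) ω inferInstance inferInstance hy ω (𝟙 ω)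
  have h1 : y ^ (b - a + 1).toNat = 0 := hω.toEnd_bijective.injective (h0.trans (zero_smul A (𝟙 ω)).symm)
  have h2 : y ∈ q.asIdeal := q.2.mem_of_pow_mem _ (h1 ▸ q.asIdeal.zero_mem)
  obtain ⟨i, -, hi⟩ := (q.2.prod_mem_iff).1 h2
  exact (hs i).1 hi

variable {m : Ideal A} [hm : m.IsMaximal]

/-- The point of a maximal ideal. -/
abbrev mPoint (m : Ideal A) [hm : m.IsMaximal] : PrimeSpectrum A := ⟨m, hm.isPrime⟩

omit [IsNoetherianRing A] in
lemma support_subset_of_kills {H : Type u} [AddCommGroup H] [Module A H] (h : m ≤ Module.annihilator A H) :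
    Module.support A H ⊆ {mPoint m} := fun _ hp =>
  PrimeSpectrum.ext (hm.eq_of_le (PrimeSpectrum.isPrime _).ne_top
    (h.trans (Module.annihilator_le_of_mem_support hp))).symm

/-- A vanishing degree for `A/m` is one for all modules supported at `m`. -/
lemma subsingleton_of_residue (i : ℤ) (h : Subsingleton (E W (A ⧸ m) i)) (M : Type u)
    [AddCommGroup M] [Module A M] [Module.Finite A M] (hM : Module.support A M ⊆ {mPoint m}) :
    Subsingleton (E W M i) :=
  devissage (Φ := fun N => Subsingleton (E W N i)) {mPoint m}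
    (fun N _ _ _ => subsingleton_of_subsingleton W i) (fun p hp => by obtain rfl := hp; exact h)
    (fun N N' _ _ _ _ e h => haveI := h; (econgr W e i).injective.subsingleton)
    (fun N₁ N₂ N₃ _ _ _ _ _ _ _ _ _ f g hf hg hfg h₁ h₃ => subsingleton_mid hf hg hfg i h₁ h₃) M hM

omit [IsNoetherianRing A] in
/-- A nonzero module killed by `m` contains `A/m`. -/
lemma exists_residue_injective {H : Type u} [AddCommGroup H] [Module A H] [Nontrivial H]
    (h : m ≤ Module.annihilator A H) : ∃ f : (A ⧸ m) →ₗ[A] H, Function.Injective f := by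
  obtain ⟨x, hx⟩ := exists_ne (0 : H)
  refine ⟨Submodule.liftQ _ (LinearMap.toSpanSingleton A H x) (fun a ha => Module.mem_annihilator.1 (h ha) x), ?_⟩
  rw [← LinearMap.ker_eq_bot, Submodule.ker_liftQ, eq_bot_iff]
  rintro _ ⟨a, ha, rfl⟩
  rw [Submodule.mem_bot, Submodule.mkQ_apply, Submodule.Quotient.mk_eq_zero]
  by_contra hna
  obtain ⟨b, c, hc, hbc⟩ := hm.exists_inv hna
  apply hx
  have ha' : a • x = 0 := ha
  have := congrArg (· • x) hbc
  simp only [add_smul, mul_smul, ha', smul_zero, zero_add, one_smul] at this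
  rw [← this, Module.mem_annihilator.1 (h hc) x]

variable {ω : Dual.D A} (hω : Dual.IsDualizing A ω)
include hω

variable (m) in
lemma exists_nontrivial_residue : ∃ i : ℤ, Nontrivial (E ω (A ⧸ m) i) := by
  by_contra! hc
  haveI := wellFoundedGT_primeSpectrum (A := A)
  have H : ∀ p : PrimeSpectrum A, ∀ i : ℤ, mPoint m ∉ Module.support A (E ω (A ⧸ p.asIdeal) i) := by
    intro p
    induction p using WellFoundedGT.induction with
    | ind p ih =>
      intro i
      by_cases hp : p.asIdeal = m
      · haveI : Subsingleton (E ω (A ⧸ m) i) := hc i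
        rw [show p = mPoint m from PrimeSpectrum.ext hp, Module.notMem_support_iff']
        exact fun z => ⟨1, fun h => hm.ne_top ((Ideal.eq_top_iff_one _).2 h), Subsingleton.elim _ _⟩
      by_cases hle : p.asIdeal ≤ m
      · obtain ⟨x, hxm, hx⟩ := SetLike.exists_of_lt (lt_of_le_of_ne hle hp)
        refine notMem_support_step hω (injective_smul hx) (q := mPoint m) hxm i ?_
        exact devissage (Φ := fun N => ∀ i : ℤ, mPoint m ∉ Module.support A (E ω N i)) (Set.Ioi p)
          (fun N _ _ _ i => by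
            haveI := subsingleton_of_subsingleton ω i (M := N)
            rw [Module.notMem_support_iff']
            exact fun z => ⟨1, fun h => hm.ne_top ((Ideal.eq_top_iff_one _).2 h), Subsingleton.elim _ _⟩)
          (fun q hq => ih q hq) (fun N N' _ _ _ _ e h i => by rw [← (econgr ω e i).symm.support_eq]; exact h i)
          (fun N₁ N₂ N₃ _ _ _ _ _ _ _ _ _ f g hf hg hfg h₁ h₃ i =>
            notMem_support_of_exact (exact_emap hf hg hfg i) (h₃ i) (h₁ i))
          (modQ p x) (fun q hq => support_modQ_gt hx hq) (i + 1)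
      · exact notMem_support_of_kills (annihilator_le_annihilator ω i) (by rw [Ideal.annihilator_quotient]; exact hle)
  obtain ⟨i, hi⟩ := exists_mem_support hω (mPoint m)
  exact devissage (Φ := fun N => mPoint m ∉ Module.support A (E ω N i)) Set.univ
    (fun N _ _ _ => by
      haveI := subsingleton_of_subsingleton ω i (M := N)
      rw [Module.notMem_support_iff']
      exact fun z => ⟨1, fun h => hm.ne_top ((Ideal.eq_top_iff_one _).2 h), Subsingleton.elim _ _⟩)
    (fun q _ => H q i) (fun N N' _ _ _ _ e h => by rw [← (econgr ω e i).symm.support_eq]; exact h)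
    (fun N₁ N₂ N₃ _ _ _ _ _ _ _ _ _ f g hf hg hfg h₁ h₃ =>
      notMem_support_of_exact (exact_emap hf hg hfg i) h₃ h₁) A (Set.subset_univ _) hi

variable (m) in
/-- `RHom(A/m, ω)` is `A/m` in a single degree. -/
theorem exists_degree_maximal : ∃ n : ℤ, (∀ i : ℤ, i ≠ n → Subsingleton (E ω (A ⧸ m) i)) ∧
    Nonempty (E ω (A ⧸ m) n ≃ₗ[A] (A ⧸ m)) := by
  haveI := DCat.hasLTen A
  haveI := DCat.hasLTen₃ A
  haveI : DTen.HasRHom A := DCat.hasRHom
  haveI : DTen.IsSymMonoidal A := isSymMonoidal
  obtain ⟨lo, hi, hbd⟩ := hω.finite_injective_dimension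
  classical
  let S := (Finset.Icc lo hi).filter fun i => Nontrivial (E ω ((A ⧸ m)) i)
  have hS : ∀ i, i ∉ S → Subsingleton (E ω ((A ⧸ m)) i) := fun i hi' => by
    by_cases hr : i < lo ∨ hi < i
    · exact hbd _ i hr
    · push Not at hr
      refine not_nontrivial_iff_subsingleton.1 fun hn => hi' (Finset.mem_filter.2 ⟨Finset.mem_Icc.2 hr, hn⟩)
  have hne : S.Nonempty := by
    obtain ⟨i, hi'⟩ := exists_nontrivial_residue m hω
    by_contra hc
    rw [Finset.not_nonempty_iff_eq_empty] at hc
    exact not_nontrivial_iff_subsingleton.2 (hS i (by simp [hc])) hi'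
  let a := S.min' hne
  let b := S.max' hne
  have hab : a ≤ b := Finset.min'_le_max' S hne
  have hna : Nontrivial (E ω ((A ⧸ m)) a) := (Finset.mem_filter.1 (S.min'_mem hne)).2
  have hnb : Nontrivial (E ω ((A ⧸ m)) b) := (Finset.mem_filter.1 (S.max'_mem hne)).2
  have hlt : ∀ i, i < a → Subsingleton (E ω ((A ⧸ m)) i) := fun i hi' =>
    hS i fun h => not_lt.2 (S.min'_le i h) hi'
  have hgt : ∀ i, b < i → Subsingleton (E ω ((A ⧸ m)) i) := fun i hi' =>
    hS i fun h => not_lt.2 (S.le_max' i h) hi'
  let V := (DTen.RHomR A (Dual.inD A ((A ⧸ m)))).obj ω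
  let eV : ∀ q, Dual.HD A V q ≃ₗ[A] E ω ((A ⧸ m)) q := fun q => hdRHom _ ω q
  have hfin : ∀ q, Module.Finite A (Dual.HD A V q) := fun q =>
    haveI := finite hω ((A ⧸ m)) q
    Module.Finite.equiv (eV q).symm
  have hkill : ∀ q, m ≤ Module.annihilator A (Dual.HD A V q) := fun q => by
    rw [(eV q).annihilator_eq]
    refine le_trans (le_of_eq ?_) (annihilator_le_annihilator ω q)
    exact (Ideal.annihilator_quotient (I := m)).symm
  haveI : V.IsGE a := (DRingLib.isGE_iff_HD V a).2 fun q hq =>
    haveI := hlt q hq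
    (eV q).injective.subsingleton
  haveI : V.IsLE b := (DRingLib.isLE_iff_HD V b).2 fun q hq =>
    haveI := hgt q hq
    (eV q).injective.subsingleton
  obtain ⟨eD⟩ := exists_biduality hω ((A ⧸ m))
  let eK : ∀ q, Dual.HD A (Dual.inD A ((A ⧸ m))) q ≃ₗ[A] (V ⟶ ω⟦q⟧) := fun q =>
    ((DerivedCategory.homologyFunctor (ModuleCat.{u} A) q).mapIso eD).symm.toLinearEquiv.trans (hdRHom V ω q)
  haveI := hfin a
  haveI : Nontrivial (Dual.HD A V a) := (eV a).surjective.nontrivial
  have hEab : Nontrivial (E ω (Dual.HD A V a) b) := by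
    obtain ⟨f, hf⟩ := exists_residue_injective (hkill a)
    have hker : m ≤ Module.annihilator A (Dual.HD A V a ⧸ LinearMap.range f) :=
      (hkill a).trans (LinearMap.annihilator_le_of_surjective _ (Submodule.mkQ_surjective _))
    have hs := surjective_emap (W := ω) hf (LinearMap.range f).mkQ_surjective (LinearMap.exact_map_mkQ_range f) b
      (subsingleton_of_residue _ (hgt _ (by omega)) _ (support_subset_of_kills hker))
    haveI : Nontrivial (E ω (A ⧸ m) b) := hnb
    exact hs.nontrivial
  have heq : a = b := by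
    by_contra hne'
    haveI : Subsingleton (V ⟶ ω⟦b - a⟧) :=
      haveI : Subsingleton (Dual.HD A (Dual.inD A ((A ⧸ m))) (b - a)) :=
        (DRingLib.isLE_iff_HD _ 0).1 inferInstance _ (by omega)
      (eK (b - a)).symm.injective.subsingleton
    refine not_subsingleton_iff_nontrivial.2 hEab (subsingleton_of_forall_eq 0 fun φ => ?_)
    rw [← one_smul A φ]
    refine smul_eq_zero_of_hom V a (b - a) b (by omega) 1 (fun ψ => Subsingleton.elim _ _) ?_ ?_ φ
    · exact isZero_hom ω ((ts A).isZero_truncLT_obj_of_isGE a V) _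
    · let Y := ((ts A).truncGE a).obj V
      haveI : Y.IsLE b := inferInstance
      haveI : (((ts A).truncGE (a + 1)).obj Y).IsGE (a + 1) := inferInstance
      haveI : (((ts A).truncGE (a + 1)).obj Y).IsLE b := inferInstance
      refine vanish' _ (a + 1) b _ fun q hq _ => ?_
      haveI := hfin q
      haveI := subsingleton_of_residue (W := ω) _ (hgt (b - a + 1 + q) (by omega)) (Dual.HD A V q)
        (support_subset_of_kills (hkill q))
      exact (econgr ω ((hTruncGE V a q (by omega)).trans (hTruncGE Y (a + 1) q hq)) _).injective.subsingleton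
  refine ⟨a, fun i hi' => ?_, ?_⟩
  · rcases lt_or_gt_of_ne hi' with h | h
    · exact hlt i h
    · exact hgt i (heq ▸ h)
  haveI : V.IsLE a := heq ▸ inferInstanceAs (V.IsLE b)
  obtain ⟨eS⟩ := exists_single_iso V a
  let eW : (A ⧸ m) ≃ₗ[A] E ω (Dual.HD A V a) a :=
    (((DerivedCategory.singleFunctorCompHomologyFunctorIso (ModuleCat.{u} A) 0).app
      (ModuleCat.of A ((A ⧸ m)))).symm.toLinearEquiv.trans (eK 0)).trans
      ((homCongr ω eS 0).trans (singleHom ω (ModuleCat.of A (Dual.HD A V a)) a 0 a (by omega)))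
  obtain ⟨f, hf⟩ := exists_residue_injective (hkill a)
  suffices hsur : Function.Surjective f from ⟨(eV a).symm.trans (LinearEquiv.ofBijective f ⟨hf, hsur⟩).symm⟩
  by_contra hns
  haveI : Nontrivial (Dual.HD A V a ⧸ LinearMap.range f) := by
    rw [Submodule.Quotient.nontrivial_iff]
    exact fun h => hns (LinearMap.range_eq_top.1 h)
  have hker : m ≤ Module.annihilator A (Dual.HD A V a ⧸ LinearMap.range f) :=
    (hkill a).trans (LinearMap.annihilator_le_of_surjective _ (Submodule.mkQ_surjective _))
  have hs := surjective_emap (W := ω) hf (LinearMap.range f).mkQ_surjective (LinearMap.exact_map_mkQ_range f) a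
    (subsingleton_of_residue _ (hgt _ (by omega)) _ (support_subset_of_kills hker))
  have hi' := injective_emap (W := ω) hf (LinearMap.range f).mkQ_surjective (LinearMap.exact_map_mkQ_range f) a
    (subsingleton_of_residue _ (hlt _ (by omega)) _
      (support_subset_of_kills (Ideal.annihilator_quotient (I := m)).ge))
  obtain ⟨g, hg⟩ := exists_residue_injective hker
  have hsg := surjective_emap (W := ω) hg (LinearMap.range g).mkQ_surjective (LinearMap.exact_map_mkQ_range g) a
    (subsingleton_of_residue _ (hgt _ (by omega)) _ (support_subset_of_kills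
      (hker.trans (LinearMap.annihilator_le_of_surjective _ (Submodule.mkQ_surjective _)))))
  haveI hk : Nontrivial (E ω (A ⧸ m) a) := hna
  haveI := hsg.nontrivial
  have hN : LinearMap.range (emap ω (LinearMap.range f).mkQ a) = ⊤ := by
    haveI : IsSimpleModule A (E ω (Dual.HD A V a) a) :=
      haveI : IsSimpleModule A ((A ⧸ m)) :=
        isSimpleModule_iff_isCoatom.2 hm.1
      IsSimpleModule.congr eW.symm
    refine (eq_bot_or_eq_top _).resolve_left fun h => ?_
    obtain ⟨y, hy⟩ := exists_ne (0 : E ω (Dual.HD A V a ⧸ LinearMap.range f) a)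
    exact hy (hi' ((LinearMap.range_eq_bot.1 h ▸ LinearMap.zero_apply y).trans (map_zero _).symm))
  obtain ⟨z, hz⟩ := exists_ne (0 : E ω (A ⧸ m) a)
  obtain ⟨w, rfl⟩ := hs z
  obtain ⟨y, rfl⟩ := LinearMap.range_eq_top.1 hN w
  exact hz (LinearMap.exact_iff.1 (exact_emap (W := ω) hf (LinearMap.range f).mkQ_surjective
    (LinearMap.exact_map_mkQ_range f) a) ▸ (LinearMap.mem_range_self _ y) : _ ∈ LinearMap.ker (emap ω f a))

section Local

omit hω m hm in
/-- `RHom(k, ω)` is `k` in a single degree. -/
theorem exists_degree [IsLocalRing A] {ω : Dual.D A} (hω : Dual.IsDualizing A ω) :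
    ∃ n : ℤ, (∀ i : ℤ, i ≠ n → Subsingleton (E ω (IsLocalRing.ResidueField A) i)) ∧
      Nonempty (E ω (IsLocalRing.ResidueField A) n ≃ₗ[A] IsLocalRing.ResidueField A) :=
  exists_degree_maximal (IsLocalRing.maximalIdeal A) hω

omit hω m hm in
/-- For a normalized dualizing complex, `Hom(k, ω) = k`. -/
theorem residue_equiv [IsLocalRing A] {ω : Dual.D A} (hω : Dual.IsDualizing A ω) (hn : Dual.IsNormalized A ω) :
    Nonempty (E ω (IsLocalRing.ResidueField A) 0 ≃ₗ[A] IsLocalRing.ResidueField A) := by
  obtain ⟨n, h1, h2⟩ := exists_degree hω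
  rcases eq_or_ne n 0 with rfl | hne
  · exact h2
  · haveI := nontrivial_residue hω hn
    exact absurd (h1 0 (Ne.symm hne)) (not_subsingleton_iff_nontrivial.2 inferInstance)

end Local

end Groth.Agent.DualLib
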