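import Groth.Agent.DualLib.Self
import Groth.Agent.DualLib.Degree
import Groth.Agent.DualLib.LocDualizing

/-! Shifts of dualizing complexes. -/

set_option autoImplicit false
set_option backward.isDefEq.respectTransparency false
set_option backward.defeqAttrib.useBackward true
set_option linter.style.haveILetI false

universe u

open CategoryTheory CategoryTheory.Limits CategoryTheory.Pretriangulated DerivedCategory

attribute [local instance] HasDerivedCategory.standard

namespace Groth.Agent.DualLib

variable {A : Type u} [CommRing A]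

/-- `Hom(X, (W⟦n⟧)⟦i⟧) = Hom(X, W⟦n+i⟧)`. -/
noncomputable def homShift (X W : Dual.D A) (n i j : ℤ) (h : n + i = j) : (X ⟶ W⟦j⟧) ≃ₗ[A] (X ⟶ (W⟦n⟧)⟦i⟧) :=
  Linear.homCongr A (Iso.refl X) ((shiftFunctorAdd' (Dual.D A) n i j h).app W)

theorem isDualizing_shift {W : Dual.D A} (h : Dual.IsDualizing A W) (n : ℤ) : Dual.IsDualizing A (W⟦n⟧) where
  isNoetherianRing := h.isNoetherianRing
  finite_injective_dimension := by
    obtain ⟨a, b, hab⟩ := h.finite_injective_dimension
    exact ⟨a - n, b - n, fun M _ _ i hi =>
      haveI := hab M (n + i) (by omega)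
      (homShift (Dual.inD A M) W n i (n + i) rfl).symm.injective.subsingleton⟩
  finite_cohomology i :=
    haveI : Module.Finite A ↑(((homologyFunctor (ModuleCat.{u} A) 0).shift (n + i)).obj W) := h.finite_cohomology (n + i)
    Module.Finite.equiv (((homologyFunctor (ModuleCat.{u} A) 0).shiftIso n i (n + i) rfl).app W).toLinearEquiv.symm
  toEnd_bijective := by
    have h1 := (Functor.FullyFaithful.ofFullyFaithful (shiftFunctor (Dual.D A) n)).map_bijective W W
    have h2 : (fun a : A => a • 𝟙 (W⟦n⟧)) = (shiftFunctor (Dual.D A) n).map ∘ (fun a : A => a • 𝟙 W) := funext fun a => by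
      rw [Function.comp_apply, Functor.map_smul, CategoryTheory.Functor.map_id]
    rw [h2]
    exact h1.comp h.toEnd_bijective
  ext_self_subsingleton i hi := by
    haveI := h.ext_self_subsingleton i hi
    haveI : Subsingleton (W⟦n⟧ ⟶ (shiftFunctor (Dual.D A) i ⋙ shiftFunctor (Dual.D A) n).obj W) :=
      ((Functor.FullyFaithful.ofFullyFaithful (shiftFunctor (Dual.D A) n)).map_bijective W (W⟦i⟧)).2.subsingleton
    exact ((Iso.refl _).homCongr ((shiftFunctorComm (Dual.D A) i n).app W)).symm.injective.subsingleton

/-- Some shift is normalized. -/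
theorem exists_normalized [IsNoetherianRing A] [IsLocalRing A] {W : Dual.D A} (h : Dual.IsDualizing A W) :
    ∃ n : ℤ, Dual.IsNormalized A (W⟦n⟧) := by
  obtain ⟨n, hn, -⟩ := exists_degree h
  exact ⟨n, fun i hi =>
    haveI := hn (n + i) (by omega)
    (homShift (Dual.inD A (IsLocalRing.ResidueField A)) W n i (n + i) rfl).symm.injective.subsingleton⟩

/-- A shift of `A[0]` dualizing means `A` has finite injective dimension. -/
theorem exists_injDim_of_finite {W : Dual.D A} (h : Dual.IsDualizing A W) (j : ℤ)
    (e : W⟦j⟧ ≅ Dual.inD A A) : ∃ n : ℕ, HasInjectiveDimensionLT (ModuleCat.of A A) n :=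
  exists_injDim_of_isDualizing (isDualizing_of_iso e (isDualizing_shift h j))

end Groth.Agent.DualLib
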