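import Groth.Agent.DualLib.FreeCriterion
import Groth.Agent.DualLib.Biduality
import Groth.Agent.DualLib.InjAmp
import Groth.Agent.DualLib.Shift

/-! `RHom` between objects dual to the residue field, and uniqueness of dualizing complexes. -/

set_option autoImplicit false
set_option backward.isDefEq.respectTransparency false
set_option backward.defeqAttrib.useBackward true
set_option linter.style.haveILetI false

universe u

open CategoryTheory CategoryTheory.Limits CategoryTheory.Pretriangulated DerivedCategory Opposite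

attribute [local instance] HasDerivedCategory.standard

namespace Groth.Agent.DualLib

open Groth.Agent.DCat

variable {A : Type u} [CommRing A]

/-- Bounded above with finite cohomology is pseudo-coherent. -/
lemma isPseudoCoherent' [IsNoetherianRing A] (K : Dual.D A) (b : ℤ) [K.IsLE b]
    (hK : ∀ q, Module.Finite A (Dual.HD A K q)) : DRing.IsPseudoCoherent' A K :=
  DRingLib.pc'_of_forall fun _ => DRingLib.pc_of_finite_homology (b := b) inferInstance fun i _ => hK i

lemma finite_HD_inD (M : Type u) [AddCommGroup M] [Module A M] [Module.Finite A M] (q : ℤ) :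
    Module.Finite A (Dual.HD A (Dual.inD A M) q) := by
  rcases eq_or_ne q 0 with rfl | hq
  · haveI : Module.Finite A ((𝟭 (ModuleCat.{u} A)).obj (ModuleCat.of A M)) := ‹Module.Finite A M›
    exact Module.Finite.equiv ((singleFunctorCompHomologyFunctorIso (ModuleCat.{u} A) 0).app
      (ModuleCat.of A M)).toLinearEquiv.symm
  · haveI := hd_single_subsingleton (A := A) M q hq
    infer_instance

variable [DTen.HasLTen A] [DTen.HasLTen₃ A] [DTen.HasRHom A]

/-- An isomorphism in the first variable of `RHom`. -/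
noncomputable def rhomCongr {K K' : Dual.D A} (e : K ≅ K') (M : Dual.D A) :
    (DTen.RHomR A K').obj M ≅ (DTen.RHomR A K).obj M :=
  ((DTen.RHom A).mapIso e.op).app M

/-- `RHom(A, M) = M`. -/
noncomputable def rhomUnit [DTen.IsSymMonoidal A] (M : Dual.D A) : (DTen.RHomR A (DTen.unit A)).obj M ≅ M :=
  (((DTen.rhomAdj A (DTen.unit A)).ofNatIsoLeft (asIso (DTen.unitR A))).rightAdjointUniq Adjunction.id).app M

/-- `Hom(X ⊗ L, M⟦j⟧) = Hom(X, RHom(L, M)⟦j⟧)`. -/
noncomputable def adjShift (X L M : Dual.D A) (j : ℤ) :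
    (X ⟶ ((DTen.RHomR A L).obj M)⟦j⟧) ≃ₗ[A] ((DTen.tensorRightD A L).obj X ⟶ M⟦j⟧) :=
  Linear.homCongr A (Iso.refl X) (exists_iso_RHomR_shift L j M).some ≪≫ₗ adjLin X L (M⟦j⟧)

/-- Biduality for bounded above objects with finite cohomology. -/
theorem exists_biduality' [IsNoetherianRing A] [DTen.IsSymMonoidal A] {ω : Dual.D A} (hω : Dual.IsDualizing A ω)
    (K : Dual.D A) (c : ℤ) [K.IsLE c] (hK : ∀ q, Module.Finite A (Dual.HD A K q)) :
    Nonempty ((DTen.RHomR A ((DTen.RHomR A K).obj ω)).obj ω ≅ K) := by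
  obtain ⟨a, b, hab⟩ := exists_injAmplitude hω
  obtain ⟨a', b', hge, -⟩ := exists_bound hω
  haveI := isIso_evalHom_of_pseudoCoherent (K := K) ω ω (isPseudoCoherent' K c hK) a' a b hab
  obtain ⟨e⟩ := exists_iso_RHom_self hω
  exact ⟨(asIso (DTen.evalHom K ω ω)).symm ≪≫
    (DTen.LTen₂ A).mapIso (Iso.prod e (Iso.refl _)) ≪≫ DTen.leftUnitor _⟩

variable [IsLocalRing A]

/-- `RHom(k, L) = k` from the degrees. -/
lemma exists_iso_rhom_residue (L : Dual.D A)
    (hvan : ∀ i : ℤ, i ≠ 0 → Subsingleton (E L (IsLocalRing.ResidueField A) i))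
    (hone : Nonempty (E L (IsLocalRing.ResidueField A) 0 ≃ₗ[A] IsLocalRing.ResidueField A)) :
    Nonempty ((DTen.RHomR A (kD A)).obj L ≅ kD A) := by
  let V := (DTen.RHomR A (kD A)).obj L
  have hz : ∀ i : ℤ, i ≠ 0 → Subsingleton (Dual.HD A V i) := fun i hi =>
    haveI := hvan i hi
    (hdRHom (kD A) L i).injective.subsingleton
  haveI : V.IsGE 0 := (DRingLib.isGE_iff_HD V 0).2 fun i hi => hz i (by omega)
  haveI : V.IsLE 0 := (DRingLib.isLE_iff_HD V 0).2 fun i hi => hz i (by omega)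
  obtain ⟨e⟩ := exists_single_iso V 0
  obtain ⟨e'⟩ := hone
  exact ⟨e.symm ≪≫ (S0 A).mapIso ((hdRHom (kD A) L 0) ≪≫ₗ e').toModuleIso⟩

/-- `RHom(L, M) = A` if both are dual to the residue field. -/
theorem exists_iso_rhom_self [IsNoetherianRing A] (L M : Dual.D A) (n a b : ℤ) [L.IsGE n]
    (hM : DRing.HasInjAmplitudeIn A a b M) (hLf : ∀ q, Module.Finite A (Dual.HD A L q))
    (hMf : ∀ q, Module.Finite A (Dual.HD A M q))
    (hL : ∀ i : ℤ, i ≠ 0 → Subsingleton (E L (IsLocalRing.ResidueField A) i))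
    (hL' : Nonempty (E L (IsLocalRing.ResidueField A) 0 ≃ₗ[A] IsLocalRing.ResidueField A))
    (hMv : ∀ i : ℤ, i ≠ 0 → Subsingleton (E M (IsLocalRing.ResidueField A) i))
    (hM' : Nonempty (E M (IsLocalRing.ResidueField A) 0 ≃ₗ[A] IsLocalRing.ResidueField A)) :
    Nonempty ((DTen.RHomR A L).obj M ≅ Dual.inD A A) := by
  haveI : DTen.IsSymMonoidal A := isSymMonoidal
  let G := (DTen.RHomR A L).obj M
  haveI : G.IsLE (b - n) := isLE_RHomR L M a b n hM
  haveI := isIso_evalHom_of_pseudoCoherent (K := kD A) L M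
    (isPseudoCoherent' (kD A) 0 fun q => finite_HD_inD (IsLocalRing.ResidueField A) q) n a b hM
  obtain ⟨eL⟩ := exists_iso_rhom_residue L hL hL'
  obtain ⟨eM⟩ := exists_iso_rhom_residue M hMv hM'
  let eT : (DTen.tensorRightD A (kD A)).obj G ≅ kD A :=
    asIso (DTen.evalHom (kD A) L M) ≪≫ rhomCongr eL.symm M ≪≫ eM
  let key : ∀ j : ℤ, (G ⟶ (kD A)⟦j⟧) ≃ₗ[A] E M (IsLocalRing.ResidueField A) j := fun j =>
    Linear.homCongr A (Iso.refl G) ((shiftFunctor (Dual.D A) j).mapIso eM.symm) ≪≫ₗ adjShift G (kD A) M j ≪≫ₗ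
      Linear.homCongr A eT (Iso.refl _)
  obtain ⟨e'⟩ := hM'
  refine exists_iso_self_of_hom_residue G (b - n) (fun q => ?_) (fun j hj => ?_) ⟨key 0 ≪≫ₗ e'⟩
  · haveI := finite_hom_of_injAmp hM hMf L hLf q
    exact Module.Finite.equiv (hdRHom L M q).symm
  · haveI := hMv j hj
    exact (key j).injective.subsingleton

omit [DTen.HasLTen A] [DTen.HasLTen₃ A] [DTen.HasRHom A] in
/-- Normalized dualizing complexes are isomorphic. -/
theorem exists_iso_of_normalized [IsNoetherianRing A] {ω ω' : Dual.D A} (hω : Dual.IsDualizing A ω)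
    (hn : Dual.IsNormalized A ω) (hω' : Dual.IsDualizing A ω') (hn' : Dual.IsNormalized A ω') :
    Nonempty (ω' ≅ ω) := by
  haveI := DCat.hasLTen A
  haveI := DCat.hasLTen₃ A
  haveI : DTen.HasRHom A := DCat.hasRHom
  haveI : DTen.IsSymMonoidal A := isSymMonoidal
  obtain ⟨a, b, hab⟩ := exists_injAmplitude hω
  obtain ⟨a', b', hge, hle⟩ := exists_bound hω'
  obtain ⟨e⟩ := exists_iso_rhom_self ω' ω a' a b hab hω'.finite_cohomology hω.finite_cohomology hn'
    (residue_equiv hω' hn') hn (residue_equiv hω hn)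
  obtain ⟨e'⟩ := exists_biduality' hω ω' b' hω'.finite_cohomology
  exact ⟨e'.symm ≪≫ (rhomCongr e ω).symm ≪≫ rhomUnit ω⟩

omit [DTen.HasLTen A] [DTen.HasLTen₃ A] [DTen.HasRHom A] in
/-- Dualizing complexes over a local ring are unique up to shift. -/
theorem exists_iso_shift [IsNoetherianRing A] {ω ω' : Dual.D A} (hω : Dual.IsDualizing A ω)
    (hω' : Dual.IsDualizing A ω') : ∃ n : ℤ, Nonempty (ω' ≅ ω⟦n⟧) := by
  obtain ⟨c, hc⟩ := exists_normalized hω
  obtain ⟨c', hc'⟩ := exists_normalized hω'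
  obtain ⟨e⟩ := exists_iso_of_normalized (isDualizing_shift hω c) hc (isDualizing_shift hω' c') hc'
  exact ⟨c + -c', ⟨((shiftEquiv (Dual.D A) c').unitIso.app ω') ≪≫ (shiftFunctor (Dual.D A) (-c')).mapIso e ≪≫
    ((shiftFunctorAdd' (Dual.D A) c (-c') _ rfl).app ω).symm⟩⟩

end Groth.Agent.DualLib
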