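import Groth.Agent.DualLib.FlatGlobal
import Groth.Agent.DualLib.GorRing

/-! A Gorenstein quotient which is dual to itself makes the residue field dual to itself. -/

set_option autoImplicit false
set_option backward.isDefEq.respectTransparency false
set_option backward.defeqAttrib.useBackward true
set_option linter.style.haveILetI false

universe u

open CategoryTheory CategoryTheory.Limits CategoryTheory.Pretriangulated DerivedCategory IsLocalRing
open scoped Pointwise

attribute [local instance] HasDerivedCategory.standard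

namespace Groth.Agent.DualLib

variable {C : Type u} [CommRing C] {W : Dual.D C}

lemma length_E_le {M N P : Type u} [AddCommGroup M] [Module C M] [AddCommGroup N] [Module C N] [AddCommGroup P]
    [Module C P] {f : M →ₗ[C] N} {g : N →ₗ[C] P} (hf : Function.Injective f) (hg : Function.Surjective g)
    (hfg : Function.Exact f g) (i : ℤ) (h : Subsingleton (E W M (i - 1))) :
    Module.length C (E W N i) ≤ Module.length C (E W P i) + Module.length C (E W M i) := by
  rw [Module.length_eq_add_of_exact (emap W g i) (emap W f i).rangeRestrict (injective_emap hf hg hfg i h)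
    (LinearMap.surjective_rangeRestrict _) (fun y => by
      rw [← exact_emap hf hg hfg i y]; exact ⟨fun hy => congrArg Subtype.val hy, fun hy => Subtype.ext hy⟩)]
  exact add_le_add_right (Module.length_le_of_injective _ (Submodule.subtype_injective _)) _

variable [IsLocalRing C] [IsNoetherianRing C]

/-- The Artinian case. -/
theorem isDualIn_residue_of_socleLine (a : ℤ) [W.IsGE a] (J : Ideal C) (hJ : J ≤ maximalIdeal C)
    [IsArtinianRing (C ⧸ J)] (hs : LocCoh.IsSocleLine J) {d : ℤ} (h : IsDualIn W (C ⧸ J) d) :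
    IsDualIn W (ResidueField C) d := by
  obtain ⟨hvan, ⟨e⟩⟩ := h
  let g : (C ⧸ J) →ₗ[C] ResidueField C := Submodule.factor hJ
  let f := (LinearMap.ker g).subtype
  have hg : Function.Surjective g := Submodule.factor_surjective hJ
  have hf : Function.Injective f := Submodule.subtype_injective _
  have hfg : Function.Exact f g := LinearMap.exact_subtype_ker_map g
  haveI : Module.Finite C (LinearMap.ker g) := Module.Finite.of_fg (IsNoetherian.noetherian _)
  haveI := GorFlat.isLocalRing_quot hJ
  have hsupp : ∀ (M : Type u) [AddCommGroup M] [Module C M], J ≤ Module.annihilator C M →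
      Module.support C M ⊆ {closedPoint C} := by
    intro M _ _ hM p hp
    have h1 : J ≤ p.asIdeal := hM.trans (Module.annihilator_le_of_mem_support hp)
    haveI : (p.asIdeal.map (Ideal.Quotient.mk J)).IsPrime :=
      Ideal.map_isPrime_of_surjective Ideal.Quotient.mk_surjective (by rwa [Ideal.mk_ker])
    haveI : (p.asIdeal.map (Ideal.Quotient.mk J)).IsMaximal := IsArtinianRing.isMaximal_of_isPrime _
    haveI : p.asIdeal.IsMaximal := by
      have h2 := Ideal.comap_isMaximal_of_surjective (Ideal.Quotient.mk J) Ideal.Quotient.mk_surjective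
        (K := p.asIdeal.map (Ideal.Quotient.mk J))
      rwa [Ideal.comap_map_of_surjective' _ Ideal.Quotient.mk_surjective, Ideal.mk_ker, sup_eq_left.2 h1] at h2
    exact PrimeSpectrum.ext (IsLocalRing.eq_maximalIdeal inferInstance)
  have hkerJ : J ≤ Module.annihilator C (LinearMap.ker g) := fun x hx => Module.mem_annihilator.2 fun m =>
    Subtype.ext (show x • (m : C ⧸ J) = 0 by
      obtain ⟨y, hy⟩ := Submodule.Quotient.mk_surjective J (m : C ⧸ J)
      rw [← hy, ← Submodule.Quotient.mk_smul, smul_eq_mul, (Submodule.Quotient.mk_eq_zero J).2 (J.mul_mem_right y hx)])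
  have hfinvan : ∀ i : ℤ, Subsingleton (E W (ResidueField C) i) → Subsingleton (E W (LinearMap.ker g) i) := by
    intro i hi
    exact devissage (Φ := fun N => Subsingleton (E W N i)) {closedPoint C}
      (fun N _ _ _ => subsingleton_of_subsingleton W i) (fun p hp => by rw [Set.mem_singleton_iff.1 hp]; exact hi)
      (fun N N' _ _ _ _ ε hN => haveI := hN; (econgr W ε i).injective.subsingleton)
      (fun N₁ N₂ N₃ _ _ _ _ _ _ _ _ _ f g hf hg hfg h₁ h₃ => subsingleton_mid hf hg hfg i h₁ h₃)
      _ (hsupp _ hkerJ)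
  -- degrees below `d`
  have hlow : ∀ (n : ℕ) (i : ℤ), i < a + n → i < d → Subsingleton (E W (ResidueField C) i) := by
    intro n
    induction n with
    | zero => exact fun i hi _ => subsingleton_E_of_lt a _ i (by omega)
    | succ n ih =>
      intro i hi hid
      exact subsingleton_right hf hg hfg i (hvan i (by omega)) (hfinvan _ (ih (i - 1) (by omega) (by omega)))
  have hlow' : ∀ i : ℤ, i < d → Subsingleton (E W (ResidueField C) i) := fun i hi =>
    hlow ((i - a + 1).toNat) i (by omega) hi
  have hm1 : Subsingleton (E W (LinearMap.ker g) (d - 1)) := hfinvan _ (hlow' _ (by omega))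
  -- the socle bounds the length
  have hinj := injective_emap (W := W) hf hg hfg d hm1
  have hle1 : Module.length C (E W (ResidueField C) d) ≤ 1 := by
    obtain ⟨e0, he0, hme0, hline⟩ := hs
    let σ : ResidueField C →ₗ[C] C ⧸ J := Submodule.liftQ _ (LinearMap.toSpanSingleton C _ (Submodule.Quotient.mk e0))
      fun x hx => by
        rw [LinearMap.mem_ker, LinearMap.toSpanSingleton_apply, ← Submodule.Quotient.mk_smul,
          Submodule.Quotient.mk_eq_zero]
        exact hme0 x hx
    let ρ := e.toLinearMap ∘ₗ emap W g d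
    have hρ : ∀ φ, ρ φ ∈ LinearMap.range σ := by
      intro φ
      obtain ⟨z, hz⟩ := Submodule.Quotient.mk_surjective J (ρ φ)
      have hz' : ∀ x ∈ maximalIdeal C, x * z ∈ J := by
        intro x hx
        rw [← Submodule.Quotient.mk_eq_zero J, ← smul_eq_mul, Submodule.Quotient.mk_smul, hz, ← map_smul,
          smul_eq_zero_of_kills (W := W) (M := ResidueField C) x (fun m => by
            obtain ⟨y, rfl⟩ := IsLocalRing.residue_surjective m
            show residue C (x * y) = 0
            exact (residue_eq_zero_iff _).2 (Ideal.mul_mem_right _ _ hx)) d φ, map_zero]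
      obtain ⟨j, hj, b, hb, rfl⟩ := Submodule.mem_sup.1 (hline z hz')
      obtain ⟨c, rfl⟩ := Ideal.mem_span_singleton'.1 hb
      refine ⟨residue C c, ?_⟩
      rw [← hz, Submodule.Quotient.mk_add, (Submodule.Quotient.mk_eq_zero J).2 hj, zero_add]
      show c • (Submodule.Quotient.mk e0 : C ⧸ J) = _
      rw [← Submodule.Quotient.mk_smul, smul_eq_mul]
    calc Module.length C (E W (ResidueField C) d)
        ≤ Module.length C (LinearMap.range σ) :=
          Module.length_le_of_injective (ρ.codRestrict _ hρ) fun x y hxy => hinj (e.injective (congrArg Subtype.val hxy))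
      _ ≤ Module.length C (ResidueField C) :=
          Module.length_le_of_surjective σ.rangeRestrict (LinearMap.surjective_rangeRestrict σ)
      _ = 1 := Module.length_eq_one_iff.2 (isSimpleModule_iff_isCoatom.2 (maximalIdeal.isMaximal C).out)
  have hkerlen : Module.length C (E W (LinearMap.ker g) d) ≤ Module.length C (LinearMap.ker g) := by
    refine (devissage (Φ := fun N => Subsingleton (E W N (d - 1)) ∧ Module.length C (E W N d) ≤ Module.length C N)
      {closedPoint C} (fun N _ _ _ => ⟨subsingleton_of_subsingleton W _, ?_⟩) (fun p hp => ?_)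
      (fun N N' _ _ _ _ ε hN => ?_) (fun N₁ N₂ N₃ _ _ _ _ _ _ _ _ _ f g hf hg hfg h₁ h₃ => ?_) _ (hsupp _ hkerJ)).2
    · haveI := subsingleton_of_subsingleton (M := N) W d
      rw [Module.length_eq_zero_iff.2 inferInstance]
      exact zero_le
    · rw [Set.mem_singleton_iff.1 hp]
      refine ⟨hlow' _ (by omega), hle1.trans (le_of_eq ?_)⟩
      exact (Module.length_eq_one_iff.2 (isSimpleModule_iff_isCoatom.2 (maximalIdeal.isMaximal C).out)).symm
    · haveI := hN.1
      exact ⟨(econgr W ε _).injective.subsingleton, (econgr W ε d).length_eq.trans_le (hN.2.trans ε.length_eq.le)⟩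
    · refine ⟨subsingleton_mid hf hg hfg _ h₁.1 h₃.1, (length_E_le hf hg hfg d h₁.1).trans ?_⟩
      rw [Module.length_eq_add_of_exact f g hf hg hfg, add_comm (Module.length C N₁)]
      exact add_le_add h₃.2 h₁.2
  -- counting
  have hFlen : IsFiniteLength C (C ⧸ J) := by
    haveI : IsArtinian C (C ⧸ J) := isArtinian_of_surjective_algebraMap (S := C) (R := C ⧸ J) Ideal.Quotient.mk_surjective
    exact isFiniteLength_iff_isNoetherian_isArtinian.2 ⟨inferInstance, inferInstance⟩
  have hres : Module.length C (ResidueField C) = 1 :=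
    Module.length_eq_one_iff.2 (isSimpleModule_iff_isCoatom.2 (maximalIdeal.isMaximal C).out)
  have hsum : Module.length C (C ⧸ J) = Module.length C (LinearMap.ker g) + 1 := by
    rw [Module.length_eq_add_of_exact f g hf hg hfg, hres]
  have hex : Module.length C (C ⧸ J) =
      Module.length C (E W (ResidueField C) d) + Module.length C (LinearMap.range (emap W f d)) := by
    rw [← e.length_eq]
    exact Module.length_eq_add_of_exact (emap W g d) (emap W f d).rangeRestrict hinj
      (LinearMap.surjective_rangeRestrict _) (fun y => by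
        rw [← exact_emap hf hg hfg d y]; exact ⟨fun hy => congrArg Subtype.val hy, fun hy => Subtype.ext hy⟩)
  have hrle : Module.length C (LinearMap.range (emap W f d)) ≤ Module.length C (E W (LinearMap.ker g) d) :=
    Module.length_le_of_injective _ (Submodule.subtype_injective _)
  have hFtop : Module.length C (C ⧸ J) ≠ ⊤ := Module.length_ne_top_iff.2 hFlen
  obtain ⟨l, hl⟩ := ENat.ne_top_iff_exists.1 hFtop
  have hkfin : Module.length C (LinearMap.ker g) ≠ ⊤ := fun ht => hFtop (by rw [hsum, ht, top_add])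
  obtain ⟨k, hk⟩ := ENat.ne_top_iff_exists.1 hkfin
  obtain ⟨r, hr⟩ := ENat.ne_top_iff_exists.1 (ne_top_of_le_ne_top hkfin (hrle.trans hkerlen))
  obtain ⟨s, hs'⟩ := ENat.ne_top_iff_exists.1 (ne_top_of_le_ne_top ENat.one_ne_top hle1)
  obtain ⟨G, hG⟩ := ENat.ne_top_iff_exists.1 (ne_top_of_le_ne_top hkfin hkerlen)
  rw [← hl, ← hk] at hsum
  rw [← hl, ← hr, ← hs'] at hex
  have hrG := hrle
  have hGk := hkerlen
  have hs1 := hle1
  rw [← hr, ← hG] at hrG
  rw [← hG, ← hk] at hGk
  rw [← hs'] at hs1
  norm_cast at hsum hex hrG hGk hs1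
  have hone : Module.length C (E W (ResidueField C) d) = 1 := by rw [← hs']; exact_mod_cast (show s = 1 by omega)
  have hsurj : Function.Surjective (emap W f d) := by
    rw [← LinearMap.range_eq_top]
    by_contra hne
    have hfl := Module.length_ne_top_iff.1 (ne_top_of_le_ne_top hkfin hkerlen)
    obtain ⟨hN, hA⟩ := isFiniteLength_iff_isNoetherian_isArtinian.1 hfl
    have hlt := Submodule.length_lt hne
    rw [← hr, ← hG] at hlt
    have : r = G := by omega
    subst this
    exact lt_irrefl _ hlt
  -- degrees above `d`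
  have hd1 : Subsingleton (E W (ResidueField C) (d + 1)) := by
    obtain ⟨δ, hδ1, hδ2⟩ := exists_delta (W := W) hf hg hfg d (d + 1) rfl
    haveI := hvan (d + 1) (by omega)
    refine subsingleton_of_forall_eq 0 fun z => ?_
    obtain ⟨w, rfl⟩ := (hδ2 z).1 (Subsingleton.elim _ _)
    obtain ⟨y, rfl⟩ := hsurj w
    exact hδ1.apply_apply_eq_zero y
  have hhigh : ∀ n : ℕ, Subsingleton (E W (ResidueField C) (d + 1 + n)) := by
    intro n
    induction n with
    | zero => simpa using hd1
    | succ n ih =>
      refine subsingleton_right hf hg hfg _ (hvan _ (by omega)) (hfinvan _ ?_)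
      rw [show d + 1 + ((n + 1 : ℕ) : ℤ) - 1 = d + 1 + n by omega]
      exact ih
  refine ⟨fun i hi => ?_, ?_⟩
  · rcases lt_or_gt_of_ne hi with h | h
    · exact hlow' i h
    · obtain ⟨n, rfl⟩ : ∃ n : ℕ, i = d + 1 + n := ⟨(i - d - 1).toNat, by omega⟩
      exact hhigh n
  · obtain ⟨m, hm, ⟨ε⟩⟩ := isSimpleModule_iff_quot_maximal.1 (Module.length_eq_one_iff.1 hone)
    obtain rfl := IsLocalRing.eq_maximalIdeal hm
    exact ⟨ε⟩

/-- A Gorenstein quotient which is dual to itself makes the residue field dual to itself. -/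
theorem exists_isDualIn_residue_gorenstein (a : ℤ) [W.IsGE a] (J : Ideal C) (hJ : J ≤ maximalIdeal C)
    (hG : _root_.LocCoh.IsGorensteinLocalRing (C ⧸ J)) {d : ℤ} (h : IsDualIn W (C ⧸ J) d) :
    ∃ d', IsDualIn W (ResidueField C) d' := by
  haveI := GorFlat.isLocalRing_quot hJ
  haveI := hG
  haveI := LocCoh.isCohenMacaulayLocalRing_of_gorenstein (R := C ⧸ J)
  obtain ⟨ys, hym, hyreg, hyrad⟩ := GorFlat.exists_system (B := C ⧸ J)
  obtain ⟨xs, rfl⟩ : ∃ xs : List C, xs.map (Ideal.Quotient.mk J) = ys :=
    ⟨ys.map (Function.surjInv Ideal.Quotient.mk_surjective), by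
      rw [List.map_map]; exact (List.map_congr_left fun y _ => Function.surjInv_eq _ y).trans (List.map_id _)⟩
  have hxm : ∀ x ∈ xs, x ∈ maximalIdeal C := fun x hx hu => hym _ (List.mem_map_of_mem hx) (hu.map _)
  have hJX : J ⊔ Ideal.ofList xs ≤ maximalIdeal C := sup_le hJ (Ideal.span_le.2 hxm)
  let eR : ((C ⧸ J) ⧸ Ideal.ofList (xs.map (Ideal.Quotient.mk J))) ≃+* C ⧸ (J ⊔ Ideal.ofList xs) :=
    (Ideal.quotEquivOfEq (Ideal.map_ofList _ _).symm).trans (DoubleQuot.quotQuotEquivQuotSup J (Ideal.ofList xs))
  haveI : IsArtinianRing ((C ⧸ J) ⧸ Ideal.ofList (xs.map (Ideal.Quotient.mk J))) := GorFlat.isArtinianRing_quot hyrad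
  haveI : IsArtinianRing (C ⧸ (J ⊔ Ideal.ofList xs)) := eR.surjective.isArtinianRing
  haveI := GorFlat.isLocalRing_quot hJX
  have hG' : _root_.LocCoh.IsGorensteinLocalRing (C ⧸ (J ⊔ Ideal.ofList xs)) :=
    (GorFlat.gor_congr eR).1 ((GorFlat.gor_quot_iff _ hym hyreg).1 hG)
  rw [Disc12.gorenstein_iff_isSocleLine (C := C ⧸ (J ⊔ Ideal.ofList xs)), GorFlat.isSocleLine_quot_iff _ hJX] at hG'
  suffices key : ∀ (xs : List C) (J : Ideal C) (d : ℤ),
      RingTheory.Sequence.IsWeaklyRegular (C ⧸ J) xs → IsDualIn W (C ⧸ J) d →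
      IsDualIn W (C ⧸ (J ⊔ Ideal.ofList xs)) (d + xs.length) by
    exact ⟨_, isDualIn_residue_of_socleLine a _ hJX hG'
      (key xs J d ((RingTheory.Sequence.isWeaklyRegular_map_algebraMap_iff (C ⧸ J) (C ⧸ J) xs).1 hyreg) h)⟩
  intro xs
  induction xs with
  | nil =>
    intro J d _ h
    rw [List.length_nil, Int.natCast_zero, add_zero]
    exact h.of_equiv (Submodule.quotEquivOfEq _ _ (by rw [Ideal.ofList_nil, sup_bot_eq]))
  | cons x xs ih =>
    intro J d hreg h
    rw [RingTheory.Sequence.isWeaklyRegular_cons_iff] at hreg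
    let f := x • (LinearMap.id : (C ⧸ J) →ₗ[C] (C ⧸ J))
    let J' := J ⊔ Ideal.span {x}
    have hrange : LinearMap.range f = Submodule.map J.mkQ J' := by
      refine le_antisymm ?_ ?_
      · rintro _ ⟨z, rfl⟩
        obtain ⟨z, rfl⟩ := Ideal.Quotient.mk_surjective z
        exact ⟨x * z, Submodule.mem_sup_right (Ideal.mem_span_singleton.2 ⟨z, rfl⟩), rfl⟩
      · rintro _ ⟨w, hw, rfl⟩
        obtain ⟨j, hj, w', hw', rfl⟩ := Submodule.mem_sup.1 hw
        obtain ⟨c, rfl⟩ := Ideal.mem_span_singleton.1 hw'
        refine ⟨Ideal.Quotient.mk J c, ?_⟩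
        show Ideal.Quotient.mk J (x * c) = Ideal.Quotient.mk J (j + x * c)
        rw [map_add, Ideal.Quotient.eq_zero_iff_mem.2 hj, zero_add]
    let eQ := Submodule.quotEquivOfEq _ _ hrange ≪≫ₗ Submodule.quotientQuotientEquivQuotient J J' le_sup_left
    have hsm : x • (⊤ : Submodule C (C ⧸ J)) = LinearMap.range f := by
      ext y; simp [f, Submodule.mem_smul_pointwise_iff_exists]
    have h' := (h.quotient (x := x) hreg.1).of_equiv eQ
    have := ih J' (d + 1) (((Submodule.quotEquivOfEq _ _ hsm ≪≫ₗ eQ).isWeaklyRegular_congr xs).1 hreg.2) h'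
    rw [List.length_cons, show d + ((xs.length + 1 : ℕ) : ℤ) = d + 1 + xs.length by omega]
    refine this.of_equiv (Submodule.quotEquivOfEq _ _ ?_)
    rw [Ideal.ofList_cons, sup_assoc]

variable {A B : Type u} [CommRing A] [CommRing B] [Algebra A B] [IsNoetherianRing B]

/-- Gorenstein fibres are good. -/
theorem fibreOK_of_gorenstein (P : Ideal B) [P.IsPrime]
    (h : _root_.LocCoh.IsGorensteinLocalRing
      (Localization.AtPrime P ⧸ (P.under A).map (algebraMap A (Localization.AtPrime P)))) :
    FibreOK A P := fun W a hge hW => by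
  haveI := hge
  haveI : IsNoetherianRing (Localization.AtPrime P) := IsLocalization.isNoetherianRing P.primeCompl _ inferInstance
  refine exists_isDualIn_residue_gorenstein a _ ?_ h hW
  rw [Ideal.map_le_iff_le_comap]
  intro x hx
  rw [Ideal.mem_comap, IsScalarTower.algebraMap_apply A B (Localization.AtPrime P), ← Localization.AtPrime.map_eq_maximalIdeal]
  exact Ideal.mem_map_of_mem _ hx

/-- Gorenstein fibre rings give good fibres. -/
theorem fibreOK_of_gorensteinRing (h : ∀ (p : Ideal A) [p.IsPrime], _root_.LocCoh.IsGorensteinRing (p.Fiber B))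
    (P : Ideal B) [P.IsPrime] : FibreOK A P := by
  refine fibreOK_of_gorenstein P ?_
  obtain ⟨Q, hQ, ⟨e⟩⟩ := CommAlg6.exists_fiber_prime (A := A) P
  exact (GorFlat.gor_congr e).1 ((h (P.comap (algebraMap A B))).isGorensteinLocalRing_localization Q)

end Groth.Agent.DualLib
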