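import Groth.Prelude.Def_DTen4
import Groth.Agent.DualLib.FlatBase
import Groth.Agent.DCat.DTenHom
import Groth.Agent.DCat.FlatPull

/-! Restriction of scalars on derived categories has a right adjoint. -/

set_option autoImplicit false
set_option backward.isDefEq.respectTransparency false
set_option backward.defeqAttrib.useBackward true
set_option linter.style.haveILetI false

universe u

open CategoryTheory CategoryTheory.Limits DerivedCategory Opposite

attribute [local instance] HasDerivedCategory.standard

namespace Groth.Agent.DualLib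

variable {A B : Type u} [CommRing A] [CommRing B] (φ : A →+* B)

theorem hasRHomRel : DTen.HasRHomRel φ := by
  let Res := ModuleCat.restrictScalars.{u} φ
  let F := ModuleCat.coextendScalars.{u, u} φ
  let adj : Res ⊣ F := ModuleCat.restrictCoextendScalarsAdj φ
  haveI : PreservesBinaryBiproducts F :=
    haveI := adj.rightAdjoint_preservesLimits
    preservesBinaryBiproducts_of_preservesBinaryProducts _
  haveI : F.Additive := Functor.additive_of_preservesBinaryBiproducts _
  let c := ComplexShape.up ℤ
  let a := adjCx c adj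
  constructor
  apply Functor.isLeftAdjoint_of_rightAdjointObjIsDefined_eq_top
  ext M
  simp only [Pi.top_apply, Prop.top_eq_true, iff_true]
  obtain ⟨I, hI, ⟨eM⟩⟩ := DCat.exists_kInj_obj M
  rw [Functor.rightAdjointObjIsDefined_iff]
  let J := (F.mapHomologicalComplex c).obj I
  haveI hJ : CochainComplex.IsKInjective J := DCat.FlatPull.isKInjective_map_of_adj adj I
  let fac := Res.mapDerivedCategoryFactors
  let ev : (DRing.restrictD φ).obj (Q.obj J) ⟶ M := fac.hom.app J ≫ Q.map (a.counit.app I) ≫ eM.hom
  have hfac : ∀ {X : DRing.Cx B} (f : X ⟶ J), (DRing.restrictD φ).map (Q.map f) ≫ ev =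
      fac.hom.app X ≫ Q.map ((a.homEquiv X I).symm f) ≫ eM.hom := by
    intro X f
    have h2 := fac.hom.naturality f
    dsimp at h2
    rw [Adjunction.homEquiv_counit, Functor.map_comp]
    show _ ≫ fac.hom.app J ≫ _ = _
    rw [← Category.assoc]
    erw [h2]
    simp only [Category.assoc]
    rfl
  have hbij : ∀ X : Dual.D B, Function.Bijective fun g : X ⟶ Q.obj J => (DRing.restrictD φ).map g ≫ ev := by
    intro X
    let X' := Q.objPreimage X
    let e : Q.obj X' ≅ X := Q.objObjPreimageIso X
    constructor
    · intro g g' h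
      obtain ⟨f, hf⟩ := DCat.Q_map_surjective (e.hom ≫ g)
      obtain ⟨f', hf'⟩ := DCat.Q_map_surjective (e.hom ≫ g')
      have h' : (DRing.restrictD φ).map (Q.map f) ≫ ev = (DRing.restrictD φ).map (Q.map f') ≫ ev := by
        rw [hf, hf', Functor.map_comp, Functor.map_comp, Category.assoc, Category.assoc]
        exact congrArg (_ ≫ ·) h
      rw [hfac, hfac, cancel_epi, cancel_mono] at h'
      let H := HomotopyCategory.homotopyOfEq _ _ (DCat.homotopy_of_Q_map_eq h')
      have hu : ∀ k : X' ⟶ J, k = a.unit.app X' ≫ (F.mapHomologicalComplex c).map ((a.homEquiv X' I).symm k) :=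
        fun k => ((a.homEquiv X' I).apply_symm_apply k).symm.trans (a.homEquiv_unit (f := (a.homEquiv X' I).symm k))
      let H' : Homotopy f f' :=
        (Homotopy.ofEq (hu f)).trans (((F.mapHomotopy H).compLeft (a.unit.app X')).trans (Homotopy.ofEq (hu f').symm))
      rw [← cancel_epi e.hom, ← hf, ← hf']
      have h3 := HomotopyCategory.eq_of_homotopy _ _ H'
      have nat : ∀ k : X' ⟶ J, Q.map k = (quotientCompQhIso (ModuleCat.{u} B)).inv.app X' ≫
          Qh.map ((HomotopyCategory.quotient (ModuleCat.{u} B) c).map k) ≫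
            (quotientCompQhIso (ModuleCat.{u} B)).hom.app _ := fun k =>
        (((quotientCompQhIso (ModuleCat.{u} B)).inv.app X' ≫=
          (quotientCompQhIso (ModuleCat.{u} B)).hom.naturality k).trans (Iso.inv_hom_id_app_assoc _ _ _)).symm
      rw [nat f, nat f', h3]
    · intro ψ
      obtain ⟨h, hh⟩ := DCat.Q_map_surjective (fac.inv.app X' ≫ (DRing.restrictD φ).map e.hom ≫ ψ ≫ eM.inv)
      refine ⟨e.inv ≫ Q.map (a.homEquiv X' I h), ?_⟩
      show (DRing.restrictD φ).map _ ≫ ev = ψ
      rw [Functor.map_comp, Category.assoc, hfac, Equiv.symm_apply_apply, hh]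
      simp [← Functor.map_comp_assoc, Res]
  exact Functor.RepresentableBy.isRepresentable (Y := Q.obj J)
    { homEquiv := fun {X} => Equiv.ofBijective _ (hbij X)
      homEquiv_comp := fun {X X'} f g => by simp }

end Groth.Agent.DualLib
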