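import Groth.Agent.DualLib.LocDualizing

/-! `Hom` in the derived category of a localization. -/

set_option autoImplicit false
set_option backward.isDefEq.respectTransparency false
set_option backward.defeqAttrib.useBackward true
set_option linter.style.haveILetI false

universe u

open CategoryTheory CategoryTheory.Limits CategoryTheory.Pretriangulated DerivedCategory

attribute [local instance] HasDerivedCategory.standard

namespace Groth.Agent.DualLib

variable {A : Type u} [CommRing A] {B : Type u} [CommRing B] [Algebra A B] (S : Submonoid A) [IsLocalization S B]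
  [PreservesFiniteLimits (ModuleCat.extendScalars.{u, u, u} (algebraMap A B))]
  [PreservesFiniteColimits (ModuleCat.extendScalars.{u, u, u} (algebraMap A B))]

/-- The unit, shifted. -/
noncomputable abbrev etaShift (Y : Dual.D A) (i : ℤ) :
    Y⟦i⟧ ⟶ ((DRing.restrictD (algebraMap A B)).obj ((extD (algebraMap A B)).obj Y))⟦i⟧ :=
  ((adjD (algebraMap A B)).unit.app Y)⟦i⟧'

/-- Maps `G X ⟶ Z⟦i⟧` as maps into the restriction. -/
noncomputable def homBij (X : Dual.D A) (Z : Dual.D B) (i : ℤ) :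
    ((extD (algebraMap A B)).obj X ⟶ Z⟦i⟧) ≃ (X ⟶ ((DRing.restrictD (algebraMap A B)).obj Z)⟦i⟧) :=
  ((adjD (algebraMap A B)).homEquiv X (Z⟦i⟧)).trans (((DRing.restrictD (algebraMap A B)).commShiftIso i).app Z).homToEquiv

variable [IsNoetherianRing A]

/-- Hypotheses on the source: bounded with finite cohomology. -/
def IsSmall (X : Dual.D A) : Prop :=
  ∃ c d : ℤ, X.IsGE c ∧ X.IsLE d ∧ ∀ q, Module.Finite A (Dual.HD A X q)

lemma isSmall_inD (M : Type u) [AddCommGroup M] [Module A M] [Module.Finite A M] : IsSmall (Dual.inD A M) := by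
  refine ⟨0, 0, inferInstance, inferInstance, fun q => ?_⟩
  by_cases hq : q = 0
  · subst hq
    haveI : Module.Finite A ((𝟭 (ModuleCat.{u} A)).obj (ModuleCat.of A M)) := ‹Module.Finite A M›
    exact Module.Finite.equiv ((singleFunctorCompHomologyFunctorIso (ModuleCat.{u} A) 0).app
      (ModuleCat.of A M)).toLinearEquiv.symm
  · rcases lt_or_gt_of_ne hq with h | h
    · haveI := (DRingLib.isGE_iff_HD (Dual.inD A M) 0).1 inferInstance q h
      infer_instance
    · haveI := (DRingLib.isLE_iff_HD (Dual.inD A M) 0).1 inferInstance q h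
      infer_instance

lemma isSmall_dualizing {ω : Dual.D A} (hω : Dual.IsDualizing A ω) : IsSmall ω := by
  obtain ⟨a, b, h1, h2⟩ := exists_bound hω
  exact ⟨a, b, h1, h2, hω.finite_cohomology⟩

include S

variable {X Y : Dual.D A}

/-- Maps killed by the unit are torsion. -/
theorem exists_kill (hX : IsSmall X) {a : ℤ} (hY : Y.IsGE a) (i : ℤ) (θ : X ⟶ Y⟦i⟧)
    (h : θ ≫ etaShift (B := B) Y i = 0) : ∃ s ∈ S, s • θ = 0 := by
  obtain ⟨C, g, k, hT, hC, hCge⟩ := exists_triangle_unit (B := B) S Y hY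
  haveI := hCge
  obtain ⟨c, d, hge, hle, hfin⟩ := hX
  haveI := hle
  haveI : X.IsLE (c + ((d + 1 - c).toNat : ℤ) - 1) := (ts A).isLE_of_le X d _ (by omega)
  have htors := torsion_hom S C (a - 1) hC (d + 1 - c).toNat c X hge inferInstance hfin
  obtain ⟨ψ, hψ⟩ := Triangle.coyoneda_exact₂ _ (inv_rot_of_distTriang _ (Triangle.shift_distinguished _ hT i)) θ (by
    show θ ≫ (i.negOnePow • etaShift (B := B) Y i) = 0
    rw [Linear.comp_units_smul, h, smul_zero])
  obtain ⟨s, hs, h0⟩ := htors (i - 1) (ψ ≫ (shiftFunctorAdd' (Dual.D A) i (-1) (i - 1) (by omega)).inv.app C)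
  refine ⟨s, hs, ?_⟩
  rw [← Linear.smul_comp] at h0
  have h1 : s • ψ = 0 := by
    rw [← cancel_mono ((shiftFunctorAdd' (Dual.D A) i (-1) (i - 1) (by omega)).inv.app C), zero_comp]
    exact h0
  rw [hψ, ← Linear.smul_comp, h1, zero_comp]

/-- Every map into the localization is a fraction. -/
theorem exists_fraction (hX : IsSmall X) {a : ℤ} (hY : Y.IsGE a) (i : ℤ)
    (ψ : X ⟶ ((DRing.restrictD (algebraMap A B)).obj ((extD (algebraMap A B)).obj Y))⟦i⟧) :
    ∃ s ∈ S, ∃ θ : X ⟶ Y⟦i⟧, θ ≫ etaShift (B := B) Y i = s • ψ := by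
  obtain ⟨C, g, k, hT, hC, hCge⟩ := exists_triangle_unit (B := B) S Y hY
  haveI := hCge
  obtain ⟨c, d, hge, hle, hfin⟩ := hX
  haveI := hle
  haveI : X.IsLE (c + ((d + 1 - c).toNat : ℤ) - 1) := (ts A).isLE_of_le X d _ (by omega)
  obtain ⟨s, hs, h0⟩ := torsion_hom S C (a - 1) hC (d + 1 - c).toNat c X hge inferInstance hfin i (ψ ≫ g⟦i⟧')
  obtain ⟨θ, hθ⟩ := Triangle.coyoneda_exact₂ _ (Triangle.shift_distinguished _ hT i) (s • ψ) (by
    show (s • ψ) ≫ (i.negOnePow • g⟦i⟧') = 0
    rw [Linear.comp_units_smul, Linear.smul_comp, h0, smul_zero])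
  refine ⟨s, hs, i.negOnePow • θ, ?_⟩
  rw [hθ]
  show (i.negOnePow • θ) ≫ etaShift (B := B) Y i = θ ≫ (i.negOnePow • etaShift (B := B) Y i)
  rw [Linear.units_smul_comp, Linear.comp_units_smul]

omit [IsNoetherianRing A]
  [PreservesFiniteLimits (ModuleCat.extendScalars.{u, u, u} (algebraMap A B))]
  [PreservesFiniteColimits (ModuleCat.extendScalars.{u, u, u} (algebraMap A B))] in
/-- `S` acts injectively on maps into a restricted object. -/
theorem eq_zero_of_smul {Z : Dual.D B} {i : ℤ} {s : A} (hs : s ∈ S)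
    {ψ : X ⟶ ((DRing.restrictD (algebraMap A B)).obj Z)⟦i⟧} (h0 : s • ψ = 0) : ψ = 0 := by
  let Z' := (DRing.restrictD (algebraMap A B)).obj Z
  haveI := isIso_smul_restrict (B := B) S Z ⟨s, hs⟩
  haveI : IsIso (s • 𝟙 (Z'⟦i⟧)) := by
    rw [← CategoryTheory.Functor.map_id (shiftFunctor (Dual.D A) i), ← Functor.map_smul]
    infer_instance
  rw [← cancel_mono (s • 𝟙 (Z'⟦i⟧)), zero_comp, Linear.comp_smul, Category.comp_id, h0]

/-- `Hom(G X, (G Y)⟦i⟧)` vanishes iff `Hom(X, Y⟦i⟧)` is `S`-torsion. -/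
theorem subsingleton_iff_torsion (hX : IsSmall X) {a : ℤ} (hY : Y.IsGE a) (i : ℤ) :
    Subsingleton ((extD (algebraMap A B)).obj X ⟶ ((extD (algebraMap A B)).obj Y)⟦i⟧) ↔
      ∀ θ : X ⟶ Y⟦i⟧, ∃ s ∈ S, s • θ = 0 := by
  rw [(homBij X ((extD (algebraMap A B)).obj Y) i).subsingleton_congr]
  constructor
  · intro h θ
    exact exists_kill (B := B) S hX hY i θ (Subsingleton.elim _ _)
  · intro h
    refine subsingleton_of_forall_eq 0 fun ψ => ?_
    obtain ⟨s, hs, θ, hθ⟩ := exists_fraction S hX hY i ψ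
    obtain ⟨t, ht, h0⟩ := h θ
    refine eq_zero_of_smul S (S.mul_mem ht hs) ?_
    rw [mul_smul, ← hθ, ← Linear.smul_comp, h0, zero_comp]

omit [IsNoetherianRing A] [IsLocalization S B] S in
/-- Base change of a module in degree zero. -/
noncomputable def extSingle (M : Type u) [AddCommGroup M] [Module A M] :
    (extD (algebraMap A B)).obj (Dual.inD A M) ≅
      Dual.inD B ((ModuleCat.extendScalars.{u, u, u} (algebraMap A B)).obj (ModuleCat.of A M)) :=
  ((ModuleCat.extendScalars.{u, u, u} (algebraMap A B)).mapDerivedCategorySingleFunctor 0).app (ModuleCat.of A M)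

/-- The module version. -/
theorem subsingleton_E_iff (M : Type u) [AddCommGroup M] [Module A M] [Module.Finite A M]
    {a : ℤ} (hY : Y.IsGE a) (i : ℤ) :
    Subsingleton (E ((extD (algebraMap A B)).obj Y)
        ((ModuleCat.extendScalars.{u, u, u} (algebraMap A B)).obj (ModuleCat.of A M)) i) ↔
      ∀ θ : E Y M i, ∃ s ∈ S, s • θ = 0 := by
  rw [← subsingleton_iff_torsion (B := B) S (isSmall_inD M) hY i]
  exact (Iso.homCongr (extSingle (B := B) M).symm
    (Iso.refl (((extD (algebraMap A B)).obj Y)⟦i⟧))).subsingleton_congr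

end Groth.Agent.DualLib
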