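import Groth.Agent.DualLib.Degree

/-! The dimension function of a dualizing complex. -/

set_option autoImplicit false
set_option backward.isDefEq.respectTransparency false
set_option backward.defeqAttrib.useBackward true
set_option linter.style.haveILetI false

universe u

open CategoryTheory CategoryTheory.Limits CategoryTheory.Pretriangulated

attribute [local instance] HasDerivedCategory.standard

namespace Groth.Agent.DualLib

variable {A : Type u} [CommRing A] [IsNoetherianRing A]

lemma wellFoundedLT_primeSpectrum : WellFoundedLT (PrimeSpectrum A) := by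
  refine ⟨Subrelation.wf (fun {p q} (h : p < q) => ?_)
    (InvImage.wf (fun p : PrimeSpectrum A => p.asIdeal.height.toNat) wellFounded_lt)⟩
  have h1 : p.asIdeal.height < q.asIdeal.height :=
    Ideal.height_strict_mono_of_isPrime_of_isPrime ((PrimeSpectrum.asIdeal_lt_asIdeal p q).2 h)
  show p.asIdeal.height.toNat < q.asIdeal.height.toNat
  lift p.asIdeal.height to ℕ using Ideal.height_ne_top p.2.ne_top with a
  lift q.asIdeal.height to ℕ using Ideal.height_ne_top q.2.ne_top with b
  exact_mod_cast h1

lemma exists_covBy_le {p q : PrimeSpectrum A} (h : p < q) : ∃ r, p ⋖ r ∧ r ≤ q := by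
  haveI := wellFoundedLT_primeSpectrum (A := A)
  obtain ⟨r, ⟨hpr, hrq⟩, hmin⟩ := (wellFounded_lt (α := PrimeSpectrum A)).has_min {r | p < r ∧ r ≤ q} ⟨q, h, le_rfl⟩
  exact ⟨r, ⟨hpr, fun s hs hsr => hmin s ⟨hs, hsr.le.trans hrq⟩ hsr⟩, hrq⟩

variable {ω : Dual.D A}

omit [IsNoetherianRing A] in
lemma notMem_support_of_subsingleton {M : Type*} [AddCommGroup M] [Module A M] [Subsingleton M] (q : PrimeSpectrum A) :
    q ∉ Module.support A M := by
  rw [Module.notMem_support_iff']
  exact fun z => ⟨1, fun h => q.2.ne_top ((Ideal.eq_top_iff_one _).2 h), Subsingleton.elim _ _⟩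

/-- Dévissage at a prime minimal in the support. -/
lemma notMem_support_of_min {r : PrimeSpectrum A} {i : ℤ}
    (base : r ∉ Module.support A (E ω (A ⧸ r.asIdeal) i)) (M : Type u) [AddCommGroup M] [Module A M]
    [Module.Finite A M] (hmin : ∀ q ∈ Module.support A M, q ≤ r → q = r) : r ∉ Module.support A (E ω M i) :=
  devissage (Φ := fun N => r ∉ Module.support A (E ω N i)) {q | q ≤ r → q = r}
    (fun N _ _ _ => haveI := subsingleton_of_subsingleton ω i (M := N); notMem_support_of_subsingleton r)
    (fun q hq => by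
      by_cases hqr : q ≤ r
      · exact (hq hqr).symm ▸ base
      · exact notMem_support_of_kills (annihilator_le_annihilator ω i) (by rw [Ideal.annihilator_quotient]; exact hqr))
    (fun N N' _ _ _ _ f h => by rwa [← (econgr ω f i).symm.support_eq])
    (fun N₁ N₂ N₃ _ _ _ _ _ _ _ _ _ f g hf hg hfg h₁ h₃ => notMem_support_of_exact (exact_emap hf hg hfg i) h₃ h₁)
    M hmin

/-- Non-vanishing at a prime minimal in the support, in the distinguished degree. -/
lemma mem_support_of_min {r : PrimeSpectrum A} {c : ℤ}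
    (base : ∀ i, r ∈ Module.support A (E ω (A ⧸ r.asIdeal) i) ↔ i = c) (M : Type u) [AddCommGroup M] [Module A M]
    [Module.Finite A M] (hmin : ∀ q ∈ Module.support A M, q ≤ r → q = r) (hr : r ∈ Module.support A M) :
    r ∈ Module.support A (E ω M c) := by
  revert hmin hr
  refine devissage (Φ := fun N [AddCommGroup N] [Module A N] => (∀ q ∈ Module.support A N, q ≤ r → q = r) →
    r ∈ Module.support A N → r ∈ Module.support A (E ω N c)) Set.univ ?_ ?_ ?_ ?_ M (Set.subset_univ _)
  · intro N _ _ _ _ hc
    exact absurd hc (notMem_support_of_subsingleton r)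
  · intro q _ hq hc
    have hsq : Module.support A (A ⧸ q.asIdeal) = PrimeSpectrum.zeroLocus (q.asIdeal : Set A) := by
      rw [Module.support_eq_zeroLocus, Ideal.annihilator_quotient]
    rw [hsq] at hc
    obtain rfl := hq q (by rw [hsq]; exact le_refl q.asIdeal) hc
    exact (base c).2 rfl
  · intro N N' _ _ _ _ f h hmin hc
    rw [← (econgr ω f _).symm.support_eq]
    rw [← f.support_eq] at hmin hc
    exact h hmin hc
  · intro N₁ N₂ N₃ _ _ _ _ _ _ _ _ _ f g hf hg hfg h₁ h₃ hmin hc
    have hu := Module.support_of_exact hfg hf hg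
    have m₁ : ∀ q ∈ Module.support A N₁, q ≤ r → q = r := fun q hq => hmin q (hu ▸ Or.inl hq)
    have m₃ : ∀ q ∈ Module.support A N₃, q ≤ r → q = r := fun q hq => hmin q (hu ▸ Or.inr hq)
    rw [hu] at hc
    by_contra hE
    rcases hc with hc | hc
    · obtain ⟨d, hd, -⟩ := exists_delta (W := ω) hf hg hfg c (c + 1) rfl
      exact notMem_support_of_exact hd hE
        (notMem_support_of_min (fun h => by have := (base _).1 h; omega) N₃ m₃) (h₁ m₁ hc)
    · obtain ⟨d, -, hd⟩ := exists_delta (W := ω) hf hg hfg (c - 1) c (by omega)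
      exact notMem_support_of_exact hd
        (notMem_support_of_min (fun h => by have := (base _).1 h; omega) N₁ m₁) hE (h₃ m₃ hc)

variable (hω : Dual.IsDualizing A ω)
include hω

/-- Crossing a covering relation lowers the degree by one. -/
theorem step_degree {p r : PrimeSpectrum A} (hpr : p ⋖ r) {c : ℤ}
    (base : ∀ i, r ∈ Module.support A (E ω (A ⧸ r.asIdeal) i) ↔ i = c) (i : ℤ) :
    p ∈ Module.support A (E ω (A ⧸ p.asIdeal) i) ↔ i = c - 1 := by
  have hmin : ∀ x, x ∉ p.asIdeal → ∀ q ∈ Module.support A (modQ p x), q ≤ r → q = r := fun x hx q hq hqr => by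
    by_contra hne
    exact hpr.2 (support_modQ_gt hx hq) (lt_of_le_of_ne hqr hne)
  have hN : ∀ x, x ∉ p.asIdeal → ∀ j, j ≠ c → r ∉ Module.support A (E ω (modQ p x) j) := fun x hx j hj =>
    notMem_support_of_min (fun h => hj ((base j).1 h)) _ (hmin x hx)
  obtain ⟨x, hxr, hxp⟩ := SetLike.exists_of_lt ((PrimeSpectrum.asIdeal_lt_asIdeal p r).2 hpr.1)
  have hvan : ∀ j, j ≠ c - 1 → r ∉ Module.support A (E ω (A ⧸ p.asIdeal) j) := fun j hj =>
    notMem_support_step hω (injective_smul hxp) hxr j (hN x hxp (j + 1) (by omega))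
  constructor
  · intro h
    by_contra hi
    exact hvan i hi (Module.mem_support_mono hpr.1.le h)
  rintro rfl
  have hrN : r ∈ Module.support A (modQ p x) := by
    rw [Module.mem_support_iff_of_finite]
    intro a ha
    have h1 : a • Submodule.Quotient.mk (Ideal.Quotient.mk p.asIdeal 1) = (0 : modQ p x) :=
      Module.mem_annihilator.1 ha _
    rw [← Submodule.Quotient.mk_smul, Submodule.Quotient.mk_eq_zero] at h1
    obtain ⟨y, hy⟩ := h1
    obtain ⟨y, rfl⟩ := Ideal.Quotient.mk_surjective y
    change Ideal.Quotient.mk p.asIdeal (x * y) = Ideal.Quotient.mk p.asIdeal (a * 1) at hy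
    rw [mul_one, eq_comm, Ideal.Quotient.eq] at hy
    have := r.asIdeal.add_mem (hpr.1.le hy) (r.asIdeal.mul_mem_right y hxr)
    rwa [sub_add_cancel] at this
  have hrE := mem_support_of_min base (modQ p x) (hmin x hxp) hrN
  have h1 : r ∈ Module.support A (E ω (A ⧸ p.asIdeal) (c - 1)) := by
    obtain ⟨d, -, hd⟩ := exists_delta (W := ω) (injective_smul hxp) (Submodule.mkQ_surjective _)
      (LinearMap.exact_map_mkQ_range _) (c - 1) c (by omega)
    by_contra hc
    exact notMem_support_of_exact hd hc (hvan c (by omega)) hrE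
  obtain ⟨z, hz⟩ := Module.mem_support_iff'.1 h1
  refine Module.mem_support_iff'.2 ⟨z, fun s hs hsz => ?_⟩
  obtain ⟨ψ, hψ⟩ := (exact_emap (W := ω) (injective_smul hs) (Submodule.mkQ_surjective _)
    (LinearMap.exact_map_mkQ_range _) (c - 1) z).1 (by rw [emap_smul_id, hsz])
  obtain ⟨t, ht, htψ⟩ := Module.notMem_support_iff'.1 (hN s hs (c - 1) (by omega)) ψ
  exact hz t ht (by rw [← hψ, ← map_smul, htψ, map_zero])

/-- Every prime has exactly one degree. -/
theorem exists_degree_prime (p : PrimeSpectrum A) :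
    ∃ c : ℤ, ∀ i, p ∈ Module.support A (E ω (A ⧸ p.asIdeal) i) ↔ i = c := by
  haveI := wellFoundedGT_primeSpectrum (A := A)
  induction p using WellFoundedGT.induction with
  | ind p ih =>
    by_cases hp : p.asIdeal.IsMaximal
    · obtain ⟨n, h1, ⟨e⟩⟩ := exists_degree_maximal p.asIdeal hω
      refine ⟨n, fun i => ⟨fun h => ?_, ?_⟩⟩
      · by_contra hi
        haveI := h1 i hi
        exact notMem_support_of_subsingleton p h
      · rintro rfl
        rw [e.support_eq, Module.support_eq_zeroLocus, Ideal.annihilator_quotient]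
        exact le_refl p.asIdeal
    · obtain ⟨m, hm, hle⟩ := p.asIdeal.exists_le_maximal p.2.ne_top
      have hlt : p < ⟨m, hm.isPrime⟩ := lt_of_le_of_ne hle fun e => hp (by rw [e]; exact hm)
      obtain ⟨r, hr, -⟩ := exists_covBy_le hlt
      obtain ⟨c, hc⟩ := ih r hr.1
      exact ⟨c - 1, fun i => step_degree hω hr hc i⟩

/-- The degree of a prime. -/
noncomputable def deg (p : PrimeSpectrum A) : ℤ := (exists_degree_prime hω p).choose

lemma deg_spec (p : PrimeSpectrum A) (i : ℤ) :
    p ∈ Module.support A (E ω (A ⧸ p.asIdeal) i) ↔ i = deg hω p :=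
  (exists_degree_prime hω p).choose_spec i

lemma deg_covBy {p r : PrimeSpectrum A} (h : p ⋖ r) : deg hω p = deg hω r - 1 :=
  ((step_degree hω h (deg_spec hω r) _).1 ((deg_spec hω p _).2 rfl))

lemma deg_lt {p q : PrimeSpectrum A} (h : p < q) : deg hω p < deg hω q := by
  haveI := wellFoundedGT_primeSpectrum (A := A)
  induction p using WellFoundedGT.induction with
  | ind p ih =>
    obtain ⟨r, hr, hrq⟩ := exists_covBy_le h
    have h1 := deg_covBy hω hr
    rcases hrq.lt_or_eq with h2 | rfl
    · have := ih r hr.1 h2; omega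
    · omega

/-- A ring with a dualizing complex has finite dimension. -/
theorem exists_ringKrullDim_le : ∃ N : ℕ, ringKrullDim A ≤ (N : WithBot ℕ∞) := by
  obtain ⟨lo, hi, hbd⟩ := hω.finite_injective_dimension
  have hr : ∀ p, lo ≤ deg hω p ∧ deg hω p ≤ hi := fun p => by
    by_contra hc
    haveI := hbd (A ⧸ p.asIdeal) (deg hω p) (by omega)
    exact notMem_support_of_subsingleton p ((deg_spec hω p _).2 rfl)
  refine ⟨(hi - lo).toNat, iSup_le fun s => ?_⟩
  have key : ∀ j : Fin (s.length + 1), deg hω s.head + (j : ℤ) ≤ deg hω (s j) := by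
    intro j
    induction j using Fin.induction with
    | zero => simp [RelSeries.head]
    | succ j ih =>
      have := deg_lt hω (s.step j)
      simp only [Fin.val_succ, Fin.val_castSucc] at ih ⊢
      push_cast
      omega
  have h1 := key (Fin.last _)
  have h2 := hr s.head
  have h3 := hr (s (Fin.last _))
  simp only [Fin.val_last] at h1
  exact_mod_cast (show s.length ≤ (hi - lo).toNat by omega)

end Groth.Agent.DualLib
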