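import Groth.Agent.DualLib.Lichtenbaum
import Groth.Agent.Coherent.SubFTMod
import Groth.Agent.SerreDual.PushEquiv
import Groth.Agent.H8Lim.ModEq

/-!
# Finiteness of the top cohomology of a separated scheme of finite type over a field
-/

set_option autoImplicit false
set_option backward.isDefEq.respectTransparency false
set_option linter.style.haveILetI false

universe u

open CategoryTheory CategoryTheory.Limits AlgebraicGeometry Opposite TopologicalSpace
open Groth.Agent.Coherent Groth.Agent.PicLib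

namespace Groth.Agent.DualLib.TopFinite

/-- A closed set containing no component has smaller dimension. -/
theorem dim_lt_of_components {T : Type u} [TopologicalSpace T] {d : ℕ}
    (hd : topologicalKrullDim T ≤ d) {B : Set T} (hB : IsClosed B)
    (h : ∀ C ∈ irreducibleComponents T, ¬ C ⊆ B) : topologicalKrullDim B < (d : WithBot ℕ∞) := by
  by_contra hlt
  rw [not_lt] at hlt
  obtain ⟨l, hl⟩ := Order.le_krullDim_iff.1 hlt
  let F : IrreducibleCloseds B → IrreducibleCloseds T := fun Z =>
    ⟨Subtype.val '' (Z : Set B), Z.isIrreducible.image _ continuous_subtype_val.continuousOn,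
      hB.isClosedEmbedding_subtypeVal.isClosedMap _ Z.isClosed⟩
  have hF : StrictMono F := fun a b hab => by
    refine lt_of_le_of_ne (α := IrreducibleCloseds T) (Set.image_mono hab.le) fun e => hab.ne ?_
    exact IrreducibleCloseds.ext (Subtype.val_injective.image_injective (congrArg (fun Z : IrreducibleCloseds T => (Z : Set T)) e))
  let m := l.map F hF
  obtain ⟨C, hC, hle⟩ := exists_mem_irreducibleComponents_subset_of_isIrreducible _ m.last.isIrreducible
  let C' : IrreducibleCloseds T := ⟨C, hC.1, isClosed_of_mem_irreducibleComponents C hC⟩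
  have hlt' : m.last < C' := by
    refine lt_of_le_of_ne (α := IrreducibleCloseds T) hle fun e => h C hC ?_
    have e' : (m.last : Set T) = C := congrArg (fun Z : IrreducibleCloseds T => (Z : Set T)) e
    rw [← e', show m.last = F l.last from LTSeries.last_map l F hF]
    rintro _ ⟨y, -, rfl⟩
    exact y.2
  have h2 := (TopDim.length_le_dim (m.snoc C' hlt')).trans hd
  have hlen : (m.snoc C' hlt').length = d + 1 := by
    simp [m, hl]
  rw [hlen] at h2
  exact absurd (Nat.cast_le.1 h2) (by omega)

section Main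

variable {P U : Scheme.{u}} (j : U ⟶ P) [IsOpenImmersion j] [IsAffineHom j] [CompactSpace U]
variable {k : Type u} [Field k] [P.Over (Spec (CommRingCat.of k))] [IsProper (P ↘ Spec (CommRingCat.of k))]
  [U.Over (Spec (CommRingCat.of k))]

/-- Top cohomology of coherent modules on an affinely embedded dense open of a proper scheme. -/
theorem finite_HH_top (hj : j ≫ (P ↘ Spec (CommRingCat.of k)) = U ↘ Spec (CommRingCat.of k)) {d : ℕ}
    (hB : topologicalKrullDim ((j.opensRange : Set P)ᶜ : Set P) < (d : WithBot ℕ∞))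
    (F : U.Modules) (hF : Coh.IsCoh F) : Module.Finite k (Coh.HH U F d) := by
  classical
  haveI := EulerLib.isNoetherian_of_proper (k := k) (X := P)
  haveI : P.IsSeparated := EulerLib.isSeparated_of_proper (X := P) k
  haveI := hF.1
  haveI : Coh.IsQCoh ((Coh.push j).obj F) := isQCoh_push j F
  let M := (Coh.push j).obj F
  -- finite generation over the image of `j`
  have hfin : ∀ V : P.Opens, IsAffineOpen V → V ≤ j.opensRange → Module.Finite Γ(P, V) Γ(M, V) := by
    intro V hV hVr
    haveI := ((isCoh_iff_finite_sections F).1 hF).2 (j ⁻¹ᵁ V) (hV.preimage j)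
    obtain ⟨s, hs⟩ := Module.Finite.fg_top (R := Γ(U, j ⁻¹ᵁ V)) (M := Γ(F, j ⁻¹ᵁ V))
    haveI := j.isIso_app V hVr
    suffices h : ∀ x ∈ Submodule.span Γ(U, j ⁻¹ᵁ V) (s : Set Γ(F, j ⁻¹ᵁ V)),
        (show Γ(M, V) from x) ∈ Submodule.span Γ(P, V) (show Set Γ(M, V) from (s : Set Γ(F, j ⁻¹ᵁ V))) from
      ⟨⟨s, top_unique fun x _ => h x (hs ▸ trivial)⟩⟩
    intro x hx
    induction hx using Submodule.span_induction with
    | mem y hy => exact Submodule.subset_span hy
    | zero => exact zero_mem _
    | add y z _ _ hy hz => exact add_mem hy hz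
    | smul c y _ hy =>
      obtain ⟨a, rfl⟩ := (ConcreteCategory.bijective_of_isIso (j.app V)).2 c
      exact Submodule.smul_mem _ a hy
  have hloc : ∀ x : U, ∃ V : P.Opens, IsAffineOpen V ∧ V ≤ j.opensRange ∧ j x ∈ V := fun x => by
    obtain ⟨V, hV, hxV, hle⟩ := exists_isAffineOpen_mem_and_subset (x := j x) (U := j.opensRange) ⟨x, rfl⟩
    exact ⟨V, hV, hle, hxV⟩
  choose V hV hVr hxV using hloc
  obtain ⟨t, ht⟩ := CompactSpace.elim_nhds_subcover (fun x : U => ((j ⁻¹ᵁ V x : U.Opens) : Set U))
    fun x => (j ⁻¹ᵁ V x).isOpen.mem_nhds (hxV x)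
  have H : ∀ i : t, ∃ Q : SubM M, Q.Good ⊤ ∧ ∀ a : Γ(M, V i), a ∈ Q.carrier (V i) := fun i => by
    haveI := hfin (V i) (hV i) (hVr i)
    obtain ⟨n, y, hy⟩ := Module.Finite.exists_fin (R := Γ(P, V i)) (M := Γ(M, V i))
    obtain ⟨Q, hQ, hmem⟩ := exists_good_containing_qcqs (F := M) (hV i).isCompact
      (fun q : ULift.{u} (Fin n) => y q.down)
    refine ⟨Q, hQ, fun a => ?_⟩
    have ha : a ∈ Submodule.span Γ(P, V i) (Set.range y) := hy ▸ trivial
    exact Submodule.span_le.2 (Set.range_subset_iff.2 fun q => hmem ⟨q⟩) ha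
  choose Q hQ hmem using H
  let G := SubM.sum Q
  have hG : G.Good ⊤ := SubM.good_sum Q hQ
  have hGc : Coh.IsCoh G.toMod := ⟨SubM.isQCoh hG, SubM.isFT hG⟩
  haveI := hGc.1
  -- the cokernel lives on the boundary
  let C := cokernel G.toι
  let π : M ⟶ C := cokernel.π G.toι
  haveI : Coh.IsQCoh C := isQCoh_cokernel G.toι
  have hsupp : CohB1.support C ⊆ (j.opensRange : Set P)ᶜ := by
    intro z hz hzr
    refine hz ?_
    obtain ⟨x, rfl⟩ := hzr
    obtain ⟨y, hy, hxy⟩ := Set.mem_iUnion₂.1 (ht.ge (Set.mem_univ x))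
    have hzV : j x ∈ V y := hxy
    refine subsingleton_of_forall_eq 0 fun a => ?_
    obtain ⟨f, g, hzf, hg⟩ := QCohLoc.exists_smul_stalk_eq_germ C (hV y) hzV a
    suffices h0 : g = 0 by
      rw [h0, map_zero] at hg
      exact ((Scheme.mem_basicOpen _ _ _ hzV).1 hzf).smul_eq_zero.1 hg
    obtain ⟨b, rfl⟩ := Coherent.Existence.app_surjective_of_epi π (hV y) g
    obtain ⟨c, rfl⟩ := G.mem_range_toι.2 (SubM.le_sum Q ⟨y, hy⟩ _ (hmem ⟨y, hy⟩ b))
    show (G.toι ≫ π).app (V y) c = 0
    rw [show G.toι ≫ π = 0 from cokernel.condition _]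
    rfl
  haveI hC : Subsingleton (Coh.HH P C d) :=
    EulerLib.subsingleton_HH_of_support ⟨_, j.opensRange.isOpen.isClosed_compl⟩ C inferInstance hsupp d hB
  let S : ShortComplex P.Modules := ShortComplex.mk G.toι π (cokernel.condition _)
  have hS : S.ShortExact :=
    { exact := ShortComplex.exact_of_g_is_cokernel _ (cokernelIsCokernel _)
      mono_f := inferInstanceAs (Mono G.toι)
      epi_g := inferInstanceAs (Epi (cokernel.π G.toι)) }
  haveI : Module.Finite k (Coh.HH P G.toMod d) := (finite_HH_iff k _ d).2 (finCoh_of_isProper (P ↘ Spec (CommRingCat.of k)) _ hGc d)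
  have hsurj : Function.Surjective (SerreDual.hmap k S.f d) := fun x =>
    ((SerreDual.exact_hmap k hS d) x).1 (@Subsingleton.elim _ hC _ _)
  haveI : Module.Finite k (Coh.HH P M d) := Module.Finite.of_surjective _ hsurj
  exact Module.Finite.equiv (SerreDual.hpush j k hj F d).symm

end Main

/-- The top cohomology of a coherent module on a separated scheme of finite type over a field is finite. -/
theorem finite_top {k : Type u} [Field k] {U : Scheme.{u}} [U.Over (Spec (CommRingCat.of k))]
    [IsSeparated (U ↘ Spec (CommRingCat.of k))] [LocallyOfFiniteType (U ↘ Spec (CommRingCat.of k))]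
    [QuasiCompact (U ↘ Spec (CommRingCat.of k))] {d : ℕ} (hd : topologicalKrullDim U ≤ d)
    (F : U.Modules) (hF : Coh.IsCoh F) : Module.Finite k (Coh.HH U F d) := by
  let f := U ↘ Spec (CommRingCat.of k)
  obtain ⟨X₁, j₁, p₁, hj₁, hqc, hp₁, e₁⟩ := FlatMorAdm.compactifiable f
  haveI := hj₁; haveI := hqc; haveI := hp₁
  haveI : IsLocallyNoetherian X₁ := LocallyOfFiniteType.isLocallyNoetherian p₁
  haveI : CompactSpace X₁ := QuasiCompact.compactSpace_of_compactSpace p₁
  obtain ⟨X₂, j₂, b, hj₂a, hb, e₂⟩ := H8Lim.exists_isAffineHom_into_proper j₁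
  haveI := hj₂a; haveI := hb
  haveI : IsImmersion j₂ := by
    have : IsImmersion (j₂ ≫ b) := e₂ ▸ inferInstance
    exact IsImmersion.of_comp j₂ b
  let j := j₂.toImage
  haveI : IsOpenImmersion j := inferInstanceAs (IsOpenImmersion j₂.toImage)
  haveI : IsAffineHom j := by
    have : IsAffineHom (j₂.toImage ≫ j₂.imageι) := by rw [Scheme.Hom.toImage_imageι]; infer_instance
    exact IsAffineHom.of_comp j₂.toImage j₂.imageι
  let p := j₂.imageι ≫ b ≫ p₁
  haveI : IsProper p := inferInstance
  letI : j₂.image.Over (Spec (CommRingCat.of k)) := ⟨p⟩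
  haveI : IsProper (j₂.image ↘ Spec (CommRingCat.of k)) := ‹IsProper p›
  have hjp : j ≫ p = f := by
    show j₂.toImage ≫ j₂.imageι ≫ b ≫ p₁ = f
    rw [Scheme.Hom.toImage_imageι_assoc, reassoc_of% e₂, e₁]
  have hdense : DenseRange j := (inferInstance : IsDominant j₂.toImage).denseRange
  haveI : IsNoetherian j₂.image := EulerLib.isNoetherian_of_proper (k := k) (X := j₂.image)
  have hmeet : ∀ C ∈ irreducibleComponents j₂.image, ∃ η ∈ j.opensRange, closure ({η} : Set j₂.image) = C := by
    intro C hC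
    obtain ⟨η, hη⟩ := QuasiSober.sober hC.1 (isClosed_of_mem_irreducibleComponents C hC)
    obtain ⟨O, hO, hne, hOC⟩ := NoetherianSpace.exists_isOpen_nonempty_subset_irreducibleComponent C hC
    obtain ⟨v, hvO, hvU⟩ := hdense.inter_open_nonempty O hO hne
    exact ⟨η, (hη.specializes (hOC hvO)).mem_open j.opensRange.isOpen hvU, hη.def⟩
  have hdim : topologicalKrullDim j₂.image ≤ (d : WithBot ℕ∞) := by
    refine TopDim.dim_le_iff.2 fun l => ?_
    obtain ⟨C, hC, hle⟩ := exists_mem_irreducibleComponents_subset_of_isIrreducible _ l.last.isIrreducible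
    refine (TopDim.le_dim_of_subset l C hle).trans ?_
    obtain ⟨η, hη, rfl⟩ := hmeet C hC
    rw [← Lichtenbaum.dim_inter_closure p j.opensRange hη]
    refine ((Topology.IsEmbedding.inclusion Set.inter_subset_left).isInducing.topologicalKrullDim_le).trans ?_
    exact (le_of_eq (EGA43.DimFormula.topologicalKrullDim_eq_of_range j j.isOpenEmbedding.isEmbedding _ rfl)).trans hd
  haveI : CompactSpace U := QuasiCompact.compactSpace_of_compactSpace f
  refine finite_HH_top j hjp (dim_lt_of_components hdim j.opensRange.isOpen.isClosed_compl fun C hC hle => ?_) F hF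
  obtain ⟨η, hη, rfl⟩ := hmeet C hC
  exact hle (subset_closure rfl) hη

end Groth.Agent.DualLib.TopFinite
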