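import Groth.Agent.H8Lim.TopDegreeApps
import Groth.Agent.FlatMorStrat.QcqsColim
import Groth.Agent.SerreDual.Exist
import Groth.Agent.TopDim.Basic

/-!
# The relative dualizing module of a proper morphism to an affine scheme

`H^n` is a colimit preserving functor on quasi-coherent modules when the fibres have dimension at
most `n`, hence `F ↦ Hom_A(H^n(X, F), A)` is representable.
-/

set_option autoImplicit false
set_option linter.style.haveILetI false

universe u

open CategoryTheory CategoryTheory.Limits AlgebraicGeometry Opposite TopologicalSpace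
open Groth.Agent.Coherent Groth.Agent.EulerLib

namespace Groth.Agent.DualLib.RelMod

variable (A : Type u) [CommRing A] {X : Scheme.{u}} [X.Over (Spec (CommRingCat.of A))]

/-- A space all of whose irreducible components have dimension at most `r` has dimension at most `r`. -/
theorem dim_le_of_components {T : Type u} [TopologicalSpace T] {r : WithBot ℕ∞} {n : ℕ} (hr : r = n)
    (h : ∀ Z : Set T, Z ∈ irreducibleComponents T → topologicalKrullDim Z = r) :
    topologicalKrullDim T ≤ r := by
  subst hr
  refine TopDim.dim_le_iff.2 fun l => ?_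
  obtain ⟨Z, hZ, hle⟩ := exists_mem_irreducibleComponents_subset_of_isIrreducible _ l.last.isIrreducible
  exact (TopDim.le_dim_of_subset l Z hle).trans (h Z hZ).le

/-- The group structure of `HH`, as a constant. -/
@[reducible] noncomputable def hhAddCommGroup (M : X.Modules) (q : ℕ) : AddCommGroup (Coh.HH X M q) :=
  inferInstance

attribute [local instance] hhAddCommGroup

/-- The module structure of `HH`, as a constant. -/
@[reducible] noncomputable def hhModule (M : X.Modules) (q : ℕ) : Module A (Coh.HH X M q) :=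
  Coh.moduleOver A X M q

attribute [local instance] hhModule

/-- `HHBaseEquiv`, for the instances above. -/
noncomputable def hBE (M : X.Modules) (q : ℕ) :
    Coh.HH X M q ≃ₗ[A] HA (baseHom A X) M (⊤ : X.Opens) q := HHBaseEquiv A M q

theorem hhBaseEquiv_natural {M N : X.Modules} (f : M ⟶ N) (q : ℕ) (x : Coh.HH X M q) :
    HHBaseEquiv A N q (Sheaf.H.map ((SheafOfModules.toSheaf X.ringCatSheaf).map f) q x) =
      postA (baseHom A X) f ⊤ q (HHBaseEquiv A M q x) := by
  obtain ⟨z, rfl⟩ := (H'TopEquiv (X := X.toTopCat) (Coh.toAb M) q).surjective x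
  refine (congrArg (H'TopEquiv (X := X.toTopCat) (Coh.toAb N) q).symm
    (H'TopEquiv_naturality (X := X.toTopCat) ((toAbFunctor X).map f) q z).symm).trans ?_
  refine ((H'TopEquiv (X := X.toTopCat) (Coh.toAb N) q).symm_apply_apply _).trans ?_
  exact congrArg (postHM f q (⊤ : X.Opens))
    ((H'TopEquiv (X := X.toTopCat) (Coh.toAb M) q).symm_apply_apply z).symm

/-- `H^q(f)`, linearly over the base ring. -/
noncomputable def hmap {M N : X.Modules} (f : M ⟶ N) (q : ℕ) : Coh.HH X M q →ₗ[A] Coh.HH X N q :=
  (hBE A N q).symm.toLinearMap ∘ₗ postA (baseHom A X) f ⊤ q ∘ₗ (hBE A M q).toLinearMap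

theorem hmap_eq {M N : X.Modules} (f : M ⟶ N) (q : ℕ) (x : Coh.HH X M q) :
    hmap A f q x = Sheaf.H.map ((SheafOfModules.toSheaf X.ringCatSheaf).map f) q x := by
  apply (hBE A N q).injective
  refine Eq.trans ?_ (hhBaseEquiv_natural A f q x).symm
  exact LinearEquiv.apply_symm_apply _ _

theorem hmap_id (M : X.Modules) (q : ℕ) : hmap A (𝟙 M) q = LinearMap.id := LinearMap.ext fun x =>
  (congrArg (hBE A M q).symm (postHM_id M q ⊤ (hBE A M q x))).trans
    ((hBE A M q).symm_apply_apply x)

theorem hmap_comp {M N P : X.Modules} (f : M ⟶ N) (g : N ⟶ P) (q : ℕ) :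
    hmap A (f ≫ g) q = hmap A g q ∘ₗ hmap A f q := LinearMap.ext fun x => by
  refine (congrArg (hBE A P q).symm (postHM_comp f g q ⊤ (hBE A M q x))).trans ?_
  exact congrArg (fun z => (hBE A P q).symm (postA (baseHom A X) g ⊤ q z))
    ((hBE A N q).apply_symm_apply _).symm

theorem hmap_add {M N : X.Modules} (f g : M ⟶ N) (q : ℕ) :
    hmap A (f + g) q = hmap A f q + hmap A g q := LinearMap.ext fun x =>
  (congrArg (hBE A N q).symm (postHM_add f g q ⊤ (hBE A M q x))).trans
    ((hBE A N q).symm.map_add _ _)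

theorem exact_hmap {S : ShortComplex X.Modules} (hS : S.ShortExact) (q : ℕ) :
    Function.Exact (hmap A S.f q) (hmap A S.g q) := fun x => by
  simp only [hmap, LinearMap.coe_comp, LinearEquiv.coe_coe, Function.comp_apply, LinearEquiv.map_eq_zero_iff]
  rw [exact_postA (baseHom A X) hS ⊤ q (hBE A S.X₂ q x)]
  constructor
  · rintro ⟨y, hy⟩
    exact ⟨(hBE A S.X₁ q).symm y, by
      simp only [Function.comp_apply, LinearEquiv.apply_symm_apply, hy, LinearEquiv.symm_apply_apply]⟩
  · rintro ⟨y, hy⟩
    exact ⟨hBE A S.X₁ q y, by rw [← hy]; simp only [Function.comp_apply, LinearEquiv.apply_symm_apply]⟩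

theorem hmap_surjective {S : ShortComplex X.Modules} (hS : S.ShortExact) (q : ℕ)
    (h : Subsingleton (Coh.HH X S.X₁ (q + 1))) : Function.Surjective (hmap A S.g q) := fun z => by
  haveI : Subsingleton (HA (baseHom A X) S.X₁ (⊤ : X.Opens) (q + 1)) :=
    (hBE A S.X₁ (q + 1)).symm.toEquiv.subsingleton
  obtain ⟨y, hy⟩ := (exact_postA_deltaA (baseHom A X) hS ⊤ q (hBE A S.X₃ q z)).1 (Subsingleton.elim _ _)
  refine ⟨(hBE A S.X₂ q).symm y, ?_⟩
  simp only [hmap, LinearMap.coe_comp, LinearEquiv.coe_coe, Function.comp_apply,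
    LinearEquiv.apply_symm_apply, hy, LinearEquiv.symm_apply_apply]

attribute [irreducible] hmap

/-- Cohomology of a proper scheme over an affine base vanishes above the fibre dimension. -/
theorem subsingleton_HH_of_fibres [IsProper (X ↘ Spec (CommRingCat.of A))] {n : ℕ}
    (hd : ∀ y, topologicalKrullDim ↥((X ↘ Spec (CommRingCat.of A)).fiber y) ≤ n)
    (M : X.Modules) [Coh.IsQCoh M] (p : ℕ) (hp : n < p) : Subsingleton (Coh.HH X M p) := by
  let π := X ↘ Spec (CommRingCat.of A)
  haveI : CompactSpace X := QuasiCompact.compactSpace_of_compactSpace π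
  haveI : QuasiSeparatedSpace X := quasiSeparatedSpace_of_quasiSeparated π
  refine H8Lim.subsingleton_HH_of_stalks π M p fun y => ?_
  obtain ⟨V, hy, hV, hm⟩ := H8Lim.exists_model_nhd π y n (hd y)
  haveI : IsAffine V.toScheme := hV
  exact H8Lim.isZero_stalk_rpushAb_of_restrict π V M p y hy (hm.isZero_rpushAb _ p hp)

/-- `H^n` on quasi-coherent modules, valued in `A`-modules. -/
noncomputable def Hn (X : Scheme.{u}) [X.Over (Spec (CommRingCat.of A))] (n : ℕ) :
    QCohCat.QCoh X ⥤ ModuleCat.{u} A where
  obj M := ModuleCat.of A (Coh.HH X M.obj n)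
  map f := ModuleCat.ofHom (hmap A f.hom n)
  map_id M := congrArg ModuleCat.ofHom (hmap_id A M.obj n)
  map_comp f g := congrArg ModuleCat.ofHom (hmap_comp A f.hom g.hom n)

instance (n : ℕ) : (Hn A X n).Additive where
  map_add {_ _ f g} := ModuleCat.hom_ext (hmap_add A f.hom g.hom n)

/-- `H^n` after forgetting the scalars. -/
noncomputable def HnIso (n : ℕ) : Hn A X n ⋙ forget₂ (ModuleCat.{u} A) AddCommGrpCat.{u} ≅
    (QCohCat.isQCoh X).ι ⋙ SheafOfModules.toSheaf.{u} X.ringCatSheaf ⋙
      Sheaf.functorH (Opens.grothendieckTopology X) n :=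
  NatIso.ofComponents (fun M => Iso.refl _) fun {M N} f => by
    simp only [Iso.refl_hom]
    ext x
    exact hmap_eq A f.hom n x

variable [IsProper (X ↘ Spec (CommRingCat.of A))] {n : ℕ}
variable (hd : ∀ y, topologicalKrullDim ↥((X ↘ Spec (CommRingCat.of A)).fiber y) ≤ n)

include hd

theorem exact_hmap_of_exact {S : ShortComplex X.Modules} (hS : S.Exact) (hg : Epi S.g)
    [Coh.IsQCoh S.X₁] [Coh.IsQCoh S.X₂] :
    Function.Exact (hmap A S.f n) (hmap A S.g n) ∧ Function.Surjective (hmap A S.g n) := by
  haveI := hg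
  let ι := Abelian.image.ι S.f
  haveI hI : Coh.IsQCoh (Abelian.image S.f) := isQCoh_image S.f
  haveI hK : Coh.IsQCoh (kernel S.f) := isQCoh_kernel S.f
  let S₁ : ShortComplex X.Modules := ShortComplex.mk (kernel.ι S.f) (Abelian.factorThruImage S.f) (by
    rw [← cancel_mono ι, Category.assoc, Abelian.image.fac, kernel.condition, zero_comp])
  have hS₁ : S₁.ShortExact :=
    { mono_f := inferInstanceAs (Mono (kernel.ι S.f))
      epi_g := inferInstanceAs (Epi (Abelian.factorThruImage S.f))
      exact := ShortComplex.exact_of_f_is_kernel _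
        (isKernelOfComp (f := Abelian.factorThruImage S.f) ι S.f (kernelIsKernel S.f) S₁.zero (Abelian.image.fac S.f)) }
  let S₂ : ShortComplex X.Modules := ShortComplex.mk ι S.g (by
    rw [← cancel_epi (Abelian.factorThruImage S.f), ← Category.assoc, Abelian.image.fac, S.zero, comp_zero])
  let φ : S ⟶ S₂ := { τ₁ := Abelian.factorThruImage S.f, τ₂ := 𝟙 _, τ₃ := 𝟙 _ }
  haveI : Epi φ.τ₁ := inferInstanceAs (Epi (Abelian.factorThruImage S.f))
  haveI : IsIso φ.τ₂ := inferInstanceAs (IsIso (𝟙 S.X₂))
  haveI : Mono φ.τ₃ := inferInstanceAs (Mono (𝟙 S.X₃))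
  have hS₂ : S₂.ShortExact :=
    { exact := (ShortComplex.exact_iff_of_epi_of_isIso_of_mono φ).1 hS
      mono_f := inferInstanceAs (Mono (Abelian.image.ι S.f))
      epi_g := hg }
  have h1 : Function.Surjective (hmap A S₁.g n) :=
    hmap_surjective A hS₁ n (subsingleton_HH_of_fibres A hd (kernel S.f) (n + 1) (Nat.lt_succ_self n))
  have h2 : Function.Surjective (hmap A S₂.g n) :=
    hmap_surjective A hS₂ n (subsingleton_HH_of_fibres A hd (Abelian.image S.f) (n + 1) (Nat.lt_succ_self n))
  refine ⟨?_, h2⟩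
  have e : hmap A S.f n = hmap A S₂.f n ∘ₗ hmap A S₁.g n := by
    rw [← hmap_comp]
    exact congrArg (fun ψ => hmap A ψ n) (Abelian.image.fac S.f).symm
  intro x
  refine (exact_hmap A hS₂ n x).trans ?_
  rw [e, LinearMap.coe_comp, Set.range_comp, h1.range_eq, Set.image_univ]

theorem preservesColimits_Hn : PreservesColimitsOfSize.{u, u} (Hn A X n) := by
  let π := X ↘ Spec (CommRingCat.of A)
  haveI : CompactSpace X := QuasiCompact.compactSpace_of_compactSpace π
  haveI : QuasiSeparatedSpace X := quasiSeparatedSpace_of_quasiSeparated π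
  haveI : HasBinaryBiproducts (QCohCat.QCoh X) := HasBinaryBiproducts.of_hasBinaryCoproducts
  haveI : HasZeroObject (QCohCat.QCoh X) := hasZeroObject_of_hasInitial_object
  have hfil : ∀ (Λ : Type u) [SmallCategory Λ] [IsFiltered Λ], PreservesColimitsOfShape Λ (Hn A X n) := by
    intro Λ _ _
    haveI := SerreDual.preservesColimitsOfShape_toAb X Λ
    haveI : PrespectralSpace X.toTopCat := show PrespectralSpace X from inferInstance
    haveI : QuasiSeparatedSpace X.toTopCat := show QuasiSeparatedSpace X from inferInstance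
    haveI : CompactSpace X.toTopCat := show CompactSpace X from inferInstance
    haveI : PreservesColimitsOfShape Λ (Sheaf.functorH (Opens.grothendieckTopology X) n :
        Sheaf (Opens.grothendieckTopology X) AddCommGrpCat.{u} ⥤ AddCommGrpCat.{u}) :=
      FlatMorStrat.preservesFilteredColimits_H X.toTopCat Λ n
    haveI : PreservesColimitsOfShape Λ ((QCohCat.isQCoh X).ι ⋙ SheafOfModules.toSheaf.{u} X.ringCatSheaf ⋙
        Sheaf.functorH (Opens.grothendieckTopology X) n) :=
      ⟨fun {K} => ⟨fun {c} hc => ⟨isColimitOfPreserves (Sheaf.functorH (Opens.grothendieckTopology X) n)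
        (isColimitOfPreserves (SheafOfModules.toSheaf.{u} X.ringCatSheaf)
          (isColimitOfPreserves (QCohCat.isQCoh X).ι hc))⟩⟩⟩
    haveI := preservesColimitsOfShape_of_natIso (J := Λ) (HnIso A (X := X) n).symm
    haveI : ReflectsColimitsOfShape Λ (forget₂ (ModuleCat.{u} A) AddCommGrpCat.{u}) :=
      reflectsColimitsOfShape_of_reflectsIsomorphisms
    exact preservesColimitsOfShape_of_reflects_of_preserves _ (forget₂ (ModuleCat.{u} A) AddCommGrpCat.{u})
  haveI : ∀ {M N : QCohCat.QCoh X} (f : M ⟶ N), PreservesColimit (parallelPair f 0) (Hn A X n) := fun {M N} f => by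
    haveI : Coh.IsQCoh M.obj := M.property
    haveI : Coh.IsQCoh N.obj := N.property
    refine preservesColimit_of_preserves_colimit_cocone (cokernelIsCokernel f) ?_
    refine (isColimitMapCoconeCoforkEquiv' (Hn A X n) (cokernel.condition f)).symm ?_
    let S : ShortComplex X.Modules := ShortComplex.mk f.hom (cokernel.π f).hom
      (congrArg (fun z => z.hom) (cokernel.condition f))
    have hS : S.Exact := S.exact_of_g_is_cokernel
      (CokernelCofork.mapIsColimit _ (cokernelIsCokernel f) (QCohCat.isQCoh X).ι)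
    haveI : Epi (cokernel.π f).hom := (QCohCat.isQCoh X).ι.map_epi (cokernel.π f)
    let T : ShortComplex (ModuleCat.{u} A) := ShortComplex.mk ((Hn A X n).map f) ((Hn A X n).map (cokernel.π f))
      (by rw [← Functor.map_comp, cokernel.condition, Functor.map_zero])
    obtain ⟨hT, hTg⟩ := exact_hmap_of_exact A hd hS (inferInstanceAs (Epi (cokernel.π f).hom))
    haveI : Epi T.g := (ModuleCat.epi_iff_surjective _).2 hTg
    exact ((ShortComplex.ShortExact.moduleCat_exact_iff_function_exact T).2 hT).gIsCokernel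
  haveI := (Hn A X n).preservesFiniteColimits_of_preservesCokernels
  haveI := fun α : Type u => SerreDual.preservesCoproducts_of_filtered (Hn A X n) hfil α
  haveI : PreservesColimitsOfShape WalkingParallelPair (Hn A X n) := inferInstance
  exact preservesColimits_of_preservesCoequalizers_and_coproducts _

/-- A quasi-coherent module with a trace representing `F ↦ Hom_A(H^n(X, F), A)`. -/
theorem exists_dualizing :
    ∃ (ω : X.Modules) (γ : Coh.HH X ω n →ₗ[A] A), Coh.IsQCoh ω ∧
      ∀ F : X.Modules, Coh.IsQCoh F →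
        Function.Bijective fun φ : F ⟶ ω => γ ∘ₗ hmap A φ n := by
  let π := X ↘ Spec (CommRingCat.of A)
  haveI : CompactSpace X := QuasiCompact.compactSpace_of_compactSpace π
  haveI : QuasiSeparatedSpace X := quasiSeparatedSpace_of_quasiSeparated π
  haveI := preservesColimits_Hn A hd
  haveI := SerreDual.isLeftAdjoint_qcoh X (Hn A X n)
  let adj := Adjunction.ofIsLeftAdjoint (Hn A X n)
  let K : ModuleCat.{u} A := ModuleCat.of A A
  let W : QCohCat.QCoh X := (Hn A X n).rightAdjoint.obj K
  refine ⟨W.obj, (adj.counit.app K).hom, W.property, fun F hF => ?_⟩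
  let F' : QCohCat.QCoh X := ⟨F, hF⟩
  have key : ∀ φ : F' ⟶ W, (adj.counit.app K).hom ∘ₗ hmap A φ.hom n = ((adj.homEquiv F' K).symm φ).hom :=
    fun φ => by
      rw [Adjunction.homEquiv_counit]
      rfl
  refine ⟨fun a b hab => ?_, fun ψ => ?_⟩
  · have h1 : (adj.homEquiv F' K).symm (ObjectProperty.homMk a) = (adj.homEquiv F' K).symm (ObjectProperty.homMk b) :=
      ModuleCat.hom_ext ((key (ObjectProperty.homMk a)).symm.trans (hab.trans (key (ObjectProperty.homMk b))))
    exact congrArg (fun z : F' ⟶ W => z.hom) ((adj.homEquiv F' K).symm.injective h1)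
  · refine ⟨((adj.homEquiv F' K) (ModuleCat.ofHom (X := Coh.HH X F n) (Y := A) ψ)).hom, ?_⟩
    refine (key _).trans ?_
    exact congrArg ModuleCat.Hom.hom ((adj.homEquiv F' K).symm_apply_apply _)

end Groth.Agent.DualLib.RelMod
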