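import Groth.Agent.DualLib.OmegaEnd

/-! `RHom_P(B, P)` has endomorphism ring `B` and is rigid. -/

set_option autoImplicit false
set_option backward.isDefEq.respectTransparency false
set_option backward.defeqAttrib.useBackward true
set_option linter.style.haveILetI false

universe u

open CategoryTheory CategoryTheory.Limits CategoryTheory.Pretriangulated DerivedCategory

attribute [local instance] HasDerivedCategory.standard

namespace Groth.Agent.DualLib.Omega

open Groth.Agent Groth.Agent.DualLib.Shriek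

variable {P B : Type u} [CommRing P] [CommRing B] {φ : P →+* B}

/-- Restriction detects zero objects. -/
theorem isZero_of_restrictD {Z : Dual.D B} (hZ : IsZero ((DRing.restrictD φ).obj Z)) : IsZero Z := by
  let E := Q.objPreimage Z
  let e : Q.obj E ≅ Z := Q.objObjPreimageIso Z
  have h1 : IsZero (Q.obj ((DRing.restrictCx φ).obj E)) :=
    hZ.of_iso ((((ModuleCat.restrictScalars.{u} φ).mapDerivedCategoryFactors).app E).symm ≪≫ (DRing.restrictD φ).mapIso e)
  have h2 : ∀ i, IsZero ((homologyFunctor (ModuleCat.{u} B) i).obj Z) := fun i => by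
    refine IsZero.of_iso ?_ ((homologyFunctor (ModuleCat.{u} B) i).mapIso e.symm)
    rw [DCat.isZero_homology_toD_iff]
    have h3 : ((DRing.restrictCx φ).obj E).ExactAt i :=
      (DCat.isZero_homology_toD_iff _ i).1 ((homologyFunctor (ModuleCat.{u} P) i).map_isZero h1)
    rw [HomologicalComplex.exactAt_iff] at h3 ⊢
    exact (ShortComplex.exact_map_iff_of_faithful _ (ModuleCat.restrictScalars φ)).1 h3
  rw [IsZero.iff_id_eq_zero]
  haveI : IsIso (0 : Z ⟶ Z) := by
    rw [DerivedCategory.isIso_iff]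
    intro i
    exact ⟨0, (h2 i).eq_of_src _ _, (h2 i).eq_of_src _ _⟩
  rw [← IsIso.hom_inv_id (0 : Z ⟶ Z), zero_comp]

/-- Restriction detects isomorphisms. -/
theorem isIso_of_restrictD {X Y : Dual.D B} (f : X ⟶ Y) [IsIso ((DRing.restrictD φ).map f)] : IsIso f := by
  obtain ⟨Z, g, h, hT⟩ := distinguished_cocone_triangle f
  have h3 : IsZero Z := isZero_of_restrictD (φ := φ)
    ((Triangle.isZero₃_iff_isIso₁ _ ((DRing.restrictD φ).map_distinguished _ hT)).2 ‹_›)
  exact (Triangle.isZero₃_iff_isIso₁ _ hT).1 h3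

variable {F : DRing.Cx P} {n : ℕ}
  {π : F ⟶ sgl (P := P) ((ModuleCat.restrictScalars φ).obj (ModuleCat.of B B))} (h : Res φ F n π)
  {Rψ : Dual.D P ⥤ Dual.D B} (adj : DRing.restrictD φ ⊣ Rψ)

/-- `ω = RHom_P(B, P)`. -/
noncomputable abbrev om (Rψ : Dual.D P ⥤ Dual.D B) : Dual.D B := Rψ.obj (Q.obj (sgl (P := P) P))

include adj in
lemma bijective_tr {Z : Dual.D B} (L : Dual.D P) :
    Function.Bijective fun g : Z ⟶ Rψ.obj L => (DRing.restrictD φ).map g ≫ adj.counit.app L := by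
  have : (fun g : Z ⟶ Rψ.obj L => (DRing.restrictD φ).map g ≫ adj.counit.app L) = (adj.homEquiv Z L).symm :=
    funext fun g => (adj.homEquiv_counit (g := g)).symm
  rw [this]
  exact Equiv.bijective _

include h adj

lemma exists_counit_generator :
    (∀ g : (DRing.restrictD φ).obj (om Rψ) ⟶ Q.obj (sgl (P := P) P),
      ∃ p : P, p • adj.counit.app (Q.obj (sgl (P := P) P)) = g) ∧
    (∀ p : P, p • adj.counit.app (Q.obj (sgl (P := P) P)) = 0 ↔ φ p = 0) ∧
    (∀ G : (DRing.restrictD φ).obj (om Rψ) ⟶ (DRing.restrictD φ).obj (om Rψ),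
      G ≫ adj.counit.app (Q.obj (sgl (P := P) P)) = adj.counit.app (Q.obj (sgl (P := P) P)) → IsIso G) := by
  obtain ⟨ε, hgen, hann, hiso⟩ := exists_generator h
  haveI := h.qis
  haveI := h.kproj
  obtain ⟨v⟩ := nonempty_restrict_value adj π (sgl (P := P) P)
  let c := adj.counit.app (Q.obj (sgl (P := P) P))
  let T := fun g : om Rψ ⟶ om Rψ => (DRing.restrictD φ).map g ≫ c
  have hT : Function.Bijective T := bijective_tr adj _
  have hTsmul : ∀ (p : P) g, T (φ p • g) = p • T g := fun p g => by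
    simp only [T, restrictD_map_smul, Linear.smul_comp]
  have hgen' : ∀ g : (DRing.restrictD φ).obj (om Rψ) ⟶ Q.obj (sgl (P := P) P), ∃ p : P, p • (v.hom ≫ ε) = g := fun g => by
    obtain ⟨p, hp⟩ := hgen (v.inv ≫ g)
    exact ⟨p, by rw [← Linear.comp_smul, hp, Iso.hom_inv_id_assoc]⟩
  have hann' : ∀ p : P, p • (v.hom ≫ ε) = 0 ↔ φ p = 0 := fun p => by
    rw [← Linear.comp_smul, ← hann]
    exact ⟨fun h0 => by rw [← cancel_epi v.hom, h0, comp_zero], fun h0 => by rw [h0, comp_zero]⟩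
  obtain ⟨g1, hg1 : T g1 = v.hom ≫ ε⟩ := hT.2 (v.hom ≫ ε)
  have hTid : T (𝟙 _) = c := by
    show (DRing.restrictD φ).map (𝟙 _) ≫ c = c
    rw [CategoryTheory.Functor.map_id, Category.id_comp]
  have hmul : ∀ g : om Rψ ⟶ om Rψ, ∃ p : P, φ p • g1 = g := fun g => by
    obtain ⟨p, hp⟩ := hgen' (T g)
    exact ⟨p, hT.1 (by rw [hTsmul, hg1, hp])⟩
  obtain ⟨p0, hp0⟩ := hmul (𝟙 _)
  obtain ⟨c1, hc1⟩ := hmul (g1 ≫ g1)
  have hc0 : T ((φ (p0 * c1) - 1 : B) • g1) = (p0 * c1 - 1) • (v.hom ≫ ε) := by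
    rw [← hg1, ← hTsmul, map_sub, map_one]
  have hzero : (φ (p0 * c1) - 1 : B) • g1 = 0 := by
    rw [sub_smul, one_smul, sub_eq_zero, map_mul, mul_smul, hc1, ← Linear.smul_comp, hp0, Category.id_comp]
  have hunit : φ p0 * φ c1 = 1 := by
    rw [hzero] at hc0
    have h0 : T 0 = 0 := by simp [T]
    rw [h0] at hc0
    have := (hann' _).1 hc0.symm
    rwa [map_sub, map_one, map_mul, sub_eq_zero] at this
  have hεc : v.hom ≫ ε = c1 • c := by
    rw [← hg1, ← hTid, ← hTsmul, ← hp0, smul_smul, mul_comm, hunit, one_smul]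
  have hcε : c = p0 • (v.hom ≫ ε) := by rw [← hg1, ← hTsmul, hp0, hTid]
  refine ⟨fun g => ?_, fun p => ?_, fun G hG => ?_⟩
  · obtain ⟨p, hp⟩ := hgen' g
    exact ⟨p * c1, by rw [mul_smul, ← hεc, hp]⟩
  · show p • c = 0 ↔ φ p = 0
    rw [hcε, smul_smul, hann', map_mul]
    exact ⟨fun h0 => by rw [← mul_one (φ p), ← hunit, ← mul_assoc, h0, zero_mul], fun h0 => by rw [h0, zero_mul]⟩
  · have h1 : (v.inv ≫ G ≫ v.hom) ≫ ε = ε := by
      simp only [Category.assoc]
      rw [hεc, Linear.comp_smul, show G ≫ c = c from hG, ← hεc, Iso.inv_hom_id_assoc]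
    haveI := hiso _ h1
    have h2 : G = v.hom ≫ (v.inv ≫ G ≫ v.hom) ≫ v.inv := by simp
    rw [h2]
    infer_instance

/-- `B = End(ω)`. -/
theorem bijective_smul_id : Function.Bijective fun a : B => a • 𝟙 (om Rψ) := by
  obtain ⟨hgen, hann, -⟩ := exists_counit_generator h adj
  have hT := bijective_tr (Z := om Rψ) adj (Q.obj (sgl (P := P) P))
  have hTs : ∀ p : P, (DRing.restrictD φ).map (φ p • 𝟙 (om Rψ)) ≫ adj.counit.app _ =
      p • adj.counit.app (Q.obj (sgl (P := P) P)) := fun p => by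
    rw [restrictD_map_smul, Linear.smul_comp, CategoryTheory.Functor.map_id, Category.id_comp]
  refine ⟨fun a b hab => ?_, fun g => ?_⟩
  · obtain ⟨p, rfl⟩ := h.surj a
    obtain ⟨q, rfl⟩ := h.surj b
    have h1 := congrArg (fun g => (DRing.restrictD φ).map g ≫ adj.counit.app (Q.obj (sgl (P := P) P))) hab
    simp only [hTs] at h1
    rw [← sub_eq_zero, ← map_sub, ← hann, sub_smul, h1, sub_self]
  · obtain ⟨p, hp⟩ := hgen ((DRing.restrictD φ).map g ≫ adj.counit.app _)
    exact ⟨φ p, hT.1 ((hTs p).trans hp)⟩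

/-- No higher self-maps. -/
theorem subsingleton_self_shift (i : ℤ) (hi : i ≠ 0) : Subsingleton (om Rψ ⟶ (om Rψ)⟦i⟧) := by
  haveI := h.qis
  haveI := h.kproj
  obtain ⟨v⟩ := nonempty_restrict_value adj π (sgl (P := P) P)
  obtain ⟨e⟩ := nonempty_shift_obj adj (Q.obj (sgl (P := P) P)) i
  haveI := subsingleton_hom_shift h i hi
  haveI : Subsingleton ((DRing.restrictD φ).obj (om Rψ) ⟶ (Q.obj (sgl (P := P) P))⟦i⟧) :=
    (Iso.homCongr v (Iso.refl _)).injective.subsingleton
  haveI : Subsingleton (om Rψ ⟶ Rψ.obj ((Q.obj (sgl (P := P) P))⟦i⟧)) :=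
    (adj.homEquiv _ _).symm.injective.subsingleton
  exact (Iso.homCongr (Iso.refl (om Rψ)) e.symm).injective.subsingleton

/-- Rigidity. -/
theorem nonempty_iso_of_restrict {Z : Dual.D B} (e : (DRing.restrictD φ).obj Z ≅ (DRing.restrictD φ).obj (om Rψ)) :
    Nonempty (Z ≅ om Rψ) := by
  obtain ⟨-, -, hiso⟩ := exists_counit_generator h adj
  obtain ⟨g, hg⟩ := (bijective_tr (Z := Z) adj (Q.obj (sgl (P := P) P))).2 (e.hom ≫ adj.counit.app _)
  have h1 : (e.inv ≫ (DRing.restrictD φ).map g) ≫ adj.counit.app (Q.obj (sgl (P := P) P)) = adj.counit.app _ := by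
    rw [Category.assoc, show (DRing.restrictD φ).map g ≫ adj.counit.app _ = _ from hg, Iso.inv_hom_id_assoc]
  haveI := hiso _ h1
  haveI : IsIso ((DRing.restrictD φ).map g) := IsIso.of_isIso_comp_left e.inv _
  haveI := isIso_of_restrictD (φ := φ) g
  exact ⟨asIso g⟩

end Groth.Agent.DualLib.Omega
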