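import Groth.Agent.DualLib.ShriekGor
import Groth.Agent.DualLib.ShriekAmpMain
import Groth.Agent.DRingLib.PCRestrict
import Groth.Agent.FlatMor12.ApproxModule
import Groth.Agent.Coherent.CohBC.TwistStrata
import Groth.Agent.KZeroLib.PerfectCoh
import Groth.Agent.AlgzLib.TildeSys
import Groth.Agent.AlgSpLib.RelDimLocus

/-!
# `f^! O` concentrated in one degree: coherence and flatness over the base
-/

set_option autoImplicit false
set_option backward.isDefEq.respectTransparency false
set_option backward.defeqAttrib.useBackward true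
set_option linter.style.haveILetI false
set_option linter.unusedSectionVars false
set_option synthInstance.maxHeartbeats 100000

universe u

open CategoryTheory CategoryTheory.Limits AlgebraicGeometry Opposite DerivedCategory
open Groth.Agent.DCat Groth.Agent.Dual22Lib

attribute [local instance] HasDerivedCategory.standard
attribute [-instance] Int.instConditionallyCompleteLinearOrder

namespace Groth.Agent.DualLib.ShriekFlatSheaf

/-- Tor amplitude `[m, m]` means a flat module in degree `m`. -/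
theorem flat_HD_of_amp {R : Type u} [CommRing R] {K : Dual.D R} (m : ℤ) (h : DRing.HasTorAmplitudeIn R m m K) :
    Module.Flat R (Dual.HD R K m) ∧ ∀ i : ℤ, i ≠ m → Subsingleton (Dual.HD R K i) := by
  obtain ⟨E, hE, hf, ⟨e⟩⟩ := h
  have hz : ∀ i : ℤ, i ≠ m → IsZero (E.X i) := fun i hi => hE i (by omega)
  let eH : ∀ i, (homologyFunctor (ModuleCat.{u} R) i).obj K ≅ E.homology i := fun i =>
    (homologyFunctor (ModuleCat.{u} R) i).mapIso e.symm ≪≫ (homologyFunctorFactors (ModuleCat.{u} R) i).app E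
  refine ⟨?_, fun i hi => ?_⟩
  · have h1 : E.d ((ComplexShape.up ℤ).prev m) m = 0 := (hz _ (by simp)).eq_of_src _ _
    have h2 : E.d m ((ComplexShape.up ℤ).next m) = 0 := (hz _ (by simp)).eq_of_tgt _ _
    haveI : Module.Flat R (ShortComplex.HomologyData.ofZeros (E.sc m) h1 h2).left.H := hf m
    exact Module.Flat.of_linearEquiv
      (eH m ≪≫ (ShortComplex.HomologyData.ofZeros (E.sc m) h1 h2).left.homologyIso).toLinearEquiv
  · exact ModuleCat.subsingleton_of_isZero
      ((ShortComplex.isZero_homology_of_isZero_X₂ _ (hz i hi)).of_iso (eH i))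

variable [∀ (U V : Scheme.{u}) (j : U ⟶ V) [IsOpenImmersion j], PreservesFiniteLimits (Scheme.Modules.restrictFunctor j)]
  [∀ (S : CommRingCat.{u}), PreservesFiniteLimits (tilde.functor S)]

variable {X Y : Scheme.{u}}

/-- Cohomology in a chart. -/
theorem nonempty_HD_chart {f : X ⟶ Y} {G : DCoh.D X} {x : X} (C : ShriekLocal.Chart f G x) (i : ℤ) :
    Nonempty ((DCoh.HD G i).restrict C.jX ≅ tilde (R := CommRingCat.of C.B)
      ((homologyFunctor (ModuleCat.{u} C.B) i).obj (Dual2.shriekVia C.n C.Rψ (Dual.inD C.R C.R)))) := by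
  haveI : PreservesFiniteColimits (tilde.functor (CommRingCat.of C.B)) :=
    haveI := (tilde.adjunction (R := CommRingCat.of C.B)).leftAdjoint_preservesColimits
    inferInstance
  obtain ⟨η⟩ := DQCoh.nonempty_homology_natIso (tilde.functor (CommRingCat.of C.B)) i
  exact ⟨(DCat.SuppOpen.hdMapIso (Scheme.Modules.restrictFunctor C.jX) G i).symm ≪≫
    (homologyFunctor _ i).mapIso C.iso ≪≫ η.app _⟩

/-- Coherence and flatness from amplitude `[m, m]` in every chart. -/
theorem concentrated [IsNoetherian Y] {f : X ⟶ Y} [LocallyOfFiniteType f] [Flat f] (G : DCoh.D X) (m : ℤ)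
    (h : ∀ x : X, ∃ C : ShriekLocal.Chart f G x, DRing.HasTorAmplitudeIn C.R m m
      ((DRing.restrictD (algebraMap C.R C.B)).obj (Dual2.shriekVia C.n C.Rψ (Dual.inD C.R C.R)))) :
    (∀ i : ℤ, i ≠ m → IsZero (DCoh.HD G i)) ∧ Coh.IsCoh (DCoh.HD G m) ∧ FlatMod.IsFlatOver f (DCoh.HD G m) := by
  haveI : IsLocallyNoetherian X := LocallyOfFiniteType.isLocallyNoetherian f
  choose C hC using h
  have hfl : ∀ x i, Module.Flat (C x).R ((ModuleCat.restrictScalars (algebraMap (C x).R (C x).B)).obj
      ((homologyFunctor (ModuleCat.{u} (C x).B) i).obj (Dual2.shriekVia (C x).n (C x).Rψ (Dual.inD (C x).R (C x).R)))) ∨ i ≠ m := fun x i => by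
    by_cases hi : i = m
    · subst hi
      haveI := (flat_HD_of_amp i (hC x)).1
      exact Or.inl (Module.Flat.of_linearEquiv (DRingLib.hfRestrictIso _ _ i).symm.toLinearEquiv)
    · exact Or.inr hi
  refine ⟨fun i hi => ModStalk.isZero_of_stalks fun x => ?_, ?_, fun x => ?_⟩
  · refine DCat.SuppOpen.isZero_stalkFunctor (h := not_nontrivial_iff_subsingleton.1 fun hh => ?_) _ _
    rw [← (C x).hpt] at hh
    have h1 := (nontrivial_stalk_iff (C x).jX (C x).iso (C x).pt i).1 hh
    haveI := (flat_HD_of_amp m (hC x)).2 i hi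
    haveI : Subsingleton (Dual.HD (C x).B (Dual2.shriekVia (C x).n (C x).Rψ (Dual.inD (C x).R (C x).R)) i) :=
      (DRingLib.hfRestrictIso (algebraMap (C x).R (C x).B) _ i).symm.toLinearEquiv.injective.subsingleton
    exact notMem_support_of_subsingleton _ h1
  · refine KZeroLib.isCoh_of_cover _ (fun x : X => (C x).jX.opensRange)
      (TopologicalSpace.IsOpenCover.mk (eq_top_iff.2 fun x _ => TopologicalSpace.Opens.mem_iSup.2
        ⟨x, (C x).pt, (C x).hpt⟩)) fun x => ?_
    obtain ⟨e⟩ := nonempty_HD_chart (C x) m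
    haveI := (bounded_finite_shriekVia (C x).ψ (C x).surj (C x).adj (Dual.inD (C x).R (C x).R) 0 (fun i hi =>
      (DRingLib.isGE_iff_HD (Dual.inD (C x).R (C x).R) 0).1 inferInstance i hi)).2 (fun i => by
        rcases eq_or_ne i 0 with rfl | hi
        · exact DRingLib.finite_of_iso (DRingLib.hfInD _).symm (Module.Finite.self _)
        · haveI := DualLib.hd_single_subsingleton (A := (C x).R) (C x).R i hi
          infer_instance) m
    have hc := AlgzLib.isCoh_tilde (A := (C x).B)
      ((homologyFunctor (ModuleCat.{u} (C x).B) m).obj (Dual2.shriekVia (C x).n (C x).Rψ (Dual.inD (C x).R (C x).R)))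
    let k := (C x).jX.isoOpensRange
    have hk : k.inv ≫ (C x).jX = (C x).jX.opensRange.ι := (C x).jX.isoOpensRange_inv_comp
    exact DQCoh.CohExt.isCoh_of_iso
      (((Scheme.Modules.restrictFunctorComp k.inv (C x).jX).app (DCoh.HD G m)).symm ≪≫
        (Scheme.Modules.restrictFunctorCongr hk).app (DCoh.HD G m))
      (⟨(haveI : Coh.IsQCoh ((DCoh.HD G m).restrict (C x).jX) := (DQCoh.CohExt.isCoh_of_iso e.symm hc).1; (inferInstance : Coh.IsQCoh (((DCoh.HD G m).restrict (C x).jX).restrict k.inv))), AffSchLib.isFT_restrict k.inv _ (DQCoh.CohExt.isCoh_of_iso e.symm hc).2⟩)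
  · rcases hfl x m with h | h
    · obtain ⟨e⟩ := nonempty_HD_chart (C x) m
      have h2 := FlatMor12.ApproxModule.isFlatOver_tilde (CommRingCat.ofHom (algebraMap (C x).R (C x).B))
        ((homologyFunctor (ModuleCat.{u} (C x).B) m).obj (Dual2.shriekVia (C x).n (C x).Rψ (Dual.inD (C x).R (C x).R))) h (C x).pt
      have h3 := EGA43.DvrCrit.isFlatOverAt_of_iso _
        (e.symm ≪≫ (Scheme.Modules.restrictFunctorIsoPullback (C x).jX).app (DCoh.HD G m)) (C x).pt h2
      have h4 := (Coherent.CohBC.isFlatOverAt_restrict_iff (C x).comm (DCoh.HD G m) (C x).pt).1 h3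
      rwa [(C x).hpt] at h4
    · exact absurd rfl h

end Groth.Agent.DualLib.ShriekFlatSheaf

namespace Groth.Agent.DualLib.ShriekFlatSheaf

variable [∀ (U V : Scheme.{u}) (j : U ⟶ V) [IsOpenImmersion j], PreservesFiniteLimits (Scheme.Modules.restrictFunctor j)]
  [∀ (S : CommRingCat.{u}), PreservesFiniteLimits (tilde.functor S)]

variable {X Y : Scheme.{u}}

/-- Amplitude `[0, 0]` in the charts of a flat quasi-finite morphism. -/
theorem amp_quasiFinite {f : X ⟶ Y} [Flat f] [LocallyOfFiniteType f] [LocallyQuasiFinite f] {G : DCoh.D X} {x : X}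
    (C : ShriekLocal.Chart f G x) :
    DRing.HasTorAmplitudeIn C.R 0 0
      ((DRing.restrictD (algebraMap C.R C.B)).obj (Dual2.shriekVia C.n C.Rψ (Dual.inD C.R C.R))) := by
  haveI := ShriekGor.flat_chart C
  haveI : LocallyQuasiFinite (Spec.map (CommRingCat.ofHom (algebraMap C.R C.B)) ≫ C.jY) := by
    rw [← C.comm]; infer_instance
  haveI : LocallyQuasiFinite (Spec.map (CommRingCat.ofHom (algebraMap C.R C.B))) := LocallyQuasiFinite.of_comp _ C.jY
  haveI : LocallyOfFiniteType (Spec.map (CommRingCat.ofHom (algebraMap C.R C.B))) :=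
    (HasRingHomProperty.Spec_iff (P := @LocallyOfFiniteType)).2 (RingHom.finiteType_algebraMap.2 inferInstance)
  have hd : ∀ q : PrimeSpectrum C.B, FlatMor.fibreDimAt (Spec.map (CommRingCat.ofHom (algebraMap C.R C.B))) q ≤
      ((0 : ℕ) : WithBot ℕ∞) := fun q => by
    rw [Nat.cast_zero]
    exact le_of_eq ((AlgSpLib.fibreDimAt_eq_zero_iff (Spec.map (CommRingCat.ofHom (algebraMap C.R C.B))) q).2
      (Scheme.Hom.quasiFiniteAt (Spec.map (CommRingCat.ofHom (algebraMap C.R C.B))) q))
  have key : ∀ (z : ℤ), z = 0 → DRing.HasTorAmplitudeIn C.R z 0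
      ((DRing.restrictD (algebraMap C.R C.B)).obj (Dual2.shriekVia C.n C.Rψ (Dual.inD C.R C.R))) →
      DRing.HasTorAmplitudeIn C.R 0 0
        ((DRing.restrictD (algebraMap C.R C.B)).obj (Dual2.shriekVia C.n C.Rψ (Dual.inD C.R C.R))) := by
    intro z hz h; subst hz; exact h
  exact key (-((0 : ℕ) : ℤ)) (by simp) (Shriek.hasTorAmplitudeIn_shriekVia C.ψ C.surj C.adj 0 hd)

end Groth.Agent.DualLib.ShriekFlatSheaf
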