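import Groth.Agent.DualLib.RelExists
import Groth.Agent.DCat.KInjFun
import Mathlib.CategoryTheory.Adjunction.Unique

/-! Values of the right adjoint of restriction of scalars on derived categories. -/

set_option autoImplicit false
set_option backward.isDefEq.respectTransparency false
set_option backward.defeqAttrib.useBackward true
set_option linter.style.haveILetI false

universe u

open CategoryTheory CategoryTheory.Limits DerivedCategory Opposite

attribute [local instance] HasDerivedCategory.standard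

namespace Groth.Agent.DualLib.Shriek

variable {A B C : Type u} [CommRing A] [CommRing B] [CommRing C] (φ : A →+* B)

instance additive_coextend : (ModuleCat.coextendScalars.{u, u} φ).Additive where
  map_add {M N f g} := rfl

/-- Coextension of complexes. -/
noncomputable abbrev coCx : DRing.Cx A ⥤ DRing.Cx B :=
  (ModuleCat.coextendScalars.{u, u} φ).mapHomologicalComplex (ComplexShape.up ℤ)

/-- Extension of complexes. -/
noncomputable abbrev exCx : DRing.Cx A ⥤ DRing.Cx B :=
  (ModuleCat.extendScalars.{u, u, u} φ).mapHomologicalComplex (ComplexShape.up ℤ)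

instance isKInjective_coCx (I : DRing.Cx A) [I.IsKInjective] : CochainComplex.IsKInjective ((coCx φ).obj I) :=
  DCat.FlatPull.isKInjective_map_of_adj (ModuleCat.restrictCoextendScalarsAdj φ) I

lemma injective_coCx (I : DRing.Cx A) (hI : ∀ n, Injective (I.X n)) (n : ℤ) : Injective (((coCx φ).obj I).X n) :=
  haveI := hI n
  Injective.injective_of_adjoint (ModuleCat.restrictCoextendScalarsAdj φ) _

/-- The functor represented by the value on a K-injective complex. -/
theorem nonempty_representableBy (I : DRing.Cx A) [I.IsKInjective] :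
    Nonempty (((DRing.restrictD φ).op ⋙ yoneda.obj (Q.obj I)).RepresentableBy (Q.obj ((coCx φ).obj I))) := by
  let Res := ModuleCat.restrictScalars.{u} φ
  let F := ModuleCat.coextendScalars.{u, u} φ
  let c := ComplexShape.up ℤ
  let a := adjCx c (ModuleCat.restrictCoextendScalarsAdj φ)
  let J := (F.mapHomologicalComplex c).obj I
  haveI hJ : CochainComplex.IsKInjective J := isKInjective_coCx φ I
  let fac := Res.mapDerivedCategoryFactors
  let ev : (DRing.restrictD φ).obj (Q.obj J) ⟶ Q.obj I := fac.hom.app J ≫ Q.map (a.counit.app I)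
  have hfac : ∀ {X : DRing.Cx B} (f : X ⟶ J), (DRing.restrictD φ).map (Q.map f) ≫ ev =
      fac.hom.app X ≫ Q.map ((a.homEquiv X I).symm f) := by
    intro X f
    have h2 := fac.hom.naturality f
    dsimp at h2
    rw [Adjunction.homEquiv_counit, Functor.map_comp]
    show _ ≫ fac.hom.app J ≫ _ = _
    rw [← Category.assoc]
    erw [h2]
    simp only [Category.assoc]
    rfl
  have hbij : ∀ X : Dual.D B, Function.Bijective fun g : X ⟶ Q.obj J => (DRing.restrictD φ).map g ≫ ev := by
    intro X
    let X' := Q.objPreimage X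
    let e : Q.obj X' ≅ X := Q.objObjPreimageIso X
    constructor
    · intro g g' h
      obtain ⟨f, hf⟩ := DCat.Q_map_surjective (e.hom ≫ g)
      obtain ⟨f', hf'⟩ := DCat.Q_map_surjective (e.hom ≫ g')
      have h' : (DRing.restrictD φ).map (Q.map f) ≫ ev = (DRing.restrictD φ).map (Q.map f') ≫ ev := by
        rw [hf, hf', Functor.map_comp, Functor.map_comp, Category.assoc, Category.assoc]
        exact congrArg (_ ≫ ·) h
      rw [hfac, hfac, cancel_epi] at h'
      let H := HomotopyCategory.homotopyOfEq _ _ (DCat.homotopy_of_Q_map_eq h')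
      have hu : ∀ k : X' ⟶ J, k = a.unit.app X' ≫ (F.mapHomologicalComplex c).map ((a.homEquiv X' I).symm k) :=
        fun k => ((a.homEquiv X' I).apply_symm_apply k).symm.trans (a.homEquiv_unit (f := (a.homEquiv X' I).symm k))
      let H' : Homotopy f f' :=
        (Homotopy.ofEq (hu f)).trans (((F.mapHomotopy H).compLeft (a.unit.app X')).trans (Homotopy.ofEq (hu f').symm))
      rw [← cancel_epi e.hom, ← hf, ← hf']
      exact DerivedCategory.Q_map_eq_of_homotopy _ H'
    · intro ψ
      obtain ⟨h, hh⟩ := DCat.Q_map_surjective (fac.inv.app X' ≫ (DRing.restrictD φ).map e.hom ≫ ψ)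
      refine ⟨e.inv ≫ Q.map (a.homEquiv X' I h), ?_⟩
      show (DRing.restrictD φ).map _ ≫ ev = ψ
      rw [Functor.map_comp, Category.assoc, hfac, Equiv.symm_apply_apply, hh]
      simp [← Functor.map_comp_assoc, Res]
  exact ⟨{ homEquiv := fun {X} => Equiv.ofBijective _ (hbij X)
           homEquiv_comp := fun {X X'} f g => by simp }⟩

variable {φ} {R : Dual.D A ⥤ Dual.D B} (adj : DRing.restrictD φ ⊣ R)

include adj in
/-- The value of a right adjoint on a K-injective complex. -/
theorem nonempty_value (I : DRing.Cx A) [I.IsKInjective] : Nonempty (R.obj (Q.obj I) ≅ Q.obj ((coCx φ).obj I)) := by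
  obtain ⟨r⟩ := nonempty_representableBy φ I
  exact ⟨(adj.representableBy (Q.obj I)).uniqueUpToIso r⟩

include adj in
theorem nonempty_value' {M : DRing.Cx A} {I : DRing.Cx A} [I.IsKInjective] (j : M ⟶ I) [QuasiIso j] :
    Nonempty (R.obj (Q.obj M) ≅ Q.obj ((coCx φ).obj I)) := by
  haveI : IsIso (Q.map j) := inferInstance
  obtain ⟨e⟩ := nonempty_value adj I
  exact ⟨R.mapIso (asIso (Q.map j)) ≪≫ e⟩

/-- A chosen right adjoint of restriction. -/
theorem exists_rightAdjoint (φ : A →+* B) : ∃ R : Dual.D A ⥤ Dual.D B, Nonempty (DRing.restrictD φ ⊣ R) := by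
  haveI := (hasRHomRel φ).isLeftAdjoint
  exact ⟨(DRing.restrictD φ).rightAdjoint, ⟨Adjunction.ofIsLeftAdjoint _⟩⟩

/-- Coextension along a composite. -/
noncomputable def coextendComp (f : A →+* B) (g : B →+* C) (h : A →+* C) (e : h = g.comp f) :
    ModuleCat.coextendScalars.{u, u} h ≅ ModuleCat.coextendScalars.{u, u} f ⋙ ModuleCat.coextendScalars.{u, u} g :=
  (ModuleCat.restrictCoextendScalarsAdj h).rightAdjointUniq
    (((ModuleCat.restrictCoextendScalarsAdj g).comp (ModuleCat.restrictCoextendScalarsAdj f)).ofNatIsoLeft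
      (ModuleCat.restrictScalarsComp' f g h e).symm)

/-- Right adjoints compose. -/
theorem nonempty_comp_obj {f : A →+* B} {g : B →+* C} {h : A →+* C} (e : h = g.comp f)
    {Rf : Dual.D A ⥤ Dual.D B} (adjf : DRing.restrictD f ⊣ Rf)
    {Rg : Dual.D B ⥤ Dual.D C} (adjg : DRing.restrictD g ⊣ Rg)
    {Rh : Dual.D A ⥤ Dual.D C} (adjh : DRing.restrictD h ⊣ Rh) (M : Dual.D A) :
    Nonempty (Rh.obj M ≅ Rg.obj (Rf.obj M)) := by
  obtain ⟨I, hI, ⟨eM⟩⟩ := DCat.exists_kInj_obj M
  obtain ⟨e1⟩ := nonempty_value adjh I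
  obtain ⟨e2⟩ := nonempty_value adjf I
  obtain ⟨e3⟩ := nonempty_value adjg ((coCx f).obj I)
  let ec := ((NatIso.mapHomologicalComplex (coextendComp f g h e) (ComplexShape.up ℤ)).app I)
  exact ⟨Rh.mapIso eM.symm ≪≫ e1 ≪≫ Q.mapIso ec ≪≫ e3.symm ≪≫ Rg.mapIso e2.symm ≪≫ (Rf ⋙ Rg).mapIso eM⟩

/-- Right adjoints of triangulated restriction commute with shifts. -/
theorem nonempty_shift_obj {φ : A →+* B} {R : Dual.D A ⥤ Dual.D B} (adj : DRing.restrictD φ ⊣ R) (M : Dual.D A) (d : ℤ) :
    Nonempty (R.obj (M⟦d⟧) ≅ (R.obj M)⟦d⟧) := by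
  letI := adj.rightAdjointCommShift ℤ
  exact ⟨(R.commShiftIso d).app M⟩

end Groth.Agent.DualLib.Shriek
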