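import Groth.Agent.DualLib.ChartCompare
import Groth.Agent.DualLib.ShriekValue
import Groth.Agent.Dual22Lib.FiniteShriek
import Groth.Agent.Dual22Lib.Chart
import Groth.Agent.DCat.LTensorModule

/-!
# The right adjoint of a proper direct image sends dualizing complexes to dualizing complexes
-/

set_option autoImplicit false
set_option backward.isDefEq.respectTransparency false
set_option backward.defeqAttrib.useBackward true
set_option linter.style.haveILetI false
set_option linter.unusedSectionVars false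
set_option synthInstance.maxHeartbeats 100000

universe u

open CategoryTheory CategoryTheory.Limits AlgebraicGeometry Opposite
open Groth.Agent.DCat Groth.Agent.Dual22Lib

attribute [local instance] HasDerivedCategory.standard
attribute [-instance] Int.instConditionallyCompleteLinearOrder

namespace Groth.Agent.DualLib.ChartApps

/-- Bounded below by an affine cover of a quasi-compact scheme. -/
theorem exists_isGE_of_affine {X : Scheme.{u}} [CompactSpace X]
    [∀ (U V : Scheme.{u}) (j : U ⟶ V) [IsOpenImmersion j], PreservesFiniteLimits (Scheme.Modules.restrictFunctor j)]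
    (K : DCoh.D X)
    (h : ∀ T : X.affineOpens, ∃ a : ℤ, ((DCoh.restrictD T.2.fromSpec).obj K).IsGE a) : ∃ a : ℤ, K.IsGE a := by
  classical
  choose a ha using h
  obtain ⟨s, hs⟩ := isCompact_univ.elim_finite_subcover (fun T : X.affineOpens => (T.1 : Set X)) (fun T => T.1.2)
    fun x _ => by
      obtain ⟨U, hU, hx, -⟩ := exists_isAffineOpen_mem_and_subset (U := (⊤ : X.Opens)) (x := x) trivial
      exact Set.mem_iUnion.2 ⟨⟨U, hU⟩, hx⟩
  obtain ⟨m, hm⟩ : ∃ m : ℤ, ∀ T ∈ s, m ≤ a T := by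
    clear hs
    induction s using Finset.induction_on with
    | empty => exact ⟨0, fun x hx => absurd hx (Finset.notMem_empty x)⟩
    | insert x s _ ih =>
      obtain ⟨m, hm⟩ := ih
      exact ⟨min m (a x), fun y hy => by
        rcases Finset.mem_insert.1 hy with rfl | hy
        · exact min_le_right _ _
        · exact (min_le_left _ _).trans (hm y hy)⟩
  refine ⟨m, (DerivedCategory.isGE_iff _ _).2 fun i hi => ModStalk.isZero_of_stalks fun y => ?_⟩
  obtain ⟨T, hT, hy⟩ := Set.mem_iUnion₂.1 (hs (Set.mem_univ y))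
  obtain ⟨y', hy'⟩ : y ∈ Set.range T.2.fromSpec := by rw [T.2.range_fromSpec]; exact hy
  subst hy'
  haveI := ha T
  have hz : IsZero ((Scheme.Modules.restrictFunctor T.2.fromSpec).obj (DCoh.HD K i)) :=
    (DerivedCategory.isZero_of_isGE ((DCoh.restrictD T.2.fromSpec).obj K) (a T) i
      (lt_of_lt_of_le hi (hm T hT))).of_iso (DCat.SuppOpen.hdMapIso (Scheme.Modules.restrictFunctor T.2.fromSpec) K i).symm
  haveI : Subsingleton ((DCoh.HD K i).presheaf.stalk (T.2.fromSpec y')) :=
    DCat.SuppOpen.subsingleton_stalk_of_restrict T.2.fromSpec (DCoh.HD K i) y'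
      (DCat.SuppOpen.subsingleton_of_isZero_stalkFunctor _ _ ((DerSch.stalkFunctor _ y').map_isZero hz))
  exact DCat.SuppOpen.isZero_stalkFunctor (h := this) _ _

/-- Tilde keeps lower bounds. -/
theorem isGE_tildeD {R : CommRingCat.{u}} [PreservesFiniteLimits (tilde.functor R)]
    (ω : DerivedCategory (ModuleCat.{u} R)) (a : ℤ) (h : ω.IsGE a) : ((DCoh.tildeD R).obj ω).IsGE a := by
  refine (DerivedCategory.isGE_iff _ _).2 fun i hi => ?_
  obtain ⟨η⟩ := DQCoh.nonempty_homology_natIso (tilde.functor R) i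
  haveI := h
  exact ((tilde.functor R).map_isZero (DerivedCategory.isZero_of_isGE ω a i hi)).of_iso (η.app ω)

variable [∀ (U V : Scheme.{u}) (j : U ⟶ V) [IsOpenImmersion j], PreservesFiniteLimits (Scheme.Modules.restrictFunctor j)]
  [∀ (S : CommRingCat.{u}), PreservesFiniteLimits (tilde.functor S)]

/-- A dualizing complex on a Noetherian scheme is bounded below. -/
theorem exists_isGE_dualizing {Y : Scheme.{u}} [CompactSpace Y] (K : DCoh.D Y) (hK : Dual2.IsDualizingSch Y K) :
    ∃ a : ℤ, K.IsGE a :=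
  exists_isGE_of_affine K fun T => by
    obtain ⟨ω, hω, ⟨e⟩⟩ := hK _ T.2.fromSpec
    obtain ⟨a, b, ha, -⟩ := DualLib.exists_bound hω
    haveI := isGE_tildeD (R := CommRingCat.of Γ(Y, T.1)) ω a ha
    exact ⟨a, DerivedCategory.TStructure.t.isGE_of_iso e.symm a⟩

/-- Charts of a morphism through affine opens, with an affine presentation over each. -/
theorem exists_charts {X Y : Scheme.{u}} (f : X ⟶ Y) (x : X) :
    ∃ (T : Y.affineOpens) (U : X.affineOpens) (_ : U.1 ≤ f ⁻¹ᵁ T.1), x ∈ U.1 := by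
  obtain ⟨T, hT, hxT, -⟩ := exists_isAffineOpen_mem_and_subset (U := (⊤ : Y.Opens)) (x := f x) trivial
  obtain ⟨U, hU, hxU, hUT⟩ := exists_isAffineOpen_mem_and_subset (U := f ⁻¹ᵁ T) (x := x) hxT
  exact ⟨⟨T, hT⟩, ⟨U, hU⟩, hUT, hxU⟩

/-- **The right adjoint of a proper direct image preserves dualizing complexes.** -/
theorem isDualizingSch_rep {X Y : Scheme.{u}} [IsNoetherian Y] (f : X ⟶ Y) [IsProper f] {Q : DCoh.D Y}
    {A : DCoh.D X} (hA : RepLib.RepObj f Q A) (hq : DCoh.IsQCohD Q) (hQ : Dual2.IsDualizingSch Y Q) :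
    Dual2.IsDualizingSch X A := by
  haveI : IsLocallyNoetherian X := LocallyOfFiniteType.isLocallyNoetherian f
  obtain ⟨c, hc⟩ := exists_isGE_dualizing Q hQ
  let ι := { p : Y.affineOpens × X.affineOpens // p.2.1 ≤ f ⁻¹ᵁ p.1.1 }
  refine isDualizingSch_of_cover A ι (fun p => Γ(X, p.1.2.1)) (fun p => p.1.2.2.fromSpec) (fun x => ?_) fun p => ?_
  · obtain ⟨T, U, h, hx⟩ := exists_charts f x
    exact ⟨⟨(T, U), h⟩, by rw [U.2.range_fromSpec]; exact hx⟩
  · obtain ⟨⟨T, U⟩, h⟩ := p
    obtain ⟨ω, hω, ⟨e⟩⟩ := hQ _ T.2.fromSpec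
    haveI := hω.isNoetherianRing
    haveI : IsNoetherianRing Γ(X, U.1) := IsLocallyNoetherian.component_noetherian ⟨U.1, U.2⟩
    haveI := hc
    obtain ⟨n, ψ, hψ, hcomp, hiso⟩ := ChartShriek.exists_local f hA c hq (R := Γ(Y, T.1)) (B := Γ(X, U.1))
      (f.appLE T.1 U.1 h).hom T.2.fromSpec U.2.fromSpec
      (IsAffineOpen.SpecMap_appLE_fromSpec f T.2 U.2 h).symm ω e
    letI : Algebra Γ(Y, T.1) Γ(X, U.1) := (f.appLE T.1 U.1 h).hom.toAlgebra
    let ψ' : MvPolynomial (Fin n) Γ(Y, T.1) →ₐ[Γ(Y, T.1)] Γ(X, U.1) :=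
      { ψ with commutes' := fun r => RingHom.congr_fun hcomp r }
    haveI : DRing.HasLBaseChange (algebraMap Γ(Y, T.1) (MvPolynomial (Fin n) Γ(Y, T.1))) := DCat.hasLBaseChange _
    obtain ⟨Rψ, ⟨adj⟩⟩ := Shriek.exists_rightAdjoint ψ
    obtain ⟨i⟩ := hiso Rψ adj
    exact ⟨_, isDualizing_shriekVia ψ' hψ adj hω, ⟨i⟩⟩

end Groth.Agent.DualLib.ChartApps
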