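import Groth.Agent.DualLib.ChartApps
import Groth.Agent.DualLib.ShriekDeg
import Groth.Agent.AlgSpLib.FibreDimChart
import Groth.Prelude.Def_Dual3
import Groth.Prelude.Def_Flat

/-!
# `f^! O` on affine charts, and the lower bound on its degrees
-/

set_option autoImplicit false
set_option backward.isDefEq.respectTransparency false
set_option backward.defeqAttrib.useBackward true
set_option linter.style.haveILetI false
set_option linter.unusedSectionVars false
set_option synthInstance.maxHeartbeats 100000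

universe u

open CategoryTheory CategoryTheory.Limits AlgebraicGeometry Opposite
open Groth.Agent.DCat Groth.Agent.Dual22Lib

attribute [local instance] HasDerivedCategory.standard
attribute [-instance] Int.instConditionallyCompleteLinearOrder

namespace Groth.Agent.DualLib.ShriekLocal

variable [∀ (U V : Scheme.{u}) (j : U ⟶ V) [IsOpenImmersion j], PreservesFiniteLimits (Scheme.Modules.restrictFunctor j)]

/-- `O` of an affine scheme is tilde of the ring. -/
theorem nonempty_structure_tilde (R : Type u) [CommRing R] [PreservesFiniteLimits (tilde.functor (CommRingCat.of R))] :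
    Nonempty ((DCoh.tildeD (CommRingCat.of R)).obj (Dual.inD R R) ≅
      DCoh.inD (Spec (CommRingCat.of R)) (Coh.structureModule (Spec (CommRingCat.of R)))) :=
  haveI : (tilde.functor (CommRingCat.of R)).Additive := Functor.additive_of_preserves_binary_products _
  haveI : PreservesFiniteColimits (tilde.functor (CommRingCat.of R)) :=
    haveI := (tilde.adjunction (R := CommRingCat.of R)).leftAdjoint_preservesColimits
    inferInstance
  ⟨((tilde.functor (CommRingCat.of R)).mapDerivedCategorySingleFunctor 0).app (ModuleCat.of (CommRingCat.of R) R) ≪≫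
    (DerivedCategory.singleFunctor (Spec (CommRingCat.of R)).Modules 0).mapIso tildeSelf⟩

/-- An affine chart presenting a value of the upper shriek. -/
structure Chart {X Y : Scheme.{u}} (f : X ⟶ Y) (G : DCoh.D X) (x : X) where
  R : Type u
  B : Type u
  [cR : CommRing R]
  [cB : CommRing B]
  [nR : IsNoetherianRing R]
  [nB : IsNoetherianRing B]
  [alg : Algebra R B]
  [ft : Algebra.FiniteType R B]
  jY : Spec (CommRingCat.of R) ⟶ Y
  jX : Spec (CommRingCat.of B) ⟶ X
  [oY : IsOpenImmersion jY]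
  [oX : IsOpenImmersion jX]
  [tB : PreservesFiniteLimits (tilde.functor (CommRingCat.of B))]
  pt : ↥(Spec (CommRingCat.of B))
  hpt : jX pt = x
  comm : jX ≫ f = Spec.map (CommRingCat.ofHom (algebraMap R B)) ≫ jY
  n : ℕ
  [lbc : DRing.HasLBaseChange (algebraMap R (MvPolynomial (Fin n) R))]
  ψ : MvPolynomial (Fin n) R →ₐ[R] B
  surj : Function.Surjective ψ
  Rψ : Dual.D (MvPolynomial (Fin n) R) ⥤ Dual.D B
  adj : DRing.restrictD ψ.toRingHom ⊣ Rψ
  iso : (DCoh.restrictD jX).obj G ≅ (DCoh.tildeD (CommRingCat.of B)).obj (Dual2.shriekVia n Rψ (Dual.inD R R))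

attribute [instance] Chart.cR Chart.cB Chart.nR Chart.nB Chart.alg Chart.ft Chart.oY Chart.oX Chart.tB Chart.lbc

/-- Charts exist around every point, in the open given by a property stable under shrinking. -/
theorem nonempty_chart {X Y : Scheme.{u}} [IsNoetherian Y] {f : X ⟶ Y} [LocallyOfFiniteType f]
    (c : DEt.Compactification f)
    [DCoh.HasRpush c.fbar] (hc : DCoh.RpushPreservesQCoh c.fbar) (a : DCoh.DQCoh Y ⥤ DCoh.DQCoh c.Xbar)
    (adj : DCoh.RpushQ c.fbar hc ⊣ a) (O : DCoh.DQCoh Y)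
    (hO : Nonempty (O.obj ≅ DCoh.inD Y (Coh.structureModule Y))) (x : X) :
    Nonempty (Chart f ((Dual3.shriekC c a).obj O) x) := by
  haveI : ∀ (S : CommRingCat.{u}), PreservesFiniteLimits (tilde.functor S) := AffSchLib.preservesFiniteLimits_tilde
  obtain ⟨eO⟩ := hO
  haveI : IsLocallyNoetherian X := LocallyOfFiniteType.isLocallyNoetherian f
  have hA : RepLib.RepObj c.fbar O.obj (a.obj O).obj := ⟨fun {_} =>
    ⟨(a.obj O).property, (adj.counit.app O).hom, fun L hL => SupportAdj.rep_counit c.fbar hc a adj O L hL⟩⟩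
  obtain ⟨T, U, h, hx⟩ := ChartApps.exists_charts f x
  haveI : (DCoh.inD Y (Coh.structureModule Y)).IsGE 0 :=
    (inferInstance : ((DerivedCategory.singleFunctor Y.Modules 0).obj (Coh.structureModule Y)).IsGE 0)
  haveI : O.obj.IsGE 0 := DerivedCategory.TStructure.t.isGE_of_iso eO.symm 0
  haveI : IsNoetherianRing Γ(Y, T.1) := IsLocallyNoetherian.component_noetherian T
  haveI : IsNoetherianRing Γ(X, U.1) := IsLocallyNoetherian.component_noetherian U
  letI : Algebra Γ(Y, T.1) Γ(X, U.1) := (f.appLE T.1 U.1 h).hom.toAlgebra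
  obtain ⟨eR⟩ := nonempty_structure_tilde Γ(Y, T.1)
  let eQ : (DCoh.restrictD T.2.fromSpec).obj O.obj ≅
      (DCoh.tildeD (CommRingCat.of Γ(Y, T.1))).obj (Dual.inD Γ(Y, T.1) Γ(Y, T.1)) :=
    (DCoh.restrictD T.2.fromSpec).mapIso eO ≪≫
      ((Scheme.Modules.restrictFunctor T.2.fromSpec).mapDerivedCategorySingleFunctor 0).app _ ≪≫
      (DerivedCategory.singleFunctor _ 0).mapIso (Scheme.Modules.restrictUnitIso T.2.fromSpec) ≪≫ eR.symm
  have hcomm : (U.2.fromSpec ≫ c.j) ≫ c.fbar =
      Spec.map (CommRingCat.ofHom (f.appLE T.1 U.1 h).hom) ≫ T.2.fromSpec := by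
    rw [Category.assoc, c.fac]
    exact (IsAffineOpen.SpecMap_appLE_fromSpec f T.2 U.2 h).symm
  obtain ⟨n, ψ, hψ, hcomp, hiso⟩ := ChartShriek.exists_local c.fbar hA 0 O.property (R := Γ(Y, T.1)) (B := Γ(X, U.1))
    (f.appLE T.1 U.1 h).hom T.2.fromSpec (U.2.fromSpec ≫ c.j) hcomm _ eQ
  haveI : DRing.HasLBaseChange (algebraMap Γ(Y, T.1) (MvPolynomial (Fin n) Γ(Y, T.1))) := DCat.hasLBaseChange _
  obtain ⟨Rψ, ⟨adjψ⟩⟩ := Shriek.exists_rightAdjoint ψ
  obtain ⟨i⟩ := hiso Rψ adjψ
  obtain ⟨y, hy⟩ : x ∈ Set.range U.2.fromSpec := by rw [U.2.range_fromSpec]; exact hx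
  let ψ' : MvPolynomial (Fin n) Γ(Y, T.1) →ₐ[Γ(Y, T.1)] Γ(X, U.1) :=
    { ψ with commutes' := fun r => RingHom.congr_fun hcomp r }
  haveI : Algebra.FiniteType Γ(Y, T.1) Γ(X, U.1) := Algebra.FiniteType.of_surjective ψ' hψ
  obtain ⟨w⟩ := PerfLocal.rd_comp U.2.fromSpec c.j (a.obj O).obj
  exact ⟨{ R := Γ(Y, T.1), B := Γ(X, U.1), jY := T.2.fromSpec, jX := U.2.fromSpec, pt := y, hpt := hy
           comm := (IsAffineOpen.SpecMap_appLE_fromSpec f T.2 U.2 h).symm
           n := n, ψ := ψ', surj := hψ, Rψ := Rψ, adj := adjψ, iso := w.symm ≪≫ i }⟩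

/-- The two local fibre dimensions agree. -/
theorem localFibreDim_eq {X Y : Scheme.{u}} (f : X ⟶ Y) (x : X) :
    Dual3.localFibreDim f x = FlatMor.fibreDimAt f x := by
  refine le_antisymm (le_iInf fun U => iInf₂_le U.1 U.2) (le_iInf₂ fun U hU => ?_)
  exact iInf_le (fun U : {U : TopologicalSpace.Opens ↥(f.fiber (f x)) // f.asFiber x ∈ U} =>
    topologicalKrullDim (U.1 : Set ↥(f.fiber (f x)))) ⟨U, hU⟩

/-- The fibre dimension seen in a chart. -/
theorem fibreDimAt_chart {X Y : Scheme.{u}} {f : X ⟶ Y} {G : DCoh.D X} {x : X} (C : Chart f G x) :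
    FlatMor.fibreDimAt (Spec.map (CommRingCat.ofHom (algebraMap C.R C.B))) C.pt = Dual3.localFibreDim f x := by
  exact ((AlgSpLib.fibreDimAt_eq_of_etale_square C.jX C.jY C.comm C.pt).symm.trans
    (congrArg (FlatMor.fibreDimAt f) C.hpt)).trans (localFibreDim_eq f x).symm

end Groth.Agent.DualLib.ShriekLocal
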