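import Mathlib.Topology.KrullDimension
import Mathlib.RingTheory.Spectrum.Prime.Topology
import Mathlib.RingTheory.Support
import Mathlib.RingTheory.KrullDimension.NonZeroDivisors
import Mathlib.RingTheory.Spectrum.Prime.RingHom

/-! Dimensions of subsets are local; dimensions of supports of finite modules. -/

set_option autoImplicit false

universe u

open TopologicalSpace Topology

namespace Groth.Agent.DualLib.SuppDim

/-- The dimension can be computed on an open cover. -/
theorem topologicalKrullDim_le_of_openEmbeddings {X : Type u} [TopologicalSpace X] (b : WithBot ℕ∞)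
    (h : ∀ x : X, ∃ (Y : Type u) (_ : TopologicalSpace Y) (f : Y → X), IsOpenEmbedding f ∧ x ∈ Set.range f ∧
      topologicalKrullDim Y ≤ b) :
    topologicalKrullDim X ≤ b := by
  rw [topologicalKrullDim]
  rcases isEmpty_or_nonempty (IrreducibleCloseds X) with hX | hX
  · rw [Order.krullDim_eq_bot]; exact bot_le
  · rw [Order.krullDim_eq_iSup_coheight]
    refine iSup_le fun Z => ?_
    obtain ⟨z, hz⟩ := Z.2.nonempty
    obtain ⟨Y, _, f, hf, ⟨y, hy⟩, hY⟩ := h z
    let Z' : IrreducibleCloseds Y := ⟨f ⁻¹' Z, Z.2.preimage hf ⟨z, ⟨hz, y, hy⟩⟩, Z.3.preimage hf.continuous⟩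
    have hmap : IrreducibleCloseds.map f hf.continuous Z' = Z := by
      apply IrreducibleCloseds.ext
      show closure (f '' (f ⁻¹' Z)) = (Z : Set X)
      rw [Set.image_preimage_eq_inter_range]
      refine Set.Subset.antisymm (closure_minimal Set.inter_subset_left Z.3)
        (subset_closure_inter_of_isPreirreducible_of_isOpen Z.2.2 hf.isOpen_range ⟨z, hz, y, hy⟩)
    rw [← hmap, hf.coheight_map]
    exact (Order.coheight_le_krullDim Z').trans hY

/-- The dimension of the support of a finite module, prime by prime. -/
theorem topologicalKrullDim_support_le {B H : Type u} [CommRing B] [AddCommGroup H] [Module B H] [Module.Finite B H]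
    (b : WithBot ℕ∞) (h : ∀ q ∈ Module.support B H, ringKrullDim (B ⧸ q.asIdeal) ≤ b) :
    topologicalKrullDim (Module.support B H) ≤ b := by
  rw [Module.support_eq_zeroLocus]
  have e : topologicalKrullDim (PrimeSpectrum.zeroLocus (Module.annihilator B H : Set B)) =
      topologicalKrullDim (PrimeSpectrum (B ⧸ Module.annihilator B H)) := by
    have hc := PrimeSpectrum.isClosedEmbedding_comap_of_surjective (B ⧸ Module.annihilator B H)
      (Ideal.Quotient.mk (Module.annihilator B H)) Ideal.Quotient.mk_surjective
    rw [(IsHomeomorph.topologicalKrullDim_eq _ hc.isEmbedding.toHomeomorph.isHomeomorph),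
      _root_.range_comap_of_surjective _ _ Ideal.Quotient.mk_surjective, Ideal.mk_ker]
  rw [e, PrimeSpectrum.topologicalKrullDim_eq_ringKrullDim]
  rcases subsingleton_or_nontrivial (B ⧸ Module.annihilator B H) with hs | hs
  · rw [ringKrullDim_eq_bot_of_subsingleton]; exact bot_le
  rw [ringKrullDim, Order.krullDim]
  refine iSup_le fun s => ?_
  let q : PrimeSpectrum B := PrimeSpectrum.comap (Ideal.Quotient.mk _) s.head
  have hq : Module.annihilator B H ≤ q.asIdeal := Ideal.mk_ker.ge.trans (Ideal.ker_le_comap _)
  refine le_trans ?_ (h q (Module.mem_support_iff_of_finite.2 hq))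
  let g : B ⧸ q.asIdeal →+* (B ⧸ Module.annihilator B H) ⧸ s.head.asIdeal :=
    Ideal.quotientMap _ (Ideal.Quotient.mk _) le_rfl
  have hg : Function.Surjective g := Ideal.quotientMap_surjective Ideal.Quotient.mk_surjective
  refine le_trans ?_ (ringKrullDim_le_of_surjective g hg)
  rw [ringKrullDim_quotient]
  let t : LTSeries (PrimeSpectrum.zeroLocus (s.head.asIdeal : Set (B ⧸ Module.annihilator B H))) :=
    { length := s.length
      toFun := fun i => ⟨s i, s.head_le i⟩
      step := fun i => s.step i }
  exact Order.LTSeries.length_le_krullDim t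

end Groth.Agent.DualLib.SuppDim
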