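import Groth.Agent.DualLib.ChartStalk
import Groth.Agent.DualLib.Gorenstein
import Groth.Agent.DualLib.LocSupport
import Groth.Agent.LocCoh.CanonicalCM
import Groth.Agent.DualLib.ShriekFlatSheaf
import Groth.Agent.S1811

/-!
# The cohomology sheaves of a dualizing complex on a scheme, stalkwise
-/

set_option autoImplicit false
set_option backward.isDefEq.respectTransparency false
set_option backward.defeqAttrib.useBackward true
set_option linter.style.haveILetI false
set_option linter.unusedSectionVars false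
set_option synthInstance.maxHeartbeats 100000

universe u

open CategoryTheory CategoryTheory.Limits AlgebraicGeometry DerivedCategory
open Groth.Agent.DCat Groth.Agent.Dual22Lib

attribute [local instance] HasDerivedCategory.standard

namespace Groth.Agent.DualLib.OmegaStalk

/-- A zero sheaf has zero stalks. -/
theorem subsingleton_stalk_of_isZero {X : Scheme.{u}} {M : X.Modules} (h : IsZero M) (x : X) :
    Subsingleton (M.presheaf.stalk x) :=
  AddCommGrpCat.subsingleton_of_isZero
    ((Scheme.Modules.toPresheaf X ⋙ TopCat.Presheaf.stalkFunctor AddCommGrpCat.{u} x).map_isZero h)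

/-- The dimension of a space all of whose components have dimension `d`. -/
theorem topologicalKrullDim_eq_of_components (X : Type u) [TopologicalSpace X] [Nonempty X] (d : ℕ)
    (hd : ∀ Z : Set X, Z ∈ irreducibleComponents X → topologicalKrullDim ↥Z = (d : WithBot ℕ∞)) :
    topologicalKrullDim X = (d : WithBot ℕ∞) := by
  refine le_antisymm (iSup_le fun s => ?_) ?_
  · obtain ⟨z, hz⟩ := s.last.2.nonempty
    obtain ⟨Z, hZ, hsZ, -⟩ : ∃ Z ∈ irreducibleComponents X, (s.last : Set X) ⊆ Z ∧ True := by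
      obtain ⟨t, ht, hsub⟩ := exists_mem_irreducibleComponents_subset_of_isIrreducible _ s.last.2
      exact ⟨t, ht, hsub, trivial⟩
    rw [← hd Z hZ]
    have hsub : ∀ i, (s i : Set X) ⊆ Z := fun i => Set.Subset.trans (SetLike.coe_subset_coe.2 (s.monotone (Fin.le_last i))) hsZ
    have hclosed : IsClosed Z := isClosed_of_mem_irreducibleComponents Z hZ
    let t : LTSeries (TopologicalSpace.IrreducibleCloseds ↥Z) :=
      { length := s.length
        toFun := fun i => ⟨Subtype.val ⁻¹' (s i : Set X),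
          ⟨(s i).2.nonempty.elim fun w hw => ⟨⟨w, hsub i hw⟩, hw⟩, fun u v hu hv ⟨a, ha, hau⟩ ⟨b, hb, hbv⟩ => by
            obtain ⟨U, hU, rfl⟩ := isOpen_induced_iff.1 hu
            obtain ⟨V, hV, rfl⟩ := isOpen_induced_iff.1 hv
            obtain ⟨w, hw, hwU, hwV⟩ := (s i).2.2 U V hU hV ⟨a, ha, hau⟩ ⟨b, hb, hbv⟩
            exact ⟨⟨w, hsub i hw⟩, hw, hwU, hwV⟩⟩,
          (s i).3.preimage continuous_subtype_val⟩
        step := fun i => by
          have h : s.toFun i.castSucc < s.toFun i.succ := s.step i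
          show (_ : TopologicalSpace.IrreducibleCloseds ↥Z) < _
          refine lt_of_le_of_ne (fun w (hw : (w : X) ∈ (s.toFun i.castSucc : Set X)) => (SetLike.coe_subset_coe.2 h.le) hw) fun e => h.ne ?_
          apply TopologicalSpace.IrreducibleCloseds.ext
          have e' := congrArg (fun T : TopologicalSpace.IrreducibleCloseds ↥Z => Subtype.val '' (T : Set ↥Z)) e
          simpa [Subtype.image_preimage_coe, Set.inter_eq_right.2 (hsub _)] using e' }
    exact Order.LTSeries.length_le_krullDim t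
  · obtain ⟨x⟩ := ‹Nonempty X›
    rw [← hd _ (irreducibleComponent_mem_irreducibleComponents x)]
    exact topologicalKrullDim_subspace_le _ _

/-- Over a Cohen–Macaulay local ring the cohomology of a concentrated dualizing complex is a Cohen–Macaulay module. -/
theorem cm_module_of_concentrated {A : Type u} [CommRing A] [LocCoh.IsCohenMacaulayLocalRing A] {W : Dual.D A}
    (hW : Dual.IsDualizing A W) (m : ℤ) (hz : ∀ i : ℤ, i ≠ m → Subsingleton (Dual.HD A W i)) :
    Nontrivial (Dual.HD A W m) ∧ _root_.LocCoh.IsCohenMacaulayModule A (Dual.HD A W m) := by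
  obtain ⟨c, hc⟩ := exists_normalized hW
  obtain ⟨n, hn⟩ := Groth.Agent.LocCoh.exists_dim_eq (R := A)
  obtain ⟨E, _, _, f, hf⟩ := Matlis6.exists_isInjectiveHull A (IsLocalRing.ResidueField A)
  have hE := Matlis6.of_isInjectiveHull_residueField hf
  have hω := isDualizing_shift hW c
  obtain ⟨e⟩ := nonempty_localDuality hω hc hf A n
  haveI := DualLib.finite hω A (-(n : ℤ))
  haveI : Module.Finite A (Dual.HD A (W⟦c⟧) (-(n : ℤ))) := hω.finite_cohomology _
  let eK : (Dual.HD A (W⟦c⟧) (-(n : ℤ)) →ₗ[A] E) ≃ₗ[A] _root_.LocCoh.H (IsLocalRing.maximalIdeal A) n A :=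
    ((eSelf (W⟦c⟧) (-(n : ℤ))).congrLeft E A).symm ≪≫ₗ e.symm
  obtain ⟨-, -, hcm, hdim⟩ := Groth.Agent.LocCoh.canonical_structure (K := Dual.HD A (W⟦c⟧) (-(n : ℤ))) hn hE eK
  haveI hnt : Nontrivial (Dual.HD A (W⟦c⟧) (-(n : ℤ))) := by
    by_contra h
    haveI := not_nontrivial_iff_subsingleton.1 h
    rw [Module.supportDim_eq_bot_of_subsingleton] at hdim
    exact WithBot.bot_ne_coe hdim
  let g : Dual.HD A (W⟦c⟧) (-(n : ℤ)) ≃ₗ[A] Dual.HD A W (c + -(n : ℤ)) :=
    (((homologyFunctor (ModuleCat.{u} A) 0).shiftIso c (-(n : ℤ)) (c + -(n : ℤ)) rfl).app W).toLinearEquiv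
  have hm : c + -(n : ℤ) = m := by
    by_contra h
    haveI := hz _ h
    exact not_subsingleton (Dual.HD A (W⟦c⟧) (-(n : ℤ))) g.toEquiv.subsingleton
  subst hm
  exact ⟨g.symm.toEquiv.nontrivial, (CAlgH3.isCohenMacaulayModule_congr g).1 hcm⟩

/-- For `X` proper over a field the right adjoint of direct image makes the structure sheaf dualizing. -/
theorem isDualizingSch_over_field (k : Type u) [Field k] (X : Scheme.{u}) (f : X ⟶ Spec (CommRingCat.of k)) [IsProper f]
    [∀ (U V : Scheme.{u}) (j : U ⟶ V) [IsOpenImmersion j], PreservesFiniteLimits (Scheme.Modules.restrictFunctor j)]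
    [∀ (S : CommRingCat.{u}), PreservesFiniteLimits (tilde.functor S)]
    [DCoh.HasRpush f] (hf : DCoh.RpushPreservesQCoh f) (a : DCoh.DQCoh (Spec (CommRingCat.of k)) ⥤ DCoh.DQCoh X)
    (adj : DCoh.RpushQ f hf ⊣ a) (O : DCoh.DQCoh (Spec (CommRingCat.of k)))
    (hO : Nonempty (O.obj ≅ DCoh.inD (Spec (CommRingCat.of k)) (Coh.structureModule (Spec (CommRingCat.of k))))) :
    Dual2.IsDualizingSch X (a.obj O).obj := by
  letI : X.Over (Spec (CommRingCat.of k)) := ⟨f⟩
  haveI : IsProper (X ↘ Spec (CommRingCat.of k)) := ‹IsProper f›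
  haveI : IsNoetherian (Spec (CommRingCat.of k)) := {}
  obtain ⟨eO⟩ := hO
  obtain ⟨eR⟩ := ShriekLocal.nonempty_structure_tilde k
  have hk : Dual.IsDualizing k (Dual.inD k k) := by
    haveI : Injective (ModuleCat.of k k) :=
      haveI : Module.Injective k k := Module.Baer.injective fun I g => by
        rcases Ideal.eq_bot_or_top I with rfl | rfl
        · exact ⟨0, fun x hx => by
            rw [LinearMap.zero_apply, show (⟨x, hx⟩ : (⊥ : Ideal k)) = 0 from Subsingleton.elim _ _, map_zero]⟩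
        · exact ⟨g.comp (Submodule.topEquiv.symm : k ≃ₗ[k] (⊤ : Ideal k)).toLinearMap, fun x hx => rfl⟩
      (Module.injective_iff_injective_object k k).1 this
    exact DualLib.isDualizing_self 1 inferInstance
  have hQ : Dual2.IsDualizingSch (Spec (CommRingCat.of k)) O.obj :=
    Dual22Lib.isDualizingSch_of_cover O.obj PUnit (fun _ => k) (fun _ => 𝟙 _)
      (fun x => ⟨⟨⟩, ⟨x, rfl⟩⟩) fun _ => ⟨_, hk, ⟨(DCoh.restrictD (𝟙 (Spec (CommRingCat.of k)))).mapIso eO ≪≫
        Dual22Lib.restrictZeroIso _ ≪≫ eR.symm⟩⟩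
  exact ChartApps.isDualizingSch_rep f (Q := O.obj) ⟨fun {_} =>
    ⟨(a.obj O).property, (adj.counit.app O).hom, fun L hL => SupportAdj.rep_counit f hf a adj O L hL⟩⟩ O.property hQ

variable {X : Scheme.{u}}
  [∀ (U V : Scheme.{u}) (j : U ⟶ V) [IsOpenImmersion j], PreservesFiniteLimits (Scheme.Modules.restrictFunctor j)]
  [∀ (S : CommRingCat.{u}), PreservesFiniteLimits (tilde.functor S)]
  {G : DCoh.D X} (hG : Dual2.IsDualizingSch X G)
include hG

/-- An affine chart of a dualizing complex at a point, inside which all generisations lie. -/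
theorem exists_chart (x : X) : ∃ (B : Type u) (_ : CommRing B) (j : Spec (CommRingCat.of B) ⟶ X) (_ : IsOpenImmersion j)
    (ω : Dual.D B) (y : PrimeSpectrum B), j y = x ∧ Dual.IsDualizing B ω ∧
      Nonempty ((DCoh.restrictD j).obj G ≅ (DCoh.tildeD (CommRingCat.of B)).obj ω) := by
  obtain ⟨U, hU, hx, -⟩ := exists_isAffineOpen_mem_and_subset (U := (⊤ : X.Opens)) (x := x) trivial
  let j : Spec (CommRingCat.of Γ(X, U)) ⟶ X := hU.fromSpec
  haveI : IsOpenImmersion j := hU.isOpenImmersion_fromSpec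
  obtain ⟨ω, hω, e⟩ := hG Γ(X, U) j
  obtain ⟨y, hy⟩ : x ∈ Set.range hU.fromSpec := by rw [hU.range_fromSpec]; exact hx
  exact ⟨_, inferInstance, j, inferInstance, ω, y, hy, hω, e⟩

/-- The support of each cohomology sheaf is stable under specialization. -/
theorem nontrivial_of_specializes {a b : X} (h : a ⤳ b) (i : ℤ)
    (ha : Nontrivial ((DCoh.HD G i).presheaf.stalk a)) : Nontrivial ((DCoh.HD G i).presheaf.stalk b) := by
  obtain ⟨B, _, j, _, ω, y, rfl, -, ⟨e⟩⟩ := exists_chart hG b
  obtain ⟨y', rfl⟩ := h.mem_open j.isOpenEmbedding.isOpen_range ⟨y, rfl⟩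
  refine (nontrivial_stalk_iff j e y i).2 (Module.mem_support_mono ?_ ((nontrivial_stalk_iff j e y' i).1 ha))
  exact (PrimeSpectrum.le_iff_specializes _ _).2 (j.isOpenEmbedding.isInducing.specializes_iff.1 h)

/-- Some cohomology sheaf is non-zero at each point. -/
theorem exists_nontrivial (x : X) : ∃ i : ℤ, Nontrivial ((DCoh.HD G i).presheaf.stalk x) := by
  obtain ⟨B, _, j, _, ω, y, rfl, hω, ⟨e⟩⟩ := exists_chart hG x
  haveI := hω.isNoetherianRing
  obtain ⟨i, hi⟩ := DualLib.exists_mem_support hω y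
  rw [(eSelf ω i).support_eq] at hi
  exact ⟨i, (nontrivial_stalk_iff j e y i).2 hi⟩

/-- At a Cohen–Macaulay point exactly one cohomology sheaf is non-zero, and its stalk is Cohen–Macaulay. -/
theorem cm_stalk (x : X) (hx : LocCoh.IsCohenMacaulayLocalRing (X.presheaf.stalk x)) (m : ℤ)
    (hm : Nontrivial ((DCoh.HD G m).presheaf.stalk x)) :
    (∀ i : ℤ, i ≠ m → ¬ Nontrivial ((DCoh.HD G i).presheaf.stalk x)) ∧
      _root_.LocCoh.IsCohenMacaulayModule (X.presheaf.stalk x) ((DCoh.HD G m).presheaf.stalk x) := by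
  obtain ⟨B, _, j, _, ω, y, rfl, hω, ⟨e⟩⟩ := exists_chart hG x
  haveI := hω.isNoetherianRing
  haveI : PreservesFiniteColimits (tilde.functor (CommRingCat.of B)) :=
    haveI := (tilde.adjunction (R := CommRingCat.of B)).leftAdjoint_preservesColimits
    inferInstance
  obtain ⟨η⟩ := DQCoh.nonempty_homology_natIso (tilde.functor (CommRingCat.of B)) m
  let eM : (DCoh.HD G m).restrict j ≅ tilde (R := CommRingCat.of B) ((homologyFunctor (ModuleCat.{u} B) m).obj ω) :=
    (DCat.SuppOpen.hdMapIso (Scheme.Modules.restrictFunctor j) G m).symm ≪≫ (homologyFunctor _ m).mapIso e ≪≫ η.app _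
  obtain ⟨σ, Φ, hΦ⟩ := ChartStalk.exists_stalk_semilinear j (DCoh.HD G m) _ eM y
  have hB : LocCoh.IsCohenMacaulayLocalRing (Localization.AtPrime y.asIdeal) :=
    CAlgH3.isCohenMacaulayLocalRing_of_ringEquiv (h := hx) σ.symm
  have huniq : ∀ i : ℤ, i ≠ m → ¬ Nontrivial ((DCoh.HD G i).presheaf.stalk (j y)) := fun i hi hn =>
    hi (unique_degree hω hB ((nontrivial_stalk_iff j e y i).1 hn) ((nontrivial_stalk_iff j e y m).1 hm))
  refine ⟨huniq, ?_⟩
  haveI := hB
  let B' := Localization.AtPrime y.asIdeal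
  let W := (extD (algebraMap B B')).obj ω
  obtain ⟨_, _⟩ := Dual22Lib.preserves_extendScalars (B := B') y.asIdeal.primeCompl
  have hW : Dual.IsDualizing B' W := isDualizing_extD y.asIdeal.primeCompl hω
  have hz : ∀ i : ℤ, i ≠ m → Subsingleton (Dual.HD B' W i) := fun i hi => by
    obtain ⟨eT⟩ := nonempty_HD_tensor y.asIdeal.primeCompl ω i
    haveI := subsingleton_tensor_of_notMem y _ fun hs => huniq i hi ((nontrivial_stalk_iff j e y i).2 hs)
    exact eT.injective.subsingleton
  obtain ⟨-, hcm⟩ := cm_module_of_concentrated hW m hz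
  obtain ⟨eT⟩ := nonempty_HD_tensor y.asIdeal.primeCompl ω m
  let H := (homologyFunctor (ModuleCat.{u} B) m).obj ω
  let eL := (LocalizedModule.equivTensorProduct y.asIdeal.primeCompl H)
  haveI : Module.Finite B H := hω.finite_cohomology m
  exact ChartStalk.isCohenMacaulayModule_of_semilinear σ Φ hΦ
    ((CAlgH3.isCohenMacaulayModule_congr (eT ≪≫ₗ eL.symm)).1 hcm)

/-- The cohomology sheaves are coherent. -/
theorem isCoh_HD [IsLocallyNoetherian X] (m : ℤ) : Coh.IsCoh (DCoh.HD G m) := by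
  choose B iB j ij ω y hy hω e using exists_chart hG
  refine KZeroLib.isCoh_of_cover _ (fun x : X => (j x).opensRange)
    (TopologicalSpace.IsOpenCover.mk (eq_top_iff.2 fun x _ => TopologicalSpace.Opens.mem_iSup.2 ⟨x, y x, hy x⟩)) fun x => ?_
  haveI := (hω x).isNoetherianRing
  obtain ⟨e'⟩ := e x
  haveI : PreservesFiniteColimits (tilde.functor (CommRingCat.of (B x))) :=
    haveI := (tilde.adjunction (R := CommRingCat.of (B x))).leftAdjoint_preservesColimits
    inferInstance
  obtain ⟨η⟩ := DQCoh.nonempty_homology_natIso (tilde.functor (CommRingCat.of (B x))) m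
  let eM : (DCoh.HD G m).restrict (j x) ≅ tilde (R := CommRingCat.of (B x)) ((homologyFunctor (ModuleCat.{u} (B x)) m).obj (ω x)) :=
    (DCat.SuppOpen.hdMapIso (Scheme.Modules.restrictFunctor (j x)) G m).symm ≪≫ (homologyFunctor _ m).mapIso e' ≪≫ η.app _
  haveI : Module.Finite (B x) ((homologyFunctor (ModuleCat.{u} (B x)) m).obj (ω x)) := (hω x).finite_cohomology m
  have hc := AlgzLib.isCoh_tilde (A := B x) ((homologyFunctor (ModuleCat.{u} (B x)) m).obj (ω x))
  let k := (j x).isoOpensRange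
  have hk : k.inv ≫ j x = (j x).opensRange.ι := (j x).isoOpensRange_inv_comp
  have h1 := DQCoh.CohExt.isCoh_of_iso eM.symm hc
  haveI : Coh.IsQCoh ((DCoh.HD G m).restrict (j x)) := h1.1
  haveI := h1.2
  exact DQCoh.CohExt.isCoh_of_iso
    (((Scheme.Modules.restrictFunctorComp k.inv (j x)).app (DCoh.HD G m)).symm ≪≫
      (Scheme.Modules.restrictFunctorCongr hk).app (DCoh.HD G m))
    ⟨(inferInstance : Coh.IsQCoh (((DCoh.HD G m).restrict (j x)).restrict k.inv)), AffSchLib.isFT_restrict k.inv _ h1.2⟩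

end Groth.Agent.DualLib.OmegaStalk
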