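import Groth.Agent.Dual22Lib.RepLib
import Groth.Agent.DCat.OpenDerived
import Groth.Agent.DCat.PullComp
import Groth.Agent.Dual22Lib.AdjExists
import Groth.Agent.Dual22Lib.CohTors
import Groth.Prelude.Def_Dual3
import Mathlib.CategoryTheory.Adjunction.Restrict
import Mathlib.CategoryTheory.Adjunction.Unique

/-!
# Natural isomorphisms between right adjoints of `Rf_*`: composition and restriction to opens
-/

set_option autoImplicit false
set_option backward.isDefEq.respectTransparency false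
set_option backward.defeqAttrib.useBackward true
set_option linter.style.haveILetI false
set_option linter.unusedSectionVars false
set_option synthInstance.maxHeartbeats 100000

universe u

open CategoryTheory CategoryTheory.Limits CategoryTheory.Pretriangulated AlgebraicGeometry Opposite
open Groth.Agent Groth.Agent.DCat Groth.Agent.SiteDer16
open scoped ZeroObject

attribute [local instance] HasDerivedCategory.standard
attribute [-instance] Int.instConditionallyCompleteLinearOrder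

namespace Groth.Agent.DualLib.ShriekNat

/-- Composites of exact functors on derived categories. -/
theorem nonempty_mapD_comp {A B C : Type (u + 1)} [Category.{u} A] [Category.{u} B] [Category.{u} C]
    [Abelian A] [Abelian B] [Abelian C]
    [HasDerivedCategory.{u + 1} A] [HasDerivedCategory.{u + 1} B] [HasDerivedCategory.{u + 1} C]
    (F : A ⥤ B) (G : B ⥤ C) (H : A ⥤ C) [F.Additive] [G.Additive] [H.Additive]
    [PreservesFiniteLimits F] [PreservesFiniteColimits F] [PreservesFiniteLimits G] [PreservesFiniteColimits G]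
    [PreservesFiniteLimits H] [PreservesFiniteColimits H] (e : H ≅ F ⋙ G) :
    Nonempty (H.mapDerivedCategory ≅ F.mapDerivedCategory ⋙ G.mapDerivedCategory) := by
  let c : H.mapHomologicalComplex (ComplexShape.up ℤ) ⋙ DerivedCategory.Q ≅
      DerivedCategory.Q ⋙ F.mapDerivedCategory ⋙ G.mapDerivedCategory :=
    Functor.isoWhiskerRight (NatIso.mapHomologicalComplex e _) DerivedCategory.Q ≪≫
      Functor.isoWhiskerRight (NatIso.ofComponents (fun _ => Iso.refl _) : (F ⋙ G).mapHomologicalComplex (ComplexShape.up ℤ) ≅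
        F.mapHomologicalComplex _ ⋙ G.mapHomologicalComplex _) DerivedCategory.Q ≪≫
      Functor.associator _ _ _ ≪≫ Functor.isoWhiskerLeft _ G.mapDerivedCategoryFactors.symm ≪≫
      (Functor.associator _ _ _).symm ≪≫ Functor.isoWhiskerRight F.mapDerivedCategoryFactors.symm _ ≪≫
      Functor.associator _ _ _
  letI : Localization.Lifting DerivedCategory.Q (HomologicalComplex.quasiIso A (ComplexShape.up ℤ))
      (H.mapHomologicalComplex (ComplexShape.up ℤ) ⋙ DerivedCategory.Q) H.mapDerivedCategory := ⟨H.mapDerivedCategoryFactors⟩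
  letI : Localization.Lifting DerivedCategory.Q (HomologicalComplex.quasiIso A (ComplexShape.up ℤ))
      (H.mapHomologicalComplex (ComplexShape.up ℤ) ⋙ DerivedCategory.Q)
      (F.mapDerivedCategory ⋙ G.mapDerivedCategory) := ⟨c.symm⟩
  exact ⟨Localization.liftNatIso DerivedCategory.Q (HomologicalComplex.quasiIso A (ComplexShape.up ℤ))
    (H.mapHomologicalComplex (ComplexShape.up ℤ) ⋙ DerivedCategory.Q)
    (H.mapHomologicalComplex (ComplexShape.up ℤ) ⋙ DerivedCategory.Q)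
    H.mapDerivedCategory (F.mapDerivedCategory ⋙ G.mapDerivedCategory) (Iso.refl _)⟩

/-- The identity functor on derived categories. -/
theorem nonempty_mapD_id {A : Type (u + 1)} [Category.{u} A] [Abelian A] [HasDerivedCategory.{u + 1} A]
    (H : A ⥤ A) [H.Additive] [PreservesFiniteLimits H] [PreservesFiniteColimits H] (e : H ≅ 𝟭 A) :
    Nonempty (H.mapDerivedCategory ≅ 𝟭 (DerivedCategory A)) := by
  let c : H.mapHomologicalComplex (ComplexShape.up ℤ) ⋙ DerivedCategory.Q ≅ DerivedCategory.Q ⋙ 𝟭 (DerivedCategory A) :=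
    Functor.isoWhiskerRight (NatIso.mapHomologicalComplex e _ ≪≫ Functor.mapHomologicalComplexIdIso A _)
      DerivedCategory.Q ≪≫ Functor.leftUnitor _ ≪≫ (Functor.rightUnitor _).symm
  letI : Localization.Lifting DerivedCategory.Q (HomologicalComplex.quasiIso A (ComplexShape.up ℤ))
      (H.mapHomologicalComplex (ComplexShape.up ℤ) ⋙ DerivedCategory.Q) H.mapDerivedCategory := ⟨H.mapDerivedCategoryFactors⟩
  letI : Localization.Lifting DerivedCategory.Q (HomologicalComplex.quasiIso A (ComplexShape.up ℤ))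
      (H.mapHomologicalComplex (ComplexShape.up ℤ) ⋙ DerivedCategory.Q) (𝟭 (DerivedCategory A)) := ⟨c.symm⟩
  exact ⟨Localization.liftNatIso DerivedCategory.Q (HomologicalComplex.quasiIso A (ComplexShape.up ℤ))
    (H.mapHomologicalComplex (ComplexShape.up ℤ) ⋙ DerivedCategory.Q)
    (H.mapHomologicalComplex (ComplexShape.up ℤ) ⋙ DerivedCategory.Q)
    H.mapDerivedCategory (𝟭 (DerivedCategory A)) (Iso.refl _)⟩

variable {X Y Z : Scheme.{u}}

instance hasRpush' (f : X ⟶ Y) : DCoh.HasRpush f := DCat.hasRpush f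

variable [IsNoetherian X] [IsNoetherian Y] [IsNoetherian Z]

/-- `Rf_*` on `D_qc`. -/
noncomputable abbrev R (f : X ⟶ Y) : DCoh.DQCoh X ⥤ DCoh.DQCoh Y :=
  DCoh.RpushQ f (fun K hK => DQCoh.isQCohD_Rpush f K hK)

instance isLeftAdjoint_R (f : X ⟶ Y) : (R f).IsLeftAdjoint :=
  Dual22Lib.AdjGeom.isLeftAdjoint_RpushQ f (fun K hK => DQCoh.isQCohD_Rpush f K hK)

/-- The right adjoint of `Rf_*`. -/
noncomputable abbrev A (f : X ⟶ Y) : DCoh.DQCoh Y ⥤ DCoh.DQCoh X := (R f).rightAdjoint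

/-- The adjunction. -/
noncomputable abbrev adjA (f : X ⟶ Y) : R f ⊣ A f := Adjunction.ofIsLeftAdjoint (R f)

instance preservesRestrict (j : X ⟶ Y) [IsOpenImmersion j] :
    PreservesFiniteLimits (Scheme.Modules.restrictFunctor j) := PullPerf.preservesFiniteLimits_restrict j

/-- Restriction on `D_qc`. -/
noncomputable abbrev res (j : X ⟶ Y) [IsOpenImmersion j] : DCoh.DQCoh Y ⥤ DCoh.DQCoh X :=
  ObjectProperty.lift _ (ObjectProperty.ι _ ⋙ DCoh.restrictD j)
    fun K => Dual22Lib.AdjGeom.isQCohD_restrictD j K.property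

theorem nonempty_R_comp (f : X ⟶ Y) (g : Y ⟶ Z) : Nonempty (R f ⋙ R g ≅ R (f ≫ g)) := by
  obtain ⟨c⟩ := DCat.nonempty_RpushComp f g
  exact ⟨Functor.fullyFaithfulCancelRight (ObjectProperty.ι _)
    (Functor.isoWhiskerLeft (ObjectProperty.ι DCoh.IsQCohD) c)⟩

/-- `(g f)^× = f^× g^×`. -/
theorem nonempty_A_comp (f : X ⟶ Y) (g : Y ⟶ Z) : Nonempty (A g ⋙ A f ≅ A (f ≫ g)) := by
  obtain ⟨c⟩ := nonempty_R_comp f g
  exact ⟨(((adjA f).comp (adjA g)).ofNatIsoLeft c).rightAdjointUniq (adjA (f ≫ g))⟩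

theorem nonempty_res_comp (h : X ⟶ Y) [IsOpenImmersion h] (k : Y ⟶ Z) [IsOpenImmersion k] :
    Nonempty (res (h ≫ k) ≅ res k ⋙ res h) := by
  obtain ⟨c⟩ := nonempty_mapD_comp (Scheme.Modules.restrictFunctor k) (Scheme.Modules.restrictFunctor h)
    (Scheme.Modules.restrictFunctor (h ≫ k)) (Scheme.Modules.restrictFunctorComp h k)
  exact ⟨Functor.fullyFaithfulCancelRight (ObjectProperty.ι _)
    (Functor.isoWhiskerLeft (ObjectProperty.ι DCoh.IsQCohD) c)⟩

theorem nonempty_res_id : Nonempty (res (𝟙 X) ≅ 𝟭 (DCoh.DQCoh X)) := by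
  obtain ⟨c⟩ := nonempty_mapD_id (Scheme.Modules.restrictFunctor (𝟙 X)) Scheme.Modules.restrictFunctorId
  exact ⟨Functor.fullyFaithfulCancelRight (ObjectProperty.ι _)
    (Functor.isoWhiskerLeft (ObjectProperty.ι DCoh.IsQCohD) c)⟩

/-- `j^* ⊣ Rj_*` on `D_qc`. -/
noncomputable abbrev adjResOf {j : X ⟶ Y} [IsOpenImmersion j] (adj : DCoh.restrictD j ⊣ DCoh.Rpush j) :
    res j ⊣ R j :=
  adj.restrictFullyFaithful (ObjectProperty.fullyFaithfulι _) (ObjectProperty.fullyFaithfulι _)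
    (Iso.refl _) (Iso.refl _)

theorem isIso_counit_adjResOf {j : X ⟶ Y} [IsOpenImmersion j] (adj : DCoh.restrictD j ⊣ DCoh.Rpush j)
    [IsIso adj.counit] : IsIso (adjResOf adj).counit := by
  let hr := adj.fullyFaithfulROfIsIsoCounit
  let hff : (R j).FullyFaithful :=
    { preimage := fun g => ObjectProperty.homMk (hr.preimage g.hom)
      map_preimage := fun g => ObjectProperty.hom_ext _ (hr.map_preimage g.hom)
      preimage_map := fun g => ObjectProperty.hom_ext _ (hr.preimage_map g.hom) }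
  haveI := hff.full
  haveI := hff.faithful
  infer_instance

/-- `j^* ⊣ Rj_*` on `D_qc` with invertible counit. -/
theorem exists_adjRes (j : X ⟶ Y) [IsOpenImmersion j] : ∃ ad : res j ⊣ R j, IsIso ad.counit := by
  obtain ⟨adj, hc⟩ := Dual22Lib.AdjGeom.exists_adj j
  haveI := hc
  exact ⟨adjResOf adj, isIso_counit_adjResOf adj⟩

/-- For an isomorphism `e^×` is the restriction. -/
theorem nonempty_A_isIso (e : X ⟶ Y) [IsIso e] : Nonempty (A e ≅ res e) := by
  obtain ⟨adj, hc⟩ := Dual22Lib.AdjGeom.exists_adj e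
  haveI := hc
  haveI := isIso_counit_adjResOf adj
  haveI : ∀ L, IsIso ((adjResOf adj).unit.app L) := fun L => by
    haveI := Dual22Lib.RepLib.isIso_unit e (Scheme.Hom.opensRange_of_isIso e) adj L.obj
    haveI : IsIso ((ObjectProperty.ι DCoh.IsQCohD).map ((adjResOf adj).unit.app L)) := by
      rw [Adjunction.map_restrictFullyFaithful_unit_app]
      exact IsIso.comp_isIso' ‹IsIso (adj.unit.app L.obj)› inferInstance
    exact isIso_of_reflects_iso _ (ObjectProperty.ι DCoh.IsQCohD)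
  haveI : IsIso (adjResOf adj).unit := NatIso.isIso_of_isIso_app _
  exact ⟨(adjA e).rightAdjointUniq (adjResOf adj).toEquivalence.symm.toAdjunction⟩

section Restrict

variable (f : X ⟶ Y) (U : Y.Opens) [IsNoetherian (U : Scheme.{u})] [IsNoetherian (f ⁻¹ᵁ U : Scheme.{u})]

theorem nonempty_R_restrict : Nonempty (R f ⋙ res U.ι ≅ res (f ⁻¹ᵁ U).ι ⋙ R (f ∣_ U)) :=
  ⟨Functor.fullyFaithfulCancelRight (ObjectProperty.ι _)
    (Functor.isoWhiskerLeft (ObjectProperty.ι DCoh.IsQCohD) (OpenDerived.rpushRestrictIso f U))⟩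

/-- `(f^× K)|_{f⁻¹U} = (f|_U)^× (K|_U)` naturally on bounded below objects, for proper `f`. -/
theorem nonempty_restrictOpen [IsProper f] {C : Type*} [Category C] (G : C ⥤ DCoh.DQCoh Y)
    (hG : ∀ c, Dual3.IsBddBelowQ Y (G.obj c)) :
    Nonempty (G ⋙ A f ⋙ res (f ⁻¹ᵁ U).ι ≅ G ⋙ res U.ι ⋙ A (f ∣_ U)) := by
  obtain ⟨adU, hcU⟩ := exists_adjRes U.ι
  obtain ⟨adO, hcO⟩ := exists_adjRes (f ⁻¹ᵁ U).ι
  obtain ⟨bc⟩ := nonempty_R_restrict f U
  haveI := hcU
  haveI := hcO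
  let O := f ⁻¹ᵁ U
  let e : R U.ι ⋙ A f ≅ A (f ∣_ U) ⋙ R O.ι :=
    ((adjA f).comp adU).rightAdjointUniq ((adO.comp (adjA (f ∣_ U))).ofNatIsoLeft bc.symm)
  let θ : A f ⋙ res O.ι ⟶ res U.ι ⋙ A (f ∣_ U) :=
    Functor.whiskerRight ((Functor.leftUnitor _).inv ≫ Functor.whiskerRight adU.unit (A f)) (res O.ι) ≫
      Functor.whiskerRight ((Functor.associator _ _ _).hom ≫ Functor.whiskerLeft (res U.ι) e.hom) (res O.ι) ≫
      (Functor.associator _ _ _).hom ≫ Functor.whiskerLeft (res U.ι) ((Functor.associator _ _ _).hom ≫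
        Functor.whiskerLeft (A (f ∣_ U)) adO.counit ≫ (Functor.rightUnitor _).hom)
  suffices h : ∀ K : DCoh.DQCoh Y, Dual3.IsBddBelowQ Y K → IsIso ((res O.ι).map ((A f).map (adU.unit.app K))) by
    haveI hθ : ∀ c, IsIso (θ.app (G.obj c)) := fun c => by
      haveI := h _ (hG c)
      simp only [θ, NatTrans.comp_app, Functor.whiskerRight_app, Functor.whiskerLeft_app, Functor.associator_hom_app,
        Functor.leftUnitor_inv_app, Functor.rightUnitor_hom_app, Category.id_comp, Category.comp_id]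
      have h1 : IsIso ((res O.ι).map (e.hom.app ((res U.ι).obj (G.obj c)))) := inferInstance
      have h2 : IsIso (adO.counit.app ((A (f ∣_ U)).obj ((res U.ι).obj (G.obj c)))) := inferInstance
      exact IsIso.comp_isIso' ‹IsIso ((res O.ι).map ((A f).map (adU.unit.app (G.obj c))))› (IsIso.comp_isIso' h1 (IsIso.comp_isIso' h2 (IsIso.id _)))
    exact ⟨NatIso.ofComponents (fun c => asIso (θ.app (G.obj c))) (fun g => θ.naturality (G.map g))⟩
  rintro K ⟨c, hc⟩
  haveI := hc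
  -- the cone of the unit is killed on `U`
  let ι := ObjectProperty.ι (Dual22Lib.AdjGeom.qcD Y)
  obtain ⟨N, a, γ, hT⟩ := distinguished_cocone_triangle₁ (adU.unit.app K).hom
  have hRK : DCoh.IsQCohD ((R U.ι).obj ((res U.ι).obj K)).obj := ((R U.ι).obj ((res U.ι).obj K)).property
  have hN : DCoh.IsQCohD N := DQCoh.isQCohD_obj₃ (inv_rot_of_distTriang _ (inv_rot_of_distTriang _ hT))
    (DQCoh.isQCohD_shift K.property (-1)) (DQCoh.isQCohD_shift hRK (-1))
  haveI : ((DCoh.restrictD U.ι).obj K.obj).IsGE c := Dual22Lib.CohTors.isGE_restrictD U.ι c hc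
  haveI : ((DCoh.Rpush U.ι).obj ((DCoh.restrictD U.ι).obj K.obj)).IsGE c := Dual22Lib.RepLib.isGE_Rpush U.ι _ c
  let RQ := ((R U.ι).obj ((res U.ι).obj K)).obj
  haveI : RQ.IsGE c := (inferInstance : ((DCoh.Rpush U.ι).obj ((DCoh.restrictD U.ι).obj K.obj)).IsGE c)
  haveI : N.IsGE c := by
    let t : Triangulated.TStructure (DCoh.D Y) := DerivedCategory.TStructure.t
    haveI : (RQ⟦(-1 : ℤ)⟧).IsGE (c + 1) := t.isGE_shift RQ c (-1) (c + 1) (by omega)
    exact t.isGE₂ _ (inv_rot_of_distTriang _ hT) c (t.isGE_of_ge (RQ⟦(-1 : ℤ)⟧) c (c + 1) (by omega)) hc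
  have hNk : Dual22Lib.AdjGeom.killed U.ι N := by
    haveI : IsIso ((res U.ι).map (adU.unit.app K)) := by
      rw [show (res U.ι).map (adU.unit.app K) = inv (adU.counit.app ((res U.ι).obj K)) from
        IsIso.eq_inv_of_inv_hom_id (adU.left_triangle_components K)]
      infer_instance
    haveI : IsIso ((DCoh.restrictD U.ι).map (adU.unit.app K).hom) :=
      (inferInstance : IsIso ((ObjectProperty.ι DCoh.IsQCohD).map ((res U.ι).map (adU.unit.app K))))
    exact (Triangle.isZero₁_iff_isIso₂ _ ((DCoh.restrictD U.ι).map_distinguished _ hT)).2 ‹_›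
  -- the triangulated adjoint
  obtain ⟨_, _⟩ := DCat.exists_commShift_Rpush f
  let F : (Dual22Lib.AdjGeom.qcD X).FullSubcategory ⥤ (Dual22Lib.AdjGeom.qcD Y).FullSubcategory :=
    ObjectProperty.lift (Dual22Lib.AdjGeom.qcD Y) (ObjectProperty.ι (Dual22Lib.AdjGeom.qcD X) ⋙ DCoh.Rpush f)
      (fun L => DQCoh.isQCohD_Rpush f L.obj L.property)
  let G' : (Dual22Lib.AdjGeom.qcD Y).FullSubcategory ⥤ (Dual22Lib.AdjGeom.qcD X).FullSubcategory := A f
  let ad : F ⊣ G' := adjA f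
  letI : G'.CommShift ℤ := ad.rightAdjointCommShift ℤ
  haveI : ad.CommShift ℤ := ad.commShift_of_leftAdjoint ℤ
  haveI : F.IsTriangulated := inferInstance
  haveI : G'.IsTriangulated := ad.isTriangulated_rightAdjoint
  let M₁ : (Dual22Lib.AdjGeom.qcD Y).FullSubcategory := ⟨N, hN⟩
  let M₂ : (Dual22Lib.AdjGeom.qcD Y).FullSubcategory := ⟨K.obj, K.property⟩
  let M₃ : (Dual22Lib.AdjGeom.qcD Y).FullSubcategory := ⟨RQ, hRK⟩
  let L' : Triangle (Dual22Lib.AdjGeom.qcD Y).FullSubcategory :=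
    Triangle.mk (ObjectProperty.homMk a : M₁ ⟶ M₂) (ObjectProperty.homMk (adU.unit.app K).hom : M₂ ⟶ M₃)
      (ObjectProperty.homMk (γ ≫ ((ObjectProperty.ι (Dual22Lib.AdjGeom.qcD Y)).commShiftIso (1 : ℤ)).inv.app M₁) :
        M₃ ⟶ M₁⟦(1 : ℤ)⟧)
  have hL' : L' ∈ distTriang _ := by
    refine isomorphic_distinguished _ hT _ (Triangle.isoMk _ _ (Iso.refl _) (Iso.refl _) (Iso.refl _) ?_ ?_ ?_)
    all_goals simp [L']
    all_goals try exact Category.comp_id _
  have hD := (DCoh.restrictD O.ι).map_distinguished _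
    ((ObjectProperty.ι (Dual22Lib.AdjGeom.qcD X)).map_distinguished _ (G'.map_distinguished _ hL'))
  have hz : Dual22Lib.AdjGeom.killed O.ι (G'.obj M₁).obj :=
    Dual22Lib.SupportAdj.killed_rep f U N c hN hNk _ ((adjA f).counit.app ⟨N, hN⟩).hom (G'.obj M₁).property
      (fun L hL => Dual22Lib.SupportAdj.rep_counit f (fun K hK => DQCoh.isQCohD_Rpush f K hK) (A f) (adjA f) ⟨N, hN⟩ L hL)
  haveI : IsIso ((ObjectProperty.ι DCoh.IsQCohD).map ((res O.ι).map ((A f).map (adU.unit.app K)))) :=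
    (Triangle.isZero₁_iff_isIso₂ _ hD).1 hz
  exact isIso_of_reflects_iso _ (ObjectProperty.ι DCoh.IsQCohD)

end Restrict

/-- Right adjoints preserve bounded below objects. -/
theorem isBddBelow_A (f : X ⟶ Y) {K : DCoh.DQCoh Y} (hK : Dual3.IsBddBelowQ Y K) :
    Dual3.IsBddBelowQ X ((A f).obj K) := by
  obtain ⟨c, hc⟩ := hK
  haveI := hc
  exact Dual22Lib.RepLib.exists_isGE c
    (⟨fun {_} => ⟨((A f).obj K).property, ((adjA f).counit.app K).hom,
      fun L hL => Dual22Lib.SupportAdj.rep_counit f (fun K hK => DQCoh.isQCohD_Rpush f K hK) (A f) (adjA f) K L hL⟩⟩ :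
        Dual22Lib.RepLib.RepObj f K.obj ((A f).obj K).obj)

/-- Restriction preserves bounded below objects. -/
theorem isBddBelow_res (j : X ⟶ Y) [IsOpenImmersion j] {K : DCoh.DQCoh Y} (hK : Dual3.IsBddBelowQ Y K) :
    Dual3.IsBddBelowQ X ((res j).obj K) := by
  obtain ⟨c, hc⟩ := hK
  exact ⟨c, Dual22Lib.CohTors.isGE_restrictD j c hc⟩

/-- Equal morphisms. -/
noncomputable def aCongr {f g : X ⟶ Y} (h : f = g) : A f ≅ A g := eqToIso (by subst h; rfl)

/-- Equal open immersions. -/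
noncomputable def resCongr {j k : X ⟶ Y} [IsOpenImmersion j] [IsOpenImmersion k] (h : j = k) : res j ≅ res k :=
  eqToIso (by subst h; rfl)

/-- `(f^× K)|_{X'} = f'^× (K|_{Y'})` along cartesian open immersions. -/
theorem nonempty_restrict {X' Y' : Scheme.{u}} [IsNoetherian X'] [IsNoetherian Y'] (f : X ⟶ Y) [IsProper f]
    (j : Y' ⟶ Y) [IsOpenImmersion j] (j' : X' ⟶ X) [IsOpenImmersion j'] (f' : X' ⟶ Y')
    (hcomm : j' ≫ f = f' ≫ j) (hrange : j'.opensRange = f ⁻¹ᵁ j.opensRange)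
    {C : Type*} [Category C] (G : C ⥤ DCoh.DQCoh Y) (hG : ∀ c, Dual3.IsBddBelowQ Y (G.obj c)) :
    Nonempty (G ⋙ A f ⋙ res j' ≅ G ⋙ res j ⋙ A f') := by
  let U := j.opensRange
  let O := f ⁻¹ᵁ U
  let d : Y' ≅ (U : Scheme.{u}) := j.isoOpensRange
  have hj' : Set.range j' = Set.range O.ι := by
    rw [Scheme.Opens.range_ι]
    exact congrArg (fun W : X.Opens => (W : Set X)) hrange
  let w : X' ≅ (O : Scheme.{u}) := IsOpenImmersion.isoOfRangeEq j' O.ι hj'
  have hw : w.hom ≫ O.ι = j' := IsOpenImmersion.isoOfRangeEq_hom_fac _ _ _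
  have hd : d.inv ≫ j = U.ι := Scheme.Hom.isoOpensRange_inv_comp j
  have hf : (w.hom ≫ (f ∣_ U)) ≫ d.inv = f' := by
    rw [← cancel_mono j, Category.assoc, hd, Category.assoc, morphismRestrict_ι, ← Category.assoc, hw, hcomm]
  haveI : CompactSpace (U : Scheme.{u}) := isCompact_iff_compactSpace.1 (TopologicalSpace.NoetherianSpace.isCompact _)
  haveI : IsNoetherian (U : Scheme.{u}) := { }
  haveI : CompactSpace (O : Scheme.{u}) := isCompact_iff_compactSpace.1 (TopologicalSpace.NoetherianSpace.isCompact _)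
  haveI : IsNoetherian (O : Scheme.{u}) := { }
  obtain ⟨r⟩ := nonempty_restrictOpen f U G hG
  obtain ⟨c₁⟩ := nonempty_res_comp w.hom O.ι
  obtain ⟨c₂⟩ := nonempty_res_comp d.inv j
  obtain ⟨iw⟩ := nonempty_A_isIso w.hom
  obtain ⟨id'⟩ := nonempty_A_isIso d.inv
  obtain ⟨p₁⟩ := nonempty_A_comp w.hom (f ∣_ U)
  obtain ⟨p₂⟩ := nonempty_A_comp (w.hom ≫ (f ∣_ U)) d.inv
  let e₁ : G ⋙ A f ⋙ res j' ≅ (G ⋙ A f ⋙ res O.ι) ⋙ A w.hom :=
    Functor.isoWhiskerLeft G (Functor.isoWhiskerLeft (A f)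
      (resCongr hw.symm ≪≫ c₁ ≪≫ Functor.isoWhiskerLeft (res O.ι) iw.symm))
  let e₂ : (G ⋙ A f ⋙ res O.ι) ⋙ A w.hom ≅ G ⋙ res U.ι ⋙ A (w.hom ≫ (f ∣_ U)) :=
    Functor.isoWhiskerRight r (A w.hom) ≪≫
      Functor.isoWhiskerLeft G (Functor.isoWhiskerLeft (res U.ι) p₁)
  let e₃ : res U.ι ⋙ A (w.hom ≫ (f ∣_ U)) ≅ res j ⋙ A f' :=
    Functor.isoWhiskerRight (resCongr hd.symm ≪≫ c₂ ≪≫ Functor.isoWhiskerLeft (res j) id'.symm)
        (A (w.hom ≫ (f ∣_ U))) ≪≫ Functor.associator _ _ _ ≪≫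
      Functor.isoWhiskerLeft (res j) (p₂ ≪≫ aCongr hf)
  exact ⟨e₁ ≪≫ e₂ ≪≫ Functor.isoWhiskerLeft G e₃⟩

end Groth.Agent.DualLib.ShriekNat

namespace Groth.Agent.DualLib.ShriekNat

variable {X X₁ P : Scheme.{u}} [IsNoetherian X] [IsNoetherian X₁] [IsNoetherian P]

/-- Changing the compactification, relative form: `σ : X ⟶ O ⊆ P` lies over a proper `g : X ⟶ V`. -/
theorem nonempty_transferOver {V : Scheme.{u}} [IsNoetherian V] (j : V ⟶ X₁) [IsOpenImmersion j] (g : X ⟶ V) [IsProper g]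
    (p : P ⟶ X₁) [IsProper p] (O : P.Opens)
    [IsNoetherian (O : Scheme.{u})] (hO : O ≤ p ⁻¹ᵁ j.opensRange) (σ : X ⟶ (O : Scheme.{u}))
    (hσ : σ ≫ O.ι ≫ p = g ≫ j) {C : Type*} [Category C] (G : C ⥤ DCoh.DQCoh X₁)
    (hG : ∀ c, Dual3.IsBddBelowQ X₁ (G.obj c)) :
    Nonempty (G ⋙ A p ⋙ res O.ι ⋙ A σ ≅ G ⋙ res j ⋙ A g) := by
  let O₁ : P.Opens := p ⁻¹ᵁ j.opensRange
  haveI : CompactSpace (O₁ : Scheme.{u}) := isCompact_iff_compactSpace.1 (TopologicalSpace.NoetherianSpace.isCompact _)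
  haveI : IsNoetherian (O₁ : Scheme.{u}) := { }
  let p₁ : (O₁ : Scheme.{u}) ⟶ V := (p ∣_ j.opensRange) ≫ j.isoOpensRange.inv
  haveI : IsProper p₁ := inferInstance
  have hp₁ : O₁.ι ≫ p = p₁ ≫ j := by
    show _ = ((p ∣_ j.opensRange) ≫ j.isoOpensRange.inv) ≫ j
    rw [Category.assoc, Scheme.Hom.isoOpensRange_inv_comp, morphismRestrict_ι]
  let i : (O : Scheme.{u}) ⟶ O₁ := P.homOfLE hO
  have hi : i ≫ O₁.ι = O.ι := Scheme.homOfLE_ι _ _
  let s : X ⟶ (O₁ : Scheme.{u}) := σ ≫ i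
  have hs : s ≫ p₁ = g := by
    rw [← cancel_mono j, Category.assoc, ← hp₁]
    show (σ ≫ i) ≫ O₁.ι ≫ p = _
    rw [Category.assoc, ← Category.assoc i, hi, hσ]
  haveI : IsProper s := by
    have : IsProper (s ≫ p₁) := by rw [hs]; infer_instance
    exact IsProper.of_comp s p₁
  obtain ⟨r₀⟩ := nonempty_restrict p j O₁.ι p₁ hp₁ (by rw [Scheme.Opens.opensRange_ι]) G hG
  obtain ⟨r₁⟩ := nonempty_restrict s i (𝟙 X) σ (Category.id_comp _) (by
      ext x
      simp only [Scheme.Hom.opensRange_of_isIso, TopologicalSpace.Opens.coe_top, Set.mem_univ, true_iff]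
      exact ⟨σ x, rfl⟩) (G ⋙ res j ⋙ A p₁) (fun c => isBddBelow_A p₁ (isBddBelow_res j (hG c)))
  obtain ⟨c₁⟩ := nonempty_res_comp i O₁.ι
  obtain ⟨c₂⟩ := nonempty_A_comp s p₁
  obtain ⟨c₄⟩ := nonempty_res_id (X := X)
  exact ⟨Functor.isoWhiskerLeft G (Functor.isoWhiskerLeft (A p)
        (Functor.isoWhiskerRight (resCongr hi.symm ≪≫ c₁) (A σ))) ≪≫
    Functor.isoWhiskerRight r₀ (res i ⋙ A σ) ≪≫ r₁.symm ≪≫
    Functor.isoWhiskerLeft (G ⋙ res j ⋙ A p₁) (Functor.isoWhiskerLeft (A s) c₄ ≪≫ Functor.rightUnitor _) ≪≫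
    Functor.isoWhiskerLeft (G ⋙ res j) (c₂ ≪≫ aCongr hs)⟩

/-- Changing the compactification: an open copy of `X` inside `P` computes the restriction to `X`. -/
theorem nonempty_transfer (j : X ⟶ X₁) [IsOpenImmersion j] (p : P ⟶ X₁) [IsProper p] (O : P.Opens)
    [IsNoetherian (O : Scheme.{u})] (hO : O ≤ p ⁻¹ᵁ j.opensRange) (σ : X ⟶ (O : Scheme.{u}))
    (hσ : σ ≫ O.ι ≫ p = j) {C : Type*} [Category C] (G : C ⥤ DCoh.DQCoh X₁)
    (hG : ∀ c, Dual3.IsBddBelowQ X₁ (G.obj c)) :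
    Nonempty (G ⋙ A p ⋙ res O.ι ⋙ A σ ≅ G ⋙ res j) := by
  obtain ⟨t⟩ := nonempty_transferOver j (𝟙 X) p O hO σ (by rw [Category.id_comp, hσ]) G hG
  obtain ⟨c₃⟩ := nonempty_A_isIso (𝟙 X)
  obtain ⟨c₄⟩ := nonempty_res_id (X := X)
  exact ⟨t ≪≫ Functor.isoWhiskerLeft (G ⋙ res j) (c₃ ≪≫ c₄) ≪≫ Functor.rightUnitor _⟩

end Groth.Agent.DualLib.ShriekNat
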