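import Groth.Agent.DualLib.EndIso
import Groth.Agent.DualLib.ShriekLocal
import Groth.Agent.DualLib.OmegaShriek
import Groth.Agent.DualLib.OmegaRelDual
import Groth.Agent.DQCoh.RelTorLocal
import Groth.Agent.Dual22Lib.RelPerfClosure

/-! Endomorphisms and relative perfectness of `f^! O`. -/

set_option autoImplicit false
set_option backward.isDefEq.respectTransparency false
set_option backward.defeqAttrib.useBackward true
set_option linter.style.haveILetI false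
set_option linter.unusedSectionVars false
set_option synthInstance.maxHeartbeats 100000

universe u

open CategoryTheory CategoryTheory.Limits AlgebraicGeometry Opposite
open Groth.Agent.DCat Groth.Agent.Dual22Lib

attribute [local instance] HasDerivedCategory.standard
attribute [-instance] Int.instConditionallyCompleteLinearOrder

namespace Groth.Agent.DualLib.EndShriek

variable [∀ (U V : Scheme.{u}) (j : U ⟶ V) [IsOpenImmersion j], PreservesFiniteLimits (Scheme.Modules.restrictFunctor j)]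
  [∀ (S : CommRingCat.{u}), PreservesFiniteLimits (tilde.functor S)]
  {X Y : Scheme.{u}} [IsNoetherian Y] {f : X ⟶ Y} [LocallyOfFiniteType f] (c : DEt.Compactification f)
  [DCoh.HasRpush c.fbar] (hc : DCoh.RpushPreservesQCoh c.fbar) (a : DCoh.DQCoh Y ⥤ DCoh.DQCoh c.Xbar)
  (adj : DCoh.RpushQ c.fbar hc ⊣ a) (O : DCoh.DQCoh Y)
  (hO : Nonempty (O.obj ≅ DCoh.inD Y (Coh.structureModule Y)))

include adj hO

/-- The value on a given pair of affine opens. -/
theorem exists_shriek_at (T : Y.affineOpens) (U : X.affineOpens) (h : U.1 ≤ f ⁻¹ᵁ T.1) :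
    ∃ (n : ℕ) (ψ : MvPolynomial (Fin n) Γ(Y, T.1) →+* Γ(X, U.1)), Function.Surjective ψ ∧
      ψ.comp (algebraMap Γ(Y, T.1) (MvPolynomial (Fin n) Γ(Y, T.1))) = (f.appLE T.1 U.1 h).hom ∧
      ∀ [DRing.HasLBaseChange (algebraMap Γ(Y, T.1) (MvPolynomial (Fin n) Γ(Y, T.1)))]
        (Rψ : Dual.D (MvPolynomial (Fin n) Γ(Y, T.1)) ⥤ Dual.D Γ(X, U.1)) (_ : DRing.restrictD ψ ⊣ Rψ),
        Nonempty ((DCoh.restrictD U.2.fromSpec).obj ((Dual3.shriekC c a).obj O) ≅
          (DCoh.tildeD (CommRingCat.of Γ(X, U.1))).obj (Dual2.shriekVia n Rψ (Dual.inD Γ(Y, T.1) Γ(Y, T.1)))) := by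
  obtain ⟨eO⟩ := hO
  have hA : RepLib.RepObj c.fbar O.obj (a.obj O).obj := ⟨fun {_} =>
    ⟨(a.obj O).property, (adj.counit.app O).hom, fun L hL => SupportAdj.rep_counit c.fbar hc a adj O L hL⟩⟩
  haveI : (DCoh.inD Y (Coh.structureModule Y)).IsGE 0 :=
    (inferInstance : ((DerivedCategory.singleFunctor Y.Modules 0).obj (Coh.structureModule Y)).IsGE 0)
  haveI : O.obj.IsGE 0 := DerivedCategory.TStructure.t.isGE_of_iso eO.symm 0
  haveI : IsNoetherianRing Γ(Y, T.1) := IsLocallyNoetherian.component_noetherian T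
  obtain ⟨eR⟩ := ShriekLocal.nonempty_structure_tilde Γ(Y, T.1)
  let eQ : (DCoh.restrictD T.2.fromSpec).obj O.obj ≅
      (DCoh.tildeD (CommRingCat.of Γ(Y, T.1))).obj (Dual.inD Γ(Y, T.1) Γ(Y, T.1)) :=
    (DCoh.restrictD T.2.fromSpec).mapIso eO ≪≫
      ((Scheme.Modules.restrictFunctor T.2.fromSpec).mapDerivedCategorySingleFunctor 0).app _ ≪≫
      (DerivedCategory.singleFunctor _ 0).mapIso (Scheme.Modules.restrictUnitIso T.2.fromSpec) ≪≫ eR.symm
  have hcomm : (U.2.fromSpec ≫ c.j) ≫ c.fbar =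
      Spec.map (CommRingCat.ofHom (f.appLE T.1 U.1 h).hom) ≫ T.2.fromSpec := by
    rw [Category.assoc, c.fac]
    exact (IsAffineOpen.SpecMap_appLE_fromSpec f T.2 U.2 h).symm
  obtain ⟨n, ψ, hψ, hcomp, hiso⟩ := ChartShriek.exists_local c.fbar hA 0 O.property (R := Γ(Y, T.1)) (B := Γ(X, U.1))
    (f.appLE T.1 U.1 h).hom T.2.fromSpec (U.2.fromSpec ≫ c.j) hcomm _ eQ
  obtain ⟨w⟩ := PerfLocal.rd_comp U.2.fromSpec c.j (a.obj O).obj
  exact ⟨n, ψ, hψ, hcomp, fun {_} Rψ adjψ => (hiso Rψ adjψ).map (w.symm ≪≫ ·)⟩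

omit [∀ (S : CommRingCat.{u}), PreservesFiniteLimits (tilde.functor S)] adj hO in
theorem flat_appLE [Flat f] (T : Y.affineOpens) (U : X.affineOpens) (h : U.1 ≤ f ⁻¹ᵁ T.1) :
    (f.appLE T.1 U.1 h).hom.Flat := by
  haveI : Flat (Spec.map (f.appLE T.1 U.1 h) ≫ T.2.fromSpec) := by
    rw [IsAffineOpen.SpecMap_appLE_fromSpec f T.2 U.2 h]; infer_instance
  haveI : Flat (Spec.map (f.appLE T.1 U.1 h)) :=
    MorphismProperty.of_postcomp (W' := @IsOpenImmersion) @Flat _ T.2.fromSpec inferInstance ‹_›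
  exact (HasRingHomProperty.Spec_iff (P := @Flat)).1 inferInstance

/-- Endomorphism charts and relative perfectness for a flat morphism. -/
theorem chart_flat [Flat f] (T : Y.affineOpens) (U : X.affineOpens) (h : U.1 ≤ f ⁻¹ᵁ T.1) :
    EndIso.EndChart ((Dual3.shriekC c a).obj O) U.1 ∧
      RelPerfClosure.RP (U.2.fromSpec ≫ f) ((PerfLocal.rd U.2.fromSpec).obj ((Dual3.shriekC c a).obj O)) := by
  haveI : IsLocallyNoetherian X := LocallyOfFiniteType.isLocallyNoetherian f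
  haveI : IsNoetherianRing Γ(Y, T.1) := IsLocallyNoetherian.component_noetherian T
  haveI : IsNoetherianRing Γ(X, U.1) := IsLocallyNoetherian.component_noetherian U
  obtain ⟨n, ψ, hψ, hcomp, hiso⟩ := exists_shriek_at c hc a adj O hO T U h
  haveI : DRing.HasLBaseChange (algebraMap Γ(Y, T.1) (MvPolynomial (Fin n) Γ(Y, T.1))) := DCat.hasLBaseChange _
  obtain ⟨Rψ, ⟨adjψ⟩⟩ := Shriek.exists_rightAdjoint ψ
  obtain ⟨i⟩ := hiso Rψ adjψ
  have hflat := flat_appLE (f := f) T U h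
  letI : Algebra Γ(Y, T.1) Γ(X, U.1) := (f.appLE T.1 U.1 h).hom.toAlgebra
  haveI : Module.Flat Γ(Y, T.1) Γ(X, U.1) := hflat
  let ψ' : MvPolynomial (Fin n) Γ(Y, T.1) →ₐ[Γ(Y, T.1)] Γ(X, U.1) :=
    { ψ with commutes' := fun r => RingHom.congr_fun hcomp r }
  refine ⟨?_, ?_⟩
  · obtain ⟨h1, h2⟩ := Omega.bijective_smul_id_shriekVia ψ' hψ adjψ
    exact ⟨Γ(X, U.1), inferInstance, U.2.fromSpec, inferInstance, inferInstance, _,
      U.2.opensRange_fromSpec, ⟨i⟩, h1, h2⟩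
  · have hM := Omega.isRelPerfect_shriekVia ψ' hψ adjψ
    obtain ⟨hp, ht⟩ := (DQCoh.relPerfect_affine_iff (f.appLE T.1 U.1 h) hflat _).2 hM
    refine ⟨fun m => PCTriangle.psc_iso i.symm (hp m), DQCoh.locRel_iso i.symm ?_⟩
    rw [← IsAffineOpen.SpecMap_appLE_fromSpec f T.2 U.2 h, DQCoh.locRel_comp_iff]
    exact ht

omit adj hO [∀ (U V : Scheme.{u}) (j : U ⟶ V) [IsOpenImmersion j], PreservesFiniteLimits (Scheme.Modules.restrictFunctor j)]
  [∀ (S : CommRingCat.{u}), PreservesFiniteLimits (tilde.functor S)] in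
/-- Affine opens over affine opens form a basis. -/
theorem exists_basis (x : X) (W : X.Opens) (hx : x ∈ W) :
    ∃ U ∈ {U : X.Opens | IsAffineOpen U ∧ ∃ T : Y.affineOpens, U ≤ f ⁻¹ᵁ T.1}, x ∈ U ∧ U ≤ W := by
  obtain ⟨T, hT, hxT, -⟩ := exists_isAffineOpen_mem_and_subset (U := (⊤ : Y.Opens)) (x := f x) trivial
  obtain ⟨U, hU, hxU, hUT⟩ := exists_isAffineOpen_mem_and_subset (U := f ⁻¹ᵁ T ⊓ W) (x := x) ⟨hxT, hx⟩
  exact ⟨U, ⟨hU, ⟨T, hT⟩, fun y hy => (hUT hy).1⟩, hxU, fun y hy => (hUT hy).2⟩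

/-- **`f^! O` for flat `f`.** -/
theorem relPerfect_and_end [Flat f] :
    RelPerfClosure.RP f ((Dual3.shriekC c a).obj O) ∧
      ∀ W ∈ {U : X.Opens | IsAffineOpen U ∧ ∃ T : Y.affineOpens, U ≤ f ⁻¹ᵁ T.1},
        EndIso.EndChart ((Dual3.shriekC c a).obj O) W := by
  refine ⟨RelPerfClosure.rp_of_local _ _ fun x => ?_, fun W hW => ?_⟩
  · obtain ⟨U, ⟨hU, T, h⟩, hxU, -⟩ := exists_basis (f := f) x ⊤ trivial
    exact ⟨_, hU.fromSpec, inferInstance, by rw [hU.opensRange_fromSpec]; exact hxU,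
      (chart_flat c hc a adj O hO T ⟨U, hU⟩ h).2⟩
  · obtain ⟨hU, T, h⟩ := hW
    exact (chart_flat c hc a adj O hO T ⟨W, hU⟩ h).1

end Groth.Agent.DualLib.EndShriek
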