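import Groth.Agent.DualLib.ResidueHom

/-! A dualizing complex is recognised by its maps from the residue field. -/

set_option autoImplicit false
set_option backward.isDefEq.respectTransparency false
set_option backward.defeqAttrib.useBackward true
set_option linter.style.haveILetI false

universe u

open CategoryTheory CategoryTheory.Limits CategoryTheory.Pretriangulated DerivedCategory

attribute [local instance] HasDerivedCategory.standard

namespace Groth.Agent.DualLib

variable {A : Type u} [CommRing A]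

lemma subsingleton_E_of_lt {W : Dual.D A} (a : ℤ) [W.IsGE a] (M : Type u) [AddCommGroup M] [Module A M] (i : ℤ)
    (hi : i < a) : Subsingleton (E W M i) := by
  haveI : (W⟦i⟧).IsGE (a - i) := (ts A).isGE_shift W a i (a - i) (by omega)
  exact subsingleton_of_forall_eq 0 fun φ => (ts A).zero φ 0 (a - i) (by omega)

variable [IsLocalRing A] [IsNoetherianRing A] {W : Dual.D A}

/-- Vanishing on the residue field in positive degrees gives vanishing on all finite modules. -/
theorem subsingleton_E_pos (hfin : ∀ i : ℤ, Module.Finite A (Dual.HD A W i)) (a : ℤ) [W.IsGE a]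
    (hvan : ∀ i : ℤ, 0 < i → Subsingleton (E W (IsLocalRing.ResidueField A) i))
    (M : Type u) [AddCommGroup M] [Module A M] [Module.Finite A M] : ∀ i : ℤ, 0 < i → Subsingleton (E W M i) := by
  have hfE := finite_E hfin a fun N _ _ _ i hi => subsingleton_E_of_lt a N i hi
  suffices H : ∀ p : PrimeSpectrum A, ∀ i : ℤ, 0 < i → Subsingleton (E W (A ⧸ p.asIdeal) i) from
    devissage (Φ := fun N => ∀ i : ℤ, 0 < i → Subsingleton (E W N i)) Set.univ
      (fun N _ _ _ i _ => subsingleton_of_subsingleton W i) (fun p _ => H p)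
      (fun N N' _ _ _ _ e h i hi => haveI := h i hi; (econgr W e i).injective.subsingleton)
      (fun N₁ N₂ N₃ _ _ _ _ _ _ _ _ _ f g hf hg hfg h₁ h₃ i hi =>
        subsingleton_mid hf hg hfg i (h₁ i hi) (h₃ i hi)) M (Set.subset_univ _)
  intro p
  haveI := wellFoundedGT_primeSpectrum (A := A)
  induction p using WellFoundedGT.induction with
  | ind p ih =>
    intro i hi
    by_cases hp : p = IsLocalRing.closedPoint A
    · subst hp
      exact hvan i hi
    obtain ⟨x, hxm, hx⟩ := exists_notMem_of_ne hp
    have h1 : Subsingleton (E W (modQ p x) (i + 1)) :=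
      devissage (Φ := fun N => ∀ i : ℤ, 0 < i → Subsingleton (E W N i)) (Set.Ioi p)
        (fun N _ _ _ i _ => subsingleton_of_subsingleton W i) (fun q hq => ih q hq)
        (fun N N' _ _ _ _ e h i hi => haveI := h i hi; (econgr W e i).injective.subsingleton)
        (fun N₁ N₂ N₃ _ _ _ _ _ _ _ _ _ f g hf hg hfg h₁ h₃ i hi =>
          subsingleton_mid hf hg hfg i (h₁ i hi) (h₃ i hi)) (modQ p x) (fun q hq => support_modQ_gt hx hq) (i + 1)
        (by omega)
    have hs := surjective_emap (W := W) (injective_smul hx) (Submodule.mkQ_surjective _)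
      (LinearMap.exact_map_mkQ_range _) i h1
    haveI := hfE (A ⧸ p.asIdeal) i
    rw [← Submodule.subsingleton_iff A]
    refine subsingleton_of_bot_eq_top (Eq.symm ?_)
    refine Submodule.eq_bot_of_le_smul_of_le_jacobson_bot (IsLocalRing.maximalIdeal A) ⊤ Module.Finite.fg_top ?_
      (IsLocalRing.maximalIdeal_le_jacobson ⊥)
    intro φ _
    obtain ⟨ψ, rfl⟩ := hs φ
    rw [emap_smul_id]
    exact Submodule.smul_mem_smul hxm trivial

omit [IsLocalRing A] [IsNoetherianRing A] in
/-- An endomorphism algebra free of rank one consists of the scalars. -/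
lemma toEnd_bijective_of_equiv {X : Dual.D A} (e : (X ⟶ X) ≃ₗ[A] A) :
    Function.Bijective fun a : A => a • 𝟙 X := by
  let g := e.symm 1
  let c := e (𝟙 X)
  let d := e (g ≫ g)
  have hgen : ∀ f : X ⟶ X, f = e f • g := fun f => e.injective (by
    rw [map_smul, e.apply_symm_apply, smul_eq_mul, mul_one])
  have h1 : c * d = 1 := by
    have h2 : g = (c * d) • g := by
      conv_lhs => rw [← Category.comp_id g, hgen (𝟙 X), Linear.comp_smul, hgen (g ≫ g), smul_smul]
    have h3 := congrArg e h2
    rw [map_smul, e.apply_symm_apply, smul_eq_mul, mul_one] at h3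
    exact h3.symm
  have h0 : (fun a : A => a • 𝟙 X) = e.symm ∘ fun a => a * c := funext fun a => e.injective (by
    simp [c])
  rw [h0]
  exact e.symm.bijective.comp (IsUnit.isUnit_iff_mulRight_bijective.1 ⟨⟨c, d, h1, by rw [mul_comm]; exact h1⟩, rfl⟩)

/-- The criterion in normalized form. -/
theorem isDualizing_of_residue_zero (hfin : ∀ i : ℤ, Module.Finite A (Dual.HD A W i)) (a : ℤ) [W.IsGE a]
    (hvan : ∀ i : ℤ, i ≠ 0 → Subsingleton (E W (IsLocalRing.ResidueField A) i))
    (hone : Nonempty (E W (IsLocalRing.ResidueField A) 0 ≃ₗ[A] IsLocalRing.ResidueField A)) :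
    Dual.IsDualizing A W := by
  have hpos := fun (M : Type u) (_ : AddCommGroup M) (_ : Module A M) (_ : Module.Finite A M) =>
    subsingleton_E_pos hfin a (fun i hi => hvan i (by omega)) M
  have hbd : ∀ (I : Ideal A) (i : ℤ), (i < min a 0 ∨ 0 < i) → Subsingleton (E W (A ⧸ I) i) := fun I i hi => by
    rcases hi with hi | hi
    · exact subsingleton_E_of_lt a _ i (by omega)
    · exact hpos (A ⧸ I) inferInstance inferInstance inferInstance i hi
  have hM : DRing.HasInjAmplitudeIn A (min a 0) 0 W := ((S6965.result A W (min a 0) 0).out 0 2).2 hbd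
  have hall := ((S6965.result A W (min a 0) 0).out 2 1).1 hbd
  haveI : W.IsLE 0 := (DRingLib.isLE_iff_HD W 0).2 fun q hq =>
    haveI := hpos A inferInstance inferInstance (Module.Finite.self A) q hq
    (eSelf W q).symm.injective.subsingleton
  haveI := DCat.hasLTen A
  haveI := DCat.hasLTen₃ A
  haveI : DTen.HasRHom A := DCat.hasRHom
  obtain ⟨e⟩ := exists_iso_rhom_self W W a (min a 0) 0 hM hfin hfin hvan hone hvan hone
  have key : ∀ i : ℤ, (W ⟶ W⟦i⟧) ≃ₗ[A] Dual.HD A (Dual.inD A A) i := fun i =>
    (hdRHom W W i).symm ≪≫ₗ ((homologyFunctor (ModuleCat.{u} A) i).mapIso e).toLinearEquiv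
  refine ⟨inferInstance, ⟨min a 0, 0, fun M _ _ i hi => hall M i hi⟩, hfin, ?_, fun i hi => ?_⟩
  · refine toEnd_bijective_of_equiv (Linear.homCongr A (Iso.refl W) ((shiftFunctorZero (Dual.D A) ℤ).app W).symm ≪≫ₗ
      key 0 ≪≫ₗ ((singleFunctorCompHomologyFunctorIso (ModuleCat.{u} A) 0).app (ModuleCat.of A A)).toLinearEquiv)
  · haveI := hd_single_subsingleton (A := A) A i hi
    exact (key i).injective.subsingleton

/-- The criterion. -/
theorem isDualizing_of_residue (hfin : ∀ i : ℤ, Module.Finite A (Dual.HD A W i)) (a : ℤ) [W.IsGE a] (d : ℤ)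
    (hvan : ∀ i : ℤ, i ≠ d → Subsingleton (E W (IsLocalRing.ResidueField A) i))
    (hone : Nonempty (E W (IsLocalRing.ResidueField A) d ≃ₗ[A] IsLocalRing.ResidueField A)) :
    Dual.IsDualizing A W := by
  haveI : (W⟦d⟧).IsGE (a - d) := (ts A).isGE_shift W a d (a - d) (by omega)
  obtain ⟨e⟩ := hone
  have h : Dual.IsDualizing A (W⟦d⟧) := by
    refine isDualizing_of_residue_zero (fun i => ?_) (a - d) (fun i hi => ?_)
      ⟨(homShift (kD A) W d 0 d (add_zero d)).symm ≪≫ₗ e⟩
    · haveI : Module.Finite A ↑(((homologyFunctor (ModuleCat.{u} A) 0).shift (d + i)).obj W) := hfin (d + i)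
      exact Module.Finite.equiv
        (((homologyFunctor (ModuleCat.{u} A) 0).shiftIso d i (d + i) rfl).app W).toLinearEquiv.symm
    · haveI := hvan (d + i) (by omega)
      exact (homShift (kD A) W d i (d + i) rfl).symm.injective.subsingleton
  exact isDualizing_of_iso ((shiftEquiv (Dual.D A) d).unitIso.app W).symm (isDualizing_shift h (-d))

end Groth.Agent.DualLib
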