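import Groth.Agent.DualLib.FlatHom
import Groth.Agent.DualLib.ResidueCriterion
import Groth.Agent.DualLib.Cover
import Mathlib.RingTheory.TensorProduct.Quotient

/-! Flat local base change of dualizing complexes. -/

set_option autoImplicit false
set_option backward.isDefEq.respectTransparency false
set_option backward.defeqAttrib.useBackward true
set_option linter.style.haveILetI false

universe u

open CategoryTheory CategoryTheory.Limits CategoryTheory.Pretriangulated DerivedCategory
open scoped TensorProduct

attribute [local instance] HasDerivedCategory.standard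

namespace Groth.Agent.DualLib

/-- `E` is `N` concentrated in degree `d`. -/
def IsDualIn {C : Type u} [CommRing C] (W : Dual.D C) (N : Type u) [AddCommGroup N] [Module C N] (d : ℤ) : Prop :=
  (∀ i : ℤ, i ≠ d → Subsingleton (E W N i)) ∧ Nonempty (E W N d ≃ₗ[C] N)

lemma IsDualIn.of_equiv {C : Type u} [CommRing C] {W : Dual.D C} {N N' : Type u} [AddCommGroup N] [Module C N]
    [AddCommGroup N'] [Module C N'] {d : ℤ} (h : IsDualIn W N d) (e : N ≃ₗ[C] N') : IsDualIn W N' d := by
  obtain ⟨h1, ⟨h2⟩⟩ := h
  exact ⟨fun i hi => haveI := h1 i hi; (econgr W e i).injective.subsingleton,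
    ⟨econgr W e d ≪≫ₗ h2 ≪≫ₗ e⟩⟩

/-- Dividing by a non-zero-divisor raises the degree by one. -/
lemma IsDualIn.quotient {C : Type u} [CommRing C] {W : Dual.D C} {N : Type u} [AddCommGroup N] [Module C N] {d : ℤ}
    (h : IsDualIn W N d) {x : C} (hx : Function.Injective (x • (LinearMap.id : N →ₗ[C] N))) :
    IsDualIn W (N ⧸ LinearMap.range (x • (LinearMap.id : N →ₗ[C] N))) (d + 1) := by
  obtain ⟨h1, ⟨e⟩⟩ := h
  let f := x • (LinearMap.id : N →ₗ[C] N)
  let g := (LinearMap.range f).mkQ
  have hg := (LinearMap.range f).mkQ_surjective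
  have hfg := LinearMap.exact_map_mkQ_range f
  have hinjd : Function.Injective (emap W f d) := by
    intro φ ψ h
    rw [emap_smul_id, emap_smul_id] at h
    refine e.injective (hx ?_)
    show x • e φ = x • e ψ
    rw [← map_smul, ← map_smul, h]
  refine ⟨fun i hi => ?_, ?_⟩
  · rcases eq_or_ne i d with rfl | hid
    · refine subsingleton_of_forall_eq 0 fun φ => injective_emap hx hg hfg i (h1 (i - 1) (by omega)) ?_
      rw [map_zero]
      apply hinjd
      rw [map_zero]
      exact (exact_emap hx hg hfg i).apply_apply_eq_zero φ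
    · exact subsingleton_right hx hg hfg i (h1 i hid) (h1 (i - 1) (by omega))
  · obtain ⟨δ, hδ1, hδ2⟩ := exists_delta (W := W) hx hg hfg d (d + 1) rfl
    haveI := h1 (d + 1) (by omega)
    have hs : Function.Surjective δ := fun z => (hδ2 z).1 (Subsingleton.elim _ _)
    refine ⟨(δ.quotKerEquivOfSurjective hs).symm ≪≫ₗ Submodule.Quotient.equiv _ _ e ?_⟩
    rw [LinearMap.exact_iff.1 hδ1]
    refine le_antisymm ?_ ?_
    · rintro _ ⟨_, ⟨φ, rfl⟩, rfl⟩
      refine ⟨e φ, ?_⟩
      show x • e φ = e (emap W f d φ)
      rw [emap_smul_id, map_smul]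
    · rintro _ ⟨y, rfl⟩
      refine ⟨emap W f d (e.symm y), ⟨_, rfl⟩, ?_⟩
      show e (emap W f d (e.symm y)) = x • y
      rw [emap_smul_id, map_smul, e.apply_symm_apply]

variable {A B : Type u} [CommRing A] [CommRing B] [Algebra A B] [IsLocalRing A] [IsNoetherianRing A]
  [IsLocalRing B] [IsNoetherianRing B] [Module.Flat A B]
  [PreservesFiniteLimits (ModuleCat.extendScalars.{u, u, u} (algebraMap A B))]
  [PreservesFiniteColimits (ModuleCat.extendScalars.{u, u, u} (algebraMap A B))]

omit [IsLocalRing B] [IsNoetherianRing B] in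
/-- The closed fibre is dual to itself. -/
theorem isDualIn_fibre {ω : Dual.D A} (hω : Dual.IsDualizing A ω) (hn : Dual.IsNormalized A ω) :
    IsDualIn ((extD (algebraMap A B)).obj ω) (B ⧸ (IsLocalRing.maximalIdeal A).map (algebraMap A B)) 0 := by
  obtain ⟨a, b, hge, -⟩ := exists_bound hω
  let k := IsLocalRing.ResidueField A
  haveI : Module.Finite A k := Module.Finite.of_surjective (Algebra.linearMap A k) IsLocalRing.residue_surjective
  obtain ⟨e1⟩ := nonempty_ext_tensor (B := B) (ModuleCat.of A k)
  obtain ⟨e0⟩ := residue_equiv hω hn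
  let N := (ModuleCat.extendScalars.{u, u, u} (algebraMap A B)).obj (ModuleCat.of A k)
  let eF : N ≃ₗ[B] B ⧸ (IsLocalRing.maximalIdeal A).map (algebraMap A B) :=
    e1 ≪≫ₗ (Algebra.TensorProduct.quotIdealMapEquivTensorQuot B (IsLocalRing.maximalIdeal A)).symm.toLinearEquiv
  have h : IsDualIn ((extD (algebraMap A B)).obj ω) N 0 := by
    refine ⟨fun i hi => ?_, ?_⟩
    · obtain ⟨e⟩ := FlatHom.nonempty_flat_E (B := B) k ω a i
      haveI : Subsingleton (E ω k i) := hn i hi
      refine subsingleton_of_forall_eq 0 fun z => ?_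
      obtain ⟨y, rfl⟩ := e.surjective z
      induction y using TensorProduct.induction_on with
      | zero => exact map_zero e
      | tmul b f => rw [Subsingleton.elim f 0, TensorProduct.tmul_zero, map_zero]
      | add x y hx hy => rw [map_add, hx, hy, add_zero]
    · obtain ⟨e⟩ := FlatHom.nonempty_flat_E (B := B) k ω a 0
      exact ⟨e.symm ≪≫ₗ LinearEquiv.baseChange A B _ _ e0 ≪≫ₗ e1.symm⟩
  exact h.of_equiv eF

/-- The criterion: it suffices that the residue field of `B` is dual to itself. -/
theorem isDualizing_extD_of_isDualIn {ω : Dual.D A} (hω : Dual.IsDualizing A ω) {d : ℤ}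
    (h : IsDualIn ((extD (algebraMap A B)).obj ω) (IsLocalRing.ResidueField B) d) :
    Dual.IsDualizing B ((extD (algebraMap A B)).obj ω) := by
  obtain ⟨a, b, hge, -⟩ := exists_bound hω
  haveI := FlatHom.isGE_G (B := B) ω a
  exact isDualizing_of_residue (fun i => @finite_HD_extD _ _ _ _ _ _ _ ω i (hω.finite_cohomology i)) a d h.1 h.2

/-- Flat unramified local base change. -/
theorem isDualizing_extD_unramified {ω : Dual.D A} (hω : Dual.IsDualizing A ω) (hn : Dual.IsNormalized A ω)
    (hm : (IsLocalRing.maximalIdeal A).map (algebraMap A B) = IsLocalRing.maximalIdeal B) :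
    Dual.IsDualizing B ((extD (algebraMap A B)).obj ω) ∧ Dual.IsNormalized B ((extD (algebraMap A B)).obj ω) := by
  have h : IsDualIn ((extD (algebraMap A B)).obj ω) (IsLocalRing.ResidueField B) 0 := by
    have := isDualIn_fibre (B := B) hω hn
    exact this.of_equiv (Submodule.quotEquivOfEq _ _ hm)
  exact ⟨isDualizing_extD_of_isDualIn hω h, h.1⟩

/-- Flat unramified local base change, any degree. -/
theorem isDualizing_extD_unramified' {ω : Dual.D A} (hω : Dual.IsDualizing A ω)
    (hm : (IsLocalRing.maximalIdeal A).map (algebraMap A B) = IsLocalRing.maximalIdeal B) :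
    Dual.IsDualizing B ((extD (algebraMap A B)).obj ω) := by
  obtain ⟨c, hc⟩ := exists_normalized hω
  exact isDualizing_of_iso
    ((((extD (algebraMap A B)).commShiftIso (-c)).app (ω⟦c⟧)).symm ≪≫
      (extD (algebraMap A B)).mapIso ((shiftEquiv (Dual.D A) c).unitIso.app ω).symm)
    (isDualizing_shift (isDualizing_extD_unramified (isDualizing_shift hω c) hc hm).1 (-c))

end Groth.Agent.DualLib

namespace Groth.Agent.DualLib

variable {A B : Type u} [CommRing A] [CommRing B] [Algebra A B] [Module.Flat A B]

lemma preservesFiniteLimits_flat : PreservesFiniteLimits (ModuleCat.extendScalars.{u, u, u} (algebraMap A B)) :=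
  ModuleCat.preservesFiniteLimits_extendScalars_of_flat (RingHom.flat_algebraMap_iff.2 ‹Module.Flat A B›)

omit [Module.Flat A B] in
lemma preservesFiniteColimits_ext : PreservesFiniteColimits (ModuleCat.extendScalars.{u, u, u} (algebraMap A B)) :=
  haveI : PreservesColimitsOfSize.{0, 0} (ModuleCat.extendScalars.{u, u, u} (algebraMap A B)) :=
    (ModuleCat.extendRestrictScalarsAdj.{u, u, u} (algebraMap A B)).leftAdjoint_preservesColimits
  inferInstance

/-- The form with derived base change. -/
theorem isDualizing_LBaseChange_unramified [IsLocalRing A] [IsNoetherianRing A] [IsLocalRing B] [IsNoetherianRing B]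
    [DRing.HasLBaseChange (algebraMap A B)] {ω : Dual.D A} (hω : Dual.IsDualizing A ω)
    (hm : (IsLocalRing.maximalIdeal A).map (algebraMap A B) = IsLocalRing.maximalIdeal B) :
    Dual.IsDualizing B ((DRing.LBaseChange (algebraMap A B)).obj ω) ∧
      (Dual.IsNormalized A ω → Dual.IsNormalized B ((DRing.LBaseChange (algebraMap A B)).obj ω)) := by
  haveI := preservesFiniteLimits_flat (A := A) (B := B)
  haveI := preservesFiniteColimits_ext (A := A) (B := B)
  obtain ⟨e⟩ := nonempty_LBaseChange_iso (RingHom.flat_algebraMap_iff.2 ‹Module.Flat A B›) ω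
  refine ⟨isDualizing_of_iso e.symm (isDualizing_extD_unramified' hω hm), fun hn i hi => ?_⟩
  haveI := (isDualizing_extD_unramified (B := B) hω hn hm).2 i hi
  exact (Iso.homCongr (Iso.refl _) ((shiftFunctor (Dual.D B) i).mapIso e.symm)).symm.injective.subsingleton

end Groth.Agent.DualLib
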