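import Groth.Agent.DualLib.OmegaGor
import Groth.Agent.DualLib.FlatDualizing
import Groth.Agent.DualLib.ShriekDeg
import Groth.Agent.CAlgH.KoszulH1
import Groth.Agent.CAlgH.KoszulDescent
import Groth.Prelude.Def_LCI2
import Mathlib.RingTheory.Flat.Localization

/-! `ω` of a local complete intersection is invertible. -/

set_option autoImplicit false
set_option backward.isDefEq.respectTransparency false
set_option backward.defeqAttrib.useBackward true
set_option linter.style.haveILetI false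

universe u

open CategoryTheory CategoryTheory.Limits DerivedCategory
open scoped TensorProduct Pointwise

attribute [local instance] HasDerivedCategory.standard

namespace Groth.Agent.DualLib.OmegaLCI

open Groth.Agent Groth.Agent.DualLib

/-- A weakly regular sequence raises the degree by its length. -/
theorem isDualIn_ofList {C : Type u} [CommRing C] {W : Dual.D C} : ∀ (xs : List C) (J : Ideal C) (d : ℤ),
    RingTheory.Sequence.IsWeaklyRegular (C ⧸ J) xs → IsDualIn W (C ⧸ J) d →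
    IsDualIn W (C ⧸ (J ⊔ Ideal.ofList xs)) (d + xs.length) := by
  intro xs
  induction xs with
  | nil =>
    intro J d _ h
    rw [List.length_nil, Int.natCast_zero, add_zero]
    exact h.of_equiv (Submodule.quotEquivOfEq _ _ (by rw [Ideal.ofList_nil, sup_bot_eq]))
  | cons x xs ih =>
    intro J d hreg h
    rw [RingTheory.Sequence.isWeaklyRegular_cons_iff] at hreg
    let f := x • (LinearMap.id : (C ⧸ J) →ₗ[C] (C ⧸ J))
    let J' := J ⊔ Ideal.span {x}
    have hrange : LinearMap.range f = Submodule.map J.mkQ J' := by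
      refine le_antisymm ?_ ?_
      · rintro _ ⟨z, rfl⟩
        obtain ⟨z, rfl⟩ := Ideal.Quotient.mk_surjective z
        exact ⟨x * z, Submodule.mem_sup_right (Ideal.mem_span_singleton.2 ⟨z, rfl⟩), rfl⟩
      · rintro _ ⟨w, hw, rfl⟩
        obtain ⟨j, hj, w', hw', rfl⟩ := Submodule.mem_sup.1 hw
        obtain ⟨c, rfl⟩ := Ideal.mem_span_singleton.1 hw'
        refine ⟨Ideal.Quotient.mk J c, ?_⟩
        show Ideal.Quotient.mk J (x * c) = Ideal.Quotient.mk J (j + x * c)
        rw [map_add, Ideal.Quotient.eq_zero_iff_mem.2 hj, zero_add]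
    let eQ := Submodule.quotEquivOfEq _ _ hrange ≪≫ₗ Submodule.quotientQuotientEquivQuotient J J' le_sup_left
    have hsm : x • (⊤ : Submodule C (C ⧸ J)) = LinearMap.range f := by
      ext y; simp [f, Submodule.mem_smul_pointwise_iff_exists]
    have h' := (h.quotient (x := x) hreg.1).of_equiv eQ
    have := ih J' (d + 1) (((Submodule.quotEquivOfEq _ _ hsm ≪≫ₗ eQ).isWeaklyRegular_congr xs).1 hreg.2) h'
    rw [List.length_cons, show d + ((xs.length + 1 : ℕ) : ℤ) = d + 1 + xs.length by omega]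
    refine this.of_equiv (Submodule.quotEquivOfEq _ _ ?_)
    rw [Ideal.ofList_cons, sup_assoc]

/-- The ring is dual to itself in degree zero. -/
theorem isDualIn_self (C : Type u) [CommRing C] : IsDualIn (Dual.inD C C) C 0 := by
  refine ⟨fun i hi => ?_, ⟨eSelf (Dual.inD C C) 0 ≪≫ₗ
    ((singleFunctorCompHomologyFunctorIso (ModuleCat.{u} C) 0).app (ModuleCat.of C C)).toLinearEquiv⟩⟩
  haveI := hd_single_subsingleton (A := C) C i hi
  exact (eSelf (Dual.inD C C) i).injective.subsingleton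

/-- A Koszul regular ideal, locally. -/
theorem exists_local_dual {P : Type u} [CommRing P] [IsNoetherianRing P] (I : Ideal P)
    (hI : LCI.IsKoszulRegularIdeal I) (Q : Ideal P) [Q.IsPrime] (hQ : I ≤ Q) {μ : ℕ} (gI : Fin μ → P)
    (hgI : Ideal.span (Set.range gI) = I) :
    ∃ c : ℕ, c ≤ μ ∧ IsDualIn (Dual.inD (Localization.AtPrime Q) (Localization.AtPrime Q))
      (Localization.AtPrime Q ⧸ I.map (algebraMap P (Localization.AtPrime Q))) (c : ℤ) := by
  obtain ⟨g, hg, l, hl, hspan⟩ := hI ⟨Q, ‹_›⟩ hQ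
  let L := Localization.AtPrime Q
  let Pg := Localization.Away g
  haveI : IsNoetherianRing L := IsLocalization.isNoetherianRing Q.primeCompl L inferInstance
  have hu : IsUnit (algebraMap P L g) := IsLocalization.map_units L (⟨g, hg⟩ : Q.primeCompl)
  letI : Algebra Pg L := (IsLocalization.Away.lift g (g := algebraMap P L) hu).toAlgebra
  haveI : IsScalarTower P Pg L :=
    IsScalarTower.of_algebraMap_eq fun x => (IsLocalization.Away.lift_eq g hu x).symm
  haveI : Module.Flat P L := IsLocalization.flat L Q.primeCompl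
  haveI : Module.Flat Pg L := (Module.flat_iff_of_isLocalization (R := P) Pg (Submonoid.powers g) (M := L)).2 inferInstance
  let f : Fin l.length → L := fun i => algebraMap Pg L (l.get i)
  have hk : CAlgH.KoszulRegular.KReg f := (CAlgH.KoszulDescent.kreg_get hl).map
  have hlist : List.ofFn f = l.map (algebraMap Pg L) := by
    rw [show f = algebraMap Pg L ∘ l.get from rfl, ← List.map_ofFn, List.ofFn_get]
  have hmap : I.map (algebraMap P L) = Ideal.ofList (List.ofFn f) := by
    rw [hlist, ← Ideal.map_ofList, IsScalarTower.algebraMap_eq P Pg L, ← Ideal.map_map, hspan]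
  have hrad : ∀ i, f i ∈ (⊥ : Ideal L).jacobson := fun i => by
    rw [IsLocalRing.jacobson_eq_maximalIdeal ⊥ bot_ne_top, ← Localization.AtPrime.map_eq_maximalIdeal]
    refine Ideal.map_mono hQ ?_
    rw [hmap]
    exact Ideal.subset_span (List.mem_ofFn.2 ⟨i, rfl⟩)
  have hreg := CAlgH.KoszulH1.isWeaklyRegular_of_kreg hrad hk
  let e0 : (L ⧸ (⊥ : Ideal L)) ≃ₗ[L] L := Submodule.quotEquivOfEqBot ⊥ rfl
  have hne : I.map (algebraMap P L) ≠ ⊤ := fun h => (IsLocalRing.maximalIdeal.isMaximal L).ne_top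
    (top_le_iff.1 (h.ge.trans ((Ideal.map_mono hQ).trans Localization.AtPrime.map_eq_maximalIdeal.le)))
  have hspanf : Ideal.span (Set.range f) = I.map (algebraMap P L) := by
    rw [hmap]
    exact congrArg Ideal.span (Set.ext fun x => List.mem_ofFn.symm)
  have hspang : Ideal.span (Set.range fun i => algebraMap P L (gI i)) = I.map (algebraMap P L) := by
    rw [← hgI, Ideal.map_span]
    exact congrArg Ideal.span (Set.range_comp (algebraMap P L) gI)
  refine ⟨(List.ofFn f).length, by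
    rw [List.length_ofFn]; exact CAlgH.KoszulRegular.le_of_generators hne hk hspanf _ hspang, ?_⟩
  have h1 := isDualIn_ofList (List.ofFn f) ⊥ 0 ((e0.isWeaklyRegular_congr _).2 hreg) ((isDualIn_self L).of_equiv e0.symm)
  rw [zero_add] at h1
  exact h1.of_equiv (Submodule.quotEquivOfEq _ _ (by rw [bot_sup_eq, hmap]))

/-- Tensoring with a localization is localizing, in any universe. -/
theorem isLocalizedModule_mk.{v, w} {A B : Type v} [CommRing A] [CommRing B] [Algebra A B] (S : Submonoid A) [IsLocalization S B]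
    (M : Type w) [AddCommGroup M] [Module A M] : IsLocalizedModule S (TensorProduct.mk A B M 1) :=
  (isLocalizedModule_iff_isBaseChange S B _).2 (TensorProduct.isBaseChange A M B)

universe v

/-- Freeness at a prime of a quotient is read on the presentation. -/
theorem nonempty_equiv_of_presentation {P A : Type u} [CommRing P] [CommRing A] (ψ : P →+* A)
    (hψ : Function.Surjective ψ) (q : Ideal A) [q.IsPrime]
    {M : Type u} [AddCommGroup M] [Module A M] {M' : Type v} [AddCommGroup M'] [Module P M']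
    (e : M ≃+ M') (he : ∀ (p : P) (m : M), e (ψ p • m) = p • e m)
    (Φ : Localization.AtPrime (q.comap ψ) ⊗[P] M' ≃ₗ[Localization.AtPrime (q.comap ψ)]
      Localization.AtPrime (q.comap ψ) ⧸ (RingHom.ker ψ).map (algebraMap P (Localization.AtPrime (q.comap ψ)))) :
    Nonempty (Localization.AtPrime q ⊗[A] M ≃ₗ[Localization.AtPrime q] Localization.AtPrime q) := by
  let Q := q.comap ψ
  let L := Localization.AtPrime Q
  let J := (RingHom.ker ψ).map (algebraMap P L)
  let Aq := Localization.AtPrime q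
  haveI hloc := isLocalizedModule_mk (B := L) Q.primeCompl M'
  haveI hlocA := isLocalizedModule_tensor (B := Aq) q.primeCompl M
  obtain ⟨⟨m0, s⟩, hs⟩ := IsLocalizedModule.surj Q.primeCompl (TensorProduct.mk P L M' 1) (Φ.symm 1)
  let x := e.symm m0
  have hΦ : Φ ((1 : L) ⊗ₜ[P] m0) = Ideal.Quotient.mk J (algebraMap P L s) := by
    have h1 : ((1 : L) ⊗ₜ[P] m0) = algebraMap P L s • Φ.symm 1 := by
      rw [IsScalarTower.algebraMap_smul]; exact hs.symm
    rw [h1, map_smul, Φ.apply_symm_apply]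
    show Ideal.Quotient.mk J (algebraMap P L s * 1) = _
    rw [mul_one]
  have gen : ∀ m : M, ∃ t : A, t ∉ q ∧ ∃ a : A, t • m = a • x := fun m => by
    obtain ⟨z, hz⟩ := Ideal.Quotient.mk_surjective (Φ ((1 : L) ⊗ₜ[P] e m))
    obtain ⟨p, t, rfl⟩ := IsLocalization.exists_mk'_eq Q.primeCompl z
    have h1 : ((1 : L) ⊗ₜ[P] ((t.1 * s.1) • e m)) = (1 : L) ⊗ₜ[P] (p • m0) := by
      apply Φ.injective
      rw [TensorProduct.tmul_smul, TensorProduct.tmul_smul, ← IsScalarTower.algebraMap_smul L (t.1 * s.1),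
        ← IsScalarTower.algebraMap_smul L p, map_smul, map_smul, ← hz, hΦ]
      show Ideal.Quotient.mk J (algebraMap P L (t.1 * s.1) * IsLocalization.mk' L p t) =
        Ideal.Quotient.mk J (algebraMap P L p * algebraMap P L s)
      refine congrArg _ ?_
      rw [map_mul, mul_right_comm, IsLocalization.mk'_spec']
    obtain ⟨u, hu⟩ := (IsLocalizedModule.eq_iff_exists Q.primeCompl (TensorProduct.mk P L M' 1)).1 h1
    refine ⟨ψ (u.1 * (t.1 * s.1)), Q.primeCompl.mul_mem u.2 (Q.primeCompl.mul_mem t.2 s.2), ψ (u.1 * p), e.injective ?_⟩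
    rw [he, he, e.apply_symm_apply, mul_smul, mul_smul u.1 p]
    exact hu
  have free : ∀ a : A, a • x = 0 → ∃ t : A, t ∉ q ∧ t * a = 0 := fun a ha => by
    obtain ⟨p, rfl⟩ := hψ a
    have h1 : p • m0 = 0 := by
      rw [← e.apply_symm_apply m0, ← he, ha, map_zero]
    have h2 : Ideal.Quotient.mk J (algebraMap P L (p * s)) = 0 := by
      rw [map_mul, map_mul, ← hΦ, ← Ideal.Quotient.algebraMap_eq, ← Algebra.smul_def, ← map_smul,
        IsScalarTower.algebraMap_smul, ← TensorProduct.tmul_smul, h1, TensorProduct.tmul_zero, map_zero]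
    rw [Ideal.Quotient.eq_zero_iff_mem, IsLocalization.algebraMap_mem_map_algebraMap_iff Q.primeCompl] at h2
    obtain ⟨u, hu, hmem⟩ := h2
    refine ⟨ψ (u * s.1), Q.primeCompl.mul_mem hu s.2, ?_⟩
    rw [← map_mul, mul_assoc, mul_comm s.1 p]
    exact hmem
  let g := (LinearMap.toSpanSingleton A M x).baseChange Aq
  let r := (Algebra.TensorProduct.rid A Aq Aq).toLinearEquiv
  have hg : Function.Bijective (g ∘ₗ r.symm.toLinearMap) := by
    have hval : ∀ z : Aq, (g ∘ₗ r.symm.toLinearMap) z = z ⊗ₜ[A] x := fun z => by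
      show g (z ⊗ₜ[A] (1 : A)) = _
      rw [LinearMap.baseChange_tmul, LinearMap.toSpanSingleton_apply, one_smul]
    refine ⟨(injective_iff_map_eq_zero _).2 fun z hz => ?_, fun w => ?_⟩
    · obtain ⟨a, t, rfl⟩ := IsLocalization.exists_mk'_eq q.primeCompl z
      rw [hval] at hz
      have h1 : (TensorProduct.mk A Aq M 1) (a • x) = 0 := by
        show (1 : Aq) ⊗ₜ[A] (a • x) = 0
        rw [TensorProduct.tmul_smul, TensorProduct.smul_tmul', Algebra.smul_def, mul_one,
          ← IsLocalization.mk'_spec' Aq a t, ← smul_eq_mul, ← TensorProduct.smul_tmul', hz, smul_zero]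
      obtain ⟨u, hu⟩ := (IsLocalizedModule.eq_zero_iff q.primeCompl _).1 h1
      obtain ⟨t', ht', h2⟩ := free (u.1 * a) (by rw [mul_smul]; exact hu)
      exact (IsLocalization.mk'_eq_zero_iff a t).2 ⟨⟨t' * u.1, q.primeCompl.mul_mem ht' u.2⟩, by rw [← h2, ← mul_assoc]⟩
    · obtain ⟨⟨m, t⟩, ht⟩ := IsLocalizedModule.surj q.primeCompl (TensorProduct.mk A Aq M 1) w
      obtain ⟨t', ht', a, ha⟩ := gen m
      have ht'' : t' * t.1 ∈ q.primeCompl := q.primeCompl.mul_mem ht' t.2
      refine ⟨IsLocalization.mk' Aq a (⟨t' * t.1, ht''⟩ : q.primeCompl), ?_⟩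
      rw [hval]
      have ht1 : t.1 • w = (1 : Aq) ⊗ₜ[A] m := ht
      have hu := IsLocalization.map_units Aq (⟨t' * t.1, ht''⟩ : q.primeCompl)
      refine hu.smul_left_cancel.1 ?_
      calc algebraMap A Aq (t' * t.1) • (IsLocalization.mk' Aq a (⟨t' * t.1, ht''⟩ : q.primeCompl) ⊗ₜ[A] x)
          = (algebraMap A Aq (t' * t.1) * IsLocalization.mk' Aq a (⟨t' * t.1, ht''⟩ : q.primeCompl)) ⊗ₜ[A] x :=
            TensorProduct.smul_tmul' _ _ _
        _ = algebraMap A Aq a ⊗ₜ[A] x := by rw [IsLocalization.mk'_spec' Aq a (⟨t' * t.1, ht''⟩ : q.primeCompl)]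
        _ = (1 : Aq) ⊗ₜ[A] (a • x) := by rw [Algebra.algebraMap_eq_smul_one, TensorProduct.smul_tmul]
        _ = t' • ((1 : Aq) ⊗ₜ[A] m) := by rw [← ha, TensorProduct.tmul_smul]
        _ = algebraMap A Aq (t' * t.1) • w := by rw [← ht1, IsScalarTower.algebraMap_smul, mul_smul]
  exact ⟨(LinearEquiv.ofBijective _ hg).symm⟩

variable {R A : Type u} [CommRing R] [CommRing A] [IsNoetherianRing R] [IsNoetherianRing A] [Algebra R A] {n : ℕ}
  (ψ : MvPolynomial (Fin n) R →ₐ[R] A) (hψ : Function.Surjective ψ)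
  [DRing.HasLBaseChange (algebraMap R (MvPolynomial (Fin n) R))]
  {Rψ : Dual.D (MvPolynomial (Fin n) R) ⥤ Dual.D A} (adj : DRing.restrictD ψ.toRingHom ⊣ Rψ)

include hψ adj in
/-- The local structure of `ω`. -/
theorem exists_degree (hI : LCI.IsKoszulRegularIdeal (RingHom.ker ψ.toRingHom)) {μ : ℕ}
    (gI : Fin μ → MvPolynomial (Fin n) R) (hgI : Ideal.span (Set.range gI) = RingHom.ker ψ.toRingHom) (q : PrimeSpectrum A) :
    ∃ j : ℤ, j ≤ μ ∧ (∀ i : ℤ, i ≠ j → q ∉ Module.support A (Dual.HD A (Dual2.shriekVia n Rψ (Dual.inD R R)) i)) ∧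
      Nonempty (Localization.AtPrime q.asIdeal ⊗[A] Dual.HD A (Dual2.shriekVia n Rψ (Dual.inD R R)) j
        ≃ₗ[Localization.AtPrime q.asIdeal] Localization.AtPrime q.asIdeal) := by
  let P := MvPolynomial (Fin n) R
  let φ := ψ.toRingHom
  let I := RingHom.ker φ
  let Q := q.asIdeal.comap φ
  obtain ⟨c, hcμ, hc, ⟨eD⟩⟩ := exists_local_dual I hI Q (Ideal.ker_le_comap φ) gI hgI
  let L := Localization.AtPrime Q
  letI : Algebra P A := φ.toAlgebra
  obtain ⟨b⟩ := Shriek.nonempty_lbase_inD (R := R) (n := n)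
  let X := Dual.inD P P
  let l : P →ₗ[P] FiniteAdjoint.res P A A :=
    { toFun := fun a => (ψ a : A)
      map_add' := fun a b => map_add ψ a b
      map_smul' := fun a b => map_mul ψ a b }
  let v : (P ⧸ I) →ₗ[P] FiniteAdjoint.res P A A := Submodule.liftQ _ l fun a ha => ha
  have hv : Function.Bijective v := by
    refine ⟨?_, fun z => ?_⟩
    · rw [← LinearMap.ker_eq_bot, Submodule.ker_liftQ, eq_bot_iff]
      rintro _ ⟨a, ha, rfl⟩
      rw [Submodule.mem_bot, Submodule.mkQ_apply, Submodule.Quotient.mk_eq_zero]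
      exact ha
    · obtain ⟨a, ha⟩ := hψ z
      exact ⟨Submodule.Quotient.mk a, ha⟩
  have trans_ : ∀ i k : ℤ, (n : ℤ) + i = k → ∃ e : Dual.HD A (Dual2.shriekVia n Rψ (Dual.inD R R)) i ≃+ E X (P ⧸ I) k,
      ∀ (a : P) m, e (φ a • m) = a • e m := fun i k hk => by
    subst hk
    let σ : Dual.HD A (Dual2.shriekVia n Rψ (Dual.inD R R)) i ≃ₗ[A] Dual.HD A (Rψ.obj X) ((n : ℤ) + i) :=
      (((homologyFunctor (ModuleCat.{u} A) 0).shiftIso (n : ℤ) i ((n : ℤ) + i) rfl).app _).toLinearEquiv ≪≫ₗ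
        ((homologyFunctor (ModuleCat.{u} A) ((n : ℤ) + i)).mapIso (Rψ.mapIso b)).toLinearEquiv
    obtain ⟨e, he⟩ := FiniteAdjoint.exists_relE (A := P) (B := A) adj A X ((n : ℤ) + i)
    let τ := σ ≪≫ₗ (eSelf (Rψ.obj X) ((n : ℤ) + i)).symm
    let cc := econgr X (LinearEquiv.ofBijective v hv) ((n : ℤ) + i)
    refine ⟨(τ.toAddEquiv.trans e).trans cc.toAddEquiv, fun a m => ?_⟩
    show cc (e (τ (algebraMap P A a • m))) = a • cc (e (τ m))
    rw [map_smul, he, map_smul]
  haveI : Module.Flat P L := IsLocalization.flat L Q.primeCompl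
  haveI := preservesFiniteLimits_flat (A := P) (B := L)
  haveI := preservesFiniteColimits_ext (A := P) (B := L)
  haveI : X.IsGE 0 := inferInstance
  obtain ⟨eM⟩ := nonempty_ext_tensor (B := L) (ModuleCat.of P (P ⧸ I))
  obtain ⟨eP⟩ := nonempty_ext_tensor (B := L) (ModuleCat.of P P)
  let eF : (ModuleCat.extendScalars.{u, u, u} (algebraMap P L)).obj (ModuleCat.of P (P ⧸ I)) ≃ₗ[L]
      L ⧸ I.map (algebraMap P L) :=
    eM ≪≫ₗ (Algebra.TensorProduct.quotIdealMapEquivTensorQuot L I).symm.toLinearEquiv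
  let eY : (extD (algebraMap P L)).obj X ≅ Dual.inD L L :=
    extSingle (B := L) P ≪≫ (singleFunctor (ModuleCat.{u} L) 0).mapIso
      (eP ≪≫ₗ TensorProduct.AlgebraTensorModule.rid P L L).toModuleIso
  have loc : ∀ k : ℤ, Nonempty (L ⊗[P] E X (P ⧸ I) k ≃ₗ[L] E (Dual.inD L L) (L ⧸ I.map (algebraMap P L)) k) := fun k => by
    obtain ⟨e⟩ := FlatHom.nonempty_flat_E (B := L) (P ⧸ I) X 0 k
    exact ⟨e ≪≫ₗ Linear.homCongr L (Iso.refl _) ((shiftFunctor (Dual.D L) k).mapIso eY) ≪≫ₗ
      (econgr (Dual.inD L L) eF k).symm⟩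
  refine ⟨(c : ℤ) - n, by omega, fun i hi => ?_, ?_⟩
  · obtain ⟨e, he⟩ := trans_ i _ rfl
    obtain ⟨eL⟩ := loc ((n : ℤ) + i)
    haveI := hc ((n : ℤ) + i) (by omega)
    haveI : Subsingleton (L ⊗[P] E X (P ⧸ I) ((n : ℤ) + i)) := eL.injective.subsingleton
    rw [Module.notMem_support_iff']
    intro m
    haveI := isLocalizedModule_mk (B := L) Q.primeCompl (E X (P ⧸ I) ((n : ℤ) + i))
    obtain ⟨u, hu⟩ := (IsLocalizedModule.eq_zero_iff Q.primeCompl (TensorProduct.mk P L _ 1) (m := e m)).1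
      (Subsingleton.elim _ _)
    exact ⟨φ u, u.2, e.injective (by rw [he, map_zero]; exact hu)⟩
  · obtain ⟨e, he⟩ := trans_ ((c : ℤ) - n) (c : ℤ) (by omega)
    obtain ⟨eL⟩ := loc (c : ℤ)
    exact nonempty_equiv_of_presentation φ hψ q.asIdeal e he (eL ≪≫ₗ eD)

include hψ adj in
theorem invertible [∀ f : A, DRing.HasLBaseChange (algebraMap A (Localization.Away f))]
    (hI : LCI.IsKoszulRegularIdeal (RingHom.ker ψ.toRingHom)) (q : PrimeSpectrum A) :
    ∃ (f : A) (_ : f ∉ q.asIdeal) (m : ℤ), Nonempty ((DRing.LBaseChange (algebraMap A (Localization.Away f))).obj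
      (Dual2.shriekVia n Rψ (Dual.inD R R)) ≅ (Dual.inD (Localization.Away f) (Localization.Away f))⟦m⟧) := by
  let ω := Dual2.shriekVia n Rψ (Dual.inD R R)
  obtain ⟨⟨a, ha⟩, -⟩ := Dual22Lib.bounded_finite_shriekVia ψ hψ adj (Dual.inD R R) 0 (fun i hi =>
    (DRingLib.isGE_iff_HD (Dual.inD R R) 0).1 inferInstance i hi)
  haveI : ω.IsGE a := (DRingLib.isGE_iff_HD ω a).2 ha
  obtain ⟨μ, gI, hgI⟩ := Submodule.fg_iff_exists_fin_generating_family.1
    (IsNoetherian.noetherian (RingHom.ker ψ.toRingHom))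
  haveI : ω.IsLE (μ : ℤ) := (DRingLib.isLE_iff_HD ω (μ : ℤ)).2 fun i hi => by
    refine subsingleton_of_forall_eq 0 fun z => ?_
    by_contra hz
    have hne : Nontrivial (Dual.HD A ω i) := ⟨⟨z, 0, hz⟩⟩
    obtain ⟨p, hp⟩ := Module.nonempty_support_of_nontrivial (R := A) (M := Dual.HD A ω i)
    obtain ⟨j, hjμ, hj, -⟩ := exists_degree ψ hψ adj hI gI hgI p
    exact hj i (by omega) hp
  obtain ⟨j, -, hj, ⟨e⟩⟩ := exists_degree ψ hψ adj hI gI hgI q
  exact OmegaGor.exists_away_iso a μ (fun i => Omega.finite_HD ψ hψ adj i) q j hj e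

end Groth.Agent.DualLib.OmegaLCI
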