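import Groth.Agent.DualLib.ShriekLocal
import Groth.Agent.DualLib.OmegaLCI
import Groth.Agent.Dual22Lib.GorInvertible
import Groth.Agent.Dual22Lib.PerfLift
import Groth.Agent.DQCoh.PerfectAffine
import Groth.Agent.DQCoh.PerfectTor

/-!
# `f^!` on given affine pieces; local complete intersection morphisms
-/

set_option autoImplicit false
set_option backward.isDefEq.respectTransparency false
set_option backward.defeqAttrib.useBackward true
set_option linter.style.haveILetI false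
set_option linter.unusedSectionVars false
set_option synthInstance.maxHeartbeats 100000

universe u

open CategoryTheory CategoryTheory.Limits CategoryTheory.Pretriangulated AlgebraicGeometry Opposite
open Groth.Agent.DCat Groth.Agent.Dual22Lib

attribute [local instance] HasDerivedCategory.standard
attribute [-instance] Int.instConditionallyCompleteLinearOrder

namespace Groth.Agent.DualLib.ShriekPieces

variable [∀ (U V : Scheme.{u}) (j : U ⟶ V) [IsOpenImmersion j], PreservesFiniteLimits (Scheme.Modules.restrictFunctor j)]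
  [∀ (S : CommRingCat.{u}), PreservesFiniteLimits (tilde.functor S)]

variable {X Y : Scheme.{u}} [IsNoetherian Y] {f : X ⟶ Y} (c : DEt.Compactification f)
  [DCoh.HasRpush c.fbar] (hc : DCoh.RpushPreservesQCoh c.fbar) (a : DCoh.DQCoh Y ⥤ DCoh.DQCoh c.Xbar)
  (adj : DCoh.RpushQ c.fbar hc ⊣ a)

include adj in
/-- `f^! Q` on a given affine piece with a given presentation. -/
theorem nonempty_piece (Q : DCoh.DQCoh Y) (c₀ : ℤ) [Q.obj.IsGE c₀] (T : Y.affineOpens) (U : X.affineOpens)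
    (h : U.1 ≤ f ⁻¹ᵁ T.1) (K : Dual.D Γ(Y, T.1))
    (eQ : (DCoh.restrictD T.2.fromSpec).obj Q.obj ≅ (DCoh.tildeD (CommRingCat.of Γ(Y, T.1))).obj K)
    {n : ℕ} (ψ : MvPolynomial (Fin n) Γ(Y, T.1) →+* Γ(X, U.1)) (hψ : Function.Surjective ψ)
    (hcomp : ψ.comp (algebraMap Γ(Y, T.1) (MvPolynomial (Fin n) Γ(Y, T.1))) = (f.appLE T.1 U.1 h).hom)
    [DRing.HasLBaseChange (algebraMap Γ(Y, T.1) (MvPolynomial (Fin n) Γ(Y, T.1)))]
    (Rψ : Dual.D (MvPolynomial (Fin n) Γ(Y, T.1)) ⥤ Dual.D Γ(X, U.1)) (adjψ : DRing.restrictD ψ ⊣ Rψ) :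
    Nonempty ((DCoh.restrictD U.2.fromSpec).obj ((Dual3.shriekC c a).obj Q) ≅
      (DCoh.tildeD (CommRingCat.of Γ(X, U.1))).obj (Dual2.shriekVia n Rψ K)) := by
  haveI : IsNoetherianRing Γ(Y, T.1) := IsLocallyNoetherian.component_noetherian T
  have hA : RepLib.RepObj c.fbar Q.obj (a.obj Q).obj := ⟨fun {_} =>
    ⟨(a.obj Q).property, (adj.counit.app Q).hom, fun L hL => SupportAdj.rep_counit c.fbar hc a adj Q L hL⟩⟩
  have hcomm : (U.2.fromSpec ≫ c.j) ≫ c.fbar =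
      Spec.map (CommRingCat.ofHom (f.appLE T.1 U.1 h).hom) ≫ T.2.fromSpec := by
    rw [Category.assoc, c.fac]
    exact (IsAffineOpen.SpecMap_appLE_fromSpec f T.2 U.2 h).symm
  obtain ⟨i⟩ := ChartShriek.nonempty_local c.fbar hA c₀ Q.property (f.appLE T.1 U.1 h).hom T.2.fromSpec
    (U.2.fromSpec ≫ c.j) hcomm K eQ ψ hψ hcomp Rψ adjψ
  obtain ⟨w⟩ := PerfLocal.rd_comp U.2.fromSpec c.j (a.obj Q).obj
  exact ⟨w.symm ≪≫ i⟩

/-- `O` restricted to an affine open is tilde of the ring. -/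
theorem nonempty_structure_restrict {O : DCoh.D Y} (eO : O ≅ DCoh.inD Y (Coh.structureModule Y)) (T : Y.affineOpens) :
    Nonempty ((DCoh.restrictD T.2.fromSpec).obj O ≅
      (DCoh.tildeD (CommRingCat.of Γ(Y, T.1))).obj (Dual.inD Γ(Y, T.1) Γ(Y, T.1))) := by
  obtain ⟨eR⟩ := ShriekLocal.nonempty_structure_tilde Γ(Y, T.1)
  exact ⟨(DCoh.restrictD T.2.fromSpec).mapIso eO ≪≫
    ((Scheme.Modules.restrictFunctor T.2.fromSpec).mapDerivedCategorySingleFunctor 0).app _ ≪≫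
    (DerivedCategory.singleFunctor _ 0).mapIso (Scheme.Modules.restrictUnitIso T.2.fromSpec) ≪≫ eR.symm⟩

include adj in
/-- For a local complete intersection morphism `f^! O` is invertible. -/
theorem isInvertibleD_lci [IsLocallyNoetherian X] (hf : Dual3.IsLCIMor f) (O : DCoh.DQCoh Y)
    (hO : Nonempty (O.obj ≅ DCoh.inD Y (Coh.structureModule Y))) :
    Dual3.IsInvertibleD ((Dual3.shriekC c a).obj O) := by
  intro x
  obtain ⟨U, T, h, hx, hlci⟩ := hf x
  obtain ⟨eO⟩ := hO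
  letI : Algebra Γ(Y, T.1) Γ(X, U.1) := (f.appLE T.1 U.1 h).hom.toAlgebra
  haveI : IsNoetherianRing Γ(Y, T.1) := IsLocallyNoetherian.component_noetherian T
  haveI : IsNoetherianRing Γ(X, U.1) := IsLocallyNoetherian.component_noetherian U
  obtain ⟨-, n, ψ, hψ, hI⟩ := hlci
  haveI : (DCoh.inD Y (Coh.structureModule Y)).IsGE 0 :=
    (inferInstance : ((DerivedCategory.singleFunctor Y.Modules 0).obj (Coh.structureModule Y)).IsGE 0)
  haveI : O.obj.IsGE 0 := DerivedCategory.TStructure.t.isGE_of_iso eO.symm 0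
  haveI := DCat.hasLBaseChange (algebraMap Γ(Y, T.1) (MvPolynomial (Fin n) Γ(Y, T.1)))
  haveI : ∀ g : Γ(X, U.1), DRing.HasLBaseChange (algebraMap Γ(X, U.1) (Localization.Away g)) :=
    fun g => DCat.hasLBaseChange _
  obtain ⟨Rψ, ⟨adjψ⟩⟩ := Shriek.exists_rightAdjoint ψ.toRingHom
  obtain ⟨eQ⟩ := nonempty_structure_restrict eO T
  obtain ⟨e⟩ := nonempty_piece c hc a adj O 0 T U h _ eQ ψ.toRingHom hψ
    (RingHom.ext fun r => ψ.commutes r) Rψ adjψ
  obtain ⟨y, hy⟩ : x ∈ Set.range U.2.fromSpec := by rw [U.2.range_fromSpec]; exact hx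
  obtain ⟨g, hg, m, ⟨eω⟩⟩ := OmegaLCI.invertible ψ hψ adjψ hI y
  let A' := Localization.Away g
  let ι₁ : Spec (CommRingCat.of A') ⟶ Spec (CommRingCat.of Γ(X, U.1)) :=
    Spec.map (CommRingCat.ofHom (algebraMap Γ(X, U.1) A'))
  haveI : IsOpenImmersion ι₁ := IsOpenImmersion.of_isLocalization g
  obtain ⟨_, _⟩ := preserves_extendScalars (B := A') (Submonoid.powers g)
  let k := ι₁ ≫ U.2.fromSpec
  obtain ⟨e₁⟩ := nonempty_chart_restrict (X := X) (algebraMap Γ(X, U.1) A') U.2.fromSpec e k rfl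
  obtain ⟨b⟩ := DualLib.nonempty_LBaseChange_iso (A := Γ(X, U.1)) (B := A')
    (RingHom.flat_algebraMap_iff.2 (IsLocalization.flat A' (Submonoid.powers g))) (Dual2.shriekVia n Rψ (Dual.inD Γ(Y, T.1) Γ(Y, T.1)))
  let eK := e₁ ≪≫ (DCoh.tildeD (CommRingCat.of A')).mapIso (b.symm ≪≫ eω) ≪≫ tildeShiftIso (CommRingCat.of A') m
  refine ⟨k.opensRange, m, ?_, ?_⟩
  · obtain ⟨y₂, hy₂⟩ := (PrimeSpectrum.localization_away_comap_range A' g).ge hg
    exact ⟨y₂, by show U.2.fromSpec (ι₁ y₂) = x; exact (congrArg _ hy₂).trans hy⟩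
  · have hinv := k.isoOpensRange_inv_comp
    obtain ⟨cc⟩ := DCat.PerfLocal.rd_comp k.isoOpensRange.inv k ((Dual3.shriekC c a).obj O)
    have key : ∀ (l : (k.opensRange : Scheme.{u}) ⟶ X) [IsOpenImmersion l], k.isoOpensRange.inv ≫ k = l →
        Nonempty ((DCoh.restrictD l).obj ((Dual3.shriekC c a).obj O) ≅
          (DCoh.inD (k.opensRange : Scheme.{u}) (Coh.structureModule (k.opensRange : Scheme.{u})))⟦m⟧) := by
      intro l _ hl
      subst hl
      exact ⟨cc ≪≫ (DCoh.restrictD _).mapIso eK ≪≫ restrictShiftIso _ _⟩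
    exact key _ hinv

/-- Invertible objects are perfect. -/
theorem isPerfect_of_invertible {K : DCoh.D X} (hK : Dual3.IsInvertibleD K) : DCoh.IsPerfect K :=
  DQCoh.isPerfect_of_local K fun x => by
    obtain ⟨U, m, hx, ⟨e⟩⟩ := hK x
    refine ⟨U, U.ι, inferInstance, ⟨⟨x, hx⟩, rfl⟩, PCTriangle.perfect_iso e.symm ?_⟩
    exact PCTriangle.perfect_shift (PerfLift.isPerfect_single (Coherent.CohBC.isFinLocFree_structureModule _)) m

/-- Triangulated functors to complexes over a ring sending the ring to a perfect object preserve perfect objects. -/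
theorem perfect_obj {R B : Type u} [CommRing R] [CommRing B] (F : Dual.D R ⥤ Dual.D B) [F.CommShift ℤ]
    [F.IsTriangulated] (h : DRing.IsPerfect B (F.obj (Dual.inD R R))) {K : Dual.D R} (hK : DRing.IsPerfect R K) :
    DRing.IsPerfect B (F.obj K) := by
  refine DCat.devissage (fun K => DRing.IsPerfect B (F.obj K))
    (fun e h => DRingLib.perfect_of_iso (F.mapIso e) h)
    (fun T hT h₁ h₂ _ _ => DRingLib.perfect_cone (F.map_distinguished T hT) h₁ h₂)
    (fun r h => DRingLib.perfect_retract (r.map _) h) (fun n => ?_) hK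
  exact DRingLib.perfect_of_iso ((((F.commShiftIso (-n)).app (Dual.inD R R)).symm) ≪≫
    F.mapIso (DRingLib.singleIso n (ModuleCat.of R R))) (DRingLib.perfect_shift h (-n))

include adj in
/-- For a local complete intersection morphism `f^!` preserves perfect objects. -/
theorem isPerfect_lci [IsLocallyNoetherian X] (hf : Dual3.IsLCIMor f) (K : DCoh.DQCoh Y) (c₀ : ℤ) [K.obj.IsGE c₀]
    (hP : DCoh.IsPerfect K.obj) (O : DCoh.DQCoh Y) (hO : Nonempty (O.obj ≅ DCoh.inD Y (Coh.structureModule Y))) :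
    DCoh.IsPerfect ((Dual3.shriekC c a).obj K) := by
  have hωP := isPerfect_of_invertible (isInvertibleD_lci c hc a adj hf O hO)
  obtain ⟨eO⟩ := hO
  haveI : (DCoh.inD Y (Coh.structureModule Y)).IsGE 0 :=
    (inferInstance : ((DerivedCategory.singleFunctor Y.Modules 0).obj (Coh.structureModule Y)).IsGE 0)
  haveI : O.obj.IsGE 0 := DerivedCategory.TStructure.t.isGE_of_iso eO.symm 0
  refine DQCoh.isPerfect_of_local _ fun x => ?_
  obtain ⟨U, T, h, hx, hlci⟩ := hf x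
  letI : Algebra Γ(Y, T.1) Γ(X, U.1) := (f.appLE T.1 U.1 h).hom.toAlgebra
  obtain ⟨-, n, ψ, hψ, -⟩ := hlci
  haveI := DCat.hasLBaseChange (algebraMap Γ(Y, T.1) (MvPolynomial (Fin n) Γ(Y, T.1)))
  obtain ⟨Rψ, ⟨adjψ⟩⟩ := Shriek.exists_rightAdjoint ψ.toRingHom
  obtain ⟨eQ⟩ := nonempty_structure_restrict eO T
  obtain ⟨e⟩ := nonempty_piece c hc a adj O 0 T U h _ eQ ψ.toRingHom hψ (RingHom.ext fun r => ψ.commutes r) Rψ adjψ
  obtain ⟨-, -, hess⟩ := DQCoh.tildeD_main (CommRingCat.of Γ(Y, T.1))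
  obtain ⟨M, ⟨eM⟩⟩ := (hess _).1 (AdjGeom.isQCohD_restrictD T.2.fromSpec K.property)
  obtain ⟨eK⟩ := nonempty_piece c hc a adj K c₀ T U h M eM.symm ψ.toRingHom hψ (RingHom.ext fun r => ψ.commutes r) Rψ adjψ
  have hM : DRing.IsPerfect Γ(Y, T.1) M := DQCoh.perfect_of_isPerfect_tildeD (A := CommRingCat.of Γ(Y, T.1))
    (PCTriangle.perfect_iso eM.symm (PerfLift.isPerfect_restrictD T.2.fromSpec hP))
  have hω : DRing.IsPerfect Γ(X, U.1) (Dual2.shriekVia n Rψ (Dual.inD Γ(Y, T.1) Γ(Y, T.1))) :=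
    DQCoh.perfect_of_isPerfect_tildeD (A := CommRingCat.of Γ(X, U.1))
      (PCTriangle.perfect_iso e (PerfLift.isPerfect_restrictD U.2.fromSpec hωP))
  let L := DRing.LBaseChange (algebraMap Γ(Y, T.1) (MvPolynomial (Fin n) Γ(Y, T.1)))
  letI := (LBC.adj (algebraMap Γ(Y, T.1) (MvPolynomial (Fin n) Γ(Y, T.1)))).leftAdjointCommShift ℤ
  haveI := (LBC.adj (algebraMap Γ(Y, T.1) (MvPolynomial (Fin n) Γ(Y, T.1)))).commShift_of_rightAdjoint ℤ
  haveI := (LBC.adj (algebraMap Γ(Y, T.1) (MvPolynomial (Fin n) Γ(Y, T.1)))).isTriangulated_leftAdjoint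
  letI := adjψ.rightAdjointCommShift ℤ
  haveI := adjψ.commShift_of_leftAdjoint ℤ
  haveI := adjψ.isTriangulated_rightAdjoint
  have hω' : DRing.IsPerfect Γ(X, U.1) ((L ⋙ Rψ).obj (Dual.inD Γ(Y, T.1) Γ(Y, T.1))) :=
    DRingLib.perfect_of_iso ((shiftFunctorCompIsoId (Dual.D Γ(X, U.1)) (n : ℤ) (-(n : ℤ)) (by omega)).app _)
      (DRingLib.perfect_shift hω (-(n : ℤ)))
  have h' : DRing.IsPerfect Γ(X, U.1) (Dual2.shriekVia n Rψ M) :=
    DRingLib.perfect_shift (perfect_obj (L ⋙ Rψ) hω' hM) (n : ℤ)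
  obtain ⟨y, hy⟩ : x ∈ Set.range U.2.fromSpec := by rw [U.2.range_fromSpec]; exact hx
  exact ⟨_, U.2.fromSpec, inferInstance, ⟨y, hy⟩,
    PCTriangle.perfect_iso eK.symm (DQCoh.isPerfect_tildeD (A := CommRingCat.of Γ(X, U.1)) h')⟩

end Groth.Agent.DualLib.ShriekPieces
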