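import Groth.Agent.Dual22Lib.ScalarD
import Groth.Agent.Dual22Lib.PerfGen
import Groth.Agent.SerreDual.ExtLocFree
import Groth.Agent.SerreDualA.Trace
import Groth.Agent.DQCoh.Push
import Groth.Agent.DQCoh.BettiRank
import Groth.Agent.DCat.PullPush
import Groth.Agent.FlatBC14.Main
import Groth.Agent.Formal2Lib.SecU
import Groth.Agent.Coherent.CohBC.PushStructure
import Groth.Agent.Props12.TildeFin

/-!
# Derived direct images to an affine base: free objects and cohomology
-/

set_option autoImplicit false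
set_option backward.isDefEq.respectTransparency false
set_option backward.defeqAttrib.useBackward true
set_option linter.style.haveILetI false
set_option linter.unusedSectionVars false
set_option synthInstance.maxHeartbeats 100000

universe u

open CategoryTheory CategoryTheory.Limits CategoryTheory.Abelian CategoryTheory.Pretriangulated DerivedCategory AlgebraicGeometry Opposite
open Groth.Agent.Coherent Groth.Agent.DCat

attribute [local instance] HasDerivedCategory.standard Groth.Agent.SerreDualA.hhAddCommGroup Groth.Agent.SerreDualA.hhModule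
attribute [local instance] CategoryTheory.Abelian.hasFiniteBiproducts
attribute [-instance] Int.instConditionallyCompleteLinearOrder

namespace Groth.Agent.DualLib.RingBase

variable {R : Type u} [CommRing R]

variable (R) in
/-- The base. -/
noncomputable abbrev S0 : Scheme.{u} := Spec (CommRingCat.of R)

variable (R) in
/-- `O` of the base. -/
noncomputable abbrev PS : DCoh.D (S0 R) := (DQCoh.sec (S0 R)).pt.obj ⊤

theorem isQCohD_PS : DCoh.IsQCohD (PS R) := by
  haveI : Coh.IsQCoh ((freeModOn (S0 R)).obj ⊤) :=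
    Coherent.isQCoh_of_iso (DQCoh.topIso (CommRingCat.of R)).symm (h := Props12.isQCoh_tilde _)
  exact @FlatBC14.isQCohD_inD _ _ this

/-- Scalars are the endomorphisms of `O`. -/
theorem bijective_smul_PS : Function.Bijective fun r : R => r • 𝟙 (PS R) := by
  let T := tilde.functor (CommRingCat.of R)
  let G := DerivedCategory.singleFunctor (S0 R).Modules 0
  let F₀ := (freeModOn (S0 R)).obj ⊤
  let e : F₀ ≅ T.obj (ModuleCat.of _ R) := DQCoh.topIso (CommRingCat.of R)
  have hT : ∀ r : R, T.map (r • 𝟙 (ModuleCat.of _ R)) = r • 𝟙 (T.obj (ModuleCat.of _ R)) := fun r => by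
    refine Eq.trans ?_ ((Formal2Lib.SecU.map_smul_id (R := CommRingCat.of R) (ModuleCat.of (CommRingCat.of R) R) r).trans ?_)
    · rfl
    · rw [KLin.smul_id]
      refine congrArg (Formal.smulModΓ _) ?_
      show _ = (S0 R ↘ S0 R).appTop.hom ((Scheme.ΓSpecIso (CommRingCat.of R)).inv.hom r)
      rw [show (S0 R ↘ S0 R) = 𝟙 _ from Spec.map_id _, Scheme.Hom.id_appTop]
      rfl
  have hend : Function.Bijective fun r : R => r • 𝟙 (ModuleCat.of (CommRingCat.of R) R) := by
    refine ⟨fun a b h => ?_, fun g => ⟨g.hom (1 : R), ?_⟩⟩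
    · simpa using LinearMap.congr_fun (congrArg ModuleCat.Hom.hom h) (1 : R)
    · refine ModuleCat.hom_ext (LinearMap.ext fun x => ?_)
      show g.hom (1 : R) * x = g.hom x
      rw [mul_comm]
      simpa using (g.hom.map_smul (x : R) (1 : R)).symm
  have h1 : Function.Bijective fun r : R => r • 𝟙 (T.obj (ModuleCat.of _ R)) := by
    have := ((tilde.fullyFaithfulFunctor (R := CommRingCat.of R)).map_bijective _ _).comp hend
    convert this using 1
    funext r
    exact (hT r).symm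
  have h2 : Function.Bijective fun r : R => r • 𝟙 F₀ := by
    refine ⟨fun a b h => h1.1 ?_, fun g => ?_⟩
    · have h' := congrArg (fun x => e.inv ≫ x ≫ e.hom) h
      simpa [Linear.comp_smul, Linear.smul_comp] using h'
    · obtain ⟨r, hr⟩ := h1.2 (e.inv ≫ g ≫ e.hom)
      refine ⟨r, ?_⟩
      have h' := congrArg (fun x => e.hom ≫ x ≫ e.inv) hr
      simpa [Linear.comp_smul, Linear.smul_comp] using h'
  have h3 := ((Functor.FullyFaithful.ofFullyFaithful G).map_bijective F₀ F₀).comp h2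
  convert h3 using 1
  funext r
  show r • 𝟙 (G.obj F₀) = G.map (r • 𝟙 F₀)
  rw [Functor.map_smul, CategoryTheory.Functor.map_id]

/-- No higher or lower maps between copies of `O`. -/
theorem eq_zero_PS_shift {j : ℤ} (hj : j ≠ 0) (y : PS R ⟶ (PS R)⟦j⟧) : y = 0 := by
  refine (DQCoh.bijective_θ _ (DQCoh.isQCohD_shift isQCohD_PS j) (isAffineOpen_top (S0 R))).1 ?_
  refine IsZero.eq_of_tgt ?_ _ _
  refine IsZero.of_iso ?_ (((homologyFunctor (S0 R).Modules 0).shiftIso j 0 j (by omega)).app (PS R))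
  haveI : (PS R).IsGE 0 := (inferInstance : ((singleFunctor (S0 R).Modules 0).obj ((freeModOn _).obj ⊤)).IsGE 0)
  haveI : (PS R).IsLE 0 := (inferInstance : ((singleFunctor (S0 R).Modules 0).obj ((freeModOn _).obj ⊤)).IsLE 0)
  rcases lt_or_gt_of_ne hj with h | h
  · exact isZero_of_isGE _ 0 j h
  · exact isZero_of_isLE _ 0 j h

section Free

variable {ι : Type} [Fintype ι] (G : DCoh.D (S0 R))

theorem eq_zero_pow_shift {j : ℤ} (hj : j ≠ 0) (y : PS R ⟶ (⨁ fun _ : ι => PS R)⟦j⟧) : y = 0 := by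
  classical
  have h : y = ∑ i, y ≫ (biproduct.π (fun _ : ι => PS R) i ≫ biproduct.ι (fun _ : ι => PS R) i)⟦j⟧' := by
    rw [← Preadditive.comp_sum, ← Functor.map_sum, biproduct.total, CategoryTheory.Functor.map_id, Category.comp_id]
  rw [h]
  refine Finset.sum_eq_zero fun i _ => ?_
  rw [Functor.map_comp, ← Category.assoc, eq_zero_PS_shift hj (y ≫ (biproduct.π (fun _ : ι => PS R) i)⟦j⟧'), zero_comp]

/-- An object with free sections and no others is free. -/
theorem isIso_desc (hG : DCoh.IsQCohD G) (x : ι → (PS R ⟶ G))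
    (hx : Function.Bijective fun c : ι → R => ∑ i, c i • x i)
    (hv : ∀ (j : ℤ), j ≠ 0 → ∀ y : (PS R)⟦j⟧ ⟶ G, y = 0) : IsIso (biproduct.desc x) := by
  classical
  let P : DCoh.D (S0 R) := ⨁ fun _ : ι => PS R
  let f : P ⟶ G := biproduct.desc x
  obtain ⟨Cn, g, h, hT⟩ := distinguished_cocone_triangle f
  have hP : DCoh.IsQCohD P := fun p => by
    haveI : ∀ i : ι, Coh.IsQCoh (DCoh.HD (PS R) p) := fun _ => isQCohD_PS p
    haveI : Coh.IsQCoh (⨁ fun _ : ι => DCoh.HD (PS R) p) := Coherent.isQCoh_biproduct _ fun _ => isQCohD_PS p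
    exact Coherent.isQCoh_of_iso ((homologyFunctor _ p).mapBiproduct fun _ : ι => PS R).symm (h := this)
  have hC : DCoh.IsQCohD Cn := DQCoh.isQCohD_obj₃ hT hP hG
  have comb : ∀ z : PS R ⟶ G, ∃ c : ι → R, z = biproduct.lift (fun i => c i • 𝟙 (PS R)) ≫ f := fun z => by
    obtain ⟨c, hc⟩ := hx.2 z
    refine ⟨c, hc.symm.trans ?_⟩
    rw [biproduct.lift_desc]
    simp [Linear.smul_comp]
  have inj : ∀ w : PS R ⟶ P, w ≫ f = 0 → w = 0 := fun w hw => by
    choose c hc using fun i => bijective_smul_PS.2 (w ≫ biproduct.π _ i)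
    have hwc : w = biproduct.lift (fun i => c i • 𝟙 (PS R)) := biproduct.hom_ext _ _ fun i => by
      rw [biproduct.lift_π]; exact (hc i).symm
    have h0 : c = 0 := hx.1 (by
      simp only [Pi.zero_apply, zero_smul, Finset.sum_const_zero]
      rw [← hw, hwc, biproduct.lift_desc]
      simp [Linear.smul_comp])
    rw [hwc, h0]
    exact biproduct.hom_ext _ _ fun i => by simp
  refine (Triangle.isZero₃_iff_isIso₁ _ hT).1 ?_
  suffices hz : ∀ j : ℤ, IsZero (DCoh.HD Cn j) by
    haveI : Cn.IsLE (-1) := (DerivedCategory.isLE_iff _ _).2 fun j _ => hz j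
    haveI : Cn.IsGE 0 := (DerivedCategory.isGE_iff _ _).2 fun j _ => hz j
    exact DerivedCategory.TStructure.t.isZero Cn (-1) 0 (by omega)
  intro j
  refine Dual22Lib.PerfGen.isZero_HD_of_pt_top hC j fun y => ?_
  have hy : y ≫ h = 0 := by
    by_cases hj : -j = 1
    · obtain ⟨y', hy'⟩ : ∃ y' : (PS R)⟦(1 : ℤ)⟧ ⟶ Cn, eqToHom (by rw [hj]) ≫ y' = y :=
        ⟨eqToHom (by rw [hj]) ≫ y, by simp⟩
      obtain ⟨w, hw⟩ := (shiftFunctor (DCoh.D (S0 R)) (1 : ℤ)).map_surjective (y' ≫ h)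
      have hw0 : w ≫ f = 0 := (shiftFunctor (DCoh.D (S0 R)) (1 : ℤ)).map_injective (by
        rw [Functor.map_comp, hw, Category.assoc, Functor.map_zero]
        have := comp_distTriang_mor_zero₃₁ _ hT
        exact (congrArg (y' ≫ ·) this).trans comp_zero)
      rw [← hy', Category.assoc, ← hw, inj w hw0, Functor.map_zero, comp_zero]
    · let c := (shiftFunctorCompIsoId (DCoh.D (S0 R)) (-j) j (by omega))
      refine (shiftFunctor (DCoh.D (S0 R)) j).map_injective ?_
      rw [Functor.map_zero, ← cancel_epi (c.inv.app (PS R)), comp_zero]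
      rw [← cancel_mono ((shiftFunctorAdd' (DCoh.D (S0 R)) 1 j (1 + j) rfl).inv.app P), zero_comp]
      exact eq_zero_pow_shift (ι := ι) (show 1 + j ≠ 0 by omega) _
  obtain ⟨z, hz⟩ := Triangle.coyoneda_exact₃ _ hT y hy
  change y = z ≫ g at hz
  change (PS R)⟦-j⟧ ⟶ G at z
  by_cases hj : -j = 0
  · obtain ⟨c, hc⟩ := comb ((shiftFunctorZero (DCoh.D (S0 R)) ℤ).inv.app (PS R) ≫ eqToHom (by rw [hj]) ≫ z)
    have hfg : f ≫ g = 0 := comp_distTriang_mor_zero₁₂ _ hT
    have hz0 : ((shiftFunctorZero (DCoh.D (S0 R)) ℤ).inv.app (PS R) ≫ eqToHom (by rw [hj]) ≫ z) ≫ g = 0 := by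
      rw [hc, Category.assoc, hfg, comp_zero]
    simp only [Category.assoc, Preadditive.IsIso.comp_left_eq_zero] at hz0
    rw [hz, hz0]
  · rw [hz, hv _ hj z, zero_comp]

end Free

variable {X : Scheme.{u}} [X.Over (Spec (CommRingCat.of R))]

theorem isOver_str : (X ↘ Spec (CommRingCat.of R)).IsOver (Spec (CommRingCat.of R)) :=
  ⟨(congrArg (_ ≫ ·) (Spec.map_id _)).trans (Category.comp_id _)⟩

/-- Pullback of `j_! O` from the base. -/
theorem nonempty_pullFree {Y : Scheme.{u}} (f : X ⟶ Y) :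
    Nonempty ((Scheme.Modules.pullback f).obj ((freeModOn Y).obj ⊤) ≅ (freeModOn X).obj ⊤) := by
  let adj := Scheme.Modules.pullbackPushforwardAdjunction f
  let E₁ : ∀ M : X.Modules, ((Scheme.Modules.pullback f).obj ((freeModOn Y).obj ⊤) ⟶ M) ≃ Γ(M, ⊤) := fun M =>
    (adj.homEquiv _ M).trans (freeModOnEquiv ⊤ ((Scheme.Modules.pushforward f).obj M))
  let E₂ : ∀ M : X.Modules, ((freeModOn X).obj ⊤ ⟶ M) ≃ Γ(M, ⊤) := freeModOnEquiv ⊤
  have h₁ : ∀ {M N : X.Modules} (g : (Scheme.Modules.pullback f).obj ((freeModOn Y).obj ⊤) ⟶ M) (φ : M ⟶ N),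
      E₁ N (g ≫ φ) = φ.app ⊤ (E₁ M g) := fun g φ => by
    simp only [E₁, Equiv.trans_apply, Adjunction.homEquiv_naturality_right]
    exact freeModOnEquiv_comp ⊤ _ _
  have h₂ : ∀ {M N : X.Modules} (g : (freeModOn X).obj ⊤ ⟶ M) (φ : M ⟶ N),
      E₂ N (g ≫ φ) = φ.app ⊤ (E₂ M g) := fun g φ => freeModOnEquiv_comp ⊤ g φ
  exact ⟨{ hom := (E₁ _).symm (E₂ _ (𝟙 _))
           inv := (E₂ _).symm (E₁ _ (𝟙 _))
           hom_inv_id := (E₁ _).injective (by
             rw [h₁, Equiv.apply_symm_apply, ← h₂, Category.id_comp, Equiv.apply_symm_apply])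
           inv_hom_id := (E₂ _).injective (by
             rw [h₂, Equiv.apply_symm_apply, ← h₁, Category.id_comp, Equiv.apply_symm_apply]) }⟩

/-- The pullback of `O` is `O`, derived. -/
theorem nonempty_lpullTop (f : X ⟶ S0 R) [DCoh.HasLpull f] :
    Nonempty ((DCoh.Lpull f).obj (PS R) ≅ (singleFunctor X.Modules 0).obj ((freeModOn X).obj ⊤)) := by
  have h : FlatMod.IsFinLocFree ((freeModOn (S0 R)).obj ⊤) :=
    PerfTensor.isFinLocFree_of_iso (DQCoh.topIso (CommRingCat.of R) ≪≫ tildeSelf).symm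
      (Coherent.CohBC.isFinLocFree_structureModule _)
  obtain ⟨e⟩ := DQCoh.nonempty_Lpull_inD f h
  obtain ⟨e'⟩ := nonempty_pullFree (Y := S0 R) f
  exact ⟨e ≪≫ (singleFunctor X.Modules 0).mapIso e'⟩

variable [DCoh.HasRpush (X ↘ Spec (CommRingCat.of R))]

variable (R) in
/-- `Rf_*(M[q])`. -/
noncomputable abbrev gS (M : X.Modules) (q : ℤ) : DCoh.D (S0 R) :=
  (DCoh.Rpush (X ↘ Spec (CommRingCat.of R))).obj (((singleFunctor X.Modules 0).obj M)⟦q⟧)

theorem additive_Rpush : (DCoh.Rpush (X ↘ Spec (CommRingCat.of R))).Additive := by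
  obtain ⟨_, _⟩ := exists_commShift_Rpush (X ↘ Spec (CommRingCat.of R))
  infer_instance

theorem map_smul_Rpush {K L : DCoh.D X} (a : R) (y : K ⟶ L) :
    (DCoh.Rpush (X ↘ Spec (CommRingCat.of R))).map (a • y) =
      a • (DCoh.Rpush (X ↘ Spec (CommRingCat.of R))).map y := by
  haveI := isOver_str (R := R) (X := X)
  rw [← Category.comp_id y, ← Linear.comp_smul, Functor.map_comp, Dual22Lib.ScalarD.Rpush_map_smul_id,
    Linear.comp_smul]
  erw [Category.comp_id, Category.comp_id]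

/-- The transposition `Hom(O_X, K) → Hom(O, Rf_* K)`. -/
theorem exists_transpose : ∃ u : PS R ⟶ (DCoh.Rpush (X ↘ Spec (CommRingCat.of R))).obj
      ((singleFunctor X.Modules 0).obj ((freeModOn X).obj ⊤)),
    ∀ K : DCoh.D X, Function.Bijective
      fun y : (singleFunctor X.Modules 0).obj ((freeModOn X).obj ⊤) ⟶ K =>
        u ≫ (DCoh.Rpush (X ↘ Spec (CommRingCat.of R))).map y := by
  let f := X ↘ Spec (CommRingCat.of R)
  haveI := hasLpull f
  obtain ⟨adj⟩ := nonempty_pullPushAdj f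
  obtain ⟨c⟩ := nonempty_lpullTop (R := R) f
  refine ⟨adj.homEquiv _ _ c.hom, fun K => ?_⟩
  have e : (fun y => adj.homEquiv _ _ c.hom ≫ (DCoh.Rpush f).map y) =
      (adj.homEquiv (PS R) K) ∘ fun y => c.hom ≫ y := by
    funext y
    exact (adj.homEquiv_naturality_right c.hom y).symm
  exact e ▸ (adj.homEquiv _ _).bijective.comp c.symm.homFromEquiv.bijective

/-- `Ext(O, M)` is cohomology, linearly. -/
noncomputable def extHHLin (M : X.Modules) (q : ℕ) [HasExt.{u} X.Modules] :
    Ext ((freeModOn X).obj ⊤) M q ≃ₗ[R] Coh.HH X M q :=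
  { SerreDual.extHH M q with
    map_smul' := fun c x => by
      show SerreDual.extHH M q (c • x) = c • SerreDual.extHH M q x
      rw [Ext.smul_eq_comp_mk₀, SerreDual.extHH_natural, KLin.smul_id]
      show _ = Sheaf.H.map (Coh.smulAb M (Coh.toGlobal (X ↘ Spec (CommRingCat.of R)) c)) q _
      congr 1 }

/-- Maps `O ⟶ Rf_*(M[n])` as cohomology. -/
theorem exists_eLin : ∃ e : ∀ (M : X.Modules) (n : ℕ), (PS R ⟶ gS R M n) ≃ₗ[R] Coh.HH X M n,
    ∀ (M N : X.Modules) (g : M ⟶ N) (n : ℕ) (x : PS R ⟶ gS R M n),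
      e N n (x ≫ (DCoh.Rpush (X ↘ Spec (CommRingCat.of R))).map (((singleFunctor X.Modules 0).map g)⟦(n : ℤ)⟧')) =
        Sheaf.H.map ((SheafOfModules.toSheaf X.ringCatSheaf).map g) n (e M n x) := by
  obtain ⟨u, hu⟩ := exists_transpose (R := R) (X := X)
  haveI := additive_Rpush (R := R) (X := X)
  let Rf := DCoh.Rpush (X ↘ Spec (CommRingCat.of R))
  let τ : ∀ (M : X.Modules) (n : ℕ), ((singleFunctor X.Modules 0).obj ((freeModOn X).obj ⊤) ⟶
      ((singleFunctor X.Modules 0).obj M)⟦(n : ℤ)⟧) ≃ₗ[R] (PS R ⟶ gS R M n) := fun M n =>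
    LinearEquiv.ofBijective
      { toFun := fun y => u ≫ Rf.map y
        map_add' := fun y z => by rw [Functor.map_add, Preadditive.comp_add]
        map_smul' := fun a y => by
          rw [map_smul_Rpush, Linear.comp_smul]
          rfl } (hu _)
  let H : ∀ (M : X.Modules) (n : ℕ), ((singleFunctor X.Modules 0).obj ((freeModOn X).obj ⊤) ⟶
      ((singleFunctor X.Modules 0).obj M)⟦(n : ℤ)⟧) ≃ₗ[R] Coh.HH X M n := fun M n =>
    (Ext.homLinearEquiv (R := R)).symm.trans (extHHLin M n)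
  refine ⟨fun M n => (τ M n).symm.trans (H M n), fun M N g n x => ?_⟩
  obtain ⟨y, rfl⟩ := (τ M n).surjective x
  have hy : τ M n y ≫ Rf.map (((singleFunctor X.Modules 0).map g)⟦(n : ℤ)⟧') =
      τ N n (y ≫ ((singleFunctor X.Modules 0).map g)⟦(n : ℤ)⟧') := by
    show (u ≫ Rf.map y) ≫ _ = u ≫ Rf.map _
    rw [Functor.map_comp, Category.assoc]
  rw [hy]
  simp only [LinearEquiv.trans_apply, LinearEquiv.symm_apply_apply]
  obtain ⟨α, rfl⟩ := (Ext.homLinearEquiv (R := R) (X := (freeModOn X).obj ⊤) (Y := M) (n := n)).surjective y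
  have hα : (Ext.homLinearEquiv (R := R)) (α.comp (Ext.mk₀ g) (add_zero n)) =
      (Ext.homLinearEquiv (R := R) α) ≫ ((singleFunctor X.Modules 0).map g)⟦(n : ℤ)⟧' := by
    show (α.comp (Ext.mk₀ g) (add_zero n)).hom = α.hom ≫ _
    rw [Ext.comp_hom, Ext.mk₀_hom, ShiftedHom.comp_mk₀]
  simp only [H, LinearEquiv.trans_apply]
  rw [← hα, LinearEquiv.symm_apply_apply, LinearEquiv.symm_apply_apply]
  exact SerreDual.extHH_natural g n α

/-- The shift of `Rf_*(M[q])`. -/
theorem nonempty_gS_shift (M : X.Modules) (q j q' : ℤ) (h : q + j = q') :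
    Nonempty ((gS R M q)⟦j⟧ ≅ gS R M q') := by
  obtain ⟨_, _⟩ := exists_commShift_Rpush (X ↘ Spec (CommRingCat.of R))
  exact ⟨((DCoh.Rpush (X ↘ Spec (CommRingCat.of R))).commShiftIso j).symm.app _ ≪≫
    (DCoh.Rpush _).mapIso ((shiftFunctorAdd' (DCoh.D X) q j q' h).symm.app _)⟩

/-- No cohomology outside one degree: no maps from `O`. -/
theorem subsingleton_hom_gS (M : X.Modules) {n : ℕ} (hv : ∀ q : ℕ, q ≠ n → Subsingleton (Coh.HH X M q))
    (q : ℤ) (hq : q ≠ n) : Subsingleton (PS R ⟶ gS R M q) := by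
  rcases lt_or_ge q 0 with hneg | hpos
  · obtain ⟨u, hu⟩ := exists_transpose (R := R) (X := X)
    haveI : Subsingleton ((singleFunctor X.Modules 0).obj ((freeModOn X).obj ⊤) ⟶
        ((singleFunctor X.Modules 0).obj M)⟦q⟧) := subsingleton_of_forall_eq 0 fun y => by
      haveI : (((singleFunctor X.Modules 0).obj M)⟦q⟧).IsGE 1 := by
        haveI : (((singleFunctor X.Modules 0).obj M)⟦q⟧).IsGE (-q) :=
          DerivedCategory.TStructure.t.isGE_shift _ 0 q (-q) (by omega)
        exact DerivedCategory.TStructure.t.isGE_of_ge _ 1 (-q) (by omega)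
      exact DerivedCategory.TStructure.t.zero y 0 1 (by omega)
    exact (Equiv.ofBijective _ (hu _)).symm.subsingleton
  · obtain ⟨q, rfl⟩ := Int.eq_ofNat_of_zero_le hpos
    obtain ⟨e, -⟩ := exists_eLin (R := R) (X := X)
    haveI := hv q (by omega)
    exact (e M q).toEquiv.subsingleton

variable [CompactSpace X] [QuasiSeparatedSpace X]

theorem isQCohD_gS (M : X.Modules) [Coh.IsQCoh M] (q : ℤ) : DCoh.IsQCohD (gS R M q) :=
  DQCoh.isQCohD_Rpush _ _ (DQCoh.isQCohD_shift (FlatBC14.isQCohD_inD M) _)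

/-- With free cohomology in one degree, the direct image is free, in one degree. -/
theorem isIso_free_gS (M : X.Modules) [Coh.IsQCoh M] {n : ℕ}
    (hv : ∀ q : ℕ, q ≠ n → Subsingleton (Coh.HH X M q))
    (e : (PS R ⟶ gS R M n) ≃ₗ[R] Coh.HH X M n)
    {ι : Type} [Fintype ι] (b : Module.Basis ι R (Coh.HH X M n)) :
    IsIso (biproduct.desc fun i => e.symm (b i)) := by
  classical
  refine isIso_desc _ (isQCohD_gS M _) _ ?_ fun j hj y => ?_
  · have : (fun c : ι → R => ∑ i, c i • e.symm (b i)) = e.symm ∘ b.equivFun.symm := by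
      funext c
      simp only [Function.comp_apply, Module.Basis.equivFun_symm_apply]
      rw [map_sum]
      exact Finset.sum_congr rfl fun i _ => (e.symm.map_smul (c i) (b i)).symm
    rw [this]
    exact e.symm.bijective.comp b.equivFun.symm.bijective
  · obtain ⟨w⟩ := nonempty_gS_shift (R := R) M n (-j) ((n : ℤ) - j) (by omega)
    have h0 : ((shiftFunctorCompIsoId (DCoh.D (S0 R)) j (-j) (by omega)).inv.app (PS R) ≫ y⟦-j⟧') ≫ w.hom = 0 :=
      @Subsingleton.elim _ (subsingleton_hom_gS M hv _ (by omega)) _ _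
    rw [Preadditive.IsIso.comp_right_eq_zero, Preadditive.IsIso.comp_left_eq_zero] at h0
    exact (shiftFunctor _ (-j)).map_eq_zero_iff.1 h0

end Groth.Agent.DualLib.RingBase
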