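import Groth.Agent.DualLib.SerreTop
import Groth.Agent.DQCoh.RpushSum
import Groth.Agent.DQCoh.PerfectClass
import Groth.Agent.Dual22Lib.TenLocal
import Groth.Agent.DCat.RHomLeft
import Groth.Agent.InjMod14.Opens
import Groth.Agent.EulerLib.Scalar

/-! When the scalars are the endomorphisms, `O → RHom(E, E)` is invertible. -/

set_option autoImplicit false
set_option backward.isDefEq.respectTransparency false
set_option backward.defeqAttrib.useBackward true
set_option linter.style.haveILetI false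
set_option linter.unusedSectionVars false
set_option synthInstance.maxHeartbeats 100000

universe w v u

open CategoryTheory CategoryTheory.Limits CategoryTheory.Pretriangulated DerivedCategory AlgebraicGeometry HomologicalComplex
open Groth.Agent.SiteDer16 Groth.Agent.ModStalk Groth.Agent.DCat Groth.Agent.DCat.PerfLocal Groth.Agent.Coherent Groth.Agent.DQCoh Groth.Agent.Dual22Lib

attribute [local instance] HasDerivedCategory.standard

namespace Groth.Agent.DualLib.EndIso

/-- Isomorphisms are detected on the opens of a basis. -/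
theorem isIso_of_bijective_basis {X : Scheme.{u}} (𝓑 : Set X.Opens)
    (hB : ∀ (x : X) (U : X.Opens), x ∈ U → ∃ W ∈ 𝓑, x ∈ W ∧ W ≤ U) {A B : DCoh.D X} (φ : A ⟶ B)
    (h : ∀ W ∈ 𝓑, ∀ k : ℤ, Function.Bijective (fun y : ((sec X).pt.obj W)⟦k⟧ ⟶ A => y ≫ φ)) : IsIso φ := by
  obtain ⟨C, v, w, hT⟩ := distinguished_cocone_triangle φ
  refine (Triangle.isZero₃_iff_isIso₁ _ hT).1 (DQCoh.isZero_of_isZero_hd C fun j => ?_)
  refine isZero_of_restrict_cover _ (fun _ : PUnit.{u + 1} => (⊤ : X.Opens)) (fun x => ⟨⟨⟩, trivial⟩) fun _ => ?_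
  refine isZero_restrict_homology C j ⊤ 𝓑 (fun x U _ hxU => hB x U hxU) fun W hW y => ?_
  have hw : y ≫ w = 0 := by
    refine eq_zero_of_comp_shift_eq_zero φ 1 (fun z hz => ?_) _ ?_
    · let e2 : ((sec X).pt.obj W)⟦-(j + 1)⟧ ≅ (((sec X).pt.obj W)⟦-j⟧)⟦-(1 : ℤ)⟧ :=
        (shiftFunctorAdd' (DCoh.D X) (-j) (-1) (-(j + 1)) (by omega)).app _
      rw [← cancel_epi e2.hom, comp_zero]
      apply (h W hW (-(j + 1))).1
      simp [hz]
    · rw [Category.assoc]
      exact (congrArg (y ≫ ·) (comp_distTriang_mor_zero₃₁ _ hT)).trans comp_zero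
  obtain ⟨y', rfl⟩ := Triangle.coyoneda_exact₃ _ hT y hw
  obtain ⟨y'', rfl⟩ := (h W hW _).2 y'
  exact (Category.assoc _ _ _).trans ((congrArg (y'' ≫ ·) (comp_distTriang_mor_zero₁₂ _ hT)).trans comp_zero)

section Abstract

variable {C D : Type*} [Category C] [Category D] {J : D ⥤ C} {R : C ⥤ D} (adj : J ⊣ R) [∀ Z, IsIso (adj.unit.app Z)]
  {T : C ⥤ C} {T' : D ⥤ D} (θ : T' ⋙ J ≅ J ⋙ T) (O : C) [IsIso (R.map (T.map (adj.counit.app O)))]

/-- The comparison over the open. -/
noncomputable def wIso : T'.obj (R.obj O) ≅ R.obj (T.obj O) :=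
  asIso (adj.unit.app (T'.obj (R.obj O))) ≪≫ R.mapIso (θ.app (R.obj O)) ≪≫ asIso (R.map (T.map (adj.counit.app O)))

include adj θ in
/-- Bijectivity passes from the open to extensions by zero. -/
theorem bijective_map_of_open {P : C} {P' : D} (e : J.obj P' ≅ P)
    (h : Function.Bijective fun y : P' ⟶ R.obj O => T'.map y) :
    Function.Bijective fun y : P ⟶ O => T.map y := by
  let e₁ : (P ⟶ O) ≃ (P' ⟶ R.obj O) := e.symm.homFromEquiv.trans (adj.homEquiv P' O)
  let e₂ : (T.obj P ⟶ T.obj O) ≃ (T'.obj P' ⟶ R.obj (T.obj O)) :=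
    (θ.app P' ≪≫ T.mapIso e).symm.homFromEquiv.trans (adj.homEquiv _ _)
  have k : e₂ ∘ (fun y : P ⟶ O => T.map y) =
      ((wIso adj θ O).homToEquiv (Z := T'.obj P')) ∘ (fun y' : P' ⟶ R.obj O => T'.map y') ∘ e₁ := by
    funext y
    let y' := adj.homEquiv P' O (e.hom ≫ y)
    have hz : e.hom ≫ y = J.map y' ≫ adj.counit.app O :=
      ((adj.homEquiv P' O).symm_apply_apply (e.hom ≫ y)).symm.trans (adj.homEquiv_counit _ _ _)
    have hn : θ.hom.app P' ≫ T.map (J.map y') = J.map (T'.map y') ≫ θ.hom.app (R.obj O) :=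
      (θ.hom.naturality y').symm
    have hu : adj.unit.app (T'.obj P') ≫ R.map (J.map (T'.map y')) = T'.map y' ≫ adj.unit.app _ :=
      (adj.unit.naturality (T'.map y')).symm
    show adj.homEquiv _ _ ((θ.hom.app P' ≫ T.map e.hom) ≫ T.map y) = T'.map y' ≫ (wIso adj θ O).hom
    rw [Category.assoc, ← T.map_comp, hz, T.map_comp, ← Category.assoc, hn, Category.assoc,
      Adjunction.homEquiv_unit, R.map_comp, R.map_comp, reassoc_of% hu]
    rfl
  refine (Function.Bijective.of_comp_iff' e₂.bijective _).1 ?_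
  rw [k]
  exact (Equiv.bijective _).comp (h.comp e₁.bijective)

end Abstract

section Scalars

variable {A : Type u} [CommRing A] {X : Scheme.{u}} [X.Over (Spec (CommRingCat.of A))]

theorem stalk_map_smul (M : X.Modules) (a : A) (x : X) :
    (DerSch.stalkFunctor X x).map (a • 𝟙 M) =
      X.presheaf.germ ⊤ x trivial (Coh.toGlobal (X ↘ Spec (CommRingCat.of A)) a) •
        𝟙 ((DerSch.stalkFunctor X x).obj M) := by
  rw [KLin.smul_id]
  exact ModuleCat.hom_ext (LinearMap.ext fun v => EulerLib.stalkMapₗ_smulMod M _ x v)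

/-- The tensor product of modules is linear in the first variable. -/
theorem ten_map_smul (M N : X.Modules) (a : A) : ((shT X).map (a • 𝟙 M)).app N = a • 𝟙 _ := by
  refine InjMod14.hom_ext_stalks fun x => ?_
  rw [← cancel_mono (stalkTensorIso x M N).hom, stalkTensor_nat₁, stalk_map_smul, stalk_map_smul,
    Linear.smul_comp, Category.id_comp]
  have h : ∀ (R : Type u) [CommRing R] (M N : ModuleCat.{u} R) (r : R),
      ((modT R).map (r • 𝟙 M)).app N = r • 𝟙 (((modT R).obj M).obj N) := fun R _ M N r => by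
    refine ModuleCat.hom_ext (TensorProduct.ext' fun m n => ?_)
    rfl
  rw [h, Linear.comp_smul]
  exact congrArg (_ • ·) (Category.comp_id _).symm

/-- The total tensor product is linear in the first variable. -/
theorem tot_map_smul (C G : CochainComplex X.Modules ℤ) (a : A) : totMap₁ (shT X) (a • 𝟙 C) G = a • 𝟙 _ := by
  refine HomologicalComplex.hom_ext _ _ fun n => mapBifunctor.hom_ext fun p q hpq => ?_
  simp only [ι_mapBifunctorMap, HomologicalComplex.id_f, HomologicalComplex.smul_f_apply, ten_map_smul,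
    CategoryTheory.Functor.map_id, Category.comp_id, Linear.smul_comp, Linear.comp_smul, Category.id_comp]

variable (G : CochainComplex X.Modules ℤ) (hG : IsKFlatFor (shT X) G) [DCoh.HasLTensorCx G]

include hG

/-- Derived tensor products are linear. -/
theorem LTensor_map_smul (K : DCoh.D X) (a : A) :
    (DCoh.LTensorCx G).map (a • 𝟙 K) = a • 𝟙 ((DCoh.LTensorCx G).obj K) := by
  let C := DerivedCategory.Q.objPreimage K
  let e : DerivedCategory.Q.obj C ≅ K := DerivedCategory.Q.objObjPreimageIso K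
  have h1 : a • 𝟙 K = e.inv ≫ DerivedCategory.Q.map (a • 𝟙 C) ≫ e.hom := by
    rw [ScalarD.Q_map_smul_id, Linear.smul_comp, Linear.comp_smul, Category.id_comp, Iso.inv_hom_id]
  have h2 : (DCoh.LTensorCx G).map (DerivedCategory.Q.map (a • 𝟙 C)) = a • 𝟙 _ := by
    have hn := (TensorCongr.fac hG).hom.naturality (a • 𝟙 C)
    rw [Functor.comp_map] at hn
    rw [← cancel_mono ((TensorCongr.fac hG).hom.app C), hn, Linear.smul_comp, Category.id_comp]
    rw [show (DCoh.tensorCxQ G).map (a • 𝟙 C) = a • 𝟙 _ from ?_]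
    · exact (Linear.comp_smul _ _ _ _ _ _).trans (congrArg (a • ·) (Category.comp_id _))
    · refine Eq.trans ?_ (ScalarD.Q_map_smul_id _ a)
      exact congrArg DerivedCategory.Q.map (tot_map_smul C G a)
  rw [h1, Functor.map_comp, Functor.map_comp, h2, Linear.smul_comp, Linear.comp_smul, Category.id_comp,
    ← Functor.map_comp, Iso.inv_hom_id, CategoryTheory.Functor.map_id]

/-- Derived tensor products commute with shifts, objectwise. -/
theorem nonempty_LTensor_shift_obj (K : DCoh.D X) (k : ℤ) :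
    Nonempty ((DCoh.LTensorCx G).obj (K⟦k⟧) ≅ ((DCoh.LTensorCx G).obj K)⟦k⟧) := by
  let C := DerivedCategory.Q.objPreimage K
  let e : DerivedCategory.Q.obj C ≅ K := DerivedCategory.Q.objObjPreimageIso K
  have key : ∀ (Φ : CochainComplex X.Modules ℤ ⥤ CochainComplex X.Modules ℤ ⥤ CochainComplex X.Modules ℤ),
      Φ = (shT X).map₂CochainComplex → Nonempty ((Φ.obj (C⟦k⟧)).obj G ≅ ((Φ.obj C).obj G)⟦k⟧) := by
    intro Φ hΦ
    subst hΦ
    exact ⟨CochainComplex.mapBifunctorShift₁Iso C G (shT X) k⟩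
  obtain ⟨t⟩ := key (DCoh.tensorCx (X := X)) rfl
  exact ⟨(DCoh.LTensorCx G).mapIso ((shiftFunctor _ k).mapIso e.symm ≪≫ (DerivedCategory.Q.commShiftIso k).symm.app C) ≪≫
    (TensorCongr.fac hG).app _ ≪≫ DerivedCategory.Q.mapIso t ≪≫ (DerivedCategory.Q.commShiftIso k).app _ ≪≫
    (shiftFunctor _ k).mapIso (((TensorCongr.fac hG).app C).symm ≪≫ (DCoh.LTensorCx G).mapIso e)⟩

end Scalars

section Affine

variable {B : Type u} [CommRing B]

/-- Scalar endomorphisms are transported along isomorphisms. -/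
theorem bijective_smul_of_iso {C : Type*} [Category C] [Preadditive C] [Linear B C] {K L : C} (e : K ≅ L)
    (h : Function.Bijective fun b : B => b • 𝟙 K) : Function.Bijective fun b : B => b • 𝟙 L := by
  have h' : (fun b : B => b • 𝟙 L) = Iso.homCongr e e ∘ fun b => b • 𝟙 K := funext fun b => by
    simp [Iso.homCongr]
  rw [h']
  exact (Iso.homCongr e e).bijective.comp h

/-- On an affine scheme the tensor product with `M` is bijective on maps between shifts of `O`. -/
theorem bijective_LTensor_map (G : CochainComplex (RingBase.S0 B).Modules ℤ)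
    (hG : IsKFlatFor (shT (RingBase.S0 B)) G) [DCoh.HasLTensorCx G] {O : DCoh.D (RingBase.S0 B)}
    (eO : O ≅ RingBase.PS B)
    (h₁ : Function.Bijective fun b : B => b • 𝟙 ((DCoh.LTensorCx G).obj O))
    (h₂ : ∀ k : ℤ, k ≠ 0 → Subsingleton ((DCoh.LTensorCx G).obj O ⟶ ((DCoh.LTensorCx G).obj O)⟦k⟧)) (k : ℤ) :
    Function.Bijective fun y : (RingBase.PS B)⟦k⟧ ⟶ O => (DCoh.LTensorCx G).map y := by
  let S := DCoh.D (RingBase.S0 B)
  let L := DCoh.LTensorCx G
  obtain ⟨t⟩ := nonempty_LTensor_shift_obj G hG O k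
  let c : L.obj ((RingBase.PS B)⟦k⟧) ≅ (L.obj O)⟦k⟧ := L.mapIso ((shiftFunctor S k).mapIso eO.symm) ≪≫ t
  rcases eq_or_ne k 0 with rfl | hk
  · let e₀ : (RingBase.PS B)⟦(0 : ℤ)⟧ ≅ O := (shiftFunctorZero S ℤ).app _ ≪≫ eO.symm
    have hP : Function.Bijective fun b : B => b • 𝟙 O :=
      bijective_smul_of_iso eO.symm RingBase.bijective_smul_PS
    let α := e₀.symm.homFromEquiv (Z := O)
    let β := (L.mapIso e₀).symm.homFromEquiv (Z := L.obj O)
    have k' : (fun y => L.map y) ∘ α ∘ (fun b : B => b • 𝟙 O) = β ∘ fun b : B => b • 𝟙 (L.obj O) := by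
      funext b
      show L.map (e₀.hom ≫ (b • 𝟙 O)) = L.map e₀.hom ≫ (b • 𝟙 (L.obj O))
      rw [Functor.map_comp, LTensor_map_smul G hG]
    refine (Function.Bijective.of_comp_iff _ (α.bijective.comp hP)).1 ?_
    exact k' ▸ β.bijective.comp h₁
  · have hneg : ∀ M : S, Subsingleton (M ⟶ M⟦-k⟧) → Subsingleton (M⟦k⟧ ⟶ M) := fun M hM =>
      let β : (M⟦k⟧)⟦-k⟧ ≅ M := (shiftFunctorCompIsoId S k (-k) (by omega)).app M
      haveI : Subsingleton ((M⟦k⟧)⟦-k⟧ ⟶ M⟦-k⟧) :=
        ⟨fun x y => (cancel_epi β.inv).1 (@Subsingleton.elim (M ⟶ M⟦-k⟧) hM _ _)⟩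
      (Functor.FullyFaithful.ofFullyFaithful (shiftFunctor S (-k))).homEquiv.injective.subsingleton
    haveI : Subsingleton (RingBase.PS B ⟶ (RingBase.PS B)⟦-k⟧) :=
      ⟨fun x y => (RingBase.eq_zero_PS_shift (neg_ne_zero.2 hk) x).trans
        (RingBase.eq_zero_PS_shift (neg_ne_zero.2 hk) y).symm⟩
    haveI := hneg (RingBase.PS B) inferInstance
    haveI := hneg (L.obj O) (h₂ (-k) (neg_ne_zero.2 hk))
    haveI : Subsingleton ((RingBase.PS B)⟦k⟧ ⟶ O) := eO.homToEquiv.injective.subsingleton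
    haveI : Subsingleton (L.obj ((RingBase.PS B)⟦k⟧) ⟶ L.obj O) := c.homFromEquiv.injective.subsingleton
    exact ⟨fun _ _ _ => Subsingleton.elim _ _, fun z => ⟨0, Subsingleton.elim _ z⟩⟩

variable [PreservesFiniteLimits (tilde.functor (CommRingCat.of B))]

/-- Derived tilde is linear. -/
theorem tildeD_map_smul (K : Dual.D B) (b : B) :
    (DCoh.tildeD (CommRingCat.of B)).map (b • 𝟙 K) = b • 𝟙 ((DCoh.tildeD (CommRingCat.of B)).obj K) := by
  let R := CommRingCat.of B
  haveI := SerreTop.preservesFiniteColimits_tilde R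
  have hT : ∀ M : ModuleCat.{u} B, (tilde.functor R).map (b • 𝟙 M) = b • 𝟙 ((tilde.functor R).obj M) := fun M => by
    refine Eq.trans ?_ ((Formal2Lib.SecU.map_smul_id (R := R) M b).trans ?_)
    · rfl
    · rw [KLin.smul_id]
      refine congrArg (Formal.smulModΓ _) ?_
      show _ = (RingBase.S0 B ↘ RingBase.S0 B).appTop.hom ((Scheme.ΓSpecIso R).inv.hom b)
      rw [show (RingBase.S0 B ↘ RingBase.S0 B) = 𝟙 _ from Spec.map_id _, Scheme.Hom.id_appTop]
      rfl
  let C := DerivedCategory.Q.objPreimage K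
  let e : DerivedCategory.Q.obj C ≅ K := DerivedCategory.Q.objObjPreimageIso K
  have h1 : b • 𝟙 K = e.inv ≫ DerivedCategory.Q.map (b • 𝟙 C) ≫ e.hom := by
    rw [Functor.map_smul, CategoryTheory.Functor.map_id, Linear.smul_comp, Linear.comp_smul, Category.id_comp,
      Iso.inv_hom_id]
  have h2 : (DCoh.tildeD R).map (DerivedCategory.Q.map (b • 𝟙 C)) = b • 𝟙 _ := by
    have hn := (tilde.functor R).mapDerivedCategoryFactors.hom.naturality (b • 𝟙 C)
    rw [Functor.comp_map] at hn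
    rw [← cancel_mono ((tilde.functor R).mapDerivedCategoryFactors.hom.app C), hn]
    rw [Functor.comp_map, show ((tilde.functor R).mapHomologicalComplex (ComplexShape.up ℤ)).map (b • 𝟙 C) = b • 𝟙 _ from
      HomologicalComplex.hom_ext _ _ fun n => hT (C.X n), ScalarD.Q_map_smul_id, Linear.comp_smul, Linear.smul_comp,
      Category.id_comp]
    exact congrArg (b • ·) (Category.comp_id _)
  rw [h1, Functor.map_comp, Functor.map_comp, h2, Linear.smul_comp, Linear.comp_smul, Category.id_comp,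
    ← Functor.map_comp, Iso.inv_hom_id, CategoryTheory.Functor.map_id]

/-- Endomorphisms of tilde. -/
theorem bijective_smul_tilde {K : Dual.D B} (h : Function.Bijective fun b : B => b • 𝟙 K) :
    Function.Bijective fun b : B => b • 𝟙 ((DCoh.tildeD (CommRingCat.of B)).obj K) := by
  obtain ⟨hfull, hfaith, -⟩ := DQCoh.tildeD_main (CommRingCat.of B)
  haveI := hfull
  haveI := hfaith
  rw [show (fun b : B => b • 𝟙 ((DCoh.tildeD (CommRingCat.of B)).obj K)) =
    fun b => (DCoh.tildeD (CommRingCat.of B)).map (b • 𝟙 K) from funext fun b => (tildeD_map_smul K b).symm]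
  exact ((Functor.FullyFaithful.ofFullyFaithful (DCoh.tildeD (CommRingCat.of B))).map_bijective K K).comp h

/-- Self-maps of tilde in nonzero degree. -/
theorem subsingleton_tilde {K : Dual.D B} (k : ℤ) (h : Subsingleton (K ⟶ K⟦k⟧)) :
    Subsingleton ((DCoh.tildeD (CommRingCat.of B)).obj K ⟶ ((DCoh.tildeD (CommRingCat.of B)).obj K)⟦k⟧) := by
  obtain ⟨hfull, hfaith, -⟩ := DQCoh.tildeD_main (CommRingCat.of B)
  haveI := hfull
  haveI := hfaith
  exact ((((DCoh.tildeD (CommRingCat.of B)).commShiftIso k).app K).homToEquiv.bijective.comp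
    ((Functor.FullyFaithful.ofFullyFaithful (DCoh.tildeD (CommRingCat.of B))).map_bijective K _)).2.subsingleton

end Affine

/-- An affine open on which the scalars are the self-maps of `G`. -/
def EndChart {X : Scheme.{u}} (G : DCoh.D X) (W : X.Opens) : Prop :=
  ∃ (B : Type u) (_ : CommRing B) (j : Spec (CommRingCat.of B) ⟶ X) (_ : IsOpenImmersion j)
    (_ : PreservesFiniteLimits (tilde.functor (CommRingCat.of B))) (K : Dual.D B),
    j.opensRange = W ∧ Nonempty ((rd j).obj G ≅ (DCoh.tildeD (CommRingCat.of B)).obj K) ∧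
    Function.Bijective (fun b : B => b • 𝟙 K) ∧ ∀ k : ℤ, k ≠ 0 → Subsingleton (K ⟶ K⟦k⟧)

/-- **Scalars as endomorphisms make `O → RHom(E, E)` invertible.** -/
theorem isIso_homEquiv {X : Scheme.{u}} (E : CochainComplex X.Modules ℤ) [DCoh.HasLTensorCx E] [DCoh.HasRSheafHom E]
    (υ : (DCoh.LTensorCx E).obj (DCoh.inD X (Coh.structureModule X)) ≅ DCoh.toD X E) (𝓑 : Set X.Opens)
    (hB : ∀ (x : X) (U : X.Opens), x ∈ U → ∃ W ∈ 𝓑, x ∈ W ∧ W ≤ U)
    (h : ∀ W ∈ 𝓑, EndChart (DCoh.toD X E) W) :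
    IsIso (((DCoh.RSheafHomAdj E).homEquiv (DCoh.inD X (Coh.structureModule X)) (DCoh.toD X E)) υ.hom) := by
  let L := DCoh.LTensorCx E
  let O := DCoh.inD X (Coh.structureModule X)
  refine isIso_of_bijective_basis 𝓑 hB _ fun W hW k => ?_
  obtain ⟨B, _, j, _, _, K, hj, ⟨eK⟩, hK₁, hK₂⟩ := h W hW
  obtain ⟨N, q, hN, -, hq, -⟩ := exists_kflat_sheaf E
  haveI := hq
  haveI := LTensorSheaf.hasLTensorCx N
  obtain ⟨a⟩ := TensorCongr.nonempty_of_quasiIso q
  haveI := LTensorSheaf.hasLTensorCx (((Scheme.Modules.restrictFunctor j).mapHomologicalComplex (ComplexShape.up ℤ)).obj N)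
  let N' := ((Scheme.Modules.restrictFunctor j).mapHomologicalComplex (ComplexShape.up ℤ)).obj N
  obtain ⟨θ₀⟩ := nonempty_shriek_app j hN
    (((Scheme.Modules.restrictFunctor j).mapHomologicalComplex (ComplexShape.up ℤ)).obj N) rfl
    (JShriek.shriek j).mapDerivedCategory rfl
  let θ := θ₀ ≪≫ Functor.isoWhiskerLeft (JShriek.shriek j).mapDerivedCategory a
  haveI : ∀ Z, IsIso ((JShriek.shriekD j).unit.app Z) := TenLocal.isIso_unit_shriekD j
  haveI : IsIso ((rd j).map (L.map ((JShriek.shriekD j).counit.app O))) := by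
    obtain ⟨C, v, w, hT⟩ := distinguished_cocone_triangle ((JShriek.shriekD j).counit.app O)
    obtain ⟨δ, hδ⟩ := TenLocal.triExact_LTensor E _ hT
    haveI := TenLocal.isIso_rd_counit j O
    exact (Triangle.isZero₃_iff_isIso₁ _ ((rd j).map_distinguished _ hδ)).1 (TenLocal.isZero_rd_LTensor j E
      ((Triangle.isZero₃_iff_isIso₁ _ ((rd j).map_distinguished _ hT)).2 ‹_›))
  let eO : (rd j).obj O ≅ RingBase.PS B :=
    ((Scheme.Modules.restrictFunctor j).mapDerivedCategorySingleFunctor 0).app _ ≪≫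
      (DerivedCategory.singleFunctor _ 0).mapIso
        (Scheme.Modules.restrictUnitIso j ≪≫ (DQCoh.topStructIso (RingBase.S0 B)).symm) ≪≫
      (DerivedCategory.singleFunctorIsoCompQ _ 0).app _
  let eM : (DCoh.tildeD (CommRingCat.of B)).obj K ≅ (DCoh.LTensorCx N').obj ((rd j).obj O) :=
    eK.symm ≪≫ (rd j).mapIso υ.symm ≪≫ (wIso (JShriek.shriekD j) θ O).symm
  have hM₂ : ∀ i : ℤ, i ≠ 0 → Subsingleton ((DCoh.LTensorCx N').obj ((rd j).obj O) ⟶
      ((DCoh.LTensorCx N').obj ((rd j).obj O))⟦i⟧) := fun i hi =>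
    haveI := subsingleton_tilde i (hK₂ i hi)
    (Iso.homCongr eM.symm ((shiftFunctor _ i).mapIso eM.symm)).injective.subsingleton
  have hc := bijective_LTensor_map N' (ShriekTensor.isKFlatFor_restr j hN) eO
    (bijective_smul_of_iso eM (bijective_smul_tilde hK₁)) hM₂ k
  obtain ⟨p⟩ := nonempty_shriek_pt j (⊤ : (RingBase.S0 B).Opens)
  have hW' : j ''ᵁ (⊤ : (RingBase.S0 B).Opens) = W := by rw [Scheme.Hom.image_top_eq_opensRange, hj]
  let e := ((JShriek.shriek j).mapDerivedCategory.commShiftIso k).app (RingBase.PS B) ≪≫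
    (shiftFunctor (DCoh.D X) k).mapIso (p ≪≫ eqToIso (congrArg (fun V => (sec X).pt.obj V) hW'))
  have hb := bijective_map_of_open (JShriek.shriekD j) θ O e hc
  have heq : (fun y : ((sec X).pt.obj W)⟦k⟧ ⟶ O => y ≫ (DCoh.RSheafHomAdj E).homEquiv O (DCoh.toD X E) υ.hom) =
      (DCoh.RSheafHomAdj E).homEquiv _ _ ∘ υ.homToEquiv ∘ fun y => L.map y := by
    funext y
    exact ((DCoh.RSheafHomAdj E).homEquiv_naturality_left y υ.hom).symm
  exact heq ▸ (Equiv.bijective _).comp ((Equiv.bijective _).comp hb)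

end Groth.Agent.DualLib.EndIso
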