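import Groth.Agent.DualLib.SurjTensorGen
import Groth.Agent.DCat.DTenHom
import Groth.Agent.DCat.CompactStd
import Groth.Agent.DCat.LocGen
import Groth.Agent.DualLib.OmegaRigid

/-! `RHom_P(B, Y) = W ⊗ Lψ(Y)` for a surjection with `B` perfect. -/

set_option autoImplicit false
set_option backward.isDefEq.respectTransparency false
set_option backward.defeqAttrib.useBackward true
set_option linter.style.haveILetI false

universe u

open CategoryTheory CategoryTheory.Limits CategoryTheory.MonoidalCategory HomologicalComplex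
open CategoryTheory.Pretriangulated

attribute [local instance] HasDerivedCategory.standard

namespace Groth.Agent.DualLib.SurjT

open Groth.Agent.DCat

variable {P B : Type u} [CommRing P] [CommRing B] (φ : P →+* B)

omit [CommRing P] in
/-- Shifted generators detect zero objects. -/
lemma isZero_of_gen (C : Dual.D B) (h : ∀ n : ℤ, ∀ f : DerivedCategory.Q.obj (ringCx B n) ⟶ C, f = 0) : IsZero C := by
  rw [IsZero.iff_id_eq_zero]
  exact DCat.localizing_induction (fun K => ∀ m : ℤ, ∀ f : K⟦m⟧ ⟶ C, f = 0)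
    (fun e hK m f => by
      rw [← cancel_epi (e.hom⟦m⟧'), comp_zero]
      exact hK m _)
    (fun T hT h₁ h₂ m f => by
      obtain ⟨w, hw⟩ := Triangle.yoneda_exact₃ _ (Triangle.shift_distinguished T hT m) f (h₂ m _)
      change f = _ ≫ w at hw
      have : w = 0 := by
        let e : ((T.obj₁⟦m⟧)⟦(1 : ℤ)⟧) ≅ T.obj₁⟦m + 1⟧ := ((shiftFunctorAdd (Dual.D B) m 1).app T.obj₁).symm
        rw [← cancel_epi e.inv, comp_zero]
        exact h₁ (m + 1) _
      rw [hw, this, comp_zero])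
    (fun κ X c hc hX m f => by
      refine (isColimitCofanMkObjOfIsColimit (shiftFunctor (Dual.D B) m) X (fun k => c.inj k)
        (IsColimit.ofIsoColimit hc (Cofan.ext (Iso.refl c.pt) (by simp [Cofan.inj])))).hom_ext fun ⟨k⟩ => ?_
      exact (hX k m _).trans comp_zero.symm)
    (fun n m f => by
      let e : (DerivedCategory.Q.obj (ringCx B n))⟦m⟧ ≅ DerivedCategory.Q.obj (ringCx B (n - m)) :=
        ((DerivedCategory.Q).commShiftIso m).symm.app _ ≪≫ DerivedCategory.Q.mapIso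
          (((CochainComplex.singleFunctors (ModuleCat.{u} B)).shiftIso m (n - m) n (by omega)).app (ModuleCat.of B B))
      rw [← cancel_epi e.inv, comp_zero]
      exact h (n - m) _)
    C 0 ((shiftFunctorZero (Dual.D B) ℤ).hom.app C) |> fun h0 => by
      refine (Iso.inv_hom_id_app (shiftFunctorZero (Dual.D B) ℤ) C).symm.trans ?_
      exact (congrArg (_ ≫ ·) h0).trans comp_zero

omit [CommRing P] in
/-- Shifted generators detect isomorphisms. -/
lemma isIso_of_gen {X Y : Dual.D B} (f : X ⟶ Y)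
    (h : ∀ n : ℤ, Function.Bijective fun a : DerivedCategory.Q.obj (ringCx B n) ⟶ X => a ≫ f) : IsIso f := by
  obtain ⟨C, g', d, hT⟩ := distinguished_cocone_triangle f
  refine (Triangle.isZero₃_iff_isIso₁ _ hT).1 (isZero_of_gen C fun n x => ?_)
  have h0 : x ≫ d = 0 := by
    let e : DerivedCategory.Q.obj (ringCx B n) ≅ (DerivedCategory.Q.obj (ringCx B (n + 1)))⟦(1 : ℤ)⟧ :=
      DerivedCategory.Q.mapIso (((CochainComplex.singleFunctors (ModuleCat.{u} B)).shiftIso 1 n (n + 1) (by omega)).app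
        (ModuleCat.of B B)).symm ≪≫ ((DerivedCategory.Q).commShiftIso (1 : ℤ)).app _
    obtain ⟨w, hw⟩ := ((Functor.FullyFaithful.ofFullyFaithful (shiftFunctor (Dual.D B) (1 : ℤ))).map_bijective
      (DerivedCategory.Q.obj (ringCx B (n + 1))) X).2 (e.inv ≫ x ≫ d)
    have hwf : w ≫ f = 0 := (shiftFunctor (Dual.D B) (1 : ℤ)).map_injective (by
      rw [Functor.map_comp, hw, Functor.map_zero, Category.assoc, Category.assoc]
      erw [comp_distTriang_mor_zero₃₁ _ hT]
      simp)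
    have : w = 0 := (h (n + 1)).1 (hwf.trans zero_comp.symm)
    rw [this, Functor.map_zero] at hw
    rw [← cancel_epi e.inv, ← hw, comp_zero]
  obtain ⟨y, hy⟩ := Triangle.coyoneda_exact₃ _ hT x h0
  obtain ⟨a, ha⟩ := (h n).2 y
  rw [hy, ← ha, Category.assoc]
  erw [comp_distTriang_mor_zero₁₂ _ hT]
  exact comp_zero

variable [DTen.HasLTen B] [DTen.HasLTen P] [DTen.HasRHom B] [DRing.HasLBaseChange φ] (W : DRing.Cx B)
  [DRing.HasLTensorCx P ((DTen.resCx φ).obj W)]
  (ε : (DRing.restrictD φ).obj (DerivedCategory.Q.obj W) ⟶ DTen.unit P)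
  {R : Dual.D P ⥤ Dual.D B} (adj : DRing.restrictD φ ⊣ R)

/-- The comparison `W ⊗ Lψ(Y) ⟶ RHom_P(B, Y)`. -/
noncomputable def Θ : G φ W ⟶ R where
  app Y := adj.homEquiv _ _ ((g φ W ε).app Y)
  naturality Y Y' y := by
    rw [← adj.homEquiv_naturality_left, ← adj.homEquiv_naturality_right]
    exact congrArg _ ((g φ W ε).naturality y)

include adj in
omit [DTen.HasRHom B] in
lemma isIso_Θ_of_univ {Y : Dual.D P} (h : Univ φ ((G φ W).obj Y) ((g φ W ε).app Y)) :
    IsIso ((Θ φ W ε adj).app Y) := by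
  rw [isIso_iff_yoneda_map_bijective]
  intro Z
  refine Function.Bijective.of_comp_iff' ((adj.homEquiv Z Y).symm.bijective) _ |>.1 ?_
  convert h Z using 1
  funext z
  simp [Θ, Adjunction.homEquiv_naturality_left_symm]

/-- `RHom_P(B, -) = W ⊗ Lψ(-)`. -/
theorem isIso_Θ (hφ : Function.Surjective φ) (hε : Univ φ (DerivedCategory.Q.obj W) ε)
    (hcpt : ∀ n : ℤ, Cpt ((DRing.restrictD φ).obj (DerivedCategory.Q.obj (ringCx B n)))) (Y : Dual.D P) :
    IsIso ((Θ φ W ε adj).app Y) := by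
  letI := (LBC.adj φ).leftAdjointCommShift ℤ
  haveI := (LBC.adj φ).commShift_of_rightAdjoint ℤ
  haveI := (LBC.adj φ).isTriangulated_leftAdjoint
  letI := adj.rightAdjointCommShift ℤ
  haveI := adj.commShift_of_leftAdjoint ℤ
  haveI := adj.isTriangulated_rightAdjoint
  let F := DRing.restrictD φ
  let η : ∀ Y, (G φ W ⋙ F).obj Y ⟶ (R ⋙ F).obj Y := fun Y => F.map ((Θ φ W ε adj).app Y)
  have hG : MapsTri (G φ W ⋙ F) := fun T hT => by
    obtain ⟨δ, hδ⟩ := mapsTri_tensorLeft (DerivedCategory.Q.obj W) _ ((DRing.LBaseChange φ).map_distinguished T hT)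
    exact isDistPair_of_mem (F.map_distinguished _ hδ)
  have hR : MapsTri (R ⋙ F) := fun T hT => isDistPair_of_mem (F.map_distinguished _ (R.map_distinguished T hT))
  suffices h : ∀ m : ℤ, IsIso (η (Y⟦m⟧)) by
    haveI := h 0
    haveI : IsIso (F.map ((Θ φ W ε adj).app (Y⟦(0 : ℤ)⟧))) := h 0
    haveI : IsIso ((Θ φ W ε adj).app (Y⟦(0 : ℤ)⟧)) := by
      obtain ⟨Z, g', d, hT⟩ := distinguished_cocone_triangle ((Θ φ W ε adj).app (Y⟦(0 : ℤ)⟧))
      exact (Triangle.isZero₃_iff_isIso₁ _ hT).1 (Omega.isZero_of_restrictD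
        ((Triangle.isZero₃_iff_isIso₁ _ (F.map_distinguished _ hT)).2 ‹_›))
    exact (NatTrans.isIso_app_iff_of_iso (Θ φ W ε adj) ((shiftFunctorZero (Dual.D P) ℤ).app Y)).1 inferInstance
  refine DCat.localizing_induction (fun Y => ∀ m : ℤ, IsIso (η (Y⟦m⟧))) ?_ ?_ ?_ ?_ Y
  · intro K L e hK m
    haveI : IsIso (η (K⟦m⟧)) := hK m
    exact (NatTrans.isIso_app_iff_of_iso (Functor.whiskerRight (Θ φ W ε adj) F)
      ((shiftFunctor (Dual.D P) m).mapIso e)).1 (hK m)
  · intro T hT h₁ h₂ m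
    have hs : ∀ Z : Dual.D P, (∀ j : ℤ, IsIso (η (Z⟦j⟧))) → IsIso (η ((Z⟦m⟧)⟦(1 : ℤ)⟧)) := fun Z hZ =>
      (NatTrans.isIso_app_iff_of_iso (Functor.whiskerRight (Θ φ W ε adj) F)
        ((shiftFunctorAdd (Dual.D P) m 1).app Z)).1 (hZ (m + 1))
    exact isIso_app_obj₃ hG hR η (fun f => (Functor.whiskerRight (Θ φ W ε adj) F).naturality f)
      (Triangle.shift_distinguished T hT m) (h₁ m) (h₂ m) (hs _ h₁) (hs _ h₂)
  · intro κ X c hc hX m
    let c' : Cofan fun k => (X k)⟦m⟧ := Cofan.mk (c.pt⟦m⟧) fun k => (c.inj k)⟦m⟧'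
    have hc' : IsColimit c' := isColimitCofanMkObjOfIsColimit (shiftFunctor (Dual.D P) m) _ _
      (IsColimit.ofIsoColimit hc (Cofan.ext (Iso.refl c.pt) (by simp [Cofan.inj])))
    haveI : ∀ X : Dual.D B × Dual.D B, IsIso ((DTen.symm B).app X) := fun X => isIso_symm_app' X.1 X.2
    haveI : ((DTen.LTen B).obj (DerivedCategory.Q.obj W)).IsLeftAdjoint := by
      let e : DTen.tensorRightD B (DerivedCategory.Q.obj W) ≅ (DTen.LTen B).obj (DerivedCategory.Q.obj W) :=
        NatIso.ofComponents (fun M => asIso ((DTen.symm B).app (DerivedCategory.Q.obj W, M)))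
          (fun {M M'} f => (DTen.symm B).naturality ((Prod.mkHom (𝟙 (DerivedCategory.Q.obj W)) f) :
            (DerivedCategory.Q.obj W, M) ⟶ (DerivedCategory.Q.obj W, M')))
      exact ⟨_, ⟨(DTen.rhomAdj B (DerivedCategory.Q.obj W)).ofNatIsoLeft e⟩⟩
    let adjG := (LBC.adj φ).comp (Adjunction.ofIsLeftAdjoint ((DTen.LTen B).obj (DerivedCategory.Q.obj W)))
    haveI := adjG.leftAdjoint_preservesColimits (F := G φ W)
    have hGc : IsColimit (Cofan.mk ((G φ W).obj (c.pt⟦m⟧)) fun k => (G φ W).map ((c.inj k)⟦m⟧')) :=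
      isColimitCofanMkObjOfIsColimit (G φ W) _ _ hc'
    have hiso : ∀ k, IsIso ((Θ φ W ε adj).app ((X k)⟦m⟧)) := fun k => by
      haveI : IsIso (F.map ((Θ φ W ε adj).app ((X k)⟦m⟧))) := hX k m
      obtain ⟨Z, g', d, hT⟩ := distinguished_cocone_triangle ((Θ φ W ε adj).app ((X k)⟦m⟧))
      exact (Triangle.isZero₃_iff_isIso₁ _ hT).1 (Omega.isZero_of_restrictD
        ((Triangle.isZero₃_iff_isIso₁ _ (F.map_distinguished _ hT)).2 ‹_›))
    haveI : IsIso ((Θ φ W ε adj).app (c.pt⟦m⟧)) := by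
      refine isIso_of_gen _ fun n => ⟨fun a a' haa => ?_, fun b => ?_⟩
      · have hz : ∀ a : DerivedCategory.Q.obj (ringCx B n) ⟶ (G φ W).obj (c.pt⟦m⟧),
            a ≫ (Θ φ W ε adj).app (c.pt⟦m⟧) = 0 → a = 0 := fun a ha => by
          obtain ⟨s, y, hy⟩ := cpt_gen n κ _ _ hGc a
          have h0 : ∑ k ∈ s, (adj.homEquiv _ _).symm (y k ≫ (Θ φ W ε adj).app ((X k)⟦m⟧)) ≫ c'.inj k = 0 := by
            have h1 : ∀ k, (adj.homEquiv _ _).symm (y k ≫ (Θ φ W ε adj).app ((X k)⟦m⟧)) ≫ (c.inj k)⟦m⟧' =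
                (adj.homEquiv _ _).symm (y k ≫ (G φ W).map ((c.inj k)⟦m⟧') ≫ (Θ φ W ε adj).app (c.pt⟦m⟧)) := fun k => by
              rw [← adj.homEquiv_naturality_right_symm, Category.assoc, (Θ φ W ε adj).naturality]
            calc _ = ∑ k ∈ s, (adj.homEquiv _ _).symm (y k ≫ (G φ W).map ((c.inj k)⟦m⟧') ≫ (Θ φ W ε adj).app (c.pt⟦m⟧)) :=
                  Finset.sum_congr rfl fun k _ => h1 k
              _ = (adj.homEquiv _ _).symm (a ≫ (Θ φ W ε adj).app (c.pt⟦m⟧)) := by
                simp only [Adjunction.homEquiv_counit, hy, Preadditive.sum_comp, Functor.map_sum, Category.assoc]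
                rfl
              _ = 0 := by rw [ha, Adjunction.homEquiv_counit, Functor.map_zero, zero_comp]
          rw [hy]
          refine Finset.sum_eq_zero fun k hk => ?_
          have h2 := eq_zero_of_sum hc' s _ h0 hk
          have h3 : y k ≫ (Θ φ W ε adj).app ((X k)⟦m⟧) = 0 := by
            apply (adj.homEquiv _ _).symm.injective
            exact h2.trans (by rw [Adjunction.homEquiv_counit, Functor.map_zero, zero_comp])
          haveI := hiso k
          have h4 : y k = 0 := by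
            refine (cancel_mono ((Θ φ W ε adj).app ((X k)⟦m⟧))).1 ?_
            rw [zero_comp]
            exact h3
          exact (congrArg (· ≫ _) h4).trans zero_comp
        exact sub_eq_zero.1 (hz _ (by rw [Preadditive.sub_comp, sub_eq_zero]; exact haa))
      · obtain ⟨s, y, hy⟩ := hcpt n κ _ c' hc' ((adj.homEquiv _ _).symm b)
        haveI := hiso
        refine ⟨∑ k ∈ s, adj.homEquiv _ _ (y k) ≫ inv ((Θ φ W ε adj).app ((X k)⟦m⟧)) ≫ (G φ W).map ((c.inj k)⟦m⟧'), ?_⟩
        apply (adj.homEquiv _ _).symm.injective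
        refine Eq.trans ?_ hy.symm
        simp only [Preadditive.sum_comp, Category.assoc, (Θ φ W ε adj).naturality, IsIso.inv_hom_id_assoc]
        rw [Adjunction.homEquiv_counit, Functor.map_sum, Preadditive.sum_comp]
        refine Finset.sum_congr rfl fun k _ => ?_
        rw [← Adjunction.homEquiv_counit, adj.homEquiv_naturality_right_symm, Equiv.symm_apply_apply]
        rfl
    exact Functor.map_isIso F _
  · intro n m
    have key : ∀ k : ℤ, IsIso ((Θ φ W ε adj).app (DerivedCategory.Q.obj (unitShift P k))) := fun k =>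
      isIso_Θ_of_univ φ W ε adj (univ_gen φ W ε hφ hε k)
    let e : DerivedCategory.Q.obj (unitShift P (n - m)) ≅ (DerivedCategory.Q.obj (ringCx P n))⟦m⟧ :=
      DerivedCategory.Q.mapIso (((CochainComplex.singleFunctors (ModuleCat.{u} P)).shiftIso m (n - m) n (by omega)).app
          (ModuleCat.of P P)).symm ≪≫ ((DerivedCategory.Q).commShiftIso m).app _
    haveI := (NatTrans.isIso_app_iff_of_iso (Θ φ W ε adj) e).1 (key (n - m))
    exact Functor.map_isIso F _

end Groth.Agent.DualLib.SurjT
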