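import Groth.Agent.DualLib.EndPerfect
import Groth.Agent.Props12.TildeFin
import Groth.Agent.KZeroLib.PerfectCoh

/-! `f^!` for perfect `f` on schemes. -/

set_option autoImplicit false
set_option backward.isDefEq.respectTransparency false
set_option backward.defeqAttrib.useBackward true
set_option linter.style.haveILetI false
set_option linter.unusedSectionVars false
set_option synthInstance.maxHeartbeats 100000

universe u

open CategoryTheory CategoryTheory.Limits AlgebraicGeometry Opposite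
open Groth.Agent.DCat Groth.Agent.Dual22Lib

attribute [local instance] HasDerivedCategory.standard
attribute [-instance] Int.instConditionallyCompleteLinearOrder

namespace Groth.Agent.DualLib.EndPerfect

variable [∀ (U V : Scheme.{u}) (j : U ⟶ V) [IsOpenImmersion j], PreservesFiniteLimits (Scheme.Modules.restrictFunctor j)]
  [∀ (S : CommRingCat.{u}), PreservesFiniteLimits (tilde.functor S)]
  {X Y : Scheme.{u}} [IsNoetherian Y] {f : X ⟶ Y} [LocallyOfFiniteType f] (c : DEt.Compactification f)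
  [DCoh.HasRpush c.fbar] (hc : DCoh.RpushPreservesQCoh c.fbar) (a : DCoh.DQCoh Y ⥤ DCoh.DQCoh c.Xbar)
  (adj : DCoh.RpushQ c.fbar hc ⊣ a)

include adj

/-- The value at a bounded below object on a pair of affine opens. -/
theorem exists_shriekK_at (K : DCoh.DQCoh Y) (lo : ℤ) [K.obj.IsGE lo] (T : Y.affineOpens) (U : X.affineOpens)
    (h : U.1 ≤ f ⁻¹ᵁ T.1) (K₀ : Dual.D Γ(Y, T.1))
    (eQ : (DCoh.restrictD T.2.fromSpec).obj K.obj ≅ (DCoh.tildeD (CommRingCat.of Γ(Y, T.1))).obj K₀) :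
    ∃ (n : ℕ) (ψ : MvPolynomial (Fin n) Γ(Y, T.1) →+* Γ(X, U.1)), Function.Surjective ψ ∧
      ψ.comp (algebraMap Γ(Y, T.1) (MvPolynomial (Fin n) Γ(Y, T.1))) = (f.appLE T.1 U.1 h).hom ∧
      ∀ [DRing.HasLBaseChange (algebraMap Γ(Y, T.1) (MvPolynomial (Fin n) Γ(Y, T.1)))]
        (Rψ : Dual.D (MvPolynomial (Fin n) Γ(Y, T.1)) ⥤ Dual.D Γ(X, U.1)) (_ : DRing.restrictD ψ ⊣ Rψ),
        Nonempty ((DCoh.restrictD U.2.fromSpec).obj ((Dual3.shriekC c a).obj K) ≅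
          (DCoh.tildeD (CommRingCat.of Γ(X, U.1))).obj (Dual2.shriekVia n Rψ K₀)) := by
  have hA : RepLib.RepObj c.fbar K.obj (a.obj K).obj := ⟨fun {_} =>
    ⟨(a.obj K).property, (adj.counit.app K).hom, fun L hL => SupportAdj.rep_counit c.fbar hc a adj K L hL⟩⟩
  haveI : IsNoetherianRing Γ(Y, T.1) := IsLocallyNoetherian.component_noetherian T
  have hcomm : (U.2.fromSpec ≫ c.j) ≫ c.fbar =
      Spec.map (CommRingCat.ofHom (f.appLE T.1 U.1 h).hom) ≫ T.2.fromSpec := by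
    rw [Category.assoc, c.fac]
    exact (IsAffineOpen.SpecMap_appLE_fromSpec f T.2 U.2 h).symm
  obtain ⟨n, ψ, hψ, hcomp, hiso⟩ := ChartShriek.exists_local c.fbar hA lo K.property (R := Γ(Y, T.1)) (B := Γ(X, U.1))
    (f.appLE T.1 U.1 h).hom T.2.fromSpec (U.2.fromSpec ≫ c.j) hcomm K₀ eQ
  obtain ⟨w⟩ := PerfLocal.rd_comp U.2.fromSpec c.j (a.obj K).obj
  exact ⟨n, ψ, hψ, hcomp, fun {_} Rψ adjψ => (hiso Rψ adjψ).map (w.symm ≪≫ ·)⟩

omit [∀ (U V : Scheme.{u}) (j : U ⟶ V) [IsOpenImmersion j], PreservesFiniteLimits (Scheme.Modules.restrictFunctor j)]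
  [∀ (S : CommRingCat.{u}), PreservesFiniteLimits (tilde.functor S)] adj in
theorem ringPerf_appLE (hf : MoreMor.IsPerfectMor f) (T : Y.affineOpens) (U : X.affineOpens) (h : U.1 ≤ f ⁻¹ᵁ T.1) :
    FlatMorPerfect.RingPerf (f.appLE T.1 U.1 h).hom :=
  hf U.1 T.1 U.2 T.2 h

variable (hf : MoreMor.IsPerfectMor f)
include hf

/-- Endomorphism charts. -/
theorem endChart (O : DCoh.DQCoh Y) (hO : Nonempty (O.obj ≅ DCoh.inD Y (Coh.structureModule Y)))
    (T : Y.affineOpens) (U : X.affineOpens) (h : U.1 ≤ f ⁻¹ᵁ T.1) :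
    EndIso.EndChart ((Dual3.shriekC c a).obj O) U.1 := by
  haveI : IsNoetherianRing Γ(Y, T.1) := IsLocallyNoetherian.component_noetherian T
  obtain ⟨n, ψ, hψ, hcomp, hiso⟩ := EndShriek.exists_shriek_at c hc a adj O hO T U h
  haveI : DRing.HasLBaseChange (algebraMap Γ(Y, T.1) (MvPolynomial (Fin n) Γ(Y, T.1))) := DCat.hasLBaseChange _
  obtain ⟨Rψ, ⟨adjψ⟩⟩ := Shriek.exists_rightAdjoint ψ
  obtain ⟨i⟩ := hiso Rψ adjψ
  letI : Algebra Γ(Y, T.1) Γ(X, U.1) := (f.appLE T.1 U.1 h).hom.toAlgebra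
  let ψ' : MvPolynomial (Fin n) Γ(Y, T.1) →ₐ[Γ(Y, T.1)] Γ(X, U.1) :=
    { ψ with commutes' := fun r => RingHom.congr_fun hcomp r }
  obtain ⟨h1, h2⟩ := bijective_smul_id ψ' hψ adjψ (ringPerf_appLE hf T U h)
  exact ⟨Γ(X, U.1), inferInstance, U.2.fromSpec, inferInstance, inferInstance, _,
    U.2.opensRange_fromSpec, ⟨i⟩, h1, h2⟩

/-- Bounded coherent values, locally. -/
theorem chart_coh (K : DCoh.DQCoh Y) (lo hi : ℤ) [K.obj.IsGE lo] [K.obj.IsLE hi] (hK : ∀ i, Coh.IsCoh (DCoh.HD K.obj i))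
    (T : Y.affineOpens) (U : X.affineOpens) (h : U.1 ≤ f ⁻¹ᵁ T.1) :
    ∃ b b' : ℤ, (∀ i, (i < b ∨ b' < i) →
        IsZero ((DCoh.HD ((Dual3.shriekC c a).obj K) i).restrict U.2.fromSpec)) ∧
      ∀ i, Coh.IsCoh ((DCoh.HD ((Dual3.shriekC c a).obj K) i).restrict U.2.fromSpec) := by
  haveI : IsLocallyNoetherian X := LocallyOfFiniteType.isLocallyNoetherian f
  haveI : IsNoetherianRing Γ(Y, T.1) := IsLocallyNoetherian.component_noetherian T
  haveI : IsNoetherianRing Γ(X, U.1) := IsLocallyNoetherian.component_noetherian U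
  obtain ⟨K₀, ⟨e₀⟩⟩ := ((DQCoh.tildeD_main (CommRingCat.of Γ(Y, T.1))).2.2 _).1
    (DQCoh.isQCohD_rd T.2.fromSpec K.property)
  haveI : ((DCoh.tildeD (CommRingCat.of Γ(Y, T.1))).obj K₀).IsGE lo :=
    haveI := CohTors.isGE_restrictD T.2.fromSpec lo (inferInstance : K.obj.IsGE lo)
    DerivedCategory.TStructure.t.isGE_of_iso e₀.symm lo
  haveI : ((DCoh.tildeD (CommRingCat.of Γ(Y, T.1))).obj K₀).IsLE hi := by
    refine (DerivedCategory.isLE_iff _ _).2 fun i hii => ?_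
    exact (((Scheme.Modules.restrictFunctor T.2.fromSpec).map_isZero
      (DerivedCategory.isZero_of_isLE K.obj hi i hii)).of_iso
        (SuppOpen.hdMapIso (Scheme.Modules.restrictFunctor T.2.fromSpec) K.obj i)).of_iso
      ((DerivedCategory.homologyFunctor _ i).mapIso e₀)
  haveI : K₀.IsGE lo := SerreTop.isGE_of_tilde Γ(Y, T.1) lo
  haveI : K₀.IsLE hi := SerreTop.isLE_of_tilde Γ(Y, T.1) hi
  have hfin : ∀ i, Module.Finite Γ(Y, T.1) (Dual.HD Γ(Y, T.1) K₀ i) := fun i => by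
    haveI := SerreTop.preservesFiniteColimits_tilde (CommRingCat.of Γ(Y, T.1))
    obtain ⟨η⟩ := DQCoh.nonempty_homology_natIso (tilde.functor (CommRingCat.of Γ(Y, T.1))) i
    haveI := (hK i).1
    have h1 := AffSchLib.isFT_restrict T.2.fromSpec (DCoh.HD K.obj i) (hK i).2
    exact (Props12.isFT_tilde_iff _).1 (Coherent.isFT_of_epi
      ((SuppOpen.hdMapIso (Scheme.Modules.restrictFunctor T.2.fromSpec) K.obj i).symm ≪≫
        (DerivedCategory.homologyFunctor _ i).mapIso e₀.symm ≪≫ η.app K₀).hom h1)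
  obtain ⟨n, ψ, hψ, hcomp, hiso⟩ := exists_shriekK_at c hc a adj K lo T U h K₀ e₀.symm
  haveI : DRing.HasLBaseChange (algebraMap Γ(Y, T.1) (MvPolynomial (Fin n) Γ(Y, T.1))) := DCat.hasLBaseChange _
  obtain ⟨Rψ, ⟨adjψ⟩⟩ := Shriek.exists_rightAdjoint ψ
  obtain ⟨e⟩ := hiso Rψ adjψ
  letI : Algebra Γ(Y, T.1) Γ(X, U.1) := (f.appLE T.1 U.1 h).hom.toAlgebra
  let ψ' : MvPolynomial (Fin n) Γ(Y, T.1) →ₐ[Γ(Y, T.1)] Γ(X, U.1) :=
    { ψ with commutes' := fun r => RingHom.congr_fun hcomp r }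
  obtain ⟨⟨b, hb⟩, hfin'⟩ := bounded_finite_shriekVia ψ' hψ adjψ K₀ lo
    ((DRingLib.isGE_iff_HD K₀ lo).1 inferInstance)
  obtain ⟨b', hb'⟩ := exists_bound_above ψ' hψ adjψ (ringPerf_appLE hf T U h) K₀ hi
  haveI := SerreTop.preservesFiniteColimits_tilde (CommRingCat.of Γ(X, U.1))
  have eM : ∀ i, Nonempty ((DCoh.HD ((Dual3.shriekC c a).obj K) i).restrict U.2.fromSpec ≅
      tilde (R := CommRingCat.of Γ(X, U.1))
        ((DerivedCategory.homologyFunctor (ModuleCat.{u} Γ(X, U.1)) i).obj (Dual2.shriekVia n Rψ K₀))) := fun i => by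
    obtain ⟨η⟩ := DQCoh.nonempty_homology_natIso (tilde.functor (CommRingCat.of Γ(X, U.1))) i
    exact ⟨(SuppOpen.hdMapIso (Scheme.Modules.restrictFunctor U.2.fromSpec) _ i).symm ≪≫
      (DerivedCategory.homologyFunctor _ i).mapIso e ≪≫ η.app _⟩
  refine ⟨b, b', fun i hi' => ?_, fun i => ?_⟩
  · obtain ⟨e'⟩ := eM i
    have hs : Subsingleton (Dual.HD Γ(X, U.1) (Dual2.shriekVia n Rψ K₀) i) := hi'.elim (hb i) (hb' i)
    haveI : Subsingleton ↑((DerivedCategory.homologyFunctor (ModuleCat.{u} Γ(X, U.1)) i).obj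
      (Dual2.shriekVia n Rψ K₀)) := hs
    exact ((tilde.functor (CommRingCat.of Γ(X, U.1))).map_isZero (ModuleCat.isZero_of_subsingleton _)).of_iso e'
  · obtain ⟨e'⟩ := eM i
    haveI : Module.Finite Γ(X, U.1) ((DerivedCategory.homologyFunctor (ModuleCat.{u} Γ(X, U.1)) i).obj
      (Dual2.shriekVia n Rψ K₀)) := hfin' hfin i
    exact DQCoh.CohExt.isCoh_of_iso e'.symm (AlgzLib.isCoh_tilde (A := Γ(X, U.1)) _)

/-- Bounded coherent values. -/
theorem bounded_coh [CompactSpace X] (K : DCoh.DQCoh Y) (lo hi : ℤ) [K.obj.IsGE lo] [K.obj.IsLE hi]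
    (hK : ∀ i, Coh.IsCoh (DCoh.HD K.obj i)) :
    (∃ lo' hi' : ℤ, ∀ i : ℤ, (i < lo' ∨ hi' < i) → IsZero (DCoh.HD ((Dual3.shriekC c a).obj K) i)) ∧
      ∀ i : ℤ, Coh.IsCoh (DCoh.HD ((Dual3.shriekC c a).obj K) i) := by
  let G := (Dual3.shriekC c a).obj K
  have hx : ∀ x : X, ∃ U : X.affineOpens, x ∈ U.1 ∧ ∃ T : Y.affineOpens, U.1 ≤ f ⁻¹ᵁ T.1 := fun x => by
    obtain ⟨U, ⟨hU, T, h⟩, hxU, -⟩ := EndShriek.exists_basis (f := f) x ⊤ trivial
    exact ⟨⟨U, hU⟩, hxU, T, h⟩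
  choose U hxU T hT using hx
  choose b b' hb hcoh using fun x => chart_coh c hc a adj hf K lo hi hK (T x) (U x) (hT x)
  obtain ⟨s, hs⟩ := isCompact_univ.elim_finite_subcover (fun x : X => ((U x).1 : Set X)) (fun x => (U x).1.isOpen)
    fun x _ => Set.mem_iUnion.2 ⟨x, hxU x⟩
  obtain ⟨m, hm⟩ : ∃ m : ℕ, ∀ x ∈ s, -(m : ℤ) ≤ b x ∧ b' x ≤ m :=
    ⟨s.sup (fun x => (b x).natAbs + (b' x).natAbs), fun x hx => by
      have := Finset.le_sup (f := fun x => (b x).natAbs + (b' x).natAbs) hx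
      omega⟩
  refine ⟨⟨-(m : ℤ), m, fun i hi' => ModStalk.isZero_of_stalks fun y => ?_⟩, fun i => ?_⟩
  · obtain ⟨x, hxs, hy⟩ := Set.mem_iUnion₂.1 (hs (Set.mem_univ y))
    obtain ⟨y', rfl⟩ : y ∈ Set.range (U x).2.fromSpec := by rw [(U x).2.range_fromSpec]; exact hy
    haveI : Subsingleton ((DCoh.HD G i).presheaf.stalk ((U x).2.fromSpec y')) :=
      SuppOpen.subsingleton_stalk_of_restrict (U x).2.fromSpec (DCoh.HD G i) y'
        (SuppOpen.subsingleton_of_isZero_stalkFunctor _ _ ((DerSch.stalkFunctor _ y').map_isZero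
          (hb x i (by have := hm x hxs; omega))))
    exact SuppOpen.isZero_stalkFunctor (h := this) _ _
  · refine KZeroLib.isCoh_of_cover _ (fun x : X => (U x).2.fromSpec.opensRange)
      (TopologicalSpace.IsOpenCover.mk (eq_top_iff.2 fun x _ => TopologicalSpace.Opens.mem_iSup.2
        ⟨x, by rw [(U x).2.opensRange_fromSpec]; exact hxU x⟩)) fun x => ?_
    let j := (U x).2.fromSpec
    let k := j.isoOpensRange
    have h1 := hcoh x i
    haveI : Coh.IsQCoh ((DCoh.HD G i).restrict j) := h1.1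
    haveI := h1.2
    exact DQCoh.CohExt.isCoh_of_iso
      (((Scheme.Modules.restrictFunctorComp k.inv j).app (DCoh.HD G i)).symm ≪≫
        (Scheme.Modules.restrictFunctorCongr j.isoOpensRange_inv_comp).app (DCoh.HD G i))
      ⟨(inferInstance : Coh.IsQCoh (((DCoh.HD G i).restrict j).restrict k.inv)), AffSchLib.isFT_restrict k.inv _ h1.2⟩

end Groth.Agent.DualLib.EndPerfect
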