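import Groth.Agent.DualLib.Basic
import Mathlib.RingTheory.KrullDimension.Module
import Mathlib.RingTheory.Ideal.Height
import Mathlib.RingTheory.Support
import Mathlib.RingTheory.Nakayama
import Mathlib.RingTheory.FiniteLength
import Mathlib.RingTheory.Length

/-! Vanishing of `Hom_{D(A)}(M, ω⟦i⟧)` for a normalized dualizing complex over a local ring. -/

set_option autoImplicit false
set_option backward.isDefEq.respectTransparency false
set_option backward.defeqAttrib.useBackward true
set_option linter.style.haveILetI false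

universe u

open CategoryTheory CategoryTheory.Limits CategoryTheory.Pretriangulated

attribute [local instance] HasDerivedCategory.standard

namespace Groth.Agent.DualLib

variable {A : Type u} [CommRing A]

lemma ringKrullDim_quotient_eq_coheight (p : PrimeSpectrum A) :
    ringKrullDim (A ⧸ p.asIdeal) = (Order.coheight p : WithBot ℕ∞) := by
  rw [ringKrullDim_quotient, Order.coheight_eq_krullDim_Ici]
  exact Order.krullDim_eq_of_orderIso (OrderIso.setCongr _ _ (by
    ext q; simp [PrimeSpectrum.mem_zeroLocus, Set.mem_Ici, SetLike.coe_subset_coe, PrimeSpectrum.asIdeal_le_asIdeal]))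

lemma coheight_le_supportDim {M : Type u} [AddCommGroup M] [Module A M] {p : PrimeSpectrum A}
    (hp : p ∈ Module.support A M) : (Order.coheight p : WithBot ℕ∞) ≤ Module.supportDim A M := by
  rw [Order.coheight_eq_krullDim_Ici, Module.supportDim]
  exact Order.krullDim_le_of_strictMono (fun q => ⟨q.1, Module.mem_support_mono q.2 hp⟩) fun _ _ h => h

lemma exists_gt_coheight {p : PrimeSpectrum A} {e : ℕ} (h : Order.coheight p = (e + 1 : ℕ)) :
    ∃ r : PrimeSpectrum A, p < r ∧ Order.coheight r = (e : ℕ) := by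
  obtain ⟨s, hs, hlen⟩ := Order.exists_series_of_le_coheight p (n := e + 1) h.ge
  refine ⟨s ⟨1, by omega⟩, ?_, ?_⟩
  · rw [← hs]
    exact s.strictMono (by simp [Fin.lt_def])
  · apply le_antisymm
    · have hlt : p < s ⟨1, by omega⟩ := by
        rw [← hs]
        exact s.strictMono (by simp [Fin.lt_def])
      have h1 := Order.coheight_add_one_le hlt
      rw [h, Nat.cast_add, Nat.cast_one] at h1
      exact (ENat.add_le_add_iff_right ENat.one_ne_top).1 h1
    · have h1 := Order.coheight_anti (α := PrimeSpectrum A) (le_refl (s ⟨1, by omega⟩))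
      let t := s.drop ⟨1, by omega⟩
      have := Order.length_le_coheight (p := t) (x := s ⟨1, by omega⟩) (by simp [t])
      simpa [t, hlen] using this

lemma notMem_support_of_exact {M N P : Type*} [AddCommGroup M] [Module A M] [AddCommGroup N] [Module A N]
    [AddCommGroup P] [Module A P] {f : M →ₗ[A] N} {g : N →ₗ[A] P} (h : Function.Exact f g) {q : PrimeSpectrum A}
    (h₁ : q ∉ Module.support A M) (h₃ : q ∉ Module.support A P) : q ∉ Module.support A N := by
  rw [Module.notMem_support_iff'] at h₁ h₃ ⊢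
  intro m
  obtain ⟨r, hr, e₁⟩ := h₃ (g m)
  rw [← map_smul, h] at e₁
  obtain ⟨m', hm'⟩ := e₁
  obtain ⟨s, hs, e₂⟩ := h₁ m'
  exact ⟨_, q.asIdeal.primeCompl.mul_mem hs hr, by rw [mul_smul, ← hm', ← map_smul, e₂, map_zero]⟩

lemma notMem_support_of_kills {N : Type*} [AddCommGroup N] [Module A N] {q : PrimeSpectrum A} {I : Ideal A}
    (hI : I ≤ Module.annihilator A N) (hq : ¬ I ≤ q.asIdeal) : q ∉ Module.support A N := fun h =>
  hq (hI.trans (Module.annihilator_le_of_mem_support h))

/-- Dévissage along prime cyclic modules in the support. -/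
theorem devissage [IsNoetherianRing A] {Φ : (M : Type u) → [AddCommGroup M] → [Module A M] → Prop}
    (Z : Set (PrimeSpectrum A))
    (zero : ∀ (M : Type u) [AddCommGroup M] [Module A M], Subsingleton M → Φ M)
    (prime : ∀ p ∈ Z, Φ (A ⧸ p.asIdeal))
    (congr : ∀ (M N : Type u) [AddCommGroup M] [Module A M] [AddCommGroup N] [Module A N],
      (M ≃ₗ[A] N) → Φ M → Φ N)
    (ext : ∀ (M N P : Type u) [AddCommGroup M] [Module A M] [AddCommGroup N] [Module A N] [AddCommGroup P]
      [Module A P] [Module.Finite A M] [Module.Finite A N] [Module.Finite A P] (f : M →ₗ[A] N) (g : N →ₗ[A] P),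
      Function.Injective f → Function.Surjective g → Function.Exact f g → Φ M → Φ P → Φ N)
    (M : Type u) [AddCommGroup M] [Module A M] [hM : Module.Finite A M] (hZ : Module.support A M ⊆ Z) : Φ M := by
  revert hZ
  induction hM using IsNoetherianRing.induction_on_isQuotientEquivQuotientPrime A with
  | subsingleton N => exact fun _ => zero N inferInstance
  | quotient N p f =>
    intro h
    refine congr _ N f.symm (prime p (h ?_))
    rw [f.support_eq, Module.support_eq_zeroLocus, Ideal.annihilator_quotient]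
    exact le_refl p.asIdeal
  | exact N₁ N₂ N₃ f g hf hg hfg h₁ h₃ =>
    exact fun h => ext N₁ N₂ N₃ f g hf hg hfg (h₁ ((Module.support_subset_of_injective f hf).trans h))
      (h₃ ((Module.support_subset_of_surjective g hg).trans h))

section Step

variable (p : PrimeSpectrum A) (x : A)

/-- `A/(p, x)`. -/
abbrev modQ : Type u := (A ⧸ p.asIdeal) ⧸ LinearMap.range (x • (LinearMap.id : (A ⧸ p.asIdeal) →ₗ[A] (A ⧸ p.asIdeal)))

variable {p x}

lemma support_modQ {q : PrimeSpectrum A} (hq : q ∈ Module.support A (modQ p x)) :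
    p.asIdeal ≤ q.asIdeal ∧ x ∈ q.asIdeal := by
  have h := Module.annihilator_le_of_mem_support hq
  constructor
  · refine le_trans ?_ h
    refine le_trans ?_ (LinearMap.annihilator_le_of_surjective _ (Submodule.mkQ_surjective _))
    rw [Ideal.annihilator_quotient]
  · refine h (Module.mem_annihilator.2 fun y => ?_)
    obtain ⟨y, rfl⟩ := Submodule.Quotient.mk_surjective _ y
    rw [← Submodule.Quotient.mk_smul, Submodule.Quotient.mk_eq_zero]
    exact ⟨y, rfl⟩

lemma support_modQ_gt (hx : x ∉ p.asIdeal) {q : PrimeSpectrum A} (hq : q ∈ Module.support A (modQ p x)) : p < q := by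
  obtain ⟨h1, h2⟩ := support_modQ hq
  exact lt_of_le_of_ne h1 fun e => hx (e ▸ h2)

lemma injective_smul (hx : x ∉ p.asIdeal) :
    Function.Injective (x • (LinearMap.id : (A ⧸ p.asIdeal) →ₗ[A] (A ⧸ p.asIdeal))) := by
  rw [injective_iff_map_eq_zero]
  intro y hy
  obtain ⟨y, rfl⟩ := Ideal.Quotient.mk_surjective y
  change Ideal.Quotient.mk p.asIdeal (x * y) = 0 at hy
  rw [Ideal.Quotient.eq_zero_iff_mem] at hy ⊢
  exact (p.2.mem_or_mem hy).resolve_left hx

end Step

/-- Nakayama: if `x` is injective on `N`, then `Hom(N, W⟦i⟧)` vanishes near `q ∋ x` if `Hom(N/xN, W⟦i+1⟧)` does. -/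
lemma notMem_support_step [IsNoetherianRing A] {W : Dual.D A} (hω : Dual.IsDualizing A W) {N : Type u}
    [AddCommGroup N] [Module A N] [Module.Finite A N] {x : A}
    (hinj : Function.Injective (x • (LinearMap.id : N →ₗ[A] N))) {q : PrimeSpectrum A} (hxq : x ∈ q.asIdeal) (i : ℤ)
    (h : q ∉ Module.support A (E W (N ⧸ LinearMap.range (x • (LinearMap.id : N →ₗ[A] N))) (i + 1))) :
    q ∉ Module.support A (E W N i) := fun hc => by
  haveI := finite hω N i
  obtain ⟨d, hd, -⟩ := exists_delta (W := W) hinj (Submodule.mkQ_surjective _)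
    (LinearMap.exact_map_mkQ_range _) i (i + 1) rfl
  refine (Module.notMem_support_iff' (R := A) (M := QuotSMulTop x (E W N i)) (p := q)).2 (fun z => ?_) ?_
  · rw [Module.notMem_support_iff'] at h
    obtain ⟨φ, rfl⟩ := Submodule.Quotient.mk_surjective _ z
    obtain ⟨r, hr, e⟩ := h (d φ)
    refine ⟨r, hr, ?_⟩
    rw [← map_smul, hd] at e
    obtain ⟨ψ, hψ⟩ := e
    rw [emap_smul_id] at hψ
    rw [← Submodule.Quotient.mk_smul, Submodule.Quotient.mk_eq_zero, ← hψ]
    exact Submodule.smul_mem_pointwise_smul ψ x _ trivial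
  · rw [Module.support_quotSMulTop]
    exact ⟨hc, by simpa [PrimeSpectrum.mem_zeroLocus] using hxq⟩


lemma wellFoundedGT_primeSpectrum [IsNoetherianRing A] : WellFoundedGT (PrimeSpectrum A) :=
  ⟨Subrelation.wf (fun {_ _} (h : _ > _) => (PrimeSpectrum.asIdeal_lt_asIdeal _ _).2 h)
    (InvImage.wf PrimeSpectrum.asIdeal (wellFounded_gt (α := Ideal A)))⟩

section LocalRing

variable [IsLocalRing A] [IsNoetherianRing A] {ω : Dual.D A}

lemma subsingleton_iff_notMem {N : Type*} [AddCommGroup N] [Module A N] [Module.Finite A N] :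
    Subsingleton N ↔ IsLocalRing.closedPoint A ∉ Module.support A N := by
  constructor
  · intro h; simp [Module.notMem_support_iff']
    exact fun m => ⟨1, fun h => (IsLocalRing.maximalIdeal.isMaximal A).ne_top ((Ideal.eq_top_iff_one _).2 h),
      Subsingleton.elim _ _⟩
  · intro h
    rw [← not_nontrivial_iff_subsingleton, ← Module.nonempty_support_iff (R := A)]
    rintro ⟨q, hq⟩
    exact h (Module.mem_support_mono (IsLocalRing.le_maximalIdeal q.2.ne_top) hq)

lemma residue_subsingleton (hn : Dual.IsNormalized A ω) (p : PrimeSpectrum A) (hp : p = IsLocalRing.closedPoint A)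
    (i : ℤ) (hi : i ≠ 0) : Subsingleton (E ω (A ⧸ p.asIdeal) i) := by
  subst hp
  exact hn i hi

lemma exists_notMem_of_ne {p : PrimeSpectrum A} (hp : p ≠ IsLocalRing.closedPoint A) :
    ∃ x ∈ IsLocalRing.maximalIdeal A, x ∉ p.asIdeal := by
  by_contra! h
  exact hp (PrimeSpectrum.ext (le_antisymm (IsLocalRing.le_maximalIdeal p.2.ne_top) h))

variable (hω : Dual.IsDualizing A ω)
include hω

lemma subsingleton_step {p : PrimeSpectrum A} {x : A} (hx : x ∉ p.asIdeal) (hxm : x ∈ IsLocalRing.maximalIdeal A)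
    (i : ℤ) (h : Subsingleton (E ω (modQ p x) (i + 1))) : Subsingleton (E ω (A ⧸ p.asIdeal) i) := by
  haveI := finite hω (A ⧸ p.asIdeal) i
  haveI : Module.Finite A (modQ p x) := inferInstance
  haveI := finite hω (modQ p x) (i + 1)
  rw [subsingleton_iff_notMem (A := A)] at h ⊢
  exact notMem_support_step hω (injective_smul hx) hxm i h

variable (hn : Dual.IsNormalized A ω)
include hn

/-- No `Hom(M, ω⟦i⟧)` in positive degrees. -/
theorem subsingleton_of_pos (M : Type u) [AddCommGroup M] [Module A M] [Module.Finite A M] :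
    ∀ i : ℤ, 0 < i → Subsingleton (E ω M i) := by
  suffices H : ∀ p : PrimeSpectrum A, ∀ i : ℤ, 0 < i → Subsingleton (E ω (A ⧸ p.asIdeal) i) from
    devissage (Φ := fun N => ∀ i : ℤ, 0 < i → Subsingleton (E ω N i)) Set.univ
      (fun N _ _ _ i _ => subsingleton_of_subsingleton ω i) (fun p _ => H p)
      (fun N N' _ _ _ _ e h i hi => haveI := h i hi; (econgr ω e i).injective.subsingleton)
      (fun N₁ N₂ N₃ _ _ _ _ _ _ _ _ _ f g hf hg hfg h₁ h₃ i hi =>
        subsingleton_mid hf hg hfg i (h₁ i hi) (h₃ i hi)) M (Set.subset_univ _)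
  intro p
  haveI := wellFoundedGT_primeSpectrum (A := A)
  induction p using WellFoundedGT.induction with
  | ind p ih =>
    intro i hi
    by_cases hp : p = IsLocalRing.closedPoint A
    · exact residue_subsingleton hn p hp i (by omega)
    obtain ⟨x, hxm, hx⟩ := exists_notMem_of_ne hp
    refine subsingleton_step hω hx hxm i ?_
    exact devissage (Φ := fun N => ∀ i : ℤ, 0 < i → Subsingleton (E ω N i)) (Set.Ioi p)
      (fun N _ _ _ i _ => subsingleton_of_subsingleton ω i) (fun q hq => ih q hq)
      (fun N N' _ _ _ _ e h i hi => haveI := h i hi; (econgr ω e i).injective.subsingleton)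
      (fun N₁ N₂ N₃ _ _ _ _ _ _ _ _ _ f g hf hg hfg h₁ h₃ i hi =>
        subsingleton_mid hf hg hfg i (h₁ i hi) (h₃ i hi)) (modQ p x) (fun q hq => support_modQ_gt hx hq) (i + 1)
      (by omega)

/-- No `Hom(M, ω⟦i⟧)` below `-dim M`. -/
theorem subsingleton_of_lt (M : Type u) [AddCommGroup M] [Module A M] [Module.Finite A M] (d : ℕ)
    (hd : ∀ p ∈ Module.support A M, Order.coheight p ≤ d) :
    ∀ i : ℤ, i < -(d : ℤ) → Subsingleton (E ω M i) := by
  suffices H : ∀ (d : ℕ) (p : PrimeSpectrum A), Order.coheight p ≤ d → ∀ i : ℤ, i < -(d : ℤ) →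
      Subsingleton (E ω (A ⧸ p.asIdeal) i) from
    devissage (Φ := fun N => ∀ i : ℤ, i < -(d : ℤ) → Subsingleton (E ω N i)) {p | Order.coheight p ≤ d}
      (fun N _ _ _ i _ => subsingleton_of_subsingleton ω i) (fun p hp => H d p hp)
      (fun N N' _ _ _ _ e h i hi => haveI := h i hi; (econgr ω e i).injective.subsingleton)
      (fun N₁ N₂ N₃ _ _ _ _ _ _ _ _ _ f g hf hg hfg h₁ h₃ i hi =>
        subsingleton_mid hf hg hfg i (h₁ i hi) (h₃ i hi)) M hd
  intro d
  induction d with
  | zero =>
    intro p hp i hi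
    refine residue_subsingleton hn p ?_ i (by omega)
    by_contra hne
    have hlt : p < IsLocalRing.closedPoint A :=
      lt_of_le_of_ne (IsLocalRing.le_maximalIdeal p.2.ne_top) hne
    have := (Order.coheight_add_one_le hlt).trans hp
    simp at this
  | succ d ih =>
    intro p hp i hi
    by_cases hc : p = IsLocalRing.closedPoint A
    · exact residue_subsingleton hn p hc i (by omega)
    obtain ⟨x, hxm, hx⟩ := exists_notMem_of_ne hc
    refine subsingleton_step hω hx hxm i ?_
    refine devissage (Φ := fun N => ∀ i : ℤ, i < -(d : ℤ) → Subsingleton (E ω N i)) {p | Order.coheight p ≤ d}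
      (fun N _ _ _ i _ => subsingleton_of_subsingleton ω i) (fun p hp => ih p hp)
      (fun N N' _ _ _ _ e h i hi => haveI := h i hi; (econgr ω e i).injective.subsingleton)
      (fun N₁ N₂ N₃ _ _ _ _ _ _ _ _ _ f g hf hg hfg h₁ h₃ i hi =>
        subsingleton_mid hf hg hfg i (h₁ i hi) (h₃ i hi)) (modQ p x) ?_ (i + 1) (by omega)
    intro q hq
    have h1 := (Order.coheight_add_one_le (support_modQ_gt hx hq)).trans hp
    rw [Nat.cast_add, Nat.cast_one] at h1
    exact (ENat.add_le_add_iff_right ENat.one_ne_top).1 h1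

/-- `Hom(M, ω⟦i⟧)_q = 0` for `i > -dim A/q`. -/
theorem notMem_support_of_gt : ∀ (e : ℕ) (q : PrimeSpectrum A), Order.coheight q = e →
    ∀ (M : Type u) [AddCommGroup M] [Module A M] [Module.Finite A M] (i : ℤ), 0 < i + e →
      q ∉ Module.support A (E ω M i) := by
  intro e
  induction e with
  | zero =>
    intro q _ M _ _ _ i hi
    haveI := subsingleton_of_pos hω hn M i (by simpa using hi)
    rw [Module.notMem_support_iff']
    exact fun m => ⟨1, fun h => q.2.ne_top ((Ideal.eq_top_iff_one _).2 h), Subsingleton.elim _ _⟩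
  | succ e ih =>
    intro q hq M _ _ _ i hi
    obtain ⟨r, hqr, hr⟩ := exists_gt_coheight hq
    obtain ⟨x, hxr, hxq⟩ := SetLike.exists_of_lt ((PrimeSpectrum.asIdeal_lt_asIdeal q r).2 hqr)
    let T : Submodule A M := Submodule.torsion' A M (Submonoid.powers x)
    have hreg : Function.Injective (x • (LinearMap.id : (M ⧸ T) →ₗ[A] (M ⧸ T))) := by
      rw [injective_iff_map_eq_zero]
      intro y hy
      obtain ⟨y, rfl⟩ := Submodule.Quotient.mk_surjective _ y
      change x • (Submodule.Quotient.mk y : M ⧸ T) = 0 at hy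
      rw [← Submodule.Quotient.mk_smul, Submodule.Quotient.mk_eq_zero, Submodule.mem_torsion'_iff] at hy
      obtain ⟨⟨_, n, rfl⟩, hn'⟩ := hy
      rw [Submodule.Quotient.mk_eq_zero, Submodule.mem_torsion'_iff]
      refine ⟨⟨x ^ (n + 1), n + 1, rfl⟩, ?_⟩
      change x ^ (n + 1) • y = 0
      change x ^ n • x • y = 0 at hn'
      rw [pow_succ, mul_smul, hn']
    refine notMem_support_of_exact (exact_emap (W := ω) T.injective_subtype T.mkQ_surjective
      (LinearMap.exact_subtype_mkQ T) i) ?_ ?_
    · exact fun hc => notMem_support_step hω hreg hxr i (ih r hr _ (i + 1) (by omega))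
        (Module.mem_support_mono hqr.le hc)
    · haveI : Module.Finite A T := Module.Finite.of_fg (IsNoetherian.noetherian _)
      refine fun hc => hxq ?_
      have hann := (annihilator_le_annihilator ω (M := T) i).trans (Module.annihilator_le_of_mem_support hc)
      obtain ⟨S, hS⟩ := (Module.Finite.fg_top (R := A) (M := T))
      have hn' : ∀ t : T, ∃ n : ℕ, x ^ n • t = 0 := fun t => by
        obtain ⟨⟨_, n, rfl⟩, h⟩ := (Submodule.mem_torsion'_iff _ (t : M)).1 t.2
        exact ⟨n, Subtype.ext h⟩
      choose n hn' using hn'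
      refine q.2.mem_of_pow_mem (S.sup n) (hann ?_)
      rw [← Submodule.annihilator_top, ← hS, Submodule.mem_annihilator_span]
      rintro ⟨t, ht⟩
      show x ^ S.sup n • t = 0
      obtain ⟨k, hk⟩ := Nat.exists_eq_add_of_le (Finset.le_sup ht : n t ≤ _)
      rw [hk, add_comm, pow_add, mul_smul, hn', smul_zero]

/-- `Hom(k, ω)` is nonzero. -/
theorem nontrivial_residue : Nontrivial (E ω (IsLocalRing.ResidueField A) 0) := by
  by_contra hc
  rw [not_nontrivial_iff_subsingleton] at hc
  have H : ∀ p : PrimeSpectrum A, ∀ i : ℤ, Subsingleton (E ω (A ⧸ p.asIdeal) i) := by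
    intro p
    haveI := wellFoundedGT_primeSpectrum (A := A)
    induction p using WellFoundedGT.induction with
    | ind p ih =>
      intro i
      by_cases hp : p = IsLocalRing.closedPoint A
      · subst hp
        rcases eq_or_ne i 0 with rfl | hi
        · exact hc
        · exact hn i hi
      obtain ⟨x, hxm, hx⟩ := exists_notMem_of_ne hp
      refine subsingleton_step hω hx hxm i ?_
      exact devissage (Φ := fun N => ∀ i : ℤ, Subsingleton (E ω N i)) (Set.Ioi p)
        (fun N _ _ _ i => subsingleton_of_subsingleton ω i) (fun q hq => ih q hq)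
        (fun N N' _ _ _ _ e h i => haveI := h i; (econgr ω e i).injective.subsingleton)
        (fun N₁ N₂ N₃ _ _ _ _ _ _ _ _ _ f g hf hg hfg h₁ h₃ i =>
          subsingleton_mid hf hg hfg i (h₁ i) (h₃ i)) (modQ p x) (fun q hq => support_modQ_gt hx hq) (i + 1)
  have hA : ∀ i, Subsingleton (E ω A i) :=
    devissage (Φ := fun N => ∀ i : ℤ, Subsingleton (E ω N i)) Set.univ
      (fun N _ _ _ i => subsingleton_of_subsingleton ω i) (fun q _ => H q)
      (fun N N' _ _ _ _ e h i => haveI := h i; (econgr ω e i).injective.subsingleton)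
      (fun N₁ N₂ N₃ _ _ _ _ _ _ _ _ _ f g hf hg hfg h₁ h₃ i =>
        subsingleton_mid hf hg hfg i (h₁ i) (h₃ i)) A (Set.subset_univ _)
  have hω0 : IsZero ω := by
    obtain ⟨a, b, hge, hle⟩ := exists_bound hω
    haveI : ω.IsGE (b + 1) := (DRingLib.isGE_iff_HD ω (b + 1)).2 fun i _ =>
      haveI := hA i
      (eSelf ω i).symm.injective.subsingleton
    exact (DerivedCategory.TStructure.t (C := ModuleCat.{u} A)).isZero ω b (b + 1) (by omega)
  exact one_ne_zero (hω.toEnd_bijective.injective (hω0.eq_of_src _ _ :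
    (1 : A) • 𝟙 ω = (0 : A) • 𝟙 ω))

omit hω in
lemma subsingleton_of_ne (M : Type u) [AddCommGroup M] [Module A M] [Module.Finite A M]
    (hM : Module.support A M ⊆ {IsLocalRing.closedPoint A}) (i : ℤ) (hi : i ≠ 0) : Subsingleton (E ω M i) :=
  devissage (Φ := fun N => Subsingleton (E ω N i)) {IsLocalRing.closedPoint A}
    (fun N _ _ _ => subsingleton_of_subsingleton ω i) (fun p hp => residue_subsingleton hn p hp i hi)
    (fun N N' _ _ _ _ e h => haveI := h; (econgr ω e i).injective.subsingleton)
    (fun N₁ N₂ N₃ _ _ _ _ _ _ _ _ _ f g hf hg hfg h₁ h₃ => subsingleton_mid hf hg hfg i h₁ h₃) M hM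

end LocalRing

end Groth.Agent.DualLib
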