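import Groth.Agent.DualLib.RingBase
import Groth.Agent.DualLib.Local
import Groth.Agent.DQCoh.Tilde
import Groth.Agent.S0403
import Groth.Agent.H8Lim.FibreDimVanish
import Groth.Agent.Dual22Lib.RpushBound
import Groth.Agent.Dual22Lib.RepLib

/-! Top degree Serre duality over a local base. -/

set_option autoImplicit false
set_option backward.isDefEq.respectTransparency false
set_option backward.defeqAttrib.useBackward true
set_option linter.style.haveILetI false
set_option linter.unusedSectionVars false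
set_option synthInstance.maxHeartbeats 100000

universe w v u

open CategoryTheory CategoryTheory.Limits CategoryTheory.Pretriangulated DerivedCategory AlgebraicGeometry

attribute [local instance] HasDerivedCategory.standard

namespace Groth.Agent.DualLib.SerreTop

section Generic

variable {C : Type u} [Category.{v} C] [Abelian C] [HasDerivedCategory.{w} C]

/-- An object in degrees `≤ 0` maps to its top cohomology. -/
theorem exists_proj (G : DerivedCategory C) [G.IsLE 0] :
    ∃ (M : C) (π : G ⟶ (singleFunctor C 0).obj M), IsIso ((homologyFunctor C 0).map π) ∧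
      ∀ (H : DerivedCategory C), H.IsGE 0 → ∀ g : G ⟶ H, ∃ g', g = π ≫ g' := by
  let t := DerivedCategory.TStructure.t (C := C)
  haveI hB : ((t.truncGE 0).obj G).IsGE 0 := t.isGE_truncGE_obj ..
  haveI hA : ((t.truncLT 0).obj G).IsLE (-1) := t.isLE_truncLT_obj _ _ _ (by omega)
  have hT := t.triangleLTGE_distinguished 0 G
  haveI : ((t.truncGE 0).obj G).IsLE 0 := by
    haveI : (((t.truncLT 0).obj G)⟦(1 : ℤ)⟧).IsLE (-2) := t.isLE_shift _ (-1) 1 (-2) (by omega)
    haveI : (((t.truncLT 0).obj G)⟦(1 : ℤ)⟧).IsLE 0 := t.isLE_of_le _ (-2) 0 (by omega)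
    exact t.isLE₂ _ (rot_of_distTriang _ hT) 0 ‹_› ‹_›
  obtain ⟨M, ⟨e⟩⟩ := exists_iso_singleFunctor_obj_of_isGE_of_isLE ((t.truncGE 0).obj G) 0
  refine ⟨M, (t.truncGEπ 0).app G ≫ e.hom, ?_, fun H hH g => ?_⟩
  · have hlow : ∀ j, 0 ≤ j → IsZero ((homologyFunctor C j).obj ((t.truncLT 0).obj G)) :=
      fun j hj => isZero_of_isLE _ (-1) j (by omega)
    haveI : Mono ((homologyFunctor C 0).map ((t.triangleLTGE 0).obj G).mor₂) :=
      (HomologySequence.mono_homologyMap_mor₂_iff _ hT 0).2 ((hlow 0 le_rfl).eq_of_src _ _)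
    haveI : Epi ((homologyFunctor C 0).map ((t.triangleLTGE 0).obj G).mor₂) :=
      (HomologySequence.epi_homologyMap_mor₂_iff _ hT 0 1 rfl).2 ((hlow 1 (by omega)).eq_of_tgt _ _)
    haveI : IsIso ((homologyFunctor C 0).map ((t.truncGEπ 0).app G)) :=
      isIso_of_mono_of_epi ((homologyFunctor C 0).map ((t.triangleLTGE 0).obj G).mor₂)
    rw [Functor.map_comp]
    infer_instance
  · obtain ⟨g', hg'⟩ := Triangle.yoneda_exact₂ _ hT g (t.zero (X := (t.truncLT 0).obj G) _ (-1) 0 (by omega))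
    exact ⟨e.inv ≫ g', by rw [Category.assoc, e.hom_inv_id_assoc]; exact hg'⟩

/-- An object in degrees `≥ 0` receives its bottom cohomology. -/
theorem exists_incl (H : DerivedCategory C) [H.IsGE 0] :
    ∃ (N : C) (ι : (singleFunctor C 0).obj N ⟶ H), IsIso ((homologyFunctor C 0).map ι) ∧
      ∀ (G : DerivedCategory C), G.IsLE 0 → ∀ g : G ⟶ H, ∃ g', g = g' ≫ ι := by
  let t := DerivedCategory.TStructure.t (C := C)
  haveI hA : ((t.truncLT 1).obj H).IsLE 0 := t.isLE_truncLT_obj _ _ _ (by omega)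
  haveI hB : ((t.truncGE 1).obj H).IsGE 1 := t.isGE_truncGE_obj ..
  have hT := t.triangleLTGE_distinguished 1 H
  haveI : ((t.truncLT 1).obj H).IsGE 0 := by
    haveI : (((t.truncGE 1).obj H)⟦(-1 : ℤ)⟧).IsGE 2 := t.isGE_shift _ 1 (-1) 2 (by omega)
    exact t.isGE₂ _ (inv_rot_of_distTriang _ hT) 0 (t.isGE_of_ge (((t.truncGE 1).obj H)⟦(-1 : ℤ)⟧) 0 2 (by omega)) ‹_›
  obtain ⟨N, ⟨e⟩⟩ := exists_iso_singleFunctor_obj_of_isGE_of_isLE ((t.truncLT 1).obj H) 0
  refine ⟨N, e.inv ≫ (t.truncLTι 1).app H, ?_, fun G hG g => ?_⟩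
  · haveI : Mono ((homologyFunctor C 0).map ((t.truncLTι 1).app H)) := DCat.mono_homology_truncLTι H 1 0
    haveI : Epi ((homologyFunctor C 0).map ((t.truncLTι 1).app H)) :=
      (HomologySequence.epi_homologyMap_mor₁_iff _ hT 0).2
        ((isZero_of_isGE ((t.truncGE 1).obj H) 1 0 (by omega)).eq_of_tgt _ _)
    haveI := isIso_of_mono_of_epi ((homologyFunctor C 0).map ((t.truncLTι 1).app H))
    rw [Functor.map_comp]
    infer_instance
  · obtain ⟨g', hg'⟩ := Triangle.coyoneda_exact₂ _ hT g (t.zero _ 0 1 (by omega))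
    exact ⟨g' ≫ e.hom, by rw [Category.assoc, e.hom_inv_id_assoc]; exact hg'⟩

/-- `Hom = Hom` of `H⁰` from degrees `≤ 0` to degrees `≥ 0`. -/
theorem bijective_H0 (G H : DerivedCategory C) [G.IsLE 0] [H.IsGE 0] :
    Function.Bijective fun g : G ⟶ H => (homologyFunctor C 0).map g := by
  obtain ⟨M, π, hπ, hπ'⟩ := exists_proj G
  obtain ⟨N, ι, hι, hι'⟩ := exists_incl H
  let s := singleFunctor C 0
  let F := homologyFunctor C 0
  have hs : Function.Bijective fun ψ : M ⟶ N => F.map (s.map ψ) :=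
    (Functor.FullyFaithful.ofFullyFaithful (𝟭 C) |>.ofIso
      (singleFunctorCompHomologyFunctorIso C 0).symm).map_bijective M N
  refine ⟨fun g g' h => sub_eq_zero.1 ?_, fun h => ?_⟩
  · obtain ⟨x, hx⟩ := hπ' H inferInstance (g - g')
    obtain ⟨y, rfl⟩ := hι' ((singleFunctor C 0).obj M) inferInstance x
    obtain ⟨ψ, rfl⟩ := (singleFunctor C 0).map_surjective y
    have h0 : F.map (g - g') = 0 := by rw [Functor.map_sub]; exact sub_eq_zero.2 h
    rw [hx, Functor.map_comp, Functor.map_comp, Preadditive.IsIso.comp_left_eq_zero,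
      Preadditive.IsIso.comp_right_eq_zero] at h0
    have : ψ = 0 := hs.1 (by simp only [Functor.map_zero]; exact h0)
    rw [hx, this, Functor.map_zero, zero_comp, comp_zero]
  · obtain ⟨ψ, hψ⟩ := hs.2 (inv (F.map π) ≫ h ≫ inv (F.map ι))
    refine ⟨π ≫ s.map ψ ≫ ι, ?_⟩
    simp only at hψ ⊢
    rw [Functor.map_comp, Functor.map_comp, hψ]
    simp [F]

end Generic

variable (A : Type u) [CommRing A]

/-- `A` in degree zero. -/
noncomputable abbrev g₀ : Dual.D A := DQCoh.gen (CommRingCat.of A)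

theorem toH_smul {G : Dual.D A} (a : A) (f : g₀ A ⟶ G) :
    (DCat.ProjHomology.toH (P := ModuleCat.of A A)) (a • f) = a • (DCat.ProjHomology.toH (P := ModuleCat.of A A)) f := by
  have h1 : a • f = (singleFunctor (ModuleCat.{u} A) 0).map (a • 𝟙 (ModuleCat.of A A)) ≫ f := by
    rw [Functor.map_smul, CategoryTheory.Functor.map_id, Linear.smul_comp, Category.id_comp]
  conv_lhs => rw [h1]
  rw [show a • (DCat.ProjHomology.toH (P := ModuleCat.of A A)) f = (a • 𝟙 (ModuleCat.of A A)) ≫ (DCat.ProjHomology.toH (P := ModuleCat.of A A)) f by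
    rw [Linear.smul_comp, Category.id_comp]]
  simp only [DCat.ProjHomology.toH, Functor.map_comp]
  have hn := (singleFunctorCompHomologyFunctorIso (ModuleCat.{u} A) 0).inv.naturality (a • 𝟙 (ModuleCat.of A A))
  simp only [Functor.id_map, Functor.comp_map] at hn
  rw [← reassoc_of% hn]

/-- Elements of `H⁰`. -/
noncomputable def elt (G : Dual.D A) : (g₀ A ⟶ G) ≃ₗ[A] (homologyFunctor (ModuleCat.{u} A) 0).obj G :=
  LinearEquiv.ofBijective
    { toFun := fun f => ((DCat.ProjHomology.toH (P := ModuleCat.of A A)) f).hom (1 : A)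
      map_add' := fun f g => by simp [DCat.ProjHomology.toH]
      map_smul' := fun a f => by rw [toH_smul]; rfl }
    (show Function.Bijective ((fun h : ModuleCat.of A A ⟶ (homologyFunctor (ModuleCat.{u} A) 0).obj G => h.hom (1 : A)) ∘
        DCat.ProjHomology.toH) from
      (show Function.Bijective (fun h : ModuleCat.of A A ⟶ (homologyFunctor (ModuleCat.{u} A) 0).obj G => h.hom (1 : A)) from
        ⟨fun a b h => ModuleCat.hom_ext (LinearMap.ext_ring h),
          fun x => ⟨ModuleCat.ofHom (LinearMap.toSpanSingleton A _ x), one_smul A x⟩⟩).comp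
      (DCat.ProjHomology.bijective_toH (P := ModuleCat.of A A) G))

theorem elt_comp {G H : Dual.D A} (f : g₀ A ⟶ G) (g : G ⟶ H) :
    elt A H (f ≫ g) = ((homologyFunctor (ModuleCat.{u} A) 0).map g).hom (elt A G f) := by
  show ((DCat.ProjHomology.toH (P := ModuleCat.of A A)) (f ≫ g)).hom (1 : A) = _
  rw [DCat.ProjHomology.toH_comp]
  rfl

/-- `Hom = Hom_A` on maps out of `A`, from degrees `≤ 0` to degrees `≥ 0`. -/
theorem bijective_ring (G H : Dual.D A) [G.IsLE 0] [H.IsGE 0] :
    Function.Bijective fun g : G ⟶ H => Linear.rightComp A (g₀ A) g := by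
  let F := homologyFunctor (ModuleCat.{u} A) 0
  have h1 : (fun g : G ⟶ H => Linear.rightComp A (g₀ A) g) =
      (fun h : F.obj G ⟶ F.obj H => (elt A H).symm.toLinearMap ∘ₗ h.hom ∘ₗ (elt A G).toLinearMap) ∘
        fun g : G ⟶ H => F.map g := by
    funext g
    refine LinearMap.ext fun f => (elt A H).injective ?_
    simp only [Function.comp_apply, LinearMap.coe_comp, LinearEquiv.coe_coe, LinearEquiv.apply_symm_apply]
    exact elt_comp A f g
  rw [h1]
  refine Function.Bijective.comp ⟨fun a b h => ?_, fun L => ?_⟩ (bijective_H0 G H)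
  · refine ModuleCat.hom_ext (LinearMap.ext fun x => ?_)
    obtain ⟨f, rfl⟩ := (elt A G).surjective x
    exact (elt A H).symm.injective (LinearMap.congr_fun h f)
  · refine ⟨ModuleCat.ofHom ((elt A H).toLinearMap ∘ₗ L ∘ₗ (elt A G).symm.toLinearMap), LinearMap.ext fun f => ?_⟩
    show (elt A H).symm (elt A H (L ((elt A G).symm (elt A G f)))) = L f
    simp

/-- `H^j` as maps out of `A`. -/
theorem nonempty_HD_equiv (ω : Dual.D A) (j : ℤ) : Nonempty (Dual.HD A ω j ≃ₗ[A] (g₀ A ⟶ ω⟦j⟧)) :=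
  ⟨((((homologyFunctor (ModuleCat.{u} A) 0).shiftIso j 0 j (by omega)).app ω).symm.toLinearEquiv).trans
    (elt A (ω⟦j⟧)).symm⟩

variable [PreservesFiniteLimits (tilde.functor (CommRingCat.of A))]

theorem preservesFiniteColimits_tilde (R : CommRingCat.{u}) : PreservesFiniteColimits (tilde.functor R) :=
  haveI := (tilde.adjunction (R := R)).leftAdjoint_preservesColimits
  inferInstance

local notation "T" => DCoh.tildeD (CommRingCat.of A)
local notation "S" => Spec (CommRingCat.of A)

theorem tilde_smul_PS (a : A) :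
    (DQCoh.genIso (CommRingCat.of A)).inv ≫ (T).map (a • 𝟙 (g₀ A)) =
      (a • 𝟙 (RingBase.PS A)) ≫ (DQCoh.genIso (CommRingCat.of A)).inv := by
  let R := CommRingCat.of A
  have hT : (tilde.functor R).map (a • 𝟙 (ModuleCat.of R A)) = a • 𝟙 ((tilde.functor R).obj (ModuleCat.of R A)) := by
    refine Eq.trans ?_ ((Formal2Lib.SecU.map_smul_id (R := R) (ModuleCat.of R A) a).trans ?_)
    · rfl
    · rw [KLin.smul_id]
      refine congrArg (Formal.smulModΓ _) ?_
      show _ = (RingBase.S0 A ↘ RingBase.S0 A).appTop.hom ((Scheme.ΓSpecIso R).inv.hom a)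
      rw [show (RingBase.S0 A ↘ RingBase.S0 A) = 𝟙 _ from Spec.map_id _, Scheme.Hom.id_appTop]
      rfl
  have h1 : a • 𝟙 (g₀ A) = (singleFunctor (ModuleCat.{u} R) 0).map (a • 𝟙 (ModuleCat.of R A)) := by
    rw [Functor.map_smul, CategoryTheory.Functor.map_id]
  haveI := preservesFiniteColimits_tilde R
  let φ := ((tilde.functor R).mapDerivedCategorySingleFunctor 0).app (ModuleCat.of R A)
  have hn : (T).map (a • 𝟙 (g₀ A)) ≫ φ.hom =
      φ.hom ≫ (singleFunctor (S).Modules 0).map ((tilde.functor R).map (a • 𝟙 (ModuleCat.of R A))) := by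
    rw [h1]
    exact ((tilde.functor R).mapDerivedCategorySingleFunctor 0).hom.naturality _
  have hn' : (T).map (a • 𝟙 (g₀ A)) = a • 𝟙 _ := by
    rw [← cancel_mono φ.hom, hn, hT, Functor.map_smul, CategoryTheory.Functor.map_id, Linear.comp_smul,
      Linear.smul_comp, Category.id_comp]
    exact congrArg (a • ·) (Category.comp_id _)
  rw [hn', Linear.comp_smul, Linear.smul_comp, Category.comp_id, Category.id_comp]

/-- Maps out of `O` of the base, linearly. -/
noncomputable def theta {G₀ : Dual.D A} {G : DCoh.D (S)} (e : (T).obj G₀ ≅ G) :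
    (g₀ A ⟶ G₀) ≃ₗ[A] (RingBase.PS A ⟶ G) :=
  LinearEquiv.ofBijective
    { toFun := fun f => (DQCoh.genIso (CommRingCat.of A)).inv ≫ (T).map f ≫ e.hom
      map_add' := fun f g => by simp
      map_smul' := fun a f => by
        rw [show a • f = (a • 𝟙 (g₀ A)) ≫ f by rw [Linear.smul_comp, Category.id_comp], Functor.map_comp,
          Category.assoc, ← Category.assoc (DQCoh.genIso (CommRingCat.of A)).inv, tilde_smul_PS, Category.assoc,
          Linear.smul_comp, Category.id_comp]
        rfl }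
    ((Iso.homCongr (DQCoh.genIso (CommRingCat.of A)) e).bijective.comp (DQCoh.bijective_map_gen (CommRingCat.of A) G₀))

theorem isLE_of_tilde {G₀ : Dual.D A} (n : ℤ) [((T).obj G₀).IsLE n] : G₀.IsLE n := by
  refine (isLE_iff _ _).2 fun i hi => ?_
  haveI := preservesFiniteColimits_tilde (CommRingCat.of A)
  obtain ⟨η⟩ := DQCoh.nonempty_homology_natIso (tilde.functor (CommRingCat.of A)) i
  haveI : (tilde.functor (CommRingCat.of A)).Faithful := (tilde.fullyFaithfulFunctor (R := CommRingCat.of A)).faithful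
  have h := (isZero_of_isLE ((T).obj G₀) n i hi).of_iso (η.app G₀).symm
  rw [IsZero.iff_id_eq_zero]
  exact (tilde.functor (CommRingCat.of A)).map_injective (h.eq_of_src _ _)

theorem isGE_of_tilde {G₀ : Dual.D A} (n : ℤ) [((T).obj G₀).IsGE n] : G₀.IsGE n := by
  refine (isGE_iff _ _).2 fun i hi => ?_
  haveI := preservesFiniteColimits_tilde (CommRingCat.of A)
  obtain ⟨η⟩ := DQCoh.nonempty_homology_natIso (tilde.functor (CommRingCat.of A)) i
  haveI : (tilde.functor (CommRingCat.of A)).Faithful := (tilde.fullyFaithfulFunctor (R := CommRingCat.of A)).faithful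
  have h := (isZero_of_isGE ((T).obj G₀) n i hi).of_iso (η.app G₀).symm
  rw [IsZero.iff_id_eq_zero]
  exact (tilde.functor (CommRingCat.of A)).map_injective (h.eq_of_src _ _)

/-- The same on the affine scheme. -/
theorem bijective_scheme (G H : DCoh.D (S)) (hG : DCoh.IsQCohD G) (hH : DCoh.IsQCohD H) [G.IsLE 0] [H.IsGE 0] :
    Function.Bijective fun g : G ⟶ H => Linear.rightComp A (RingBase.PS A) g := by
  obtain ⟨hfull, hfaith, hess⟩ := DQCoh.tildeD_main (CommRingCat.of A)
  haveI := hfull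
  haveI := hfaith
  obtain ⟨G₀, ⟨eG⟩⟩ := (hess G).1 hG
  obtain ⟨H₀, ⟨eH⟩⟩ := (hess H).1 hH
  haveI : ((T).obj G₀).IsLE 0 := DerivedCategory.TStructure.t.isLE_of_iso eG.symm 0
  haveI : ((T).obj H₀).IsGE 0 := DerivedCategory.TStructure.t.isGE_of_iso eH.symm 0
  haveI : G₀.IsLE 0 := isLE_of_tilde A 0
  haveI : H₀.IsGE 0 := isGE_of_tilde A 0
  let E : (G₀ ⟶ H₀) ≃ (G ⟶ H) :=
    (Functor.FullyFaithful.ofFullyFaithful T).homEquiv.trans (Iso.homCongr eG eH)
  let L : ((g₀ A ⟶ G₀) →ₗ[A] (g₀ A ⟶ H₀)) → ((RingBase.PS A ⟶ G) →ₗ[A] (RingBase.PS A ⟶ H)) :=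
    fun Λ => (theta A eH).toLinearMap ∘ₗ Λ ∘ₗ (theta A eG).symm.toLinearMap
  have h1 : (fun g : G ⟶ H => Linear.rightComp A (RingBase.PS A) g) ∘ E =
      L ∘ fun g : G₀ ⟶ H₀ => Linear.rightComp A (g₀ A) g := by
    funext g
    refine LinearMap.ext fun x => ?_
    obtain ⟨f, rfl⟩ := (theta A eG).surjective x
    show theta A eG f ≫ E g = theta A eH (((theta A eG).symm (theta A eG f)) ≫ g)
    rw [LinearEquiv.symm_apply_apply]
    show ((DQCoh.genIso _).inv ≫ (T).map f ≫ eG.hom) ≫ (eG.inv ≫ (T).map g ≫ eH.hom) =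
      (DQCoh.genIso _).inv ≫ (T).map (f ≫ g) ≫ eH.hom
    simp
  refine (Function.Bijective.of_comp_iff _ E.bijective).1 (h1 ▸ Function.Bijective.comp ⟨fun a b h => ?_, fun Λ => ?_⟩
    (bijective_ring A G₀ H₀))
  · refine LinearMap.ext fun f => (theta A eH).injective ?_
    have h' := LinearMap.congr_fun h (theta A eG f)
    change theta A eH (a ((theta A eG).symm (theta A eG f))) = theta A eH (b ((theta A eG).symm (theta A eG f))) at h'
    rwa [LinearEquiv.symm_apply_apply] at h'
  · refine ⟨(theta A eH).symm.toLinearMap ∘ₗ Λ ∘ₗ (theta A eG).toLinearMap, LinearMap.ext fun x => ?_⟩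
    show theta A eH ((theta A eH).symm (Λ (theta A eG ((theta A eG).symm x)))) = Λ x
    rw [LinearEquiv.apply_symm_apply, LinearEquiv.apply_symm_apply]

end Groth.Agent.DualLib.SerreTop

namespace Groth.Agent.DualLib.SerreTop

attribute [local instance] Groth.Agent.SerreDualA.hhAddCommGroup Groth.Agent.SerreDualA.hhModule

variable {A : Type u} [CommRing A] [IsNoetherianRing A] [IsLocalRing A] {X : Scheme.{u}}
  [X.Over (Spec (CommRingCat.of A))] [IsProper (X ↘ Spec (CommRingCat.of A))]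
  [DCoh.HasRpush (X ↘ Spec (CommRingCat.of A))]

local notation "π" => X ↘ Spec (CommRingCat.of A)

variable {d : ℕ} (hd : topologicalKrullDim ((X ↘ Spec (CommRingCat.of A)).fiber (IsLocalRing.closedPoint A)) = d)

include hd

/-- Direct images of modules vanish above the dimension of the closed fibre. -/
theorem isZero_HD_Rpush_module (M : X.Modules) (hM : Coh.IsQCoh M) (i : ℤ) (hi : (d : ℤ) < i) :
    IsZero (DCoh.HD ((DCoh.Rpush π).obj (DCoh.inD X M)) i) := by
  haveI := hM
  haveI : IsNoetherianRing (CommRingCat.of A) := ‹IsNoetherianRing A›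
  haveI : CompactSpace X := QuasiCompact.compactSpace_of_compactSpace π
  haveI : QuasiSeparatedSpace X := quasiSeparatedSpace_of_quasiSeparated π
  have hfib : ∀ y, topologicalKrullDim (Scheme.Hom.fiber π y) ≤ (d : WithBot ℕ∞) := fun y =>
    (IsLocalRing.specializes_closedPoint y).mem_open (S0403.result π (d : WithBot ℕ∞))
      (show IsLocalRing.closedPoint A ∈ {s | topologicalKrullDim (Scheme.Hom.fiber π s) ≤ (d : WithBot ℕ∞)} from hd.le)
  obtain ⟨_, _⟩ := DCat.exists_commShift_Rpush π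
  obtain ⟨p, rfl⟩ := Int.eq_ofNat_of_zero_le (show 0 ≤ i by omega)
  haveI := H8Lim.subsingleton_HH_of_fibre_dim π d hfib M p (by omega)
  obtain ⟨e, -⟩ := RingBase.exists_eLin (R := A) (X := X)
  haveI : Subsingleton (RingBase.PS A ⟶ RingBase.gS A M p) := (e M p).toEquiv.subsingleton
  refine Dual22Lib.PerfGen.isZero_HD_of_pt_top (DQCoh.isQCohD_Rpush π _ (FlatBC14.isQCohD_inD M)) (p : ℤ) fun φ => ?_
  let w : ((DCoh.Rpush π).obj (DCoh.inD X M))⟦(p : ℤ)⟧ ≅ RingBase.gS A M p :=
    ((DCoh.Rpush π).commShiftIso (p : ℤ)).symm.app _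
  have h0 : ((shiftFunctorCompIsoId (DCoh.D (Spec (CommRingCat.of A))) (-(p : ℤ)) (p : ℤ) (by omega)).inv.app
      (RingBase.PS A) ≫ φ⟦(p : ℤ)⟧') ≫ w.hom = 0 :=
    Subsingleton.elim (α := RingBase.PS A ⟶ RingBase.gS A M p) _ _
  rw [Preadditive.IsIso.comp_right_eq_zero, Preadditive.IsIso.comp_left_eq_zero] at h0
  exact (shiftFunctor _ (p : ℤ)).map_eq_zero_iff.1 h0

/-- The right adjoint of `Rf_*` loses at most `d` degrees. -/
theorem isGE_rep {Q : DCoh.D (Spec (CommRingCat.of A))} {K : DCoh.D X} (n : ℤ) [Q.IsGE n]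
    (hK : Dual22Lib.RepLib.RepObj π Q K) : K.IsGE (n - d) := by
  haveI : IsNoetherianRing (CommRingCat.of A) := ‹IsNoetherianRing A›
  haveI : CompactSpace X := QuasiCompact.compactSpace_of_compactSpace π
  haveI : QuasiSeparatedSpace X := quasiSeparatedSpace_of_quasiSeparated π
  obtain ⟨hKq, ε, hε⟩ := hK.out
  obtain ⟨c', hc'⟩ := Dual22Lib.RepLib.exists_isGE n hK
  suffices h : ∀ m : ℕ, c' + m ≤ n - d → K.IsGE (c' + m) by
    rcases le_or_gt c' (n - d) with hle | hgt
    · haveI := h (n - d - c').toNat (by omega)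
      exact DerivedCategory.TStructure.t.isGE_of_ge K (n - d) (c' + (n - d - c').toNat) (by omega)
    · exact DerivedCategory.TStructure.t.isGE_of_ge K (n - d) c' hgt.le
  intro m
  induction m with
  | zero => intro _; simpa using hc'
  | succ m ih =>
    intro hm
    let c := c' + (m : ℤ)
    haveI hc : K.IsGE c := ih (by omega)
    let t := DerivedCategory.TStructure.t (C := X.Modules)
    let N := (t.truncLT (c + 1)).obj K
    haveI hNle : N.IsLE c := t.isLE_truncLT_obj _ _ _ (by omega)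
    have hT := t.triangleLTGE_distinguished (c + 1) K
    haveI hNge : N.IsGE c := by
      haveI hB : ((t.truncGE (c + 1)).obj K).IsGE (c + 1) := t.isGE_truncGE_obj ..
      haveI : (((t.truncGE (c + 1)).obj K)⟦(-1 : ℤ)⟧).IsGE (c + 2) := t.isGE_shift _ (c + 1) (-1) (c + 2) (by omega)
      exact t.isGE₂ _ (inv_rot_of_distTriang _ hT) c
        (t.isGE_of_ge (((t.truncGE (c + 1)).obj K)⟦(-1 : ℤ)⟧) c (c + 2) (by omega)) hc
    have hNq : DCoh.IsQCohD N := DQCoh.isQCohD_truncLT K hKq (c + 1)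
    haveI := Dual22Lib.RpushBound.isLE_Rpush_of_modules π d (fun M hM i hi => isZero_HD_Rpush_module hd M hM i hi)
      N c c hNq
    have h0 : (t.truncLTι (c + 1)).app K = 0 :=
      (hε N hNq).1 (DerivedCategory.TStructure.t.zero (X := (DCoh.Rpush π).obj N) _ (c + d) n (by omega) |>.trans
        (DerivedCategory.TStructure.t.zero (X := (DCoh.Rpush π).obj N) _ (c + d) n (by omega)).symm)
    refine (DerivedCategory.isGE_iff _ _).2 fun i hi => ?_
    rcases lt_or_ge i c with hlt | hge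
    · exact isZero_of_isGE K c i hlt
    · have hic : i = c := by push_cast at hi; omega
      rw [hic]
      haveI : Epi ((homologyFunctor X.Modules c).map ((t.truncLTι (c + 1)).app K)) :=
        (HomologySequence.epi_homologyMap_mor₁_iff _ hT c).2
          ((isZero_of_isGE ((t.truncGE (c + 1)).obj K) (c + 1) c (by omega)).eq_of_tgt _ _)
      rw [IsZero.iff_id_eq_zero, ← cancel_epi ((homologyFunctor X.Modules c).map ((t.truncLTι (c + 1)).app K))]
      simp [h0]

end Groth.Agent.DualLib.SerreTop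

namespace Groth.Agent.DualLib.SerreTop

variable (A : Type u) [CommRing A] [PreservesFiniteLimits (tilde.functor (CommRingCat.of A))]

/-- Derived tilde keeps lower bounds. -/
theorem isGE_tildeD (ω : Dual.D A) (n : ℤ) [ω.IsGE n] : ((DCoh.tildeD (CommRingCat.of A)).obj ω).IsGE n := by
  refine (isGE_iff _ _).2 fun i hi => ?_
  haveI := preservesFiniteColimits_tilde (CommRingCat.of A)
  obtain ⟨η⟩ := DQCoh.nonempty_homology_natIso (tilde.functor (CommRingCat.of A)) i
  exact ((tilde.functor (CommRingCat.of A)).map_isZero (isZero_of_isGE ω n i hi)).of_iso (η.app ω)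

end Groth.Agent.DualLib.SerreTop
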