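import Groth.Agent.DualLib.SchBidualMap
import Groth.Agent.DQCoh.RHomAffine
import Groth.Agent.DQCoh.PscNoeth
import Groth.Agent.DualLib.Biduality
import Groth.Agent.CAlgH3.DualUnbounded
import Groth.Agent.Props12.TildeFin
import Groth.Prelude.Def_DualSch

/-!
# Biduality for dualizing complexes on locally Noetherian schemes
-/

set_option autoImplicit false
set_option backward.isDefEq.respectTransparency false
set_option backward.defeqAttrib.useBackward true
set_option linter.style.haveILetI false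
set_option linter.unusedVariables false

universe u

open CategoryTheory CategoryTheory.Limits CategoryTheory.Pretriangulated AlgebraicGeometry HomologicalComplex

attribute [local instance] HasDerivedCategory.standard

namespace Groth.Agent.DualLib.SchBidual

open Groth.Agent.DCat Groth.Agent.DQCoh Groth.Agent.ModStalk Groth.Agent.Coherent

variable {X : Scheme.{u}}

/-- Isomorphisms are detected on open charts. -/
theorem isIso_of_charts {K L : DCoh.D X} (φ : K ⟶ L)
    (h : ∀ x : X, ∃ (W : Scheme.{u}) (k : W ⟶ X) (_ : IsOpenImmersion k),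
      x ∈ k.opensRange ∧ IsIso ((PerfLocal.rd k).map φ)) : IsIso φ := by
  obtain ⟨C, g, d, hT⟩ := distinguished_cocone_triangle φ
  refine (Triangle.isZero₃_iff_isIso₁ _ hT).1 (SuppOpen.isZero_of_hd C fun i => isZero_of_stalks fun x => ?_)
  obtain ⟨W, k, _, ⟨y, rfl⟩, hk⟩ := h x
  have hC : IsZero ((PerfLocal.rd k).obj C) :=
    (Triangle.isZero₃_iff_isIso₁ _ ((PerfLocal.rd k).map_distinguished _ hT)).2 hk
  have hZ : IsZero ((Scheme.Modules.restrictFunctor k).obj (DCoh.HD C i)) :=
    ((DerivedCategory.homologyFunctor _ i).map_isZero hC).of_iso (SuppOpen.hdMapIso _ C i).symm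
  have hsub : Subsingleton (((Scheme.Modules.restrictFunctor k).obj (DCoh.HD C i)).presheaf.stalk y) :=
    SuppOpen.subsingleton_of_isZero_stalkFunctor _ _ ((DerSch.stalkFunctor _ _).map_isZero hZ)
  exact @SuppOpen.isZero_stalkFunctor _ _ (k y)
    (SuppOpen.subsingleton_stalk_of_restrict k (DCoh.HD C i) y hsub)

section Chart

variable {A : Type u} [CommRing A] [IsNoetherianRing A] [PreservesFiniteLimits (tilde.functor (CommRingCat.of A))]

/-- On an affine chart coherent objects are tildes of objects with finite cohomology. -/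
theorem exists_model (k : Spec (CommRingCat.of A) ⟶ X) [IsOpenImmersion k] (C : DCoh.D X)
    (hC : ∀ i, Coh.IsCoh (DCoh.HD C i)) :
    ∃ c : Dual.D A, (∀ i, Module.Finite A (Dual.HD A c i)) ∧
      Nonempty ((PerfLocal.rd k).obj C ≅ (DCoh.tildeD (CommRingCat.of A)).obj c) := by
  have hcoh : ∀ i, Coh.IsCoh (DCoh.HD ((PerfLocal.rd k).obj C) i) := fun i =>
    Coherent.isCoh_iso (SuppOpen.hdMapIso (Scheme.Modules.restrictFunctor k) C i).symm
      (AmpleLib.isCoh_restrict k _ (hC i))
  obtain ⟨-, -, hQ⟩ := tildeD_main (CommRingCat.of A)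
  obtain ⟨c, ⟨e⟩⟩ := (hQ _).1 fun i => (hcoh i).1
  refine ⟨c, fun i => ?_, ⟨e.symm⟩⟩
  haveI : (tilde.functor (CommRingCat.of A)).Additive := RHomTilde.additive_tilde_functor (R := CommRingCat.of A)
  haveI : PreservesFiniteColimits (tilde.functor (CommRingCat.of A)) :=
    haveI := (tilde.adjunction (R := CommRingCat.of A)).leftAdjoint_preservesColimits
    inferInstance
  obtain ⟨η⟩ := nonempty_homology_natIso (tilde.functor (CommRingCat.of A)) i
  exact (Props12.isFT_tilde_iff (R := CommRingCat.of A) ((DerivedCategory.homologyFunctor (ModuleCat.{u} A) i).obj c)).1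
    (Coherent.isCoh_iso (((DerivedCategory.homologyFunctor _ i).mapIso e).symm ≪≫ η.app c) (hcoh i)).2

/-- `RHom(C, K)` on an affine chart. -/
theorem nonempty_chart [DTen.HasLTen A] [DTen.HasRHom A] (k : Spec (CommRingCat.of A) ⟶ X) [IsOpenImmersion k]
    {K : DCoh.D X} {ω : Dual.D A} (hω : Dual.IsDualizing A ω)
    (eω : (PerfLocal.rd k).obj K ≅ (DCoh.tildeD (CommRingCat.of A)).obj ω)
    (C : CochainComplex X.Modules ℤ) [DCoh.HasLTensorCx C] [DCoh.HasRSheafHom C]
    (c : Dual.D A) (hc : ∀ i, Module.Finite A (Dual.HD A c i))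
    (eC : (PerfLocal.rd k).obj (DerivedCategory.Q.obj C) ≅ (DCoh.tildeD (CommRingCat.of A)).obj c) :
    Nonempty ((PerfLocal.rd k).obj ((DCoh.RSheafHom C).obj K) ≅
      (DCoh.tildeD (CommRingCat.of A)).obj ((DTen.RHomR A c).obj ω)) := by
  let C' := ((Scheme.Modules.restrictFunctor k).mapHomologicalComplex (ComplexShape.up ℤ)).obj C
  haveI := LTensorSheaf.hasLTensorCx C'
  haveI := RHomExist.hasRSheafHom C'
  obtain ⟨r⟩ := ShriekTensor.nonempty_restrict_RHom_of_eq k C C' rfl (PerfLocal.rd k) rfl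
  obtain ⟨a⟩ := RHomAffine.nonempty_RH_tilde A c hc ω
    (let ⟨a, b, hab⟩ := exists_injAmplitude hω; ⟨a, b, hab⟩) C'
    (((Scheme.Modules.restrictFunctor k).mapDerivedCategoryFactors.app C).symm ≪≫ eC)
  exact ⟨r.app K ≪≫ (DCoh.RSheafHom C').mapIso eω ≪≫ a⟩

/-- A split monomorphism between objects with isomorphic finite cohomology is an isomorphism. -/
theorem isIso_of_split {l : Dual.D A} (hl : ∀ i, Module.Finite A (Dual.HD A l i)) (f r : l ⟶ l) (h : f ≫ r = 𝟙 l) :
    IsIso f := by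
  refine (DerivedCategory.isIso_iff (ModuleCat.{u} A) f).2 fun i => ?_
  let H := DerivedCategory.homologyFunctor (ModuleCat.{u} A) i
  haveI : Module.Finite A (H.obj l) := hl i
  have hh : H.map f ≫ H.map r = 𝟙 _ := by rw [← Functor.map_comp, h, CategoryTheory.Functor.map_id]
  have hinv : ∀ v, (H.map r).hom ((H.map f).hom v) = v := fun v => ConcreteCategory.congr_hom hh v
  have hr : Function.Injective (H.map r).hom :=
    OrzechProperty.injective_of_surjective_endomorphism (H.map r).hom fun v => ⟨_, hinv v⟩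
  refine ⟨H.map r, hh, ?_⟩
  exact ModuleCat.hom_ext (LinearMap.ext fun v => hr (hinv _))

end Chart

variable [IsLocallyNoetherian X] [∀ (U : Scheme.{u}) (j : U ⟶ X) [IsOpenImmersion j],
  PreservesFiniteLimits (Scheme.Modules.restrictFunctor j)] [∀ (R : CommRingCat.{u}), PreservesFiniteLimits (tilde.functor R)]

/-- Duals of coherent objects are coherent. -/
theorem isCohD_dual {K : DCoh.D X} (hK : Dual2.IsDualizingSch X K) (L : CochainComplex X.Modules ℤ)
    (hL : ∀ i, Coh.IsCoh (DCoh.HD (DCoh.toD X L) i)) [DCoh.HasLTensorCx L] [DCoh.HasRSheafHom L] (i : ℤ) :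
    Coh.IsCoh (DCoh.HD ((DCoh.RSheafHom L).obj K) i) := by
  choose R hR k hk hx using fun x : X => exists_noetherian_chart x
  have key : ∀ x, Coh.IsCoh ((Scheme.Modules.restrictFunctor (k x)).obj (DCoh.HD ((DCoh.RSheafHom L).obj K) i)) := by
    intro x
    haveI := hasLTen (R x)
    haveI := hasLTen₃ (R x)
    haveI := DCat.hasRHom (A := R x)
    haveI := isSymMonoidal (A := R x)
    haveI : (tilde.functor (CommRingCat.of (R x))).Additive :=
      RHomTilde.additive_tilde_functor (R := CommRingCat.of (R x))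
    haveI : PreservesFiniteColimits (tilde.functor (CommRingCat.of (R x))) :=
      haveI := (tilde.adjunction (R := CommRingCat.of (R x))).leftAdjoint_preservesColimits
      inferInstance
    obtain ⟨ω, hω, ⟨eω⟩⟩ := hK (R x) (k x)
    obtain ⟨l, hl, ⟨el⟩⟩ := exists_model (A := R x) (k x) (DCoh.toD X L) hL
    obtain ⟨a⟩ := nonempty_chart (A := R x) (k x) hω eω L l hl el
    obtain ⟨η⟩ := nonempty_homology_natIso (tilde.functor (CommRingCat.of (R x))) i
    haveI := CAlgH3.DualUnbounded.finite_dual hω l hl i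
    exact Coherent.isCoh_iso ((SuppOpen.hdMapIso _ _ i).symm ≪≫ (DerivedCategory.homologyFunctor _ i).mapIso a ≪≫
      η.app _).symm (AlgzLib.isCoh_tilde (A := R x) ((DerivedCategory.homologyFunctor (ModuleCat.{u} (R x)) i).obj _))
  exact ⟨isQCoh_of_openImmersion_cover _ k (fun x => ⟨x, hx x⟩) fun x => (key x).1,
    isFT_of_local _ fun x => ⟨_, k x, inferInstance, hx x, (key x).2⟩⟩

/-- **Biduality.** -/
theorem nonempty_bidual {K : DCoh.D X} (hK : Dual2.IsDualizingSch X K) (L : CochainComplex X.Modules ℤ)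
    (hL : ∀ i, Coh.IsCoh (DCoh.HD (DCoh.toD X L) i)) [DCoh.HasLTensorCx L] [DCoh.HasRSheafHom L]
    (M : CochainComplex X.Modules ℤ) [DCoh.HasLTensorCx M] [DCoh.HasRSheafHom M]
    (eM : DCoh.toD X M ≅ (DCoh.RSheafHom L).obj K) : Nonempty ((DCoh.RSheafHom M).obj K ≅ DCoh.toD X L) := by
  obtain ⟨P, hP, ⟨eP⟩⟩ := PullPerf.exists_kflat_rep (DCoh.toD X L)
  haveI := LTensorSheaf.hasLTensorCx P
  haveI := RHomExist.hasRSheafHom P
  obtain ⟨γ⟩ := TensorCongr.nonempty_congr_rhom (E := L) (E' := P) eP.symm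
  obtain ⟨δ⟩ := TensorCongr.nonempty_congr_rhom (E := M) (E' := M) (Iso.refl _)
  have hP' : ∀ i, Coh.IsCoh (DCoh.HD (DCoh.toD X P) i) := fun i =>
    Coherent.isCoh_iso ((DerivedCategory.homologyFunctor _ i).mapIso eP).symm (hL i)
  have hM : ∀ i, Coh.IsCoh (DCoh.HD (DCoh.toD X M) i) := fun i =>
    Coherent.isCoh_iso ((DerivedCategory.homologyFunctor _ i).mapIso eM).symm (isCohD_dual hK L hL i)
  obtain ⟨η, hη⟩ := exists_map K hP M (eM ≪≫ γ.app K)
  have : IsIso η := by
    refine isIso_of_charts η fun x => ?_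
    obtain ⟨R, _, k, _, hx⟩ := exists_noetherian_chart x
    refine ⟨_, k, inferInstance, hx, ?_⟩
    haveI := hasLTen R
    haveI := hasLTen₃ R
    haveI := DCat.hasRHom (A := R)
    haveI := isSymMonoidal (A := R)
    haveI : (tilde.functor (CommRingCat.of R)).Additive := RHomTilde.additive_tilde_functor (R := CommRingCat.of R)
    obtain ⟨hF, hFF, -⟩ := tildeD_main (CommRingCat.of R)
    obtain ⟨ω, hω, ⟨eω⟩⟩ := hK R k
    let T := DCoh.tildeD (CommRingCat.of R)
    obtain ⟨l, hl, ⟨el⟩⟩ := exists_model (A := R) k (DCoh.toD X P) hP'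
    obtain ⟨m, hm, ⟨em⟩⟩ := exists_model (A := R) k (DCoh.toD X M) hM
    -- the dual of the source on the chart
    let d := (DTen.RHomR R l).obj ω
    have hd : ∀ i, Module.Finite R (Dual.HD R d i) := fun i => CAlgH3.DualUnbounded.finite_dual hω l hl i
    obtain ⟨aP⟩ := nonempty_chart (A := R) k hω eω P l hl el
    obtain ⟨aM⟩ := nonempty_chart (A := R) k hω eω M m hm em
    obtain ⟨b⟩ := CAlgH3.DualUnbounded.nonempty_biduality hω l hl
    -- `m ≅ d`
    let md : m ≅ d := (Functor.FullyFaithful.ofFullyFaithful T).preimageIso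
      (em.symm ≪≫ (PerfLocal.rd k).mapIso (eM ≪≫ γ.app K) ≪≫ aP)
    let u : (PerfLocal.rd k).obj ((RHomNat.RH M).obj K) ≅ T.obj l :=
      aM ≪≫ T.mapIso ((DualLib.rhomCongr md ω).symm ≪≫ b)
    -- the extension by zero of a model of `d`
    obtain ⟨N, hN, ⟨eN⟩⟩ := PullPerf.exists_kflat_rep (T.obj d)
    let Z := (ShriekTot.shriekC k).obj N
    haveI : IsIso ((JShriek.shriekD k).unit.app (DerivedCategory.Q.obj N)) :=
      Dual22Lib.TenLocal.isIso_unit_shriekD k _
    let eZ : (PerfLocal.rd k).obj (DerivedCategory.Q.obj Z) ≅ T.obj d :=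
      (PerfLocal.rd k).mapIso ((JShriek.shriek k).mapDerivedCategoryFactors.app N).symm ≪≫
        (asIso ((JShriek.shriekD k).unit.app (DerivedCategory.Q.obj N))).symm ≪≫ eN
    haveI := LTensorSheaf.hasLTensorCx Z
    haveI := RHomExist.hasRSheafHom Z
    obtain ⟨aZ⟩ := nonempty_chart (A := R) k hω eω Z d hd eZ
    let z : (PerfLocal.rd k).obj (DerivedCategory.Q.obj P) ≅ (PerfLocal.rd k).obj ((RHomNat.RH Z).obj K) :=
      el ≪≫ T.mapIso b.symm ≪≫ aZ.symm
    obtain ⟨f, hf⟩ := exists_lift k hN K (DerivedCategory.Q.obj P) z.hom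
    obtain ⟨r, hr⟩ := hη Z f
    let φ := (Functor.FullyFaithful.ofFullyFaithful T)
    let F : T.obj l ⟶ T.obj l := el.inv ≫ (PerfLocal.rd k).map η ≫ u.hom
    let G : T.obj l ⟶ T.obj l := u.inv ≫ (PerfLocal.rd k).map r ≫ z.inv ≫ el.hom
    have hFG : F ≫ G = 𝟙 _ := by
      simp only [F, G, Category.assoc, Iso.hom_inv_id_assoc]
      rw [← Functor.map_comp_assoc, hr, hf, Iso.hom_inv_id_assoc, Iso.inv_hom_id]
    haveI : IsIso (φ.preimage F) := isIso_of_split hl _ (φ.preimage G) (φ.map_injective (by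
      rw [Functor.map_comp, φ.map_preimage, φ.map_preimage, hFG, CategoryTheory.Functor.map_id]))
    haveI : IsIso F := φ.map_preimage F ▸ inferInstance
    have he : (PerfLocal.rd k).map η = el.hom ≫ F ≫ u.inv := by simp [F]
    rw [he]
    infer_instance
  exact ⟨δ.app K ≪≫ (asIso η).symm ≪≫ eP⟩

end Groth.Agent.DualLib.SchBidual
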