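import Groth.Agent.DualLib.Twist
import Groth.Agent.DualLib.ResidueHom
import Groth.Agent.DualLib.LocGlobal
import Mathlib.RingTheory.LocalProperties.Projective

/-! Dualizing complexes are unique up to a twist. -/

set_option autoImplicit false
set_option backward.isDefEq.respectTransparency false
set_option backward.defeqAttrib.useBackward true
set_option linter.style.haveILetI false

universe u

open CategoryTheory CategoryTheory.Limits CategoryTheory.Pretriangulated DerivedCategory

attribute [local instance] HasDerivedCategory.standard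

namespace Groth.Agent.DualLib.Unique

open Groth.Agent Groth.Agent.DualLib

variable {A : Type u} [CommRing A]

/-- A finite module which is locally freely generated by one element is invertible. -/
theorem invertible_of_local_gen [IsNoetherianRing A] (P : Type u) [AddCommGroup P] [Module A P] [Module.Finite A P]
    (h : ∀ (m : Ideal A) [m.IsMaximal], ∃ x : P, (∀ y : P, ∃ s, s ∉ m ∧ ∃ a : A, s • y = a • x) ∧
      ∀ a : A, a • x = 0 → ∃ s, s ∉ m ∧ s * a = 0) : Module.Invertible A P := by
  classical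
  haveI : Module.FinitePresentation A P := Module.finitePresentation_of_finite A P
  haveI : Module.Projective A P := Module.projective_of_localization_maximal (R := A) (M := P) fun m hm => by
    haveI := hm
    obtain ⟨x, hx, hx0⟩ := h m
    let ψ := LinearMap.toSpanSingleton (Localization m.primeCompl) (LocalizedModule m.primeCompl P)
      (LocalizedModule.mkLinearMap m.primeCompl P x)
    have hψ : ∀ (a : A) (t : m.primeCompl), ψ (Localization.mk a t) = LocalizedModule.mk (a • x) t := fun a t => by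
      show Localization.mk a t • (LocalizedModule.mk x 1 : LocalizedModule m.primeCompl P) = _
      rw [LocalizedModule.mk_smul_mk, mul_one]
    have hb : Function.Bijective ψ := by
      refine ⟨(injective_iff_map_eq_zero ψ).2 fun c hc => ?_, fun z => ?_⟩
      · induction c using Localization.induction_on with
        | _ q =>
          obtain ⟨a, t⟩ := q
          rw [hψ, ← LocalizedModule.zero_mk t, LocalizedModule.mk_eq] at hc
          obtain ⟨v, hv⟩ := hc
          rw [smul_zero, smul_zero] at hv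
          obtain ⟨s, hs, hs0⟩ := hx0 ((v : A) * ((t : A) * a)) (by rw [mul_smul, mul_smul]; exact hv)
          rw [Localization.mk_eq_mk', IsLocalization.mk'_eq_zero_iff]
          refine ⟨⟨s, hs⟩ * (v * t), ?_⟩
          show s * ((v : A) * t) * a = 0
          rw [← hs0]; ring
      · induction z using LocalizedModule.induction_on with
        | _ y t =>
          obtain ⟨s, hs, a, ha⟩ := hx y
          refine ⟨Localization.mk a (⟨s, hs⟩ * t), ?_⟩
          rw [hψ, LocalizedModule.mk_eq]
          refine ⟨1, ?_⟩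
          simp only [one_smul, Submonoid.smul_def, Submonoid.coe_mul]
          rw [← ha, smul_smul, mul_comm]
    haveI : Module.Free (Localization m.primeCompl) (LocalizedModule m.primeCompl P) :=
      Module.Free.of_equiv (LinearEquiv.ofBijective ψ hb)
    exact Module.Projective.of_free
  have key : ∀ (φ : Module.Dual A P) (x y : P), φ x • y = φ y • x := by
    intro φ x y
    refine sub_eq_zero.1 ((Submodule.mem_bot A).1
      (mem_of_forall_maximal (⊥ : Submodule A P) (φ x • y - φ y • x) fun m hm => ?_))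
    haveI := hm
    obtain ⟨g, hg, -⟩ := h m
    obtain ⟨s, hs, b, hb⟩ := hg x
    obtain ⟨t, ht, c, hc⟩ := hg y
    refine ⟨s * t, fun hst => (hm.isPrime.mem_or_mem hst).elim hs ht, (Submodule.mem_bot A).2 ?_⟩
    have e1 : φ x * s = φ g * b := by
      have := congrArg φ hb
      rw [map_smul, map_smul, smul_eq_mul, smul_eq_mul] at this
      linear_combination this
    have e2 : φ y * t = φ g * c := by
      have := congrArg φ hc
      rw [map_smul, map_smul, smul_eq_mul, smul_eq_mul] at this
      linear_combination this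
    rw [smul_sub, smul_smul, smul_smul, show s * t * φ x = φ g * b * t by linear_combination t * e1,
      show s * t * φ y = φ g * c * s by linear_combination s * e2, mul_smul, mul_smul _ s, hb, hc, smul_smul,
      smul_smul, sub_eq_zero]
    congr 1
    ring
  obtain ⟨n, p, φ, hpφ⟩ := Twist.exists_dualBasis (A := A) P
  have hsum : ∀ x : P, ∑ j, (φ j).hom x • (p j).hom (1 : A) = x := fun x => by
    have := congrArg (fun f : ModuleCat.of A P ⟶ ModuleCat.of A P => f.hom x) hpφ
    simp only [ModuleCat.hom_sum, LinearMap.sum_apply] at this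
    refine Eq.trans (Finset.sum_congr rfl fun j _ => ?_) this
    show _ = (p j).hom ((φ j).hom x)
    rw [← map_smul, smul_eq_mul, mul_one]
  have hone : (∑ j, (φ j).hom ((p j).hom (1 : A))) = 1 := by
    refine sub_eq_zero.1 ((Submodule.mem_bot A).1 (mem_of_forall_maximal (⊥ : Submodule A A) _ fun m hm => ?_))
    haveI := hm
    obtain ⟨g, -, hg⟩ := h m
    obtain ⟨s, hs, hs0⟩ := hg ((∑ j, (φ j).hom ((p j).hom (1 : A))) - 1) (by
      rw [sub_smul, one_smul, Finset.sum_smul, sub_eq_zero]
      refine Eq.trans (Finset.sum_congr rfl fun j _ => ?_) (hsum g)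
      exact key (φ j).hom _ _)
    exact ⟨s, hs, (Submodule.mem_bot A).2 hs0⟩
  refine ⟨⟨(injective_iff_map_eq_zero _).2 fun z hz => ?_, fun a => ?_⟩⟩
  · obtain ⟨S, rfl⟩ := TensorProduct.exists_finset z
    simp only [map_sum, contractLeft_apply] at hz
    calc ∑ j ∈ S, j.1 ⊗ₜ[A] j.2
        = ∑ j ∈ S, (∑ i, (φ i).hom ((p i).hom (1 : A))) • (j.1 ⊗ₜ[A] j.2) := by simp only [hone, one_smul]
      _ = ∑ i, (∑ j ∈ S, (φ i).hom j.2 • j.1) ⊗ₜ[A] (p i).hom (1 : A) := by
        simp only [Finset.sum_smul, TensorProduct.sum_tmul]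
        rw [Finset.sum_comm]
        refine Finset.sum_congr rfl fun i _ => Finset.sum_congr rfl fun j _ => ?_
        rw [← TensorProduct.tmul_smul, key (φ i).hom _ j.2, TensorProduct.tmul_smul, TensorProduct.smul_tmul']
      _ = 0 := by
        refine Finset.sum_eq_zero fun i _ => ?_
        have h0 : ∑ j ∈ S, (φ i).hom j.2 • j.1 = 0 := by
          ext y
          simp only [LinearMap.sum_apply, LinearMap.smul_apply, smul_eq_mul, LinearMap.zero_apply]
          have : ∀ j ∈ S, (φ i).hom j.2 * j.1 y = (φ i).hom y * j.1 j.2 := fun j _ => by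
            have h1 := congrArg j.1 (key (φ i).hom j.2 y)
            simpa using h1
          rw [Finset.sum_congr rfl this, ← Finset.mul_sum, hz, mul_zero]
        rw [h0, TensorProduct.zero_tmul]
  · refine ⟨∑ i, (a • (φ i).hom) ⊗ₜ[A] (p i).hom (1 : A), ?_⟩
    simp only [map_sum, contractLeft_apply, LinearMap.smul_apply, smul_eq_mul, ← Finset.mul_sum, hone, mul_one]

lemma mul_notMem_of_prime {p : Ideal A} [hp : p.IsPrime] {x y : A} (hx : x ∉ p) (hy : y ∉ p) : x * y ∉ p :=
  fun h => (hp.mem_or_mem h).elim hx hy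

section Local

variable [IsNoetherianRing A] (S : Submonoid A)

/-- Localization of the derived category. -/
noncomputable abbrev G : Dual.D A ⥤ Dual.D (Localization S) := extD (algebraMap A (Localization S))

variable {X Y : Dual.D A}

omit [IsNoetherianRing A] in
lemma homEquiv_map (θ : X ⟶ Y) :
    (adjD (algebraMap A (Localization S))).homEquiv X ((G S).obj Y) ((G S).map θ) =
      θ ≫ (adjD (algebraMap A (Localization S))).unit.app Y := by
  rw [Adjunction.homEquiv_unit]
  exact ((adjD (algebraMap A (Localization S))).unit.naturality θ).symm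

omit [IsNoetherianRing A] in
lemma homEquiv_smul {Z : Dual.D (Localization S)} (a : A) (ψ : (G S).obj X ⟶ Z) :
    (adjD (algebraMap A (Localization S))).homEquiv X Z (algebraMap A (Localization S) a • ψ) =
      a • (adjD (algebraMap A (Localization S))).homEquiv X Z ψ := by
  rw [Adjunction.homEquiv_unit, Adjunction.homEquiv_unit, restrictD_map_smul, Linear.comp_smul]

omit [IsNoetherianRing A] in
lemma map_smul' (a : A) (θ : X ⟶ Y) : (G S).map (a • θ) = algebraMap A (Localization S) a • (G S).map θ := by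
  apply ((adjD (algebraMap A (Localization S))).homEquiv X ((G S).obj Y)).injective
  rw [homEquiv_map, homEquiv_smul, homEquiv_map, Linear.smul_comp]

/-- Maps between localizations are fractions. -/
theorem exists_fraction_map (hX : IsSmall X) {a : ℤ} (hY : Y.IsGE a) (ψ : (G S).obj X ⟶ (G S).obj Y) :
    ∃ s ∈ S, ∃ θ : X ⟶ Y, (G S).map θ = algebraMap A (Localization S) s • ψ := by
  let ad := adjD (algebraMap A (Localization S))
  let z := shiftFunctorZero (Dual.D A) ℤ
  obtain ⟨s, hs, θ, hθ⟩ := exists_fraction (B := Localization S) S hX hY 0 (ad.homEquiv _ _ ψ ≫ z.inv.app _)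
  refine ⟨s, hs, θ ≫ z.hom.app Y, (ad.homEquiv _ _).injective ?_⟩
  rw [homEquiv_map, homEquiv_smul, Category.assoc]
  have h := congrArg (· ≫ z.hom.app _) hθ
  simp only [Category.assoc, Linear.smul_comp, Iso.inv_hom_id_app] at h
  rw [show θ ≫ z.hom.app Y ≫ (adjD (algebraMap A (Localization S))).unit.app Y =
      θ ≫ (adjD (algebraMap A (Localization S))).unit.app Y⟦(0 : ℤ)⟧' ≫ z.hom.app _ from
    congrArg (θ ≫ ·) (z.hom.naturality _).symm]
  refine h.trans ?_
  erw [Category.comp_id]

/-- Maps killed by localization are torsion. -/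
theorem exists_kill_map (hX : IsSmall X) {a : ℤ} (hY : Y.IsGE a) {θ : X ⟶ Y} (h : (G S).map θ = 0) :
    ∃ s ∈ S, s • θ = 0 := by
  let ad := adjD (algebraMap A (Localization S))
  let z := shiftFunctorZero (Dual.D A) ℤ
  have h0 : θ ≫ ad.unit.app Y = 0 := by
    rw [← homEquiv_map, h, Adjunction.homEquiv_unit, Functor.map_zero, comp_zero]
  obtain ⟨s, hs, hs0⟩ := exists_kill (B := Localization S) S hX hY 0 (θ ≫ z.inv.app Y) (by
    rw [Category.assoc, show z.inv.app Y ≫ ad.unit.app Y⟦(0 : ℤ)⟧' = ad.unit.app Y ≫ z.inv.app _ from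
      (z.inv.naturality _).symm, ← Category.assoc, h0, zero_comp])
  refine ⟨s, hs, ?_⟩
  rw [← cancel_mono (z.inv.app Y), Linear.smul_comp, zero_comp]
  exact hs0

end Local

variable [IsNoetherianRing A] {ω ω' : Dual.D A}

lemma isDualizing_G (p : Ideal A) [p.IsPrime] (hω : Dual.IsDualizing A ω) :
    Dual.IsDualizing (Localization.AtPrime p) ((G p.primeCompl).obj ω) :=
  isDualizing_extD p.primeCompl hω

lemma not_isZero {B : Type u} [CommRing B] [Nontrivial B] {W : Dual.D B} (hW : Dual.IsDualizing B W) : ¬ IsZero W :=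
  fun h => one_ne_zero (hW.toEnd_bijective.injective (a₁ := (1 : B)) (a₂ := 0) (h.eq_of_src _ _))

/-- At every prime exactly one degree of `Hom(ω, ω'⟦i⟧)` survives. -/
theorem exists_degree_at (hω : Dual.IsDualizing A ω) (hω' : Dual.IsDualizing A ω') (p : Ideal A) [p.IsPrime] :
    ∃ i : ℤ, Nonempty ((G p.primeCompl).obj (ω'⟦i⟧) ≅ (G p.primeCompl).obj ω) ∧
      ∀ j : ℤ, (∀ θ : ω ⟶ ω'⟦j⟧, ∃ s ∈ p.primeCompl, s • θ = 0) ↔ j ≠ i := by
  obtain ⟨a, b, hge, -⟩ := exists_bound hω'
  have hω₁ := isDualizing_G p hω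
  obtain ⟨n, ⟨e⟩⟩ := exists_iso_shift hω₁ (isDualizing_G p hω')
  let W := (G p.primeCompl).obj ω
  let ej : ∀ j : ℤ, (G p.primeCompl).obj (ω'⟦j⟧) ≅ W⟦n + j⟧ := fun j =>
    ((G p.primeCompl).commShiftIso j).app ω' ≪≫ (shiftFunctor _ j).mapIso e ≪≫
      ((shiftFunctorAdd' _ n j _ rfl).app W).symm
  let e0 : (G p.primeCompl).obj (ω'⟦-n⟧) ≅ W := ej (-n) ≪≫ eqToIso (by rw [add_neg_cancel]) ≪≫
    (shiftFunctorZero _ ℤ).app W
  refine ⟨-n, ⟨e0⟩, fun j => ?_⟩
  rw [← subsingleton_iff_torsion (B := Localization.AtPrime p) p.primeCompl (isSmall_dualizing hω) hge j]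
  refine (Equiv.subsingleton_congr ((Iso.refl W).homCongr
    ((((G p.primeCompl).commShiftIso j).app ω').symm ≪≫ ej j))).trans ?_
  constructor
  · rintro h rfl
    haveI := h
    haveI : Subsingleton (W ⟶ W) := ((Iso.refl W).homCongr ((ej (-n)).symm ≪≫ e0)).symm.injective.subsingleton
    exact not_isZero hω₁ ((IsZero.iff_id_eq_zero W).2 (Subsingleton.elim _ _))
  · intro h
    exact hω₁.ext_self_subsingleton (n + j) (by omega)

/-- Connectedness makes the degree constant. -/
theorem exists_degree_global [ConnectedSpace (PrimeSpectrum A)] (hω : Dual.IsDualizing A ω)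
    (hω' : Dual.IsDualizing A ω') : ∃ m : ℤ, ∀ p : PrimeSpectrum A,
      Nonempty ((G p.asIdeal.primeCompl).obj (ω'⟦m⟧) ≅ (G p.asIdeal.primeCompl).obj ω) := by
  choose d hd hd' using fun p : PrimeSpectrum A => exists_degree_at hω hω' p.asIdeal
  obtain ⟨a, b, hinj⟩ := exists_injAmplitude hω'
  obtain ⟨c, e, hge, hle, hfin⟩ := isSmall_dualizing hω
  haveI : ω.IsGE c := hge
  haveI : ω.IsLE e := hle
  have hF : ∀ i : ℤ, Module.Finite A (ω ⟶ ω'⟦i⟧) := fun i =>
    finite_hom_bounded ω' (fun M _ _ _ j => finite hω' M j) (e + 1 - c).toNat c ω hge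
      ((ts A).isLE_of_le ω e _ (by omega)) hfin i
  have hrange : ∀ p, a - e ≤ d p ∧ d p ≤ b - c := fun p => by
    constructor <;> by_contra hlt
    · haveI := subsingleton_hom_of_isLE hinj ω e (d p) (by omega)
      exact (hd' p (d p)).1 (fun θ => ⟨1, Submonoid.one_mem _, Subsingleton.elim _ _⟩) rfl
    · haveI := subsingleton_hom_of_isGE hinj ω c (d p) (by omega)
      exact (hd' p (d p)).1 (fun θ => ⟨1, Submonoid.one_mem _, Subsingleton.elim _ _⟩) rfl
  have hne : ∀ i : ℤ, IsOpen {p | d p ≠ i} := fun i => by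
    rw [isOpen_iff_forall_mem_open]
    intro p hp
    haveI := hF i
    classical
    obtain ⟨t, ht⟩ := (Module.Finite.fg_top : (⊤ : Submodule A (ω ⟶ ω'⟦i⟧)).FG)
    choose σ hσ hσ' using (hd' p i).2 (Ne.symm hp)
    let s := t.prod σ
    have hs : ∀ θ : ω ⟶ ω'⟦i⟧, s • θ = 0 := fun θ => by
      have hm : θ ∈ Submodule.span A (t : Set (ω ⟶ ω'⟦i⟧)) := by rw [ht]; trivial
      induction hm using Submodule.span_induction with
      | mem x hx =>
        show t.prod σ • x = 0
        rw [← Finset.prod_erase_mul t σ hx, mul_smul, hσ', smul_zero]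
      | zero => exact smul_zero _
      | add x y _ _ hx hy => rw [smul_add, hx, hy, add_zero]
      | smul c x _ hx => rw [smul_comm, hx, smul_zero]
    exact ⟨PrimeSpectrum.basicOpen s,
      fun q hq => ((hd' q i).1 fun θ => ⟨s, hq, hs θ⟩).symm,
      (PrimeSpectrum.basicOpen s).2, Submonoid.prod_mem _ fun θ _ => hσ θ⟩
  obtain ⟨p₀⟩ := (inferInstance : Nonempty (PrimeSpectrum A))
  refine ⟨d p₀, fun p => ?_⟩
  have hclopen : IsClopen {p | d p = d p₀} := by
    refine ⟨⟨hne _⟩, ?_⟩
    have : {p | d p = d p₀} = ⋂ i ∈ (Finset.Icc (a - e) (b - c)).erase (d p₀), {p | d p ≠ i} := by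
      ext q
      simp only [Set.mem_setOf_eq, Set.mem_iInter, Finset.mem_erase, Finset.mem_Icc]
      exact ⟨fun h i hi => h ▸ Ne.symm hi.1, fun h => by
        by_contra hc
        exact h (d q) ⟨hc, hrange q⟩ rfl⟩
    rw [this]
    exact isOpen_biInter_finset fun i _ => hne i
  rcases isClopen_iff.1 hclopen with h | h
  · exact absurd (show p₀ ∈ {p | d p = d p₀} from rfl) (by rw [h]; exact Set.notMem_empty p₀)
  · have : p ∈ {p | d p = d p₀} := by rw [h]; trivial
    exact this ▸ hd p

/-- Dualizing complexes on a connected spectrum differ by an invertible twist and a shift. -/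
theorem exists_twist [ConnectedSpace (PrimeSpectrum A)] (K : DRing.Cx A) (e : DerivedCategory.Q.obj K ≅ ω)
    (hω : Dual.IsDualizing A ω) (hω' : Dual.IsDualizing A ω') :
    ∃ (P : ModuleCat.{u} A) (_ : Module.Invertible A P) (n : ℤ), Nonempty (ω' ≅ (Twist.T K P)⟦n⟧) := by
  obtain ⟨m, hm⟩ := exists_degree_global hω hω'
  let Y := ω'⟦m⟧
  have hY : Dual.IsDualizing A Y := isDualizing_shift hω' m
  obtain ⟨a, b, hge, hle⟩ := exists_bound hY
  obtain ⟨c, d, hgeω, hleω, hfinω⟩ := isSmall_dualizing hω
  let P := ω ⟶ Y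
  let z := (shiftFunctorZero (Dual.D A) ℤ).app Y
  haveI : Module.Finite A P := by
    haveI := finite_hom_bounded Y (fun M _ _ _ j => finite hY M j) (d + 1 - c).toNat c ω hgeω
      (haveI := hleω; (ts A).isLE_of_le ω d _ (by omega)) hfinω 0
    exact Module.Finite.equiv (LinearEquiv.ofBijective
      (Linear.rightComp A ω z.hom) (z.homToEquiv).bijective)
  have hgen : ∀ (p : Ideal A) [p.IsMaximal], ∃ x : P, (∀ y : P, ∃ s, s ∉ p ∧ ∃ a : A, s • y = a • x) ∧
      (∀ a : A, a • x = 0 → ∃ s, s ∉ p ∧ s * a = 0) ∧ IsIso ((G p.primeCompl).map x) := by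
    intro p hp
    obtain ⟨g⟩ : Nonempty ((G p.primeCompl).obj ω ≅ (G p.primeCompl).obj Y) := ⟨(hm ⟨p, hp.isPrime⟩).some.symm⟩
    obtain ⟨s, hs, x, hx⟩ := exists_fraction_map p.primeCompl (isSmall_dualizing hω) hge g.hom
    have hd := isDualizing_G p hω
    obtain ⟨v, hv⟩ := IsLocalization.map_units (Localization p.primeCompl) (⟨s, hs⟩ : p.primeCompl)
    have hg : g.hom = (↑v⁻¹ : Localization p.primeCompl) • (G p.primeCompl).map x := by
      rw [hx, ← hv, smul_smul, Units.inv_mul, one_smul]
    refine ⟨x, fun y => ?_, fun a ha => ?_, ?_⟩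
    · obtain ⟨q, hq⟩ := hd.toEnd_bijective.surjective ((G p.primeCompl).map y ≫ g.inv)
      obtain ⟨⟨r, t⟩, hrt⟩ := IsLocalization.surj p.primeCompl q
      have hy : (G p.primeCompl).map y = q • g.hom := by
        have := congrArg (· ≫ g.hom) hq
        simp only [Linear.smul_comp, Category.id_comp, Category.assoc, Iso.inv_hom_id, Category.comp_id] at this
        exact this.symm
      obtain ⟨w, hw, hw0⟩ := exists_kill_map p.primeCompl (isSmall_dualizing hω) hge
        (θ := (s * (t : A)) • y - r • x) (by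
          rw [Functor.map_sub, map_smul', map_smul', hy, hx, smul_smul, smul_smul, sub_eq_zero, map_mul]
          congr 1
          rw [← hrt]; ring)
      refine ⟨w * (s * (t : A)), mul_notMem_of_prime hw (mul_notMem_of_prime hs t.2), w * r, ?_⟩
      rw [smul_sub, sub_eq_zero, smul_smul, smul_smul] at hw0
      exact hw0
    · have h1 : algebraMap A (Localization p.primeCompl) (a * s) • g.hom = 0 := by
        rw [map_mul, mul_smul, ← hx, ← map_smul', ha, Functor.map_zero]
      have h2 : algebraMap A (Localization p.primeCompl) (a * s) • 𝟙 ((G p.primeCompl).obj ω) = 0 := by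
        have := congrArg (· ≫ g.inv) h1
        simpa only [Linear.smul_comp, Iso.hom_inv_id, zero_comp] using this
      have h3 : algebraMap A (Localization p.primeCompl) (a * s) = 0 := hd.toEnd_bijective.injective
        (h2.trans (zero_smul _ _).symm)
      obtain ⟨w, hw⟩ := (IsLocalization.map_eq_zero_iff p.primeCompl _ _).1 h3
      exact ⟨(w : A) * s, mul_notMem_of_prime w.2 hs, by rw [mul_assoc, mul_comm s a]; exact hw⟩
    · rw [hx]
      refine ⟨(↑v⁻¹ : Localization p.primeCompl) • g.inv, ?_, ?_⟩ <;>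
        rw [← hv, Linear.smul_comp, Linear.comp_smul, smul_smul] <;> simp
  obtain ⟨l, π, hπ⟩ := Module.Finite.exists_fin' A P
  let P₀ := (Fin l → A) ⧸ LinearMap.ker π
  let ε : P₀ ≃ₗ[A] P := π.quotKerEquivOfSurjective hπ
  haveI : Module.Invertible A P₀ := invertible_of_local_gen P₀ fun p _ => by
    obtain ⟨x, h1, h2, -⟩ := hgen p
    refine ⟨ε.symm x, fun y => ?_, fun a ha => h2 a (by simpa using congrArg ε ha)⟩
    obtain ⟨s, hs, a, ha⟩ := h1 (ε y)
    exact ⟨s, hs, a, ε.injective (by rw [map_smul, map_smul, ε.apply_symm_apply]; exact ha)⟩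
  obtain ⟨k, pj, φ, hpφ⟩ := Twist.exists_dualBasis (A := A) P₀
  let T := Twist.T K (ModuleCat.of A P₀)
  let Φ : T ⟶ Y := ∑ j, Twist.Tm K (φ j) ≫ (Twist.unitIso K).hom ≫ e.hom ≫ ε ((pj j).hom (1 : A))
  have hfac : ∀ x : P, (e.inv ≫ (Twist.unitIso K).inv ≫
      Twist.Tm K (ModuleCat.ofHom (LinearMap.toSpanSingleton A P₀ (ε.symm x)))) ≫ Φ = x := fun x => by
    have hs : ∑ j, (φ j).hom (ε.symm x) • ε ((pj j).hom (1 : A)) = x := by
      have := congrArg (fun f : ModuleCat.of A P₀ ⟶ ModuleCat.of A P₀ => ε (f.hom (ε.symm x))) hpφ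
      simp only [ModuleCat.hom_sum, LinearMap.sum_apply, map_sum] at this
      refine Eq.trans (Finset.sum_congr rfl fun j _ => ?_) (this.trans (ε.apply_symm_apply x))
      show _ = ε ((pj j).hom ((φ j).hom (ε.symm x)))
      rw [← map_smul, ← map_smul, smul_eq_mul, mul_one]
    conv_rhs => rw [← hs]
    rw [Preadditive.comp_sum]
    refine Finset.sum_congr rfl fun j _ => ?_
    simp only [Category.assoc]
    rw [← reassoc_of% Twist.Tm_comp K (ModuleCat.ofHom (LinearMap.toSpanSingleton A P₀ (ε.symm x))) (φ j)]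
    have hc : ModuleCat.ofHom (LinearMap.toSpanSingleton A P₀ (ε.symm x)) ≫ φ j =
        (φ j).hom (ε.symm x) • 𝟙 (ModuleCat.of A A) := by
      apply ModuleCat.hom_ext
      refine LinearMap.ext fun r => ?_
      show (φ j).hom (r • ε.symm x) = (φ j).hom (ε.symm x) * r
      rw [map_smul, smul_eq_mul, mul_comm]
    rw [hc, show Twist.Tm K ((φ j).hom (ε.symm x) • 𝟙 (ModuleCat.of A A)) = (φ j).hom (ε.symm x) • Twist.Tm K (𝟙 _) from
      map_smul (Twist.TL K _ _) _ _, Twist.Tm_id]
    simp only [Linear.smul_comp, Linear.comp_smul, Category.id_comp, Iso.inv_hom_id_assoc]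
  have hTd : Dual.IsDualizing A T := Twist.isDualizing_T K P₀ hω e
  have hloc : ∀ (p : Ideal A) [p.IsMaximal], IsIso ((G p.primeCompl).map Φ) := by
    intro p hp
    obtain ⟨x, -, -, hx⟩ := hgen p
    haveI := hx
    let σ := inv ((G p.primeCompl).map x) ≫ (G p.primeCompl).map (e.inv ≫ (Twist.unitIso K).inv ≫
      Twist.Tm K (ModuleCat.ofHom (LinearMap.toSpanSingleton A P₀ (ε.symm x))))
    have hσ : σ ≫ (G p.primeCompl).map Φ = 𝟙 _ := by
      show (_ ≫ _) ≫ _ = _
      rw [Category.assoc, ← Functor.map_comp, hfac, IsIso.inv_hom_id]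
    have hTp := isDualizing_G p hTd
    obtain ⟨q, hq⟩ := hTp.toEnd_bijective.surjective ((G p.primeCompl).map Φ ≫ σ)
    have hqq : q * q = q := hTp.toEnd_bijective.injective (by
      show (q * q) • 𝟙 _ = q • 𝟙 _
      have h2 : (q * q) • 𝟙 ((G p.primeCompl).obj T) = (q • 𝟙 _) ≫ (q • 𝟙 _) := by
        rw [Linear.smul_comp, Category.id_comp, smul_smul]
      rw [h2, show q • 𝟙 ((G p.primeCompl).obj T) = (G p.primeCompl).map Φ ≫ σ from hq, Category.assoc,
        reassoc_of% hσ])
    rcases (IsLocalRing.isUnit_or_isUnit_one_sub_self q) with hu | hu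
    · have h1 : q = 1 := hu.mul_left_cancel (hqq.trans (mul_one q).symm)
      exact ⟨σ, by rw [← hq]; subst h1; exact one_smul _ _, hσ⟩
    · have h0 : q = 0 := hu.mul_left_cancel (by rw [sub_mul, one_mul, hqq, sub_self, mul_zero])
      refine absurd ((IsZero.iff_id_eq_zero ((G p.primeCompl).obj Y)).2 ?_) (not_isZero (isDualizing_G p hY))
      have hΦσ : (G p.primeCompl).map Φ ≫ σ = 0 := hq.symm.trans (by subst h0; exact zero_smul _ _)
      calc 𝟙 _ = (σ ≫ (G p.primeCompl).map Φ) ≫ (σ ≫ (G p.primeCompl).map Φ) := by rw [hσ, Category.id_comp]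
        _ = σ ≫ ((G p.primeCompl).map Φ ≫ σ) ≫ (G p.primeCompl).map Φ := by simp only [Category.assoc]
        _ = 0 := by rw [hΦσ, zero_comp, comp_zero]
  haveI : IsIso Φ := by
    rw [DerivedCategory.isIso_iff]
    intro i
    rw [ConcreteCategory.isIso_iff_bijective]
    let F := homologyFunctor (ModuleCat.{u} A) i
    refine ⟨(injective_iff_map_eq_zero (F.map Φ).hom).2 fun y hy => ?_, fun y => ?_⟩
    · refine (Submodule.mem_bot A).1 (mem_of_forall_maximal (⊥ : Submodule A (Dual.HD A T i)) y fun p hp => ?_)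
      haveI := hp
      haveI := hloc p
      let ad := adjD (algebraMap A (Localization p.primeCompl))
      have hn : F.map Φ ≫ F.map (ad.unit.app Y) =
          F.map (ad.unit.app T) ≫ F.map ((DRing.restrictD _).map ((G p.primeCompl).map Φ)) := by
        rw [← Functor.map_comp, ← Functor.map_comp]
        exact congrArg F.map (ad.unit.naturality Φ)
      have h1 : F.map ((DRing.restrictD _).map ((G p.primeCompl).map Φ)) (F.map (ad.unit.app T) y) = 0 := by
        refine ((congrArg (fun f => f.hom y) hn).symm).trans ?_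
        exact (congrArg (F.map (ad.unit.app Y)).hom hy).trans (map_zero _)
      have h2 : F.map (ad.unit.app T) y = 0 :=
        ((ConcreteCategory.isIso_iff_bijective _).1 inferInstance).1 (h1.trans (map_zero _).symm)
      obtain ⟨s, hs, hs0⟩ := (torsIso_homology_unit p.primeCompl T i).1 y h2
      exact ⟨s, hs, (Submodule.mem_bot A).2 hs0⟩
    · refine LinearMap.mem_range.1 (mem_of_forall_maximal (LinearMap.range (F.map Φ).hom) y fun p hp => ?_)
      haveI := hp
      haveI := hloc p
      let ad := adjD (algebraMap A (Localization p.primeCompl))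
      have hn : F.map Φ ≫ F.map (ad.unit.app Y) =
          F.map (ad.unit.app T) ≫ F.map ((DRing.restrictD _).map ((G p.primeCompl).map Φ)) := by
        rw [← Functor.map_comp, ← Functor.map_comp]
        exact congrArg F.map (ad.unit.naturality Φ)
      obtain ⟨w, hw⟩ := ((ConcreteCategory.isIso_iff_bijective
        (F.map ((DRing.restrictD _).map ((G p.primeCompl).map Φ)))).1 inferInstance).2 (F.map (ad.unit.app Y) y)
      obtain ⟨s, hs, v, hv⟩ := (torsIso_homology_unit p.primeCompl T i).2 w
      have h1 : (F.map (ad.unit.app Y)).hom ((F.map Φ).hom v - s • y) = 0 := by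
        rw [map_sub, map_smul, sub_eq_zero]
        refine ((congrArg (fun f => f.hom v) hn)).trans ?_
        show (F.map ((DRing.restrictD _).map ((G p.primeCompl).map Φ))).hom ((F.map (ad.unit.app T)).hom v) = _
        rw [hv, map_smul]
        exact congrArg (s • ·) hw
      obtain ⟨t, ht, ht0⟩ := (torsIso_homology_unit p.primeCompl Y i).1 _ h1
      refine ⟨t * s, mul_notMem_of_prime ht hs, LinearMap.mem_range.2 ⟨t • v, ?_⟩⟩
      rw [smul_sub, sub_eq_zero] at ht0
      rw [map_smul, mul_smul]
      exact ht0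
  exact ⟨ModuleCat.of A P₀, ‹_›, -m, ⟨(shiftEquiv (Dual.D A) m).unitIso.app ω' ≪≫
    (shiftFunctor (Dual.D A) (-m)).mapIso (asIso Φ).symm⟩⟩

end Groth.Agent.DualLib.Unique
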