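import Groth.Agent.DualLib.ChartShriek

/-!
# The right adjoint of a proper direct image on affine charts, in terms of a presentation
-/

set_option autoImplicit false
set_option backward.isDefEq.respectTransparency false
set_option backward.defeqAttrib.useBackward true
set_option linter.style.haveILetI false
set_option linter.unusedSectionVars false
set_option synthInstance.maxHeartbeats 100000

universe u

open CategoryTheory CategoryTheory.Limits CategoryTheory.Pretriangulated AlgebraicGeometry Opposite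
open Groth.Agent.DCat Groth.Agent.Dual22Lib
open scoped ZeroObject

attribute [local instance] HasDerivedCategory.standard
attribute [-instance] Int.instConditionallyCompleteLinearOrder

namespace Groth.Agent.DualLib.ChartShriek

/-- Two proper charts through the same base: representing objects agree along a closed immersion. -/
theorem repObj_compare {X P U V Y : Scheme.{u}} [IsNoetherian Y] [IsAffine U] [IsAffine V]
    (f : X ⟶ Y) [IsProper f] (π : P ⟶ Y) [IsProper π]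
    (j : U ⟶ X) [IsOpenImmersion j] (ιV : V ⟶ P) [IsOpenImmersion ιV] (cU : U ⟶ V) [IsProper cU]
    (hfac : cU ≫ ιV ≫ π = j ≫ f) {Q : DCoh.D Y} {A : DCoh.D X} {B : DCoh.D P}
    (hA : RepLib.RepObj f Q A) (hB : RepLib.RepObj π Q B) (c : ℤ) [hc : Q.IsGE c] :
    RepLib.RepObj cU ((DCoh.restrictD ιV).obj B) ((DCoh.restrictD j).obj A) := by
  haveI : IsLocallyNoetherian X := LocallyOfFiniteType.isLocallyNoetherian f
  haveI : CompactSpace X := QuasiCompact.compactSpace_of_compactSpace f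
  haveI : IsNoetherian X := { }
  haveI : IsLocallyNoetherian P := LocallyOfFiniteType.isLocallyNoetherian π
  haveI : CompactSpace P := QuasiCompact.compactSpace_of_compactSpace π
  haveI : IsNoetherian P := { }
  obtain ⟨b, hb⟩ := RepLib.exists_isGE c hB
  obtain ⟨a, ha⟩ := RepLib.exists_isGE c hA
  let W := pullback f π
  let p : W ⟶ X := pullback.fst f π
  let q : W ⟶ P := pullback.snd f π
  haveI : CompactSpace W := QuasiCompact.compactSpace_of_compactSpace p
  haveI : IsLocallyNoetherian W := LocallyOfFiniteType.isLocallyNoetherian p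
  haveI : IsNoetherian W := { }
  obtain ⟨C, hC⟩ := RepLib.exists_repObj q B
  obtain ⟨C', hC'⟩ := RepLib.exists_repObj p A
  obtain ⟨eC⟩ := ((RepLib.RepObj.comp f hA hC').congr pullback.condition).unique (RepLib.RepObj.comp π hB hC)
  have hpC : RepLib.RepObj p A C := hC'.ofIso eC
  have hw : j ≫ f = (cU ≫ ιV) ≫ π := by rw [Category.assoc]; exact hfac.symm
  let s : U ⟶ W := pullback.lift j (cU ≫ ιV) hw
  have hsp : s ≫ p = j := pullback.lift_fst _ _ _
  have hsq : s ≫ q = cU ≫ ιV := pullback.lift_snd _ _ _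
  let U' : X.Opens := j.opensRange
  let V' : P.Opens := ιV.opensRange
  let O₁ : W.Opens := p ⁻¹ᵁ U'
  let O₂ : W.Opens := q ⁻¹ᵁ V'
  let O₃ : W.Opens := O₁ ⊓ O₂
  have hs₃ : Set.range s ⊆ Set.range O₃.ι := by
    rw [Scheme.Opens.range_ι]
    rintro _ ⟨x, rfl⟩
    refine ⟨?_, ?_⟩
    · show p (s x) ∈ U'
      rw [← Scheme.Hom.comp_apply, hsp]
      exact ⟨x, rfl⟩
    · show q (s x) ∈ V'
      rw [← Scheme.Hom.comp_apply, hsq, Scheme.Hom.comp_apply]
      exact ⟨cU x, rfl⟩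
  let σ : U ⟶ O₃ := IsOpenImmersion.lift O₃.ι s hs₃
  have hσ : σ ≫ O₃.ι = s := IsOpenImmersion.lift_fac _ _ _
  let i₁ : (O₃ : Scheme.{u}) ⟶ O₁ := W.homOfLE inf_le_left
  let i₂ : (O₃ : Scheme.{u}) ⟶ O₂ := W.homOfLE inf_le_right
  let s₁ : U ⟶ O₁ := σ ≫ i₁
  let s₂ : U ⟶ O₂ := σ ≫ i₂
  let p₁ : (O₁ : Scheme.{u}) ⟶ U := (p ∣_ U') ≫ j.isoOpensRange.inv
  haveI : IsProper p₁ := inferInstance
  let q₂ : (O₂ : Scheme.{u}) ⟶ V := (q ∣_ V') ≫ ιV.isoOpensRange.inv
  haveI : IsProper q₂ := inferInstance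
  have hp₁ : O₁.ι ≫ p = p₁ ≫ j := by
    show _ = ((p ∣_ U') ≫ j.isoOpensRange.inv) ≫ j
    rw [Category.assoc, Scheme.Hom.isoOpensRange_inv_comp, morphismRestrict_ι]
  have hq₂ : O₂.ι ≫ q = q₂ ≫ ιV := by
    show _ = ((q ∣_ V') ≫ ιV.isoOpensRange.inv) ≫ ιV
    rw [Category.assoc, Scheme.Hom.isoOpensRange_inv_comp, morphismRestrict_ι]
  have h1 : s₁ ≫ p₁ = 𝟙 _ := by
    rw [← cancel_mono j, Category.assoc, ← hp₁]
    show (σ ≫ i₁) ≫ O₁.ι ≫ p = _
    rw [Category.assoc, Scheme.homOfLE_ι_assoc, ← Category.assoc, hσ, hsp, Category.id_comp]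
  have h2 : s₂ ≫ q₂ = cU := by
    rw [← cancel_mono ιV, Category.assoc, ← hq₂]
    show (σ ≫ i₂) ≫ O₂.ι ≫ q = _
    rw [Category.assoc, Scheme.homOfLE_ι_assoc, ← Category.assoc, hσ, hsq]
  haveI : IsProper s₁ := by
    have : IsProper (s₁ ≫ p₁) := by rw [h1]; infer_instance
    exact IsProper.of_comp s₁ p₁
  haveI : IsProper s₂ := by
    have : IsProper (s₂ ≫ q₂) := by rw [h2]; infer_instance
    exact IsProper.of_comp s₂ q₂
  haveI : CompactSpace (O₁ : Scheme.{u}) := isCompact_iff_compactSpace.1 (TopologicalSpace.NoetherianSpace.isCompact _)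
  haveI : IsNoetherian (O₁ : Scheme.{u}) := { }
  haveI : CompactSpace (O₂ : Scheme.{u}) := isCompact_iff_compactSpace.1 (TopologicalSpace.NoetherianSpace.isCompact _)
  haveI : IsNoetherian (O₂ : Scheme.{u}) := { }
  haveI : IsLocallyNoetherian U := isLocallyNoetherian_of_isOpenImmersion j
  haveI : IsNoetherian U := { }
  haveI : IsLocallyNoetherian V := isLocallyNoetherian_of_isOpenImmersion ιV
  haveI : IsNoetherian V := { }
  haveI := hb
  haveI := ha
  have hq₁ := hpC.restrict a hA.mem j O₁.ι p₁ hp₁ (by rw [Scheme.Opens.opensRange_ι])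
  have hq₂' := hC.restrict b hB.mem ιV O₂.ι q₂ hq₂ (by rw [Scheme.Opens.opensRange_ι])
  let C₁ := (DCoh.restrictD O₁.ι).obj C
  let C₂ := (DCoh.restrictD O₂.ι).obj C
  obtain ⟨d, hd⟩ := RepLib.exists_isGE b hC
  haveI : C₁.IsGE d := CohTors.isGE_restrictD O₁.ι d hd
  haveI : C₂.IsGE d := CohTors.isGE_restrictD O₂.ι d hd
  obtain ⟨E₁, hE₁⟩ := RepLib.exists_repObj s₁ C₁
  obtain ⟨E₂, hE₂⟩ := RepLib.exists_repObj s₂ C₂
  have hr₁ := hE₁.restrict d (AdjGeom.isQCohD_restrictD O₁.ι hC.mem) i₁ (𝟙 _) σ (Category.id_comp _) (by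
    ext x
    simp only [Scheme.Hom.opensRange_of_isIso, TopologicalSpace.Opens.coe_top, Set.mem_univ, true_iff]
    exact ⟨σ x, rfl⟩)
  have hr₂ := hE₂.restrict d (AdjGeom.isQCohD_restrictD O₂.ι hC.mem) i₂ (𝟙 _) σ (Category.id_comp _) (by
    ext x
    simp only [Scheme.Hom.opensRange_of_isIso, TopologicalSpace.Opens.coe_top, Set.mem_univ, true_iff]
    exact ⟨σ x, rfl⟩)
  obtain ⟨e₁⟩ := PerfLocal.rd_comp i₁ O₁.ι C
  obtain ⟨e₂⟩ := PerfLocal.rd_comp i₂ O₂.ι C
  obtain ⟨eE⟩ := (hr₁.ofIsoTarget (e₁.symm ≪≫ RepLib.restrictCongr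
      ((Scheme.homOfLE_ι W _).trans (Scheme.homOfLE_ι W _).symm) C ≪≫ e₂)).unique hr₂
  let AU := (DCoh.restrictD j).obj A
  obtain ⟨eA⟩ := ((RepLib.RepObj.comp p₁ hq₁ hE₁).congr h1).unique
    (RepLib.repObj_isIso (𝟙 _) (AdjGeom.isQCohD_restrictD j hA.mem))
  obtain ⟨u₁⟩ := PerfLocal.rd_comp (𝟙 U) (𝟙 U) AU
  obtain ⟨u₂⟩ := PerfLocal.rd_comp (𝟙 U) j A
  have h3 := (RepLib.RepObj.comp q₂ hq₂' hE₂).congr h2
  have h4 := (RepLib.RepObj.comp cU h3 (RepLib.repObj_isIso (𝟙 U) hE₂.mem)).congr (Category.id_comp cU)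
  exact h4.ofIso (eE.symm ≪≫ (DCoh.restrictD (𝟙 U)).mapIso eA ≪≫ u₁.symm ≪≫
    RepLib.restrictCongr (Category.comp_id _) AU ≪≫ u₂.symm ≪≫ RepLib.restrictCongr (Category.id_comp _) A)

/-- On an affine chart over an affine base the representing object is the algebraic upper shriek. -/
theorem nonempty_chart_iso {R B : Type u} [CommRing R] [IsNoetherianRing R] [CommRing B] {X : Scheme.{u}}
    [∀ (U V : Scheme.{u}) (j : U ⟶ V) [IsOpenImmersion j], PreservesFiniteLimits (Scheme.Modules.restrictFunctor j)]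
    [∀ (S : CommRingCat.{u}), PreservesFiniteLimits (tilde.functor S)]
    (f : X ⟶ Spec (CommRingCat.of R)) [IsProper f] (j : Spec (CommRingCat.of B) ⟶ X) [IsOpenImmersion j]
    {n : ℕ} (ψ : MvPolynomial (Fin n) R →+* B) (hψ : Function.Surjective ψ)
    (hfac : Spec.map (CommRingCat.ofHom ψ) ≫ chart R n ≫ CohB1.ProjSpace.toSpec n R = j ≫ f)
    [DRing.HasLBaseChange (algebraMap R (MvPolynomial (Fin n) R))]
    (Rψ : Dual.D (MvPolynomial (Fin n) R) ⥤ Dual.D B) (adj : DRing.restrictD ψ ⊣ Rψ)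
    (K : Dual.D R) {A : DCoh.D X} (hA : RepLib.RepObj f ((DCoh.tildeD (CommRingCat.of R)).obj K) A)
    (c : ℤ) [((DCoh.tildeD (CommRingCat.of R)).obj K).IsGE c] :
    Nonempty ((DCoh.restrictD j).obj A ≅ (DCoh.tildeD (CommRingCat.of B)).obj (Dual2.shriekVia n Rψ K)) := by
  haveI : IsProper (CohB1.ProjSpace.toSpec n R) := Coherent.isProper_projSpace_toSpec n R
  haveI : CompactSpace (CohB1.ProjSpace n R) := QuasiCompact.compactSpace_of_compactSpace (CohB1.ProjSpace.toSpec n R)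
  haveI : (CohB1.ProjSpace n R).IsSeparated := inferInstanceAs (Proj (CohB1.polyGrading n R)).IsSeparated
  obtain ⟨C, hC⟩ := RepLib.exists_repObj (CohB1.ProjSpace.toSpec n R) ((DCoh.tildeD (CommRingCat.of R)).obj K)
  haveI : IsClosedImmersion (Spec.map (CommRingCat.ofHom ψ)) := IsClosedImmersion.spec_of_surjective _ hψ
  obtain ⟨eC⟩ := nonempty_rep_chart n K hC
  let W := ((DRing.LBaseChange (algebraMap R (MvPolynomial (Fin n) R))).obj K)⟦(n : ℤ)⟧
  have h := (repObj_compare f (CohB1.ProjSpace.toSpec n R) j (chart R n) (Spec.map (CommRingCat.ofHom ψ)) hfac hA hC c).ofIsoTarget eC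
  obtain ⟨e⟩ := h.unique (repObj_affine ψ Rψ adj W)
  letI := adj.rightAdjointCommShift ℤ
  exact ⟨e ≪≫ (DCoh.tildeD (CommRingCat.of B)).mapIso ((Rψ.commShiftIso (n : ℤ)).app _)⟩

/-- The representing object on affine charts over any Noetherian base, for a given presentation. -/
theorem nonempty_local {X Y : Scheme.{u}} [IsNoetherian Y]
    [∀ (U V : Scheme.{u}) (j : U ⟶ V) [IsOpenImmersion j], PreservesFiniteLimits (Scheme.Modules.restrictFunctor j)]
    [∀ (S : CommRingCat.{u}), PreservesFiniteLimits (tilde.functor S)]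
    (f : X ⟶ Y) [IsProper f] {Q : DCoh.D Y} {A : DCoh.D X} (hA : RepLib.RepObj f Q A) (c : ℤ) [hc : Q.IsGE c]
    (hQ : DCoh.IsQCohD Q) {R B : Type u} [CommRing R] [IsNoetherianRing R] [CommRing B] (φ : R →+* B)
    (jY : Spec (CommRingCat.of R) ⟶ Y) [IsOpenImmersion jY] (jX : Spec (CommRingCat.of B) ⟶ X) [IsOpenImmersion jX]
    (hcomm : jX ≫ f = Spec.map (CommRingCat.ofHom φ) ≫ jY) (K : Dual.D R)
    (eQ : (DCoh.restrictD jY).obj Q ≅ (DCoh.tildeD (CommRingCat.of R)).obj K)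
    {n : ℕ} (ψ : MvPolynomial (Fin n) R →+* B) (hψ : Function.Surjective ψ)
    (hcomp : ψ.comp (algebraMap R (MvPolynomial (Fin n) R)) = φ)
    [DRing.HasLBaseChange (algebraMap R (MvPolynomial (Fin n) R))]
    (Rψ : Dual.D (MvPolynomial (Fin n) R) ⥤ Dual.D B) (adj : DRing.restrictD ψ ⊣ Rψ) :
    Nonempty ((DCoh.restrictD jX).obj A ≅ (DCoh.tildeD (CommRingCat.of B)).obj (Dual2.shriekVia n Rψ K)) := by
  let O := f ⁻¹ᵁ jY.opensRange
  have hrange : Set.range jX ⊆ Set.range O.ι := by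
    rw [Scheme.Opens.range_ι]
    rintro _ ⟨x, rfl⟩
    show f (jX x) ∈ jY.opensRange
    rw [← Scheme.Hom.comp_apply, hcomm, Scheme.Hom.comp_apply]
    exact ⟨_, rfl⟩
  let j := IsOpenImmersion.lift O.ι jX hrange
  have hj : j ≫ O.ι = jX := IsOpenImmersion.lift_fac _ _ _
  haveI : IsOpenImmersion j := by
    haveI : IsOpenImmersion (j ≫ O.ι) := by rw [hj]; infer_instance
    exact IsOpenImmersion.of_comp j O.ι
  let f' : (O : Scheme.{u}) ⟶ Spec (CommRingCat.of R) := (f ∣_ jY.opensRange) ≫ jY.isoOpensRange.inv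
  haveI : IsProper f' := inferInstance
  have hf' : O.ι ≫ f = f' ≫ jY := by
    show _ = ((f ∣_ jY.opensRange) ≫ jY.isoOpensRange.inv) ≫ jY
    rw [Category.assoc, Scheme.Hom.isoOpensRange_inv_comp, morphismRestrict_ι]
  have hjf : j ≫ f' = Spec.map (CommRingCat.ofHom φ) := by
    rw [← cancel_mono jY, Category.assoc, ← hf', ← Category.assoc, hj, hcomm]
  have hfac : Spec.map (CommRingCat.ofHom ψ) ≫ chart R n ≫ CohB1.ProjSpace.toSpec n R = j ≫ f' := by
    rw [chart_toSpec, ← Spec.map_comp, hjf, ← CommRingCat.ofHom_comp, hcomp]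
  haveI : ((DCoh.tildeD (CommRingCat.of R)).obj K).IsGE c :=
    haveI := CohTors.isGE_restrictD jY c hc
    DerivedCategory.TStructure.t.isGE_of_iso eQ c
  have hA' := (hA.restrict c hQ jY O.ι f' hf' (by rw [Scheme.Opens.opensRange_ι])).ofIsoTarget eQ
  obtain ⟨e⟩ := nonempty_chart_iso f' j ψ hψ hfac Rψ adj K hA' c
  obtain ⟨w⟩ := PerfLocal.rd_comp j O.ι A
  exact ⟨RepLib.restrictCongr hj.symm A ≪≫ w ≪≫ e⟩

/-- The representing object on affine charts over any Noetherian base. -/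
theorem exists_local {X Y : Scheme.{u}} [IsNoetherian Y]
    [∀ (U V : Scheme.{u}) (j : U ⟶ V) [IsOpenImmersion j], PreservesFiniteLimits (Scheme.Modules.restrictFunctor j)]
    [∀ (S : CommRingCat.{u}), PreservesFiniteLimits (tilde.functor S)]
    (f : X ⟶ Y) [IsProper f] {Q : DCoh.D Y} {A : DCoh.D X} (hA : RepLib.RepObj f Q A) (c : ℤ) [hc : Q.IsGE c]
    (hQ : DCoh.IsQCohD Q) {R B : Type u} [CommRing R] [IsNoetherianRing R] [CommRing B] (φ : R →+* B)
    (jY : Spec (CommRingCat.of R) ⟶ Y) [IsOpenImmersion jY] (jX : Spec (CommRingCat.of B) ⟶ X) [IsOpenImmersion jX]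
    (hcomm : jX ≫ f = Spec.map (CommRingCat.ofHom φ) ≫ jY) (K : Dual.D R)
    (eQ : (DCoh.restrictD jY).obj Q ≅ (DCoh.tildeD (CommRingCat.of R)).obj K) :
    ∃ (n : ℕ) (ψ : MvPolynomial (Fin n) R →+* B), Function.Surjective ψ ∧
      ψ.comp (algebraMap R (MvPolynomial (Fin n) R)) = φ ∧
      ∀ [DRing.HasLBaseChange (algebraMap R (MvPolynomial (Fin n) R))]
        (Rψ : Dual.D (MvPolynomial (Fin n) R) ⥤ Dual.D B) (_ : DRing.restrictD ψ ⊣ Rψ),
        Nonempty ((DCoh.restrictD jX).obj A ≅ (DCoh.tildeD (CommRingCat.of B)).obj (Dual2.shriekVia n Rψ K)) := by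
  haveI : LocallyOfFiniteType (Spec.map (CommRingCat.ofHom φ)) := by
    haveI : LocallyOfFiniteType (Spec.map (CommRingCat.ofHom φ) ≫ jY) := by rw [← hcomm]; infer_instance
    exact locallyOfFiniteType_of_comp _ jY
  obtain ⟨n, ψ, hψ, hfac⟩ := exists_presentation (R := R) (B := B) (Spec.map (CommRingCat.ofHom φ))
  have hcomp : ψ.comp (algebraMap R (MvPolynomial (Fin n) R)) = φ := by
    rw [chart_toSpec, ← Spec.map_comp] at hfac
    exact congrArg CommRingCat.Hom.hom (Spec.map_injective hfac)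
  exact ⟨n, ψ, hψ, hcomp, fun {_} Rψ adj =>
    nonempty_local f hA c hQ φ jY jX hcomm K eQ ψ hψ hcomp Rψ adj⟩

end Groth.Agent.DualLib.ChartShriek
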