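import Groth.Agent.DualLib.ShriekIndep
import Groth.Agent.DCat.Amplitude
import Groth.Agent.S12079

/-! Flat base change of the right adjoint of restriction along a surjection, bounded below objects. -/

set_option autoImplicit false
set_option backward.isDefEq.respectTransparency false
set_option backward.defeqAttrib.useBackward true
set_option linter.style.haveILetI false

universe u

open CategoryTheory CategoryTheory.Limits DerivedCategory
open scoped TensorProduct ChangeOfRings

attribute [local instance] HasDerivedCategory.standard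

namespace Groth.Agent.DualLib.Shriek

section Inj

/-- Flat times injective is injective over a Noetherian ring. -/
theorem injective_tensor_flat {R L I : Type u} [CommRing R] [IsNoetherianRing R] [AddCommGroup L] [Module R L]
    [Module.Flat R L] [AddCommGroup I] [Module R I] [Module.Injective R I] : Module.Injective R (I ⊗[R] L) := by
  refine Module.Baer.injective fun a g => ?_
  haveI : Module.FinitePresentation R a := Module.finitePresentation_of_finite R a
  obtain ⟨z, rfl⟩ := (S12079.result R a I L).2 g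
  induction z using TensorProduct.induction_on with
  | zero => exact ⟨0, fun x hx => by simp⟩
  | tmul f l =>
    obtain ⟨h, hh⟩ := Module.Baer.of_injective (inferInstance : Module.Injective R I) a f
    exact ⟨((TensorProduct.mk R I L).flip l).comp h, fun x hx => by simp [hh x hx]⟩
  | add z w hz hw =>
    obtain ⟨h, hh⟩ := hz
    obtain ⟨h', hh'⟩ := hw
    exact ⟨h + h', fun x hx => by simp [hh x hx, hh' x hx]⟩

theorem injective_restrict_extend {S S' : Type u} [CommRing S] [IsNoetherianRing S] [CommRing S'] {φ : S →+* S'}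
    (hφ : φ.Flat) (M : ModuleCat.{u} S) [Injective M] :
    Injective ((ModuleCat.restrictScalars.{u} φ).obj ((ModuleCat.extendScalars.{u, u, u} φ).obj M)) := by
  letI := φ.toAlgebra
  haveI : Module.Flat S S' := hφ
  haveI : Module.Injective S M := Module.injective_module_of_injective_object S M
  haveI : Module.Injective S (M ⊗[S] S') := injective_tensor_flat
  haveI : Injective (ModuleCat.of S (M ⊗[S] S')) := Module.injective_object_of_injective_module S _
  let e : (M ⊗[S] S') ≃ₗ[S] ((ModuleCat.restrictScalars.{u} φ).obj ((ModuleCat.extendScalars.{u, u, u} φ).obj M)) :=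
    { (TensorProduct.comm S M S').toAddEquiv with
      map_smul' := fun a z => by
        show TensorProduct.comm S M S' (a • z) = φ a • TensorProduct.comm S M S' z
        rw [map_smul, algebra_compatible_smul S' a]
        rfl }
  exact Injective.of_iso e.toModuleIso inferInstance

end Inj

variable {S S' T T' : Type u} [CommRing S] [CommRing S'] [CommRing T] [CommRing T']
  {φ : S →+* S'} {π : S →+* T} {t : T →+* T'} {π' : S' →+* T'}
  (hπ : Function.Surjective π) (hπ' : Function.Surjective π') (hsq : t.comp π = π'.comp φ)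
  (hker : RingHom.ker π' = (RingHom.ker π).map φ)

section Ev

variable {θ : S →+* T} {C : ModuleCat.{u} S}

lemma ker_smul_ev1 (s : S) (hs : θ s = 0) (ψ : (ModuleCat.coextendScalars.{u, u} θ).obj C) :
    s • ev1 θ ψ = 0 := by
  rw [← ev1_smul, hs, zero_smul, ev1_zero]

lemma exists_ev1' (hθ : Function.Surjective θ) {c : C} (key : ∀ s, θ s = 0 → s • c = 0) :
    ∃ ψ : (ModuleCat.coextendScalars.{u, u} θ).obj C, ev1 θ ψ = c := by
  choose σ hσ using hθ
  have wd : ∀ s t, θ s = θ t → s • c = t • c := fun s t h => by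
    rw [← sub_eq_zero, ← sub_smul]; exact key _ (by rw [map_sub, h, sub_self])
  refine ⟨(ModuleCat.CoextendScalars.equiv θ C).symm
    { toFun := fun b => σ b • c
      map_add' := fun x y => by
        rw [← add_smul]; exact wd _ _ (by rw [map_add, hσ, hσ, hσ])
      map_smul' := fun s x => by
        rw [RingHom.id_apply, smul_smul]
        exact wd _ _ (by rw [map_mul, hσ, hσ]; rfl) }, ?_⟩
  show σ (1 : T) • c = c
  rw [wd (σ 1) 1 (by rw [hσ, map_one]), one_smul]

end Ev

include hπ hπ' hsq hker in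
/-- The module comparison. -/
theorem exists_betaMap (M : ModuleCat.{u} S) :
    ∃ β : (ModuleCat.extendScalars.{u, u, u} t).obj ((ModuleCat.coextendScalars.{u, u} π).obj M) ⟶
        (ModuleCat.coextendScalars.{u, u} π').obj ((ModuleCat.extendScalars.{u, u, u} φ).obj M),
      ∀ ψ, ev1 π' (β.hom (one_t t ψ)) = one_t φ (ev1 π ψ) := by
  have hz : ∀ (ψ : (ModuleCat.coextendScalars.{u, u} π).obj M) (s' : S'), π' s' = 0 →
      s' • one_t φ (ev1 π ψ) = 0 := by
    intro ψ s' hs'
    have hle : RingHom.ker π' ≤ Submodule.colon (⊥ : Submodule S' ((ModuleCat.extendScalars.{u, u, u} φ).obj M))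
        {one_t φ (ev1 π ψ)} := by
      rw [hker, Ideal.map_le_iff_le_comap]
      intro s hs
      rw [Ideal.mem_comap, Submodule.mem_colon_singleton, Submodule.mem_bot, ← one_t_smul, ker_smul_ev1 s hs]
      exact TensorProduct.tmul_zero _ _
    exact (Submodule.mem_bot _).1 (Submodule.mem_colon_singleton.1 (hle hs'))
  choose g hg using fun ψ => exists_ev1' hπ' (hz ψ)
  let η : (ModuleCat.coextendScalars.{u, u} π).obj M ⟶ (ModuleCat.restrictScalars.{u} t).obj
      ((ModuleCat.coextendScalars.{u, u} π').obj ((ModuleCat.extendScalars.{u, u, u} φ).obj M)) :=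
    ModuleCat.ofHom
      (Y := (ModuleCat.restrictScalars.{u} t).obj
        ((ModuleCat.coextendScalars.{u, u} π').obj ((ModuleCat.extendScalars.{u, u, u} φ).obj M)))
      { toFun := fun ψ => g ψ
        map_add' := fun ψ ψ' => ev1_injective π' hπ' (by
          rw [ev1_add]
          erw [hg, hg, hg]
          rw [ev1_add, one_t_add])
        map_smul' := fun b ψ => ev1_injective π' hπ' (by
          obtain ⟨s, rfl⟩ := hπ b
          show ev1 π' (g (π s • ψ)) = ev1 π' (t (π s) • g ψ)
          rw [hg, ← RingHom.comp_apply, hsq, RingHom.comp_apply, ev1_smul, ev1_smul, hg, one_t_smul]) }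
  refine ⟨((ModuleCat.extendRestrictScalarsAdj t).homEquiv _ _).symm η, fun ψ => ?_⟩
  have h1 : ((((ModuleCat.extendRestrictScalarsAdj t).homEquiv _ _).symm η).hom (one_t t ψ)) = (1 : T') • g ψ := rfl
  rw [h1, one_smul, hg]

include hπ hπ' hsq hker in
theorem bijective_betaMap [IsNoetherianRing S] (hφ : φ.Flat) (M : ModuleCat.{u} S)
    {β : (ModuleCat.extendScalars.{u, u, u} t).obj ((ModuleCat.coextendScalars.{u, u} π).obj M) ⟶
        (ModuleCat.coextendScalars.{u, u} π').obj ((ModuleCat.extendScalars.{u, u, u} φ).obj M)}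
    (hβ : ∀ ψ, ev1 π' (β.hom (one_t t ψ)) = one_t φ (ev1 π ψ)) : Function.Bijective β.hom := by
  obtain ⟨r, k, hk⟩ : ∃ (r : ℕ) (k : Fin r → S), RingHom.ker π = Ideal.span (Set.range k) := by
    obtain ⟨r, k, hk⟩ := Submodule.fg_iff_exists_fin_generating_family.1 (IsNoetherian.noetherian (RingHom.ker π))
    exact ⟨r, k, hk.symm⟩
  letI := φ.toAlgebra
  haveI : Module.Flat S S' := hφ
  let μ : M →ₗ[S] (Fin r → M) := LinearMap.pi fun j => k j • LinearMap.id
  let X := LinearMap.ker μ
  have hev : ∀ ψ : (ModuleCat.coextendScalars.{u, u} π).obj M, ev1 π ψ ∈ X := fun ψ => funext fun j =>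
    ker_smul_ev1 (k j) (by rw [← RingHom.mem_ker, hk]; exact Ideal.subset_span ⟨j, rfl⟩) ψ
  have hex' : ∀ x ∈ X, ∃ ψ : (ModuleCat.coextendScalars.{u, u} π).obj M, ev1 π ψ = x := fun x hx =>
    exists_ev1' hπ fun s hs => by
      have hle : RingHom.ker π ≤ Submodule.colon (⊥ : Submodule S M) {x} := by
        rw [hk, Ideal.span_le]
        rintro _ ⟨j, rfl⟩
        exact Submodule.mem_colon_singleton.2 ((Submodule.mem_bot _).2 (congrFun hx j))
      exact (Submodule.mem_bot _).1 (Submodule.mem_colon_singleton.1 (hle hs))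
  choose lift hlift using hex'
  let E := (ModuleCat.extendScalars.{u, u, u} t).obj ((ModuleCat.coextendScalars.{u, u} π).obj M)
  have wd : ∀ (x : M) (hx : x ∈ X) (ψ), ev1 π ψ = x → lift x hx = ψ := fun x hx ψ h =>
    ev1_injective π hπ ((hlift x hx).trans h.symm)
  letI : Module S' E := Module.compHom E π'
  letI : Module S E := Module.compHom E (π'.comp φ)
  haveI : IsScalarTower S S' E := IsScalarTower.of_algebraMap_smul fun _ _ => rfl
  let γ₀ : X →ₗ[S] E :=
    { toFun := fun x => one_t t (lift x.1 x.2)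
      map_add' := fun x y => by
        rw [← one_t_add, wd (x + y).1 (x + y).2 (lift x.1 x.2 + lift y.1 y.2) (by rw [ev1_add, hlift, hlift]; rfl)]
      map_smul' := fun s x => by
        rw [wd (s • x).1 (s • x).2 (π s • lift x.1 x.2) (by rw [ev1_smul, hlift]; rfl), one_t_smul,
          ← RingHom.comp_apply, hsq]
        rfl }
  let γ : S' ⊗[S] X →ₗ[S'] E := γ₀.liftBaseChange S'
  have hγ : Function.Surjective γ := by
    intro (z : E)
    obtain ⟨n, b, ψ, rfl⟩ : ∃ (n : ℕ) (b : Fin n → T') (ψ : Fin n → (ModuleCat.coextendScalars.{u, u} π).obj M),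
        ∑ i, b i • one_t t (ψ i) = z := by
      letI := t.toAlgebra
      induction z using TensorProduct.induction_on with
      | zero => exact ⟨0, Fin.elim0, Fin.elim0, by simp⟩
      | tmul b' ψ =>
        obtain ⟨b, rfl⟩ : ∃ b : T', b = b' := ⟨b', rfl⟩
        refine ⟨1, fun _ => b, fun _ => ψ, ?_⟩
        rw [Fin.sum_univ_one]
        show b • ((1 : T') ⊗ₜ[T] ψ) = b ⊗ₜ[T] ψ
        rw [TensorProduct.smul_tmul', smul_eq_mul, mul_one]
      | add x y hx hy =>
        obtain ⟨n, b, ψ, rfl⟩ := hx
        obtain ⟨n', b', ψ', rfl⟩ := hy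
        exact ⟨n + n', Fin.append b b', Fin.append ψ ψ', by simp [Fin.sum_univ_add]⟩
    choose s hs using fun i => hπ' (b i)
    refine ⟨∑ i, s i ⊗ₜ ⟨ev1 π (ψ i), hev _⟩, ?_⟩
    rw [map_sum]
    refine Finset.sum_congr rfl fun i _ => ?_
    show s i • one_t t (lift _ _) = b i • one_t t (ψ i)
    rw [wd _ _ (ψ i) rfl, ← hs i]
    rfl
  have hcomp : ∀ z : S' ⊗[S] X, ev1 π' (β.hom (γ z)) = X.subtype.lTensor S' z := by
    intro z
    induction z using TensorProduct.induction_on with
    | zero => rw [map_zero, map_zero, ev1_zero, map_zero]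
    | tmul s' x =>
      show ev1 π' (β.hom (π' s' • one_t t (lift x.1 x.2))) = s' ⊗ₜ[S] x.1
      rw [map_smul, ev1_smul, hβ, hlift]
      show s' • ((1 : S') ⊗ₜ[S] x.1) = _
      rw [TensorProduct.smul_tmul', smul_eq_mul, mul_one]
    | add x y hx hy => rw [map_add, map_add, ev1_add, hx, hy, map_add]
  refine ⟨(injective_iff_map_eq_zero _).2 fun z hz => ?_, fun w => ?_⟩
  · obtain ⟨z, rfl⟩ := hγ z
    have h0 : X.subtype.lTensor S' z = 0 := by
      rw [← hcomp]; exact (congrArg (ev1 π') hz).trans (ev1_zero π')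
    rw [Module.Flat.lTensor_preserves_injective_linearMap _ Subtype.val_injective (h0.trans (map_zero _).symm),
      map_zero]
  · let w₀ : S' ⊗[S] M := ev1 π' w
    have hμ : μ.lTensor S' w₀ = 0 := by
      apply (TensorProduct.piRight S S S' (fun _ : Fin r => M)).injective
      rw [map_zero]
      funext j
      have h1 : ∀ y : S' ⊗[S] M, TensorProduct.piRight S S S' (fun _ : Fin r => M) (μ.lTensor S' y) j = φ (k j) • y := by
        intro y
        induction y using TensorProduct.induction_on with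
        | zero => simp
        | tmul a m =>
          show a ⊗ₜ[S] (k j • m) = (φ (k j) * a) ⊗ₜ[S] m
          rw [← TensorProduct.smul_tmul, Algebra.smul_def]
          rfl
        | add x y hx hy => simp [smul_add, ← hx, ← hy]
      rw [h1]
      exact ker_smul_ev1 (φ (k j)) (by
        rw [← RingHom.mem_ker, hker]
        exact Ideal.mem_map_of_mem φ (hk ▸ Ideal.subset_span ⟨j, rfl⟩)) w
    obtain ⟨z, hz⟩ := (Module.Flat.lTensor_exact S' (LinearMap.exact_subtype_ker_map μ) w₀).1 hμ
    exact ⟨γ z, ev1_injective π' hπ' ((hcomp z).trans hz)⟩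

/-- `res ∘ coext = coext ∘ res`. -/
theorem exists_resCoextIso (hπ : Function.Surjective π) (hπ' : Function.Surjective π') (hsq : t.comp π = π'.comp φ)
    (hker : RingHom.ker π' = (RingHom.ker π).map φ) :
    Nonempty (ModuleCat.coextendScalars.{u, u} π' ⋙ ModuleCat.restrictScalars.{u} t ≅
      ModuleCat.restrictScalars.{u} φ ⋙ ModuleCat.coextendScalars.{u, u} π) := by
  have h1 : ∀ (N : ModuleCat.{u} S') (ψ : (ModuleCat.coextendScalars.{u, u} π').obj N),
      ∀ s, π s = 0 → s • (show (ModuleCat.restrictScalars.{u} φ).obj N from ev1 π' ψ) = 0 := fun N ψ s hs =>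
    ker_smul_ev1 (φ s) (by rw [← RingHom.comp_apply, ← hsq, RingHom.comp_apply, hs, map_zero]) ψ
  choose g hg using fun N ψ => exists_ev1' hπ (h1 N ψ)
  let α : ∀ N : ModuleCat.{u} S', (ModuleCat.coextendScalars.{u, u} π' ⋙ ModuleCat.restrictScalars.{u} t).obj N ⟶
      (ModuleCat.restrictScalars.{u} φ ⋙ ModuleCat.coextendScalars.{u, u} π).obj N := fun N =>
    ModuleCat.ofHom (X := (ModuleCat.restrictScalars.{u} t).obj ((ModuleCat.coextendScalars.{u, u} π').obj N))
      { toFun := fun ψ => g N ψ
        map_add' := fun ψ ψ' => ev1_injective π hπ (by rw [ev1_add]; erw [hg, hg, hg]; rfl)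
        map_smul' := fun b (ψ : (ModuleCat.coextendScalars.{u, u} π').obj N) => ev1_injective π hπ (by
          obtain ⟨s, rfl⟩ := hπ b
          show ev1 π (g N (t (π s) • ψ)) = ev1 π (π s • g N ψ)
          rw [hg, ev1_smul, hg, ← RingHom.comp_apply, hsq, RingHom.comp_apply, ev1_smul]
          rfl) }
  haveI : ∀ N, IsIso (α N) := fun N => by
    rw [ConcreteCategory.isIso_iff_bijective]
    refine ⟨fun ψ ψ' h => ev1_injective π' hπ' ((hg N ψ).symm.trans ((congrArg (ev1 π) h).trans (hg N ψ'))), fun χ => ?_⟩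
    obtain ⟨ψ, hψ⟩ := exists_ev1' hπ' (c := (show N from ev1 π χ)) fun s' hs' => by
      have hle : RingHom.ker π' ≤ Submodule.colon (⊥ : Submodule S' N) {(show N from ev1 π χ)} := by
        rw [hker, Ideal.map_le_iff_le_comap]
        intro s hs
        rw [Ideal.mem_comap, Submodule.mem_colon_singleton, Submodule.mem_bot]
        exact ker_smul_ev1 s hs χ
      exact (Submodule.mem_bot _).1 (Submodule.mem_colon_singleton.1 (hle hs'))
    exact ⟨ψ, ev1_injective π hπ ((hg N ψ).trans hψ)⟩
  exact ⟨NatIso.ofComponents (fun N => asIso (α N)) fun {N N'} f => ModuleCat.hom_ext (LinearMap.ext fun ψ =>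
    ev1_injective π hπ (by
      show ev1 π (g N' _) = ev1 π (((ModuleCat.coextendScalars.{u, u} π).map _).hom (g N ψ))
      rw [hg, ev1_map, hg]
      rfl))⟩

/-- Coextension of a quasi-isomorphism of K-injective complexes. -/
theorem quasiIso_coCx_map {I J : DRing.Cx S} [I.IsKInjective] [J.IsKInjective] (j : I ⟶ J) [QuasiIso j] :
    QuasiIso ((coCx π).map j) := by
  obtain ⟨g, hg⟩ := DCat.Q_map_surjective (asIso (Q.map j)).inv
  have h1 := HomotopyCategory.homotopyOfEq _ _ (DCat.homotopy_of_Q_map_eq (f := j ≫ g) (g := 𝟙 I) (by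
    rw [Functor.map_comp, CategoryTheory.Functor.map_id, hg]; exact (asIso (Q.map j)).hom_inv_id))
  have h2 := HomotopyCategory.homotopyOfEq _ _ (DCat.homotopy_of_Q_map_eq (f := g ≫ j) (g := 𝟙 J) (by
    rw [Functor.map_comp, CategoryTheory.Functor.map_id, hg]; exact (asIso (Q.map j)).inv_hom_id))
  let e : HomotopyEquiv ((coCx π).obj I) ((coCx π).obj J) :=
    (ModuleCat.coextendScalars.{u, u} π).mapHomotopyEquiv ⟨j, g, h1, h2⟩
  exact (inferInstance : QuasiIso e.hom)

include hπ hπ' hsq hker in
/-- Flat base change. -/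
theorem nonempty_flatBC [IsNoetherianRing S] (hφ : φ.Flat) {R : Dual.D S ⥤ Dual.D T} (adj : DRing.restrictD π ⊣ R)
    {R' : Dual.D S' ⥤ Dual.D T'} (adj' : DRing.restrictD π' ⊣ R') (X : Dual.D S) (a : ℤ) [X.IsGE a] :
    ∃ (I : DRing.Cx S) (W : DRing.Cx T), Nonempty (Q.obj I ≅ X) ∧ Nonempty (R.obj X ≅ Q.obj W) ∧
      Nonempty (R'.obj (Q.obj ((exCx φ).obj I)) ≅ Q.obj ((exCx t).obj W)) := by
  obtain ⟨I, hIa, hIK, hIi, ⟨eI⟩⟩ := DCat.Amplitude.exists_kInjective_rep X a
  haveI := hIK
  obtain ⟨e₁⟩ := nonempty_value adj I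
  choose β hβ using exists_betaMap (φ := φ) hπ hπ' hsq hker
  have hnat : ∀ {M N : ModuleCat.{u} S} (f : M ⟶ N),
      (ModuleCat.extendScalars.{u, u, u} t).map ((ModuleCat.coextendScalars.{u, u} π).map f) ≫ β N =
        β M ≫ (ModuleCat.coextendScalars.{u, u} π').map ((ModuleCat.extendScalars.{u, u, u} φ).map f) := by
    intro M N f
    refine ModuleCat.ExtendScalars.hom_ext fun ψ => ev1_injective π' hπ' ?_
    exact ((hβ N _).trans (congrArg (one_t φ) (ev1_map π f ψ))).trans
      ((congrArg ((ModuleCat.extendScalars.{u, u, u} φ).map f).hom (hβ M ψ)).symm.trans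
        (ev1_map π' ((ModuleCat.extendScalars.{u, u, u} φ).map f) _).symm)
  haveI : ∀ M, IsIso (β M) := fun M =>
    (ConcreteCategory.isIso_iff_bijective _).2 (bijective_betaMap hπ hπ' hsq hker hφ M (hβ M))
  let νm : ModuleCat.coextendScalars.{u, u} π ⋙ ModuleCat.extendScalars.{u, u, u} t ≅
      ModuleCat.extendScalars.{u, u, u} φ ⋙ ModuleCat.coextendScalars.{u, u} π' :=
    NatIso.ofComponents (fun M => asIso (β M)) fun f => hnat f
  let ν := (NatIso.mapHomologicalComplex νm (ComplexShape.up ℤ)).app I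
  let I' := (exCx φ).obj I
  obtain ⟨N, j, hN⟩ := DCat.exists_kInj_functor (A := ModuleCat.{u} S')
  obtain ⟨hJ, hq, -, hJi⟩ := hN I'
  let J := N.obj I'
  let k : I' ⟶ J := j.app I'
  haveI : J.IsKInjective := hJ
  haveI : QuasiIso k := hq
  obtain ⟨e₂⟩ := nonempty_value' adj' k
  let Res := ModuleCat.restrictScalars.{u} φ
  let P := (Res.mapHomologicalComplex (ComplexShape.up ℤ))
  haveI : CochainComplex.IsStrictlyGE (P.obj I') a := (CochainComplex.isStrictlyGE_iff _ a).2 fun n hn =>
    Res.map_isZero ((ModuleCat.extendScalars.{u, u, u} φ).map_isZero ((CochainComplex.isStrictlyGE_iff I a).1 hIa n hn))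
  haveI : ∀ n, Injective ((P.obj I').X n) := fun n =>
    haveI := hIi n
    injective_restrict_extend hφ (I.X n)
  haveI : CochainComplex.IsKInjective (P.obj I') := CochainComplex.isKInjective_of_injective _ a
  haveI : CochainComplex.IsKInjective (P.obj J) := by
    haveI : PreservesColimitsOfSize.{0, 0} (ModuleCat.extendScalars.{u, u, u} φ) :=
      (ModuleCat.extendRestrictScalarsAdj φ).leftAdjoint_preservesColimits
    haveI : (ModuleCat.extendScalars.{u, u, u} φ).PreservesMonomorphisms :=
      ⟨fun g _ => DCat.FlatPull.mono_extendScalars_of_flat φ hφ g⟩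
    haveI : (ModuleCat.extendScalars.{u, u, u} φ).PreservesHomology :=
      Functor.preservesHomology_of_preservesMonos_and_cokernels _
    haveI : PreservesFiniteLimits (ModuleCat.extendScalars.{u, u, u} φ) :=
      Functor.preservesFiniteLimits_of_preservesHomology _
    exact DCat.FlatPull.isKInjective_map_of_adj (ModuleCat.extendRestrictScalarsAdj φ) J
  haveI : QuasiIso ((coCx π).map (P.map k)) := quasiIso_coCx_map (P.map k)
  obtain ⟨ρ⟩ := exists_resCoextIso (φ := φ) hπ hπ' hsq hker
  haveI : QuasiIso (((ModuleCat.restrictScalars.{u} t).mapHomologicalComplex (ComplexShape.up ℤ)).map ((coCx π').map k)) := by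
    let ρc := NatIso.mapHomologicalComplex ρ (ComplexShape.up ℤ)
    have hnat' := ρc.hom.naturality k
    let G₂ := (ModuleCat.restrictScalars.{u} φ ⋙ ModuleCat.coextendScalars.{u, u} π).mapHomologicalComplex (ComplexShape.up ℤ)
    let G₁ := (ModuleCat.coextendScalars.{u, u} π' ⋙ ModuleCat.restrictScalars.{u} t).mapHomologicalComplex (ComplexShape.up ℤ)
    haveI : QuasiIso (G₂.map k) := (inferInstance : QuasiIso ((coCx π).map (P.map k)))
    have : QuasiIso (G₁.map k) := quasiIso_of_arrow_mk_iso (G₂.map k) (G₁.map k)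
      (Arrow.isoMk (ρc.app I') (ρc.app J) hnat'.symm).symm
    exact this
  haveI : QuasiIso ((coCx π').map k) :=
    (HomologicalComplex.quasiIso_map_iff_of_preservesHomology _ (ModuleCat.restrictScalars.{u} t)).1 inferInstance
  refine ⟨I, (coCx π).obj I, ⟨eI⟩, ⟨R.mapIso eI.symm ≪≫ e₁⟩, ⟨e₂ ≪≫ (asIso (Q.map ((coCx π').map k))).symm ≪≫
    Q.mapIso ν.symm⟩⟩

end Groth.Agent.DualLib.Shriek
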