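import Groth.Agent.DualLib.SurjTensor
import Groth.Agent.DualLib.OmegaShriek

/-! `φ^!(K) = (K ⊗ A) ⊗ ω` for flat maps of finite type. -/

set_option autoImplicit false
set_option backward.isDefEq.respectTransparency false
set_option backward.defeqAttrib.useBackward true
set_option linter.style.haveILetI false

universe u

open CategoryTheory CategoryTheory.Limits CategoryTheory.MonoidalCategory HomologicalComplex DerivedCategory

attribute [local instance] HasDerivedCategory.standard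

namespace Groth.Agent.DualLib.ShriekT

open Groth.Agent Groth.Agent.DCat

/-- The unit is the ring in degree zero. -/
noncomputable def unitIso (P : Type u) [CommRing P] : DTen.unit P ≅ Dual.inD P P :=
  ((DerivedCategory.singleFunctorIsoCompQ (ModuleCat.{u} P) 0).app (ModuleCat.of P P)).symm

/-- The derived tensor product commutes with shifts. -/
theorem nonempty_LTen_shift {A : Type u} [CommRing A] [DTen.HasLTen A] (V : DRing.Cx A) (X : Dual.D A) (n : ℤ) :
    Nonempty (((DTen.LTen₂ A).obj (DerivedCategory.Q.obj V, X))⟦n⟧ ≅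
      (DTen.LTen₂ A).obj ((DerivedCategory.Q.obj V)⟦n⟧, X)) := by
  obtain ⟨L, hL, ⟨e⟩⟩ := exists_kflat_obj X
  haveI := isIso_ε_of_right (K := V) hL
  haveI := isIso_ε_of_right (K := V⟦n⟧) hL
  exact ⟨(shiftFunctor (Dual.D A) n).mapIso ((DTen.LTen₂ A).mapIso (Iso.prod (Iso.refl _) e.symm) ≪≫
      asIso ((DTen.ε A).app (V, L))) ≪≫
    ((DerivedCategory.Q).commShiftIso n).symm.app (V ⊗ L) ≪≫
    DerivedCategory.Q.mapIso ((((modT A).map₂CochainComplex.flip.obj L).commShiftIso n).app V).symm ≪≫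
    (asIso ((DTen.ε A).app (V⟦n⟧, L))).symm ≪≫
    (DTen.LTen₂ A).mapIso (Iso.prod (((DerivedCategory.Q).commShiftIso n).app V) e)⟩

/-- Shifts of a perfect module are compact. -/
theorem cpt_res_ringCx {P B : Type u} [CommRing P] [CommRing B] (φ : P →+* B) {F : DRing.Cx P} {m : ℕ}
    {π : F ⟶ Shriek.sgl (P := P) ((ModuleCat.restrictScalars φ).obj (ModuleCat.of B B))}
    (h : Omega.Res φ F m π) (n : ℤ) : Cpt ((DRing.restrictD φ).obj (DerivedCategory.Q.obj (ringCx B n))) := by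
  haveI := h.qis
  haveI := DCat.isIso_Q_map_of_qis π
  refine cpt_of_perfect ⟨F⟦-n⟧, -(m : ℤ) + n, n, fun i hi => ?_, fun i => ?_, ⟨?_⟩⟩
  · exact h.van (i + -n) (by omega)
  · exact h.fp (i + -n)
  · exact ((DerivedCategory.Q).commShiftIso (-n)).app F ≪≫ (shiftFunctor (Dual.D P) (-n)).mapIso (asIso (DerivedCategory.Q.map π)) ≪≫
      ((DerivedCategory.Q).commShiftIso (-n)).symm.app _ ≪≫
      DerivedCategory.Q.mapIso ((((CochainComplex.singleFunctors (ModuleCat.{u} P)).shiftIso (-n) n 0 (by omega)).app _) ≪≫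
        ((HomologicalComplex.singleMapHomologicalComplex (ModuleCat.restrictScalars.{u} φ) (ComplexShape.up ℤ) n).app
          (ModuleCat.of B B)).symm) ≪≫
      ((ModuleCat.restrictScalars.{u} φ).mapDerivedCategoryFactors.app (ringCx B n)).symm

variable {R A : Type u} [CommRing R] [CommRing A] [IsNoetherianRing R] [Algebra R A] [Module.Flat R A] {n : ℕ}
  (ψ : MvPolynomial (Fin n) R →ₐ[R] A) (hψ : Function.Surjective ψ)
  [DRing.HasLBaseChange (algebraMap R (MvPolynomial (Fin n) R))]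
  {Rψ : Dual.D (MvPolynomial (Fin n) R) ⥤ Dual.D A} (adj : DRing.restrictD ψ.toRingHom ⊣ Rψ)

include hψ adj in
/-- `φ^!(K) = (K ⊗ A) ⊗ ω`. -/
theorem nonempty_shriekVia_tensor (W : DRing.Cx A)
    (hW : Nonempty (DRing.toD W ≅ Dual2.shriekVia n Rψ (Dual.inD R R)))
    [DRing.HasLBaseChange (algebraMap R A)] [DRing.HasLTensorCx A W] (K : Dual.D R) :
    Nonempty (Dual2.shriekVia n Rψ K ≅ (DRing.LTensorCx A W).obj ((DRing.LBaseChange (algebraMap R A)).obj K)) := by
  obtain ⟨eW⟩ := hW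
  let P := MvPolynomial (Fin n) R
  let φ := ψ.toRingHom
  haveI := hasLTen P
  haveI := hasLTen A
  haveI := DCat.hasRHom (A := A)
  haveI := DCat.hasLBaseChange φ
  let W₀ := DerivedCategory.Q.objPreimage (Rψ.obj (DTen.unit P))
  let e₀ : DerivedCategory.Q.obj W₀ ≅ Rψ.obj (DTen.unit P) := DerivedCategory.Q.objObjPreimageIso _
  haveI := DCat.hasLTensorCx ((DTen.resCx φ).obj W₀)
  let ε := (DRing.restrictD φ).map e₀.hom ≫ adj.counit.app (DTen.unit P)
  have hε : SurjT.Univ φ (DerivedCategory.Q.obj W₀) ε := fun Z => by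
    have h1 : (fun z : Z ⟶ DerivedCategory.Q.obj W₀ => (DRing.restrictD φ).map z ≫ ε) =
        (adj.homEquiv Z (DTen.unit P)).symm ∘ e₀.homToEquiv := funext fun z => by
      simp [ε, Iso.homToEquiv, Adjunction.homEquiv_counit, Functor.map_comp]
      rfl
    rw [h1]
    exact (Equiv.bijective _).comp (Equiv.bijective _)
  obtain ⟨F, π, hres⟩ := Omega.exists_res ψ hψ
  let Y := (DRing.LBaseChange (algebraMap R P)).obj K
  haveI := SurjT.isIso_Θ φ W₀ ε adj hψ hε (cpt_res_ringCx φ hres) Y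
  obtain ⟨b⟩ := Shriek.nonempty_lbase_inD (R := R) (n := n)
  let eW₀ : (DerivedCategory.Q.obj W₀)⟦(n : ℤ)⟧ ≅ DerivedCategory.Q.obj W :=
    (shiftFunctor (Dual.D A) (n : ℤ)).mapIso (e₀ ≪≫ Rψ.mapIso (unitIso P ≪≫ b.symm)) ≪≫ eW.symm
  let X := (DRing.LBaseChange φ).obj Y
  let eX : X ≅ (DRing.LBaseChange (algebraMap R A)).obj K :=
    (LBC.compIso (algebraMap R P) φ (algebraMap R A) (RingHom.ext fun r => (ψ.commutes r).symm)).app K
  obtain ⟨s⟩ := nonempty_LTen_shift W₀ X (n : ℤ)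
  haveI := isIso_symm_app' (A := A) (DerivedCategory.Q.obj W) X
  haveI := isIso_symm_app' (A := A) X (DerivedCategory.Q.obj W)
  haveI := SurjT.isIso_toLTensorCx (P := A) W
  exact ⟨(shiftFunctor (Dual.D A) (n : ℤ)).mapIso (asIso ((SurjT.Θ φ W₀ ε adj).app Y)).symm ≪≫ s ≪≫
    (DTen.LTen₂ A).mapIso (Iso.prod eW₀ (Iso.refl X)) ≪≫ asIso ((DTen.symm A).app (X, DerivedCategory.Q.obj W)) ≪≫
    (asIso (DTen.toLTensorCx A W)).app X ≪≫ (DRing.LTensorCx A W).mapIso eX⟩

end Groth.Agent.DualLib.ShriekT
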