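import Groth.Agent.DualLib.OmegaCM
import Groth.Agent.DualLib.ShriekFlatSheaf
import Groth.Agent.DualLib.ShriekCM
import Groth.Agent.DualLib.ShriekAmpMain

/-!
# `Ext_P(P/I, P)` as the cohomology of `φ^! A`, and Cohen–Macaulay equidimensional fibres
-/

set_option autoImplicit false
set_option backward.isDefEq.respectTransparency false
set_option backward.defeqAttrib.useBackward true
set_option linter.style.haveILetI false
set_option linter.unusedSectionVars false
set_option synthInstance.maxHeartbeats 100000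

universe u

open CategoryTheory CategoryTheory.Limits DerivedCategory AlgebraicGeometry
open scoped TensorProduct

attribute [local instance] HasDerivedCategory.standard
attribute [-instance] Int.instConditionallyCompleteLinearOrder
attribute [local instance] Algebra.TensorProduct.rightAlgebra

namespace Groth.Agent.DualLib.OmegaExt

open Groth.Agent Groth.Agent.DualLib

variable {R A : Type u} [CommRing R] [IsNoetherianRing R] [CommRing A] [Algebra R A] [IsNoetherianRing A]
  [Module.Flat R A] {n : ℕ}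
  (ψ : MvPolynomial (Fin n) R →ₐ[R] A) (hψ : Function.Surjective ψ)
  [DRing.HasLBaseChange (algebraMap R (MvPolynomial (Fin n) R))]
  {Rψ : Dual.D (MvPolynomial (Fin n) R) ⥤ Dual.D A} (adj : DRing.restrictD ψ.toRingHom ⊣ Rψ)

include hψ adj in
/-- `H^i(φ^! R) = Ext^{n+i}_P(A, P)`, linearly over `P`. -/
theorem exists_HD_ext (i : ℤ) (j : ℕ) (hj : (n : ℤ) + i = j) (I : Ideal (MvPolynomial (Fin n) R))
    (hI : RingHom.ker ψ.toRingHom = I) :
    ∃ Φ : Dual.HD A (Dual2.shriekVia n Rψ (Dual.inD R R)) i ≃+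
      Abelian.Ext (ModuleCat.of (MvPolynomial (Fin n) R) (MvPolynomial (Fin n) R ⧸ I))
        (ModuleCat.of (MvPolynomial (Fin n) R) (MvPolynomial (Fin n) R)) j,
      ∀ a m, Φ (ψ a • m) = a • Φ m := by
  subst hI
  let P := MvPolynomial (Fin n) R
  letI : Algebra P A := ψ.toRingHom.toAlgebra
  obtain ⟨b⟩ := Shriek.nonempty_lbase_inD (R := R) (n := n)
  let L := Dual.inD P P
  let σ : Dual.HD A (Dual2.shriekVia n Rψ (Dual.inD R R)) i ≃ₗ[A] Dual.HD A (Rψ.obj L) (j : ℤ) :=
    (((homologyFunctor (ModuleCat.{u} A) 0).shiftIso (n : ℤ) i (j : ℤ) hj).app _).toLinearEquiv ≪≫ₗ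
      ((homologyFunctor (ModuleCat.{u} A) (j : ℤ)).mapIso (Rψ.mapIso b)).toLinearEquiv
  obtain ⟨e, he⟩ := FiniteAdjoint.exists_relE (A := P) (B := A) adj A L (j : ℤ)
  let l : P →ₗ[P] FiniteAdjoint.res P A A :=
    { toFun := fun a => (ψ a : A)
      map_add' := fun a b => map_add ψ a b
      map_smul' := fun a b => map_mul ψ a b }
  let φ : (P ⧸ RingHom.ker ψ.toRingHom) →ₗ[P] FiniteAdjoint.res P A A := Submodule.liftQ _ l fun a ha => ha
  have hφ : Function.Bijective φ := by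
    refine ⟨?_, fun z => ?_⟩
    · rw [← LinearMap.ker_eq_bot, Submodule.ker_liftQ, eq_bot_iff]
      rintro _ ⟨a, ha, rfl⟩
      rw [Submodule.mem_bot, Submodule.mkQ_apply, Submodule.Quotient.mk_eq_zero]
      exact ha
    · obtain ⟨a, ha⟩ := hψ z
      exact ⟨Submodule.Quotient.mk a, ha⟩
  let τ := σ ≪≫ₗ (eSelf (Rψ.obj L) (j : ℤ)).symm
  let c := econgr L (LinearEquiv.ofBijective φ hφ) (j : ℤ)
  let h : DualLib.E L (P ⧸ RingHom.ker ψ.toRingHom) (j : ℤ) ≃ₗ[P]
      Abelian.Ext (ModuleCat.of P (P ⧸ RingHom.ker ψ.toRingHom)) (ModuleCat.of P P) j :=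
    (Abelian.Ext.homLinearEquiv (R := P)).symm
  refine ⟨((τ.toAddEquiv.trans e).trans c.toAddEquiv).trans h.toAddEquiv, fun a m => ?_⟩
  show h (c (e (τ (algebraMap P A a • m)))) = a • h (c (e (τ m)))
  rw [map_smul, he, map_smul, map_smul]

/-- `trdeg` of a point over its image, in algebraic terms. -/
theorem trdegHom_specMap_eq [Algebra.FiniteType R A] (q : PrimeSpectrum A) :
    DimLib.trdegHom ((Spec.map (CommRingCat.ofHom (algebraMap R A))).residueFieldMap q).hom =
      EGA43.FibDepth.trd R q := by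
  have h0 := EGA43.DimFormula.trdegHom_specMap (R := CommRingCat.of R) (S := CommRingCat.of A)
    (CommRingCat.ofHom (algebraMap R A)) q
  have hA : (CommRingCat.ofHom (algebraMap R A)).hom.toAlgebra = ‹Algebra R A› :=
    Algebra.algebra_ext _ _ fun _ => rfl
  rw [hA] at h0
  exact h0

/-- Local fibre dimension is at most `d` if all fibres have all components of dimension at most `d`. -/
theorem fibreDimAt_le_of_fibres [Algebra.FiniteType R A] (d : ℕ)
    (h : ∀ (r : PrimeSpectrum R) (Q : PrimeSpectrum (r.asIdeal.ResidueField ⊗[R] A)), IsMin Q →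
      Order.coheight Q = (d : ℕ∞)) (q : PrimeSpectrum A) :
    FlatMor.fibreDimAt (Spec.map (CommRingCat.ofHom (algebraMap R A))) q ≤ (d : WithBot ℕ∞) := by
  let f := Spec.map (CommRingCat.ofHom (algebraMap R A))
  haveI : LocallyOfFiniteType f :=
    (HasRingHomProperty.Spec_iff (P := @LocallyOfFiniteType)).2 (RingHom.finiteType_algebraMap.2 inferInstance)
  rw [FlatMorDim.fibreDimAt_le_iff]
  intro q' _ _
  let q'' : PrimeSpectrum A := q'
  show DimLib.trdegHom (f.residueFieldMap q'').hom ≤ d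
  rw [trdegHom_specMap_eq]
  let r : PrimeSpectrum R := ⟨q''.asIdeal.comap (algebraMap R A), inferInstance⟩
  obtain ⟨y, hy⟩ := EGA43.FibDepth.exists_prime_over (A := R) (p := r.asIdeal) (r.asIdeal.ResidueField ⊗[R] A) q'' rfl
  obtain ⟨Q, hQ, hQy⟩ := Ideal.exists_minimalPrimes_le (bot_le : ⊥ ≤ y.asIdeal)
  let Q' : PrimeSpectrum (r.asIdeal.ResidueField ⊗[R] A) := ⟨Q, hQ.1.1⟩
  have hc := h r Q' (PrimeSpectrum.isMin_iff.2 hQ)
  have h1 := Order.coheight_anti (show Q' ≤ y from hQy)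
  rw [hc] at h1
  have h2 := ringKrullDim_quotient_eq_coheight y
  rw [EGA43.FibDepth.ringKrullDim_quotient_eq_trd (R := A) r.asIdeal y, hy] at h2
  have h3 : ((EGA43.FibDepth.trd R q'' : ℕ∞) : WithBot ℕ∞) ≤ ((d : ℕ∞) : WithBot ℕ∞) :=
    h2.le.trans (WithBot.coe_le_coe.2 h1)
  exact_mod_cast h3

/-- Fibre dimension at a point, as a natural number, with a generisation in the fibre attaining it. -/
theorem exists_fibreDim [Algebra.FiniteType R A] (r : Ideal R) [r.IsPrime] (y : PrimeSpectrum (r.ResidueField ⊗[R] A)) :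
    ∃ d : ℕ, ∃ y' ≤ y,
      FlatMor.fibreDimAt (Spec.map (CommRingCat.ofHom (algebraMap R A))) (PrimeSpectrum.comap (OmegaCM.incl r) y) ≤
        (d : WithBot ℕ∞) ∧ (d : WithBot ℕ∞) ≤ ringKrullDim ((r.ResidueField ⊗[R] A) ⧸ y'.asIdeal) := by
  let f := Spec.map (CommRingCat.ofHom (algebraMap R A))
  haveI : LocallyOfFiniteType f :=
    (HasRingHomProperty.Spec_iff (P := @LocallyOfFiniteType)).2 (RingHom.finiteType_algebraMap.2 inferInstance)
  obtain ⟨N, ψ', hψ'⟩ := Algebra.FiniteType.iff_quotient_mvPolynomial''.1 (inferInstance : Algebra.FiniteType R A)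
  let q := PrimeSpectrum.comap (OmegaCM.incl r) y
  have hle := Omega.fibreDimAt_le ψ' hψ' q
  classical
  let d := Nat.find (p := fun d : ℕ => FlatMor.fibreDimAt f q ≤ (d : WithBot ℕ∞)) ⟨N, hle⟩
  have hd : FlatMor.fibreDimAt f q ≤ (d : WithBot ℕ∞) :=
    Nat.find_spec (p := fun d : ℕ => FlatMor.fibreDimAt f q ≤ (d : WithBot ℕ∞)) ⟨N, hle⟩
  have hr : r = q.asIdeal.comap (algebraMap R A) := (comap_algebraMap_eq (R := R) (A := A) r y)
  rcases Nat.eq_zero_or_pos d with h0 | hpos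
  · refine ⟨d, y, le_rfl, hd, ?_⟩
    rw [h0]
    exact ringKrullDim_nonneg_of_nontrivial
  · have hge : ¬ FlatMor.fibreDimAt f q ≤ ((d - 1 : ℕ) : WithBot ℕ∞) :=
      Nat.find_min (p := fun d : ℕ => FlatMor.fibreDimAt f q ≤ (d : WithBot ℕ∞)) ⟨N, hle⟩ (show d - 1 < d by omega)
    have hd' : (d : WithBot ℕ∞) ≤ FlatMor.fibreDimAt f q := by
      rcases hv : FlatMor.fibreDimAt f q with _ | (_ | v)
      · exact absurd (hv.le.trans bot_le) hge
      · rw [hv] at hd
        exact absurd (WithBot.coe_le_coe.1 hd) (not_le.2 (ENat.natCast_lt_top d))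
      · rw [hv] at hge
        have : ¬ v ≤ d - 1 := fun h => hge (show ((v : ℕ∞) : WithBot ℕ∞) ≤ (((d - 1 : ℕ) : ℕ∞) : WithBot ℕ∞) by exact_mod_cast h)
        show (((d : ℕ∞) : WithBot ℕ∞)) ≤ ((v : ℕ∞) : WithBot ℕ∞)
        exact_mod_cast (show d ≤ v by omega)
    obtain ⟨y₁, y', hy₁, hle', hdim⟩ := OmegaCM.exists_dim_ge r q hr d hd'
    exact ⟨d, y', le_trans hle' (EGA43.FibDepth.le_of_comap_le (R := A) r ((congrArg PrimeSpectrum.asIdeal hy₁).le)), hd, hdim⟩
where
  comap_algebraMap_eq {R A : Type u} [CommRing R] [CommRing A] [Algebra R A] (r : Ideal R) [r.IsPrime]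
      (y : PrimeSpectrum (r.ResidueField ⊗[R] A)) :
      r = (PrimeSpectrum.comap (OmegaCM.incl r) y).asIdeal.comap (algebraMap R A) := by
    show r = (y.asIdeal.comap (OmegaCM.incl r)).comap (algebraMap R A)
    rw [Ideal.comap_comap]
    have : (OmegaCM.incl (A := A) r).comp (algebraMap R A) = algebraMap R (r.ResidueField ⊗[R] A) :=
      (Algebra.TensorProduct.includeRight : A →ₐ[R] r.ResidueField ⊗[R] A).comp_algebraMap
    rw [this, IsScalarTower.algebraMap_eq R r.ResidueField (r.ResidueField ⊗[R] A), ← Ideal.comap_comap,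
      (Ideal.eq_bot_of_prime (y.asIdeal.comap (algebraMap r.ResidueField (r.ResidueField ⊗[R] A)))),
      ← RingHom.ker_eq_comap_bot, Ideal.ker_algebraMap_residueField]

include hψ adj in
/-- Concentration in degree `-d` from Cohen–Macaulay fibres with components of dimension `d`. -/
theorem subsingleton_of_cm_fibres [Algebra.FiniteType R A] (d : ℕ)
    (hcm : ∀ (r : PrimeSpectrum R), LocCoh.IsCohenMacaulayRing (r.asIdeal.ResidueField ⊗[R] A))
    (h : ∀ (r : PrimeSpectrum R) (Q : PrimeSpectrum (r.asIdeal.ResidueField ⊗[R] A)), IsMin Q →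
      Order.coheight Q = (d : ℕ∞)) (i : ℤ) (hi : i ≠ -(d : ℤ)) :
    Subsingleton (Dual.HD A (Dual2.shriekVia n Rψ (Dual.inD R R)) i) := by
  refine (Module.support_eq_empty_iff (R := A)).1 (Set.eq_empty_of_forall_notMem fun q hq => hi ?_)
  have hd := fibreDimAt_le_of_fibres d h q
  have h1 := Shriek.neg_le_of_nontrivial ψ hψ adj q d hd i (Module.mem_support_iff.1 hq)
  let r : PrimeSpectrum R := ⟨q.asIdeal.comap (algebraMap R A), inferInstance⟩
  obtain ⟨y, hy⟩ := EGA43.FibDepth.exists_prime_over (A := R) (p := r.asIdeal) (r.asIdeal.ResidueField ⊗[R] A) q rfl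
  obtain ⟨Q, hQ, hQy⟩ := Ideal.exists_minimalPrimes_le (bot_le : ⊥ ≤ y.asIdeal)
  let y' : PrimeSpectrum (r.asIdeal.ResidueField ⊗[R] A) := ⟨Q, hQ.1.1⟩
  have hy' : (d : WithBot ℕ∞) ≤ ringKrullDim ((r.asIdeal.ResidueField ⊗[R] A) ⧸ y'.asIdeal) := by
    rw [ringKrullDim_quotient_eq_coheight, h r y' (PrimeSpectrum.isMin_iff.2 hQ)]
    exact le_rfl
  haveI := hcm r
  have hq' : PrimeSpectrum.comap (OmegaCM.incl r.asIdeal) y = q := hy
  obtain ⟨hup, -⟩ := OmegaCM.concentrated_of_cm ψ hψ adj r.asIdeal y y' hQy d (by rw [hq']; exact hd) hy'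
    (LocCoh.IsCohenMacaulayRing.isCohenMacaulayLocalRing_localization y.asIdeal)
  by_contra hne
  exact hup i (by omega) (hq'.symm ▸ hq)

include hψ adj in
/-- Concentration gives Cohen–Macaulay equidimensional fibres. -/
theorem cm_fibres_of_subsingleton [Algebra.FiniteType R A] (d : ℕ)
    (hv : ∀ i : ℤ, i ≠ -(d : ℤ) → Subsingleton (Dual.HD A (Dual2.shriekVia n Rψ (Dual.inD R R)) i)) (r : PrimeSpectrum R) :
    LocCoh.IsCohenMacaulayRing (r.asIdeal.ResidueField ⊗[R] A) ∧
      ∀ Q : PrimeSpectrum (r.asIdeal.ResidueField ⊗[R] A), IsMin Q → Order.coheight Q = (d : ℕ∞) := by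
  have hno : ∀ i : ℤ, i ≠ -(d : ℤ) → ∀ q : PrimeSpectrum A,
      q ∉ Module.support A (Dual.HD A (Dual2.shriekVia n Rψ (Dual.inD R R)) i) := fun i hi q => by
    haveI := hv i hi
    exact notMem_support_of_subsingleton q
  have hcm : ∀ y : PrimeSpectrum (r.asIdeal.ResidueField ⊗[R] A), LocCoh.IsCohenMacaulayLocalRing (Localization.AtPrime y.asIdeal) := fun y => by
    obtain ⟨e, y', hle, h1, h2⟩ := exists_fibreDim r.asIdeal y
    exact OmegaCM.cm_of_concentrated ψ hψ adj r.asIdeal y y' hle e h1 h2 (-(d : ℤ)) fun i hi q _ => hno i hi q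
  haveI : IsNoetherianRing (r.asIdeal.ResidueField ⊗[R] A) := Algebra.FiniteType.isNoetherianRing r.asIdeal.ResidueField _
  refine ⟨{ isCohenMacaulayLocalRing_localization := fun y _ => hcm ⟨y, ‹_›⟩ }, fun Q hQ => ?_⟩
  obtain ⟨e, y', hle, h1, h2⟩ := exists_fibreDim r.asIdeal Q
  obtain rfl : y' = Q := le_antisymm hle (hQ hle)
  obtain ⟨-, hmem⟩ := OmegaCM.concentrated_of_cm ψ hψ adj r.asIdeal y' y' le_rfl e h1 h2 (hcm y')
  have hed : e = d := by
    by_contra hne
    exact hno _ (by omega) _ hmem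
  subst hed
  have hT := EGA43.FibDepth.ringKrullDim_quotient_eq_trd (R := A) r.asIdeal y'
  let f := Spec.map (CommRingCat.ofHom (algebraMap R A))
  haveI : LocallyOfFiniteType f :=
    (HasRingHomProperty.Spec_iff (P := @LocallyOfFiniteType)).2 (RingHom.finiteType_algebraMap.2 inferInstance)
  rw [FlatMorDim.fibreDimAt_le_iff] at h1
  have h3 := h1 _ rfl specializes_rfl
  rw [trdegHom_specMap_eq] at h3
  have h4 : ringKrullDim ((r.asIdeal.ResidueField ⊗[R] A) ⧸ y'.asIdeal) ≤ (e : WithBot ℕ∞) := by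
    rw [hT]; exact_mod_cast h3
  have h5 := (ringKrullDim_quotient_eq_coheight y').symm.trans (le_antisymm h4 h2)
  exact WithBot.coe_inj.1 h5

end Groth.Agent.DualLib.OmegaExt
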