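import Groth.Agent.DualLib.ShriekValue
import Mathlib.LinearAlgebra.TensorProduct.Quotient
import Mathlib.Algebra.Homology.DerivedCategory.ShortExact

/-! `RHom_S(S/f, M)⟦1⟧ = M/fM`. -/

set_option autoImplicit false
set_option backward.isDefEq.respectTransparency false
set_option backward.defeqAttrib.useBackward true
set_option linter.style.haveILetI false

universe u

open CategoryTheory CategoryTheory.Limits DerivedCategory
open scoped TensorProduct ChangeOfRings

attribute [local instance] HasDerivedCategory.standard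

namespace Groth.Agent.DualLib.Shriek

variable {S B : Type u} [CommRing S] [CommRing B] {θ : S →+* B} (hθ : Function.Surjective θ) {f : S}
  (hker : RingHom.ker θ = Ideal.span {f})

/-- The class `1 ⊗ m`. -/
noncomputable def one_t (θ : S →+* B) {M : ModuleCat.{u} S} (m : M) : (ModuleCat.extendScalars.{u, u, u} θ).obj M :=
  (1 : B) ⊗ₜ[S,θ] m

lemma one_t_add (θ : S →+* B) {M : ModuleCat.{u} S} (m m' : M) : one_t θ (m + m') = one_t θ m + one_t θ m' :=
  TensorProduct.tmul_add _ _ _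

lemma one_t_smul (θ : S →+* B) {M : ModuleCat.{u} S} (s : S) (m : M) : one_t θ (s • m) = θ s • one_t θ m := by
  letI := θ.toAlgebra
  show (1 : B) ⊗ₜ[S] (s • m) = θ s • ((1 : B) ⊗ₜ[S] m)
  rw [← TensorProduct.smul_tmul, TensorProduct.smul_tmul', Algebra.smul_def, smul_eq_mul]
  rfl

lemma map_one_t (θ : S →+* B) {M N : ModuleCat.{u} S} (g : M ⟶ N) (m : M) :
    ((ModuleCat.extendScalars.{u, u, u} θ).map g).hom (one_t θ m) = one_t θ (g.hom m) := rfl

include hker in
lemma one_t_smul_f {M : ModuleCat.{u} S} (m : M) : one_t θ (f • m) = 0 := by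
  have h : θ f = 0 := by
    rw [← RingHom.mem_ker, hker]; exact Ideal.mem_span_singleton_self f
  rw [one_t_smul, h, zero_smul]

include hθ in
lemma one_t_surjective {M : ModuleCat.{u} S} (z : (ModuleCat.extendScalars.{u, u, u} θ).obj M) :
    ∃ m, one_t θ m = z := by
  letI := θ.toAlgebra
  induction z using TensorProduct.induction_on with
  | zero => exact ⟨0, TensorProduct.tmul_zero _ _⟩
  | tmul b m =>
    obtain ⟨s, rfl⟩ := hθ b
    refine ⟨s • m, ?_⟩
    show (1 : B) ⊗ₜ[S] (s • m) = θ s ⊗ₜ[S] m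
    rw [← TensorProduct.smul_tmul, Algebra.smul_def, mul_one]
    rfl
  | add x y hx hy =>
    obtain ⟨m, rfl⟩ := hx
    obtain ⟨m', rfl⟩ := hy
    exact ⟨m + m', one_t_add θ m m'⟩

include hθ hker in
lemma one_t_eq_zero {M : ModuleCat.{u} S} {m : M} (h : one_t θ m = 0) : ∃ m', f • m' = m := by
  letI := θ.toAlgebra
  let e : B ≃ₗ[S] S ⧸ RingHom.ker (Algebra.ofId S B) :=
    (Ideal.quotientKerAlgEquivOfSurjective (f := Algebra.ofId S B) hθ).symm.toLinearEquiv
  have h1 : TensorProduct.quotTensorEquivQuotSMul M (RingHom.ker (Algebra.ofId S B))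
      (TensorProduct.congr e (LinearEquiv.refl S M) ((1 : B) ⊗ₜ[S] m)) = 0 := by
    rw [show ((1 : B) ⊗ₜ[S] m) = 0 from h, map_zero, map_zero]
  rw [TensorProduct.congr_tmul, show e 1 = Ideal.Quotient.mk _ 1 from map_one
    (Ideal.quotientKerAlgEquivOfSurjective (f := Algebra.ofId S B) hθ).symm, LinearEquiv.refl_apply,
    TensorProduct.quotTensorEquivQuotSMul_mk_tmul, one_smul, Submodule.Quotient.mk_eq_zero] at h1
  have hk : RingHom.ker (Algebra.ofId S B) = Ideal.span {f} := hker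
  rw [hk, Submodule.ideal_span_singleton_smul] at h1
  obtain ⟨m', -, hm'⟩ := (Submodule.mem_smul_pointwise_iff_exists m f ⊤).1 h1
  exact ⟨m', hm'⟩

section Coext

variable (θ)

/-- `1`, in the restriction. -/
def oneR : (ModuleCat.restrictScalars.{u} θ).obj (ModuleCat.of B B) := (1 : B)

/-- The value at one. -/
noncomputable def ev1 {C : ModuleCat.{u} S} (φ : (ModuleCat.coextendScalars.{u, u} θ).obj C) : C :=
  ModuleCat.CoextendScalars.equiv θ C φ (1 : B)

lemma ev1_add {C : ModuleCat.{u} S} (φ ψ : (ModuleCat.coextendScalars.{u, u} θ).obj C) :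
    ev1 θ (φ + ψ) = ev1 θ φ + ev1 θ ψ := rfl

lemma ev1_map {C D : ModuleCat.{u} S} (g : C ⟶ D) (φ : (ModuleCat.coextendScalars.{u, u} θ).obj C) :
    ev1 θ (((ModuleCat.coextendScalars.{u, u} θ).map g).hom φ) = g.hom (ev1 θ φ) := rfl

lemma ev1_smul {C : ModuleCat.{u} S} (s : S) (φ : (ModuleCat.coextendScalars.{u, u} θ).obj C) :
    ev1 θ (θ s • φ) = s • ev1 θ φ := by
  show ModuleCat.CoextendScalars.equiv θ C φ ((1 : B) * θ s) = _
  rw [one_mul, show (θ s : (ModuleCat.restrictScalars θ).obj (ModuleCat.of B B)) =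
    s • oneR θ from (mul_one (θ s)).symm]
  exact map_smul (ModuleCat.CoextendScalars.equiv θ C φ) s _

lemma ev1_zero {C : ModuleCat.{u} S} : ev1 θ (0 : (ModuleCat.coextendScalars.{u, u} θ).obj C) = 0 := rfl

include hθ in
lemma ev1_injective {C : ModuleCat.{u} S} {φ ψ : (ModuleCat.coextendScalars.{u, u} θ).obj C}
    (h : ev1 θ φ = ev1 θ ψ) : φ = ψ := by
  refine ModuleCat.CoextendScalars.ext (LinearMap.ext fun b => ?_)
  obtain ⟨s, hs⟩ := hθ b
  have hb : b = s • oneR θ :=
    hs.symm.trans (mul_one (θ s)).symm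
  rw [hb, map_smul, map_smul]
  exact congrArg (s • ·) h

include hθ hker in
lemma exists_ev1 {C : ModuleCat.{u} S} {c : C} (hc : f • c = 0) :
    ∃ φ : (ModuleCat.coextendScalars.{u, u} θ).obj C, ev1 θ φ = c := by
  choose σ hσ using hθ
  have key : ∀ s, θ s = 0 → s • c = 0 := by
    intro s hs
    obtain ⟨t, rfl⟩ := Ideal.mem_span_singleton'.1 (hker ▸ RingHom.mem_ker.2 hs)
    rw [mul_smul, hc, smul_zero]
  have wd : ∀ s t, θ s = θ t → s • c = t • c := fun s t h => by
    rw [← sub_eq_zero, ← sub_smul]; exact key _ (by rw [map_sub, h, sub_self])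
  refine ⟨(ModuleCat.CoextendScalars.equiv θ C).symm
    { toFun := fun b => σ b • c
      map_add' := fun x y => by
        rw [← add_smul]; exact wd _ _ (by rw [map_add, hσ, hσ, hσ])
      map_smul' := fun s x => by
        rw [RingHom.id_apply, smul_smul]
        exact wd _ _ (by rw [map_mul, hσ, hσ]; rfl) }, ?_⟩
  show σ (1 : B) • c = c
  rw [wd (σ 1) 1 (by rw [hσ, map_one]), one_smul]

include hker in
lemma f_smul_ev1 {C : ModuleCat.{u} S} (φ : (ModuleCat.coextendScalars.{u, u} θ).obj C) : f • ev1 θ φ = 0 := by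
  have h : θ f = 0 := by
    rw [← RingHom.mem_ker, hker]; exact Ideal.mem_span_singleton_self f
  rw [← ev1_smul, h, zero_smul, ev1_zero]

end Coext

variable (f) in
/-- `x` lifts `φ` and `f x` comes from `m`. -/
def Rel {M J C : ModuleCat.{u} S} (ι : M ⟶ J) (p : J ⟶ C) (φ : (ModuleCat.coextendScalars.{u, u} θ).obj C) (m : M) :
    Prop :=
  ∃ x : J, p.hom x = ev1 θ φ ∧ f • x = ι.hom m

section Module

variable {M J C : ModuleCat.{u} S} {ι : M ⟶ J} {p : J ⟶ C}
  (hι : Function.Injective ι.hom) (hp : Function.Surjective p.hom) (hex : Function.Exact ι.hom p.hom)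

include hker hι hex in
lemma rel_unique {φ : (ModuleCat.coextendScalars.{u, u} θ).obj C} {m m' : M} (h : Rel f ι p φ m)
    (h' : Rel f ι p φ m') : one_t θ m = one_t θ m' := by
  obtain ⟨x, hx, hm⟩ := h
  obtain ⟨x', hx', hm'⟩ := h'
  obtain ⟨a, ha⟩ := (hex (x - x')).1 (by rw [map_sub, hx, hx', sub_self])
  have : m = m' + f • a := hι (by rw [map_add, map_smul, ha, smul_sub, ← hm, ← hm']; abel)
  rw [this, one_t_add, one_t_smul_f hker, add_zero]

include hker hp hex in
lemma rel_exists (φ : (ModuleCat.coextendScalars.{u, u} θ).obj C) : ∃ m, Rel f ι p φ m := by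
  obtain ⟨x, hx⟩ := hp (ev1 θ φ)
  obtain ⟨m, hm⟩ := (hex (f • x)).1 (by rw [map_smul, hx, f_smul_ev1 θ hker])
  exact ⟨m, x, hx, hm.symm⟩

include hθ hker hι hp hex in
/-- The connecting map. -/
theorem exists_delta : ∃ δ : (ModuleCat.coextendScalars.{u, u} θ).obj C ⟶ (ModuleCat.extendScalars.{u, u, u} θ).obj M,
    ∀ φ m, Rel f ι p φ m → δ.hom φ = one_t θ m := by
  choose g hg using rel_exists hker (θ := θ) hp hex
  have hu := fun {φ} {m} {m'} => rel_unique hker (θ := θ) (φ := φ) (m := m) (m' := m') hι hex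
  refine ⟨ModuleCat.ofHom
    { toFun := fun φ => one_t θ (g φ)
      map_add' := fun φ ψ => ?_
      map_smul' := fun b φ => ?_ }, fun φ m h => hu (hg φ) h⟩
  · obtain ⟨x, hx, hm⟩ := hg φ
    obtain ⟨y, hy, hn⟩ := hg ψ
    rw [← one_t_add]
    exact hu (hg _) ⟨x + y, by rw [map_add, hx, hy]; rfl, by rw [smul_add, map_add, hm, hn]⟩
  · obtain ⟨x, hx, hm⟩ := hg φ
    obtain ⟨s, rfl⟩ := hθ b
    rw [RingHom.id_apply, ← one_t_smul]
    exact hu (hg _) ⟨s • x, by rw [map_smul, hx, ev1_smul], by rw [smul_comm, hm, map_smul]⟩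

variable {δ : (ModuleCat.coextendScalars.{u, u} θ).obj C ⟶ (ModuleCat.extendScalars.{u, u, u} θ).obj M}
  (hδ : ∀ φ m, Rel f ι p φ m → δ.hom φ = one_t θ m)

include hθ hker hι hp hex hδ in
theorem shortExact_delta (hM : ∀ m : M, f • m = 0 → m = 0) (hJ : ∀ y : J, ∃ x, f • x = y) :
    ∃ w, (ShortComplex.mk ((ModuleCat.coextendScalars.{u, u} θ).map p) δ w).ShortExact := by
  have w : (ModuleCat.coextendScalars.{u, u} θ).map p ≫ δ = 0 := ModuleCat.hom_ext <| LinearMap.ext fun φ => by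
    show δ.hom (((ModuleCat.coextendScalars.{u, u} θ).map p).hom φ) = 0
    rw [hδ _ 0 ⟨ev1 θ φ, (ev1_map θ p φ).symm, by rw [f_smul_ev1 θ hker, map_zero]⟩]
    exact TensorProduct.tmul_zero _ _
  refine ⟨w, { exact := ?_, mono_f := ?_, epi_g := ?_ }⟩
  · rw [ShortComplex.moduleCat_exact_iff]
    intro φ hφ
    obtain ⟨m, x, hx, hm⟩ := rel_exists hker (θ := θ) hp hex φ
    obtain ⟨m', hm'⟩ := one_t_eq_zero hθ hker ((hδ φ m ⟨x, hx, hm⟩).symm.trans hφ)
    obtain ⟨ψ, hψ⟩ := exists_ev1 θ hθ hker (c := x - ι.hom m') (by rw [smul_sub, hm, ← hm', map_smul, sub_self])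
    exact ⟨ψ, ev1_injective θ hθ (by
      rw [ev1_map, hψ, map_sub, hx, hex.apply_apply_eq_zero, sub_zero])⟩
  · rw [ModuleCat.mono_iff_injective, injective_iff_map_eq_zero]
    intro φ hφ
    have h0 : p.hom (ev1 θ φ) = 0 := by
      rw [← ev1_map]; exact (congrArg (ev1 θ) hφ).trans (ev1_zero θ)
    obtain ⟨m, hm⟩ := (hex (ev1 θ φ)).1 h0
    have : m = 0 := hM m (hι (by rw [map_smul, hm, f_smul_ev1 θ hker, map_zero]))
    exact ev1_injective θ hθ (by rw [← hm, this, map_zero, ev1_zero])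
  · rw [ModuleCat.epi_iff_surjective]
    intro z
    obtain ⟨m, rfl⟩ := one_t_surjective hθ z
    obtain ⟨x, hx⟩ := hJ (ι.hom m)
    obtain ⟨φ, hφ⟩ := exists_ev1 θ hθ hker (c := p.hom x) (by rw [← map_smul, hx, hex.apply_apply_eq_zero])
    exact ⟨φ, hδ φ m ⟨x, hφ.symm, hx⟩⟩

end Module

include hθ hker in
/-- `RHom_S(S/f, M)⟦1⟧ = M/fM` for complexes on which `f` is injective. -/
theorem nonempty_step (hf : ∀ s : S, f * s = 0 → s = 0) {R : Dual.D S ⥤ Dual.D B} (adj : DRing.restrictD θ ⊣ R)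
    (M : DRing.Cx S) (hM : ∀ n, ∀ m : M.X n, f • m = 0 → m = 0) :
    Nonempty ((R.obj (Q.obj M))⟦(1 : ℤ)⟧ ≅ Q.obj ((exCx θ).obj M)) := by
  obtain ⟨N, j, hN⟩ := DCat.exists_kInj_functor (A := ModuleCat.{u} S)
  obtain ⟨hK, hq, hm, hinj⟩ := hN M
  let J := N.obj M
  let ι : M ⟶ J := j.app M
  haveI : J.IsKInjective := hK
  haveI : QuasiIso ι := hq
  haveI : ∀ n, Mono (ι.f n) := hm
  haveI : Mono ι := HomologicalComplex.mono_of_mono_f ι inferInstance
  let T := ShortComplex.mk ι (cokernel.π ι) (cokernel.condition ι)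
  have hT : T.ShortExact :=
    { exact := ShortComplex.exact_of_g_is_cokernel _ (cokernelIsCokernel ι) }
  have hTn : ∀ n, (T.map (HomologicalComplex.eval _ _ n)).ShortExact := fun n =>
    hT.map_of_exact (HomologicalComplex.eval _ _ n)
  let C := cokernel ι
  let p := cokernel.π ι
  have hι : ∀ n, Function.Injective (ι.f n).hom := fun n => (ModuleCat.mono_iff_injective _).1 (hTn n).mono_f
  have hp : ∀ n, Function.Surjective (p.f n).hom := fun n => (ModuleCat.epi_iff_surjective _).1 (hTn n).epi_g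
  have hex : ∀ n, Function.Exact (ι.f n).hom (p.f n).hom := fun n =>
    (ShortComplex.ShortExact.moduleCat_exact_iff_function_exact _).1 (hTn n).exact
  have hJdiv : ∀ n, ∀ y : J.X n, ∃ x, f • x = y := fun n y => by
    haveI := hinj n
    haveI : Mono (ModuleCat.ofHom (LinearMap.mulLeft S f)) := (ModuleCat.mono_iff_injective _).2
      ((injective_iff_map_eq_zero _).2 fun s hs => hf s hs)
    let g : ModuleCat.of S S ⟶ J.X n := ModuleCat.ofHom (LinearMap.toSpanSingleton S _ y)
    refine ⟨(Injective.factorThru g (ModuleCat.ofHom (LinearMap.mulLeft S f))).hom 1, ?_⟩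
    have h1 := congrArg (fun k => k.hom (1 : S))
      (Injective.comp_factorThru g (ModuleCat.ofHom (LinearMap.mulLeft S f)))
    rw [← map_smul]
    exact h1.trans (one_smul S y)
  choose δ hδ using fun n => exists_delta hθ hker (θ := θ) (hι n) (hp n) (hex n)
  let Δ : (coCx θ).obj C ⟶ (exCx θ).obj M :=
    { f := δ
      comm' := fun n k _ => ModuleCat.hom_ext <| LinearMap.ext fun φ => by
        obtain ⟨m, x, hx, hm'⟩ := rel_exists hker (θ := θ) (hp n) (hex n) φ
        show ((ModuleCat.extendScalars.{u, u, u} θ).map (M.d n k)).hom ((δ n).hom φ) =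
          (δ k).hom (((ModuleCat.coextendScalars.{u, u} θ).map (C.d n k)).hom φ)
        rw [hδ n φ m ⟨x, hx, hm'⟩, map_one_t, hδ k _ ((M.d n k).hom m) ⟨(J.d n k).hom x, ?_, ?_⟩]
        · exact (congrArg (fun q => q.hom x) (p.comm n k)).symm.trans (congrArg (C.d n k).hom hx)
        · rw [← map_smul, hm']
          exact congrArg (fun q => q.hom m) (ι.comm n k) }
  have w : (coCx θ).map p ≫ Δ = 0 := HomologicalComplex.hom_ext _ _ fun n =>
    (shortExact_delta hθ hker (hι n) (hp n) (hex n) (hδ n) (hM n) (hJdiv n)).choose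
  let U := ShortComplex.mk ((coCx θ).map p) Δ w
  have hU : U.ShortExact := HomologicalComplex.shortExact_of_degreewise_shortExact _ fun n =>
    (shortExact_delta hθ hker (hι n) (hp n) (hex n) (hδ n) (hM n) (hJdiv n)).choose_spec
  have hC : C.Acyclic := fun n => by
    have h1 : QuasiIsoAt ι n := inferInstance
    rw [HomologicalComplex.exactAt_iff_isZero_homology]
    have e1 : IsIso (HomologicalComplex.homologyMap ι n) := inferInstance
    have e2 : IsIso (HomologicalComplex.homologyMap ι (n + 1)) := inferInstance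
    have h2 := (hT.homology_exact₃ n (n + 1) (by simp))
    exact h2.isZero_X₂ ((cancel_epi (HomologicalComplex.homologyMap ι n)).1 (by
        rw [← HomologicalComplex.homologyMap_comp, cokernel.condition, HomologicalComplex.homologyMap_zero,
          comp_zero]))
      ((cancel_mono (HomologicalComplex.homologyMap ι (n + 1))).1 (by
        rw [hT.δ_comp n (n + 1) (by simp), zero_comp]))
  have hGC : ((coCx θ).obj C).Acyclic := fun n => by
    rw [HomologicalComplex.exactAt_iff' _ (n - 1) n (n + 1) (by simp) (by simp), ShortComplex.moduleCat_exact_iff]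
    intro (φ : (ModuleCat.coextendScalars.{u, u} θ).obj (C.X n)) hφ
    have hc : (C.d n (n + 1)).hom (ev1 θ φ) = 0 := by
      rw [← ev1_map]; exact (congrArg (ev1 θ) hφ).trans (ev1_zero θ)
    have hCn : ∀ (a b c : ℤ), a + 1 = b → b + 1 = c → ∀ y : C.X b, (C.d b c).hom y = 0 →
        ∃ z : C.X a, (C.d a b).hom z = y := fun a b c hab hbc y hy => by
      have := hC b
      rw [HomologicalComplex.exactAt_iff' _ a b c (by simp; omega) (by simp; omega),
        ShortComplex.moduleCat_exact_iff] at this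
      exact this y hy
    obtain ⟨c', hc'⟩ := hCn (n - 1) n (n + 1) (by omega) rfl _ hc
    obtain ⟨c'', hc''⟩ := hCn (n - 1 - 1) (n - 1) n (by omega) (by omega) (f • c') (by
      rw [map_smul, hc', f_smul_ev1 θ hker])
    obtain ⟨y, hy⟩ := hp _ c''
    obtain ⟨e, he⟩ := hJdiv _ y
    obtain ⟨ψ, hψ⟩ := exists_ev1 θ hθ hker (c := c' - (C.d (n - 1 - 1) (n - 1)).hom ((p.f _).hom e)) (by
      rw [smul_sub, ← map_smul, ← map_smul, he, hy, hc'', sub_self])
    refine ⟨ψ, ev1_injective θ hθ ?_⟩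
    show ev1 θ (((ModuleCat.coextendScalars.{u, u} θ).map (C.d (n - 1) n)).hom ψ) = ev1 θ φ
    rw [ev1_map, hψ, map_sub, hc']
    rw [show (C.d (n - 1) n).hom ((C.d (n - 1 - 1) (n - 1)).hom ((p.f _).hom e)) = 0 from
      congrArg (fun q => q.hom ((p.f _).hom e)) (C.d_comp_d (n - 1 - 1) (n - 1) n), sub_zero]
  have hz : IsZero (Q.obj ((coCx θ).obj C)) := by
    haveI : QuasiIso (0 : (coCx θ).obj C ⟶ (coCx θ).obj C) := ⟨fun n =>
      (quasiIsoAt_iff_exactAt' _ n (hGC n)).2 (hGC n)⟩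
    rw [IsZero.iff_id_eq_zero, ← cancel_mono (Q.map (0 : (coCx θ).obj C ⟶ (coCx θ).obj C))]
    simp
  have htri := triangleOfSES_distinguished hU
  haveI : IsIso (triangleOfSES hU).mor₃ := (Pretriangulated.Triangle.isZero₂_iff_isIso₃ _ htri).1 hz
  obtain ⟨e⟩ := nonempty_value' adj ι
  exact ⟨(shiftFunctor (Dual.D B) (1 : ℤ)).mapIso e ≪≫ (asIso (triangleOfSES hU).mor₃).symm⟩

end Groth.Agent.DualLib.Shriek
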