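import Groth.Agent.DualLib.OmegaDual
import Groth.Agent.DualLib.ShriekStep
import Groth.Agent.RelPC.BaseChange

/-! Base change of dual complexes. -/

set_option autoImplicit false
set_option backward.isDefEq.respectTransparency false
set_option backward.defeqAttrib.useBackward true
set_option linter.style.haveILetI false

universe u

open CategoryTheory CategoryTheory.Limits CochainComplex CochainComplex.HomComplex
open scoped TensorProduct

namespace Groth.Agent.DualLib.Omega

open Groth.Agent Groth.Agent.DualLib.Shriek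

variable {P P' : Type u} [CommRing P] [CommRing P'] (ρ : P →+* P') (F : DRing.Cx P)

/-- The base changed complex. -/
noncomputable abbrev exF : DRing.Cx P' :=
  ((ModuleCat.extendScalars.{u, u, u} ρ).mapHomologicalComplex (ComplexShape.up ℤ)).obj F

/-- The transpose of a functional followed by `ρ`. -/
noncomputable def bcFun (p : ℤ) (f : F.X p →ₗ[P] P) :
    (ModuleCat.extendScalars.{u, u, u} ρ).obj (F.X p) →ₗ[P'] P' :=
  (((ModuleCat.extendRestrictScalarsAdj ρ).homEquiv (F.X p) (ModuleCat.of P' P')).symm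
    (ModuleCat.ofHom (Y := (ModuleCat.restrictScalars.{u} ρ).obj (ModuleCat.of P' P'))
      { toFun := fun x => ρ (f x)
        map_add' := fun x y => by rw [map_add, map_add]
        map_smul' := fun a x => by
          show ρ (f (a • x)) = ρ a * ρ (f x)
          rw [map_smul, smul_eq_mul, map_mul] })).hom

lemma bcFun_one_t (p : ℤ) (f : F.X p →ₗ[P] P) (x : F.X p) : bcFun ρ F p f (one_t ρ x) = ρ (f x) :=
  one_mul (ρ (f x))

lemma ext_one_t {M : ModuleCat.{u} P} {N : Type u} [AddCommGroup N] [Module P' N]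
    {α β : (ModuleCat.extendScalars.{u, u, u} ρ).obj M →ₗ[P'] N} (h : ∀ m, α (one_t ρ m) = β (one_t ρ m)) : α = β :=
  congrArg ModuleCat.Hom.hom (((ModuleCat.extendRestrictScalarsAdj ρ).homEquiv M (ModuleCat.of P' N)).injective
    (a₁ := ModuleCat.ofHom α) (a₂ := ModuleCat.ofHom β) (ModuleCat.hom_ext (LinearMap.ext fun m => h m)))

lemma bcFun_add (p : ℤ) (f g : F.X p →ₗ[P] P) : bcFun ρ F p (f + g) = bcFun ρ F p f + bcFun ρ F p g :=
  ext_one_t ρ fun x => by
    rw [LinearMap.add_apply, bcFun_one_t, bcFun_one_t, bcFun_one_t, LinearMap.add_apply, map_add]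

lemma bcFun_smul (p : ℤ) (a : P) (f : F.X p →ₗ[P] P) : bcFun ρ F p (a • f) = ρ a • bcFun ρ F p f :=
  ext_one_t ρ fun x => by
    rw [LinearMap.smul_apply, bcFun_one_t, bcFun_one_t, LinearMap.smul_apply, smul_eq_mul, smul_eq_mul, map_mul]

/-- The comparison in one degree. -/
noncomputable def bcLin (p i : ℤ) (h : p + i = 0) :
    (ModuleCat.extendScalars.{u, u, u} ρ).obj ((Cdual F).X i) ⟶ (Cdual (exF ρ F)).X i :=
  ((ModuleCat.extendRestrictScalarsAdj ρ).homEquiv _ _).symm
    (ModuleCat.ofHom (Y := (ModuleCat.restrictScalars.{u} ρ).obj ((Cdual (exF ρ F)).X i))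
      { toFun := fun z => (evSgl (exF ρ F) P' p i h).symm (bcFun ρ F p (evSgl F P p i h z))
        map_add' := fun z w => by
          show (evSgl (exF ρ F) P' p i h).symm (bcFun ρ F p (evSgl F P p i h (z + w))) = _
          erw [map_add, bcFun_add, map_add]
        map_smul' := fun a z => by
          show (evSgl (exF ρ F) P' p i h).symm (bcFun ρ F p (evSgl F P p i h (a • z))) = _
          erw [map_smul, bcFun_smul, map_smul]
          rfl })

lemma bcLin_one_t (p i : ℤ) (h : p + i = 0) (z : (Cdual F).X i) :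
    (bcLin ρ F p i h).hom (one_t ρ z) = (evSgl (exF ρ F) P' p i h).symm (bcFun ρ F p (evSgl F P p i h z)) :=
  one_smul P' (show (Cdual (exF ρ F)).X i from (evSgl (exF ρ F) P' p i h).symm (bcFun ρ F p (evSgl F P p i h z)))

/-- The comparison map of complexes. -/
noncomputable def bcMapCx : ((ModuleCat.extendScalars.{u, u, u} ρ).mapHomologicalComplex (ComplexShape.up ℤ)).obj (Cdual F) ⟶
    Cdual (exF ρ F) where
  f i := bcLin ρ F (-i) i (by omega)
  comm' i j hij := by
    obtain rfl : i + 1 = j := hij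
    refine ModuleCat.hom_ext (ext_one_t ρ fun z => ?_)
    show ((Cdual (exF ρ F)).d i (i + 1)).hom ((bcLin ρ F (-i) i (by omega)).hom (one_t ρ z)) =
      (bcLin ρ F (-(i + 1)) (i + 1) (by omega)).hom (one_t ρ (((Cdual F).d i (i + 1)).hom z))
    rw [bcLin_one_t, bcLin_one_t]
    refine (evSgl (exF ρ F) P' (-(i + 1)) (i + 1) (by omega)).injective ?_
    rw [LinearEquiv.apply_symm_apply]
    refine ext_one_t ρ fun x => ?_
    have h1 := congrArg (fun g : (Cdual (exF ρ F)).X i ⟶ ModuleCat.of P' P' =>
      g.hom ((evSgl (exF ρ F) P' (-i) i (by omega)).symm (bcFun ρ F (-i) (evSgl F P (-i) i (by omega) z))))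
      (d_evC (exF ρ F) (-(i + 1)) (-i) (i + 1) i (by omega) (by omega) rfl (one_t ρ x))
    have h2 := congrArg (fun g : (Cdual F).X i ⟶ ModuleCat.of P P => g.hom z)
      (d_evC F (-(i + 1)) (-i) (i + 1) i (by omega) (by omega) rfl x)
    refine h1.trans (Eq.trans ?_ ((bcFun_one_t ρ F _ _ x).trans (congrArg ρ h2)).symm)
    show ((((i + 1).negOnePow : ℤ) • evC (exF ρ F) (-i) i (by omega) (((exF ρ F).d (-(i + 1)) (-i)).hom (one_t ρ x))).hom
        ((evSgl (exF ρ F) P' (-i) i (by omega)).symm (bcFun ρ F (-i) (evSgl F P (-i) i (by omega) z)))) =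
      ρ ((((i + 1).negOnePow : ℤ) • evC F (-i) i (by omega) ((F.d (-(i + 1)) (-i)).hom x)).hom z)
    rw [ModuleCat.hom_zsmul, ModuleCat.hom_zsmul, LinearMap.smul_apply, LinearMap.smul_apply, map_zsmul]
    congr 1
    show (evSgl (exF ρ F) P' (-i) i (by omega) ((evSgl (exF ρ F) P' (-i) i (by omega)).symm
      (bcFun ρ F (-i) (evSgl F P (-i) i (by omega) z)))) (one_t ρ ((F.d (-(i + 1)) (-i)).hom x)) = _
    rw [LinearEquiv.apply_symm_apply]
    exact bcFun_one_t ρ F (-i) _ _

lemma bcLin_bijective (hF : DRing.TermwiseFiniteProjective F) (p i : ℤ) (h : p + i = 0) :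
    Function.Bijective (bcLin ρ F p i h).hom := by
  letI := ρ.toAlgebra
  let Q : Type u := F.X p
  haveI : Module.Finite P Q := (hF p).1
  haveI : Module.Projective P Q := (hF p).2
  let hom' := fun (φ : (ModuleCat.extendScalars.{u, u, u} ρ).obj (F.X p) →ₗ[P'] P') =>
    ({ toFun := fun x => φ (one_t ρ x)
       map_add' := fun x y => by rw [one_t_add, map_add]
       map_smul' := fun a x => by
        rw [RingHom.id_apply, one_t_smul, map_smul]
        rfl } : Q →ₗ[P] P')
  have hb : Function.Bijective hom' := by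
    refine ⟨fun φ φ' e => ext_one_t ρ fun x => congrArg (fun g : Q →ₗ[P] P' => g x) e, fun g => ?_⟩
    refine ⟨(((ModuleCat.extendRestrictScalarsAdj ρ).homEquiv (F.X p) (ModuleCat.of P' P')).symm
      (ModuleCat.ofHom (Y := (ModuleCat.restrictScalars.{u} ρ).obj (ModuleCat.of P' P'))
        { toFun := fun x => g x, map_add' := g.map_add, map_smul' := fun a x => g.map_smul a x })).hom, ?_⟩
    exact LinearMap.ext fun x => one_mul (g x)
  obtain ⟨e₁⟩ := RelPC.nonempty_ext_tensor_iso (A := P) (B := P') (Module.Dual P Q)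
  let E := evSgl F P p i h
  let e₀ : (ModuleCat.extendScalars.{u, u, u} ρ).obj ((Cdual F).X i) → P' ⊗[P] Module.Dual P Q := fun w =>
    (LinearMap.lTensor P' E.toLinearMap) w
  have he₀ : Function.Bijective e₀ := (LinearEquiv.lTensor P' E).bijective
  let d : P' ⊗[P] Module.Dual P Q → (Q →ₗ[P] P') := fun w => dualTensorHom P Q P' (TensorProduct.comm P P' (Module.Dual P Q) w)
  have hd : Function.Bijective d :=
    (dualTensorHom_bijective (R := P) (M := Q)).comp (TensorProduct.comm P P' (Module.Dual P Q)).bijective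
  have hk : ∀ (s : P') (z : (Cdual F).X i),
      hom' (evSgl (exF ρ F) P' p i h ((bcLin ρ F p i h).hom (s • one_t ρ z))) =
        d (e₀ (show (ModuleCat.extendScalars.{u, u, u} ρ).obj ((Cdual F).X i) from (s : P') ⊗ₜ[P] z)) := by
    intro s z
    refine LinearMap.ext fun x => ?_
    show evSgl (exF ρ F) P' p i h ((bcLin ρ F p i h).hom (s • one_t ρ z)) (one_t ρ x) = _
    erw [map_smul, bcLin_one_t, map_smul, LinearMap.smul_apply, LinearEquiv.apply_symm_apply, bcFun_one_t]
    show s * ρ (E z x) = dualTensorHom P Q P' (E z ⊗ₜ[P] s) x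
    rw [dualTensorHom_apply]
    exact mul_comm _ _
  have key : ∀ w, hom' (evSgl (exF ρ F) P' p i h ((bcLin ρ F p i h).hom w)) = d (e₀ w) := by
    intro w
    induction w using TensorProduct.induction_on with
    | zero =>
      refine LinearMap.ext fun x => ?_
      show evSgl (exF ρ F) P' p i h ((bcLin ρ F p i h).hom 0) (one_t ρ x) = _
      erw [map_zero]
      show (0 : P') = dualTensorHom P Q P' (TensorProduct.comm P P' (Module.Dual P Q) ((LinearMap.lTensor P' E.toLinearMap) 0)) x
      rw [map_zero, map_zero, map_zero]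
      rfl
    | tmul s z =>
      refine Eq.trans ?_ (hk s z)
      congr 4
      exact (mul_one (show P' from s)).symm
    | add a b ha hb =>
      refine LinearMap.ext fun x => ?_
      show evSgl (exF ρ F) P' p i h ((bcLin ρ F p i h).hom (a + b)) (one_t ρ x) = _
      have ha' := congrArg (fun g : Q →ₗ[P] P' => g x) ha
      have hb' := congrArg (fun g : Q →ₗ[P] P' => g x) hb
      rw [map_add, map_add, LinearMap.add_apply]
      refine (congrArg₂ (· + ·) ha' hb').trans ?_
      simp [d, e₀]
  have : (fun w => hom' (evSgl (exF ρ F) P' p i h ((bcLin ρ F p i h).hom w))) = d ∘ e₀ := funext key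
  have hcomp : Function.Bijective ((fun v => hom' (evSgl (exF ρ F) P' p i h v)) ∘ (bcLin ρ F p i h).hom) := by
    show Function.Bijective fun w => hom' (evSgl (exF ρ F) P' p i h ((bcLin ρ F p i h).hom w))
    rw [this]
    exact hd.comp he₀
  exact (Function.Bijective.of_comp_iff' (hb.comp (evSgl (exF ρ F) P' p i h).bijective) _).1 hcomp

/-- Duals commute with base change. -/
theorem nonempty_exF_Cdual (hF : DRing.TermwiseFiniteProjective F) :
    Nonempty (((ModuleCat.extendScalars.{u, u, u} ρ).mapHomologicalComplex (ComplexShape.up ℤ)).obj (Cdual F) ≅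
      Cdual (exF ρ F)) := by
  haveI : ∀ i, IsIso ((bcMapCx ρ F).f i) := fun i =>
    (ConcreteCategory.isIso_iff_bijective _).2 (bcLin_bijective ρ F hF (-i) i (by omega))
  haveI : IsIso (bcMapCx ρ F) := HomologicalComplex.Hom.isIso_of_components _
  exact ⟨asIso (bcMapCx ρ F)⟩

end Groth.Agent.DualLib.Omega
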