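import Groth.Agent.DualLib.ShriekCompose
import Mathlib.RingTheory.TensorProduct.MvPolynomial

/-! Flat base change for `phi^!`, bounded below objects. -/

set_option autoImplicit false
set_option backward.isDefEq.respectTransparency false
set_option backward.defeqAttrib.useBackward true
set_option linter.style.haveILetI false

universe u

open CategoryTheory CategoryTheory.Limits DerivedCategory MvPolynomial
open scoped TensorProduct

attribute [local instance] HasDerivedCategory.standard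

namespace Groth.Agent.DualLib.Shriek

section Pushout

variable {R R' A : Type u} [CommRing R] [CommRing R'] [CommRing A] [Algebra R R'] [Algebra R A]

lemma flat_includeRight {M : Type u} [CommRing M] [Algebra R M] [Module.Flat R R'] :
    (Algebra.TensorProduct.includeRight : M →ₐ[R] R' ⊗[R] M).toRingHom.Flat := by
  have h : (Algebra.TensorProduct.includeRight : M →ₐ[R] R' ⊗[R] M).toRingHom =
      (Algebra.TensorProduct.comm R M R').toRingEquiv.toRingHom.comp (algebraMap M (M ⊗[R] R')) :=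
    RingHom.ext fun m => rfl
  rw [h]
  exact RingHom.Flat.comp (RingHom.flat_algebraMap_iff.2 inferInstance) (RingHom.Flat.of_bijective (Algebra.TensorProduct.comm R M R').bijective)

/-- The base changed presentation. -/
noncomputable def bcPres {n : ℕ} (ψ : MvPolynomial (Fin n) R →+* A) : MvPolynomial (Fin n) R' →+* R' ⊗[R] A :=
  eval₂Hom Algebra.TensorProduct.includeLeftRingHom fun i => 1 ⊗ₜ[R] ψ (X i)

lemma bcPres_map {n : ℕ} (ψ : MvPolynomial (Fin n) R →+* A) (hψR : ψ.comp C = algebraMap R A) :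
    (Algebra.TensorProduct.includeRight : A →ₐ[R] R' ⊗[R] A).toRingHom.comp ψ =
      (bcPres ψ).comp (MvPolynomial.map (algebraMap R R')) := by
  refine MvPolynomial.ringHom_ext (fun r => ?_) fun i => ?_
  · show (1 : R') ⊗ₜ[R] ψ.comp C r = bcPres ψ (MvPolynomial.map (algebraMap R R') (C r))
    rw [hψR, MvPolynomial.map_C, bcPres, eval₂Hom_C]
    exact (Algebra.TensorProduct.tmul_one_eq_one_tmul r).symm
  · simp [bcPres]

lemma bcPres_eq {n : ℕ} (ψ : MvPolynomial (Fin n) R →ₐ[R] A) :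
    bcPres (R' := R') ψ.toRingHom = (Algebra.TensorProduct.map (AlgHom.id R' R') ψ).toRingHom.comp
      (algebraTensorAlgEquiv R R' (σ := Fin n)).symm.toRingEquiv.toRingHom := by
  refine MvPolynomial.ringHom_ext (fun r => ?_) fun i => ?_
  · show bcPres ψ.toRingHom (C r) =
      Algebra.TensorProduct.map (AlgHom.id R' R') ψ ((algebraTensorAlgEquiv R R').symm (C r))
    rw [show (C r : MvPolynomial (Fin n) R') = monomial 0 r from rfl, algebraTensorAlgEquiv_symm_monomial]
    simp [bcPres, ← MvPolynomial.C_apply]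
  · simp [bcPres]

lemma bcPres_surjective {n : ℕ} (ψ : MvPolynomial (Fin n) R →ₐ[R] A) (hψ : Function.Surjective ψ) :
    Function.Surjective (bcPres (R' := R') ψ.toRingHom) := by
  rw [bcPres_eq]
  exact (show Function.Surjective (Algebra.TensorProduct.map (AlgHom.id R' R') ψ) from
    LinearMap.lTensor_surjective R' (g := ψ.toLinearMap) hψ).comp (RingEquiv.surjective _)

lemma ker_bcPres {n : ℕ} (ψ : MvPolynomial (Fin n) R →ₐ[R] A) (hψ : Function.Surjective ψ) :
    RingHom.ker (bcPres (R' := R') ψ.toRingHom) =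
      (RingHom.ker ψ.toRingHom).map (MvPolynomial.map (algebraMap R R')) := by
  let e := (algebraTensorAlgEquiv R R' (σ := Fin n))
  rw [bcPres_eq, ← RingHom.comap_ker]
  rw [show RingHom.ker (Algebra.TensorProduct.map (AlgHom.id R' R') ψ).toRingHom =
      (RingHom.ker ψ.toRingHom).map (Algebra.TensorProduct.includeRight : _ →ₐ[R] R' ⊗[R] MvPolynomial (Fin n) R).toRingHom
    from Algebra.TensorProduct.lTensor_ker (A := R') ψ hψ]
  show Ideal.comap e.symm.toRingEquiv _ = _
  rw [← Ideal.map_symm]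
  show Ideal.map e.toRingEquiv.toRingHom _ = _
  rw [Ideal.map_map]
  congr 1
  refine RingHom.ext fun p => ?_
  show e ((1 : R') ⊗ₜ[R] p) = _
  rw [algebraTensorAlgEquiv_tmul, one_smul]

end Pushout

/-- Flat base change. -/
theorem nonempty_shriekVia_baseChange {R R' A : Type u} [CommRing R] [IsNoetherianRing R] [CommRing R'] [CommRing A]
    [Algebra R R'] [Module.Flat R R'] [Algebra R A] (n : ℕ) (ψ : MvPolynomial (Fin n) R →ₐ[R] A)
    (hψ : Function.Surjective ψ) [DRing.HasLBaseChange (algebraMap R (MvPolynomial (Fin n) R))]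
    (Rψ : Dual.D (MvPolynomial (Fin n) R) ⥤ Dual.D A) (adj : DRing.restrictD ψ.toRingHom ⊣ Rψ)
    (m : ℕ) (ψ' : MvPolynomial (Fin m) R' →+* R' ⊗[R] A) (hψ' : Function.Surjective ψ')
    (hψ'R : ψ'.comp C = algebraMap R' (R' ⊗[R] A))
    [DRing.HasLBaseChange (algebraMap R' (MvPolynomial (Fin m) R'))]
    (Rψ' : Dual.D (MvPolynomial (Fin m) R') ⥤ Dual.D (R' ⊗[R] A)) (adj' : DRing.restrictD ψ' ⊣ Rψ')
    [DRing.HasLBaseChange (Algebra.TensorProduct.includeRight : A →ₐ[R] R' ⊗[R] A).toRingHom]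
    [DRing.HasLBaseChange (algebraMap R R')] (K : Dual.D R) (c : ℤ) [K.IsGE c] :
    Nonempty ((DRing.LBaseChange (Algebra.TensorProduct.includeRight : A →ₐ[R] R' ⊗[R] A).toRingHom).obj
        (Dual2.shriekVia n Rψ K) ≅ Dual2.shriekVia m Rψ' ((DRing.LBaseChange (algebraMap R R')).obj K)) := by
  obtain ⟨N, hNc, hNK, hNi, ⟨eN⟩⟩ := DCat.Amplitude.exists_kInjective_rep K c
  let t := (Algebra.TensorProduct.includeRight : A →ₐ[R] R' ⊗[R] A).toRingHom
  let φ := MvPolynomial.map (σ := Fin n) (algebraMap R R')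
  have hR' : (algebraMap R R').Flat := RingHom.flat_algebraMap_iff.2 inferInstance
  have hCn : (algebraMap R (MvPolynomial (Fin n) R)).Flat := by
    rw [MvPolynomial.algebraMap_eq]; exact flat_C R _
  have hC' : (algebraMap R' (MvPolynomial (Fin n) R')).Flat := by
    rw [MvPolynomial.algebraMap_eq]; exact flat_C R' _
  have hφ : φ.Flat := by
    have he : φ = (algebraTensorAlgEquiv R R' (σ := Fin n)).toRingEquiv.toRingHom.comp
        (Algebra.TensorProduct.includeRight : _ →ₐ[R] R' ⊗[R] MvPolynomial (Fin n) R).toRingHom := by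
      refine RingHom.ext fun p => ?_
      show _ = (algebraTensorAlgEquiv R R') ((1 : R') ⊗ₜ[R] p)
      rw [algebraTensorAlgEquiv_tmul, one_smul]
    rw [he]
    exact RingHom.Flat.comp (flat_includeRight) (RingHom.Flat.of_bijective (RingEquiv.bijective _))
  have ht : t.Flat := flat_includeRight
  obtain ⟨b₀⟩ := nonempty_lbase_flat hCn N
  obtain ⟨bR⟩ := nonempty_lbase_flat hR' N
  let X₀ : Dual.D (MvPolynomial (Fin n) R) := Q.obj ((exCx (algebraMap R (MvPolynomial (Fin n) R))).obj N)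
  haveI : CochainComplex.IsStrictlyGE ((exCx (algebraMap R (MvPolynomial (Fin n) R))).obj N) c :=
    (CochainComplex.isStrictlyGE_iff _ c).2 fun i hi =>
      (ModuleCat.extendScalars.{u, u, u} _).map_isZero ((CochainComplex.isStrictlyGE_iff N c).1 hNc i hi)
  haveI : X₀.IsGE c := inferInstanceAs ((Q.obj _).IsGE c)
  obtain ⟨RΦ, ⟨adjΦ⟩⟩ := exists_rightAdjoint (bcPres (R' := R') ψ.toRingHom)
  obtain ⟨I, W, ⟨eI⟩, ⟨eW⟩, ⟨eF⟩⟩ := nonempty_flatBC hψ (bcPres_surjective ψ hψ)
    (bcPres_map ψ.toRingHom (RingHom.ext fun r => ψ.commutes r)) (ker_bcPres ψ hψ) hφ adj adjΦ X₀ c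
  haveI := DCat.hasLBaseChange (algebraMap R' (MvPolynomial (Fin n) R'))
  obtain ⟨e₀⟩ := nonempty_shriekVia_iso n (bcPres (R' := R') ψ.toRingHom) (bcPres_surjective ψ hψ)
    (RingHom.ext fun r => eval₂Hom_C _ _ _) RΦ adjΦ m ψ' hψ' hψ'R Rψ' adj'
    ((DRing.LBaseChange (algebraMap R R')).obj K)
  obtain ⟨b₁⟩ := nonempty_lbase_flat hC' ((exCx (algebraMap R R')).obj N)
  obtain ⟨e₃⟩ := nonempty_exCx_iso hφ eI
  have hh : (algebraMap R' (MvPolynomial (Fin n) R')).comp (algebraMap R R') =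
      φ.comp (algebraMap R (MvPolynomial (Fin n) R)) := RingHom.ext fun r => (MvPolynomial.map_C _ r).symm
  let c₂ : (exCx (algebraMap R' (MvPolynomial (Fin n) R'))).obj ((exCx (algebraMap R R')).obj N) ≅
      (exCx φ).obj ((exCx (algebraMap R (MvPolynomial (Fin n) R))).obj N) :=
    (exComp (algebraMap R R') (algebraMap R' (MvPolynomial (Fin n) R')) _ rfl N).symm ≪≫
      exComp (algebraMap R (MvPolynomial (Fin n) R)) φ _ hh N
  obtain ⟨e₅⟩ := nonempty_lbase_shift ht W (n : ℤ)
  let L : RΦ.obj ((DRing.LBaseChange (algebraMap R' (MvPolynomial (Fin n) R'))).obj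
      ((DRing.LBaseChange (algebraMap R R')).obj K)) ≅ Q.obj ((exCx t).obj W) :=
    RΦ.mapIso ((DRing.LBaseChange _).mapIso ((DRing.LBaseChange _).mapIso eN.symm ≪≫ bR) ≪≫ b₁ ≪≫ Q.mapIso c₂ ≪≫
      e₃.symm) ≪≫ eF
  exact ⟨(DRing.LBaseChange t).mapIso ((shiftFunctor (Dual.D A) (n : ℤ)).mapIso
      (Rψ.mapIso ((DRing.LBaseChange _).mapIso eN.symm ≪≫ b₀) ≪≫ eW)) ≪≫ e₅ ≪≫
    (shiftFunctor (Dual.D (R' ⊗[R] A)) (n : ℤ)).mapIso L.symm ≪≫ e₀⟩

end Groth.Agent.DualLib.Shriek
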