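import Groth.Agent.DualLib.OmegaShriek
import Groth.Agent.DualLib.DualComplexBC
import Groth.Agent.DualLib.ShriekBaseChange
import Groth.Agent.DCat.LPull

/-! Base change of `ω_{A/R}` for flat `R → A`. -/

set_option autoImplicit false
set_option backward.isDefEq.respectTransparency false
set_option backward.defeqAttrib.useBackward true
set_option linter.style.haveILetI false

universe u

open CategoryTheory CategoryTheory.Limits DerivedCategory MvPolynomial
open scoped TensorProduct

attribute [local instance] HasDerivedCategory.standard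

namespace Groth.Agent.DualLib.Omega

open Groth.Agent Groth.Agent.DualLib.Shriek

attribute [local instance] MvPolynomial.algebraMvPolynomial Algebra.TensorProduct.rightAlgebra

variable {R R' A : Type u} [CommRing R] [CommRing R'] [CommRing A] [Algebra R R'] [Algebra R A] {n : ℕ}
  (ψ : MvPolynomial (Fin n) R →ₐ[R] A)

/-- The base changed presentation, as an algebra map. -/
noncomputable def bcAlg : MvPolynomial (Fin n) R' →ₐ[R'] R' ⊗[R] A :=
  { bcPres (R' := R') ψ.toRingHom with commutes' := fun r => eval₂Hom_C _ _ r }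

lemma bcAlg_toRingHom : (bcAlg (R' := R') ψ).toRingHom = bcPres ψ.toRingHom := rfl

lemma bcAlg_comm : (bcAlg (R' := R') ψ).toRingHom.comp (MvPolynomial.map (algebraMap R R')) =
    (Algebra.TensorProduct.includeRight : A →ₐ[R] R' ⊗[R] A).toRingHom.comp ψ.toRingHom :=
  (bcPres_map ψ.toRingHom (RingHom.ext fun r => ψ.commutes r)).symm

/-- The square of presentations is cocartesian. -/
theorem isCocartesian_pres :
    RelPC.IsCocartesian (MvPolynomial (Fin n) R) (MvPolynomial (Fin n) R') A (R' ⊗[R] A) ψ.toRingHom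
      (MvPolynomial.map (algebraMap R R')) (Algebra.TensorProduct.includeRight : A →ₐ[R] R' ⊗[R] A).toRingHom
      (bcAlg ψ).toRingHom (bcAlg_comm ψ) := by
  letI : Algebra (MvPolynomial (Fin n) R) A := ψ.toRingHom.toAlgebra
  letI : Algebra (MvPolynomial (Fin n) R') (R' ⊗[R] A) := (bcAlg (R' := R') ψ).toRingHom.toAlgebra
  letI : Algebra (MvPolynomial (Fin n) R) (R' ⊗[R] A) :=
    ((Algebra.TensorProduct.includeRight : A →ₐ[R] R' ⊗[R] A).toRingHom.comp ψ.toRingHom).toAlgebra
  haveI : IsScalarTower (MvPolynomial (Fin n) R) A (R' ⊗[R] A) := .of_algebraMap_eq fun _ => rfl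
  haveI : IsScalarTower (MvPolynomial (Fin n) R) (MvPolynomial (Fin n) R') (R' ⊗[R] A) :=
    .of_algebraMap_eq fun x => (RingHom.congr_fun (bcAlg_comm (R' := R') ψ) x).symm
  haveI : IsScalarTower R (MvPolynomial (Fin n) R) A := IsScalarTower.of_algHom ψ
  haveI : IsScalarTower R (MvPolynomial (Fin n) R') (R' ⊗[R] A) := .of_algebraMap_eq fun r => by
    rw [IsScalarTower.algebraMap_apply R R' (MvPolynomial (Fin n) R'), RingHom.algebraMap_toAlgebra]
    show _ = (bcAlg ψ) (algebraMap R' _ (algebraMap R R' r))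
    rw [AlgHom.commutes, ← IsScalarTower.algebraMap_apply]
  haveI : IsScalarTower R' (MvPolynomial (Fin n) R') (R' ⊗[R] A) := IsScalarTower.of_algHom (bcAlg ψ)
  haveI h1 : Algebra.IsPushout R A R' (R' ⊗[R] A) := inferInstance
  haveI : Algebra.IsPushout (MvPolynomial (Fin n) R) A (MvPolynomial (Fin n) R') (R' ⊗[R] A) :=
    Algebra.IsPushout.comp_iff (R := R) (S := MvPolynomial (Fin n) R) (R' := R')
      (S' := MvPolynomial (Fin n) R') (T := A) (T' := R' ⊗[R] A) |>.1 h1
  haveI : Algebra.IsPushout (MvPolynomial (Fin n) R) (MvPolynomial (Fin n) R') A (R' ⊗[R] A) :=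
    Algebra.IsPushout.symm inferInstance
  exact RelPC.isCocartesian (MvPolynomial (Fin n) R) (MvPolynomial (Fin n) R') A (R' ⊗[R] A)

/-- Base change along `R[x] → R'[x]` preserves quasi-isomorphisms of bounded above `R`-flat complexes. -/
theorem quasiIso_exF_map {K L : DRing.Cx (MvPolynomial (Fin n) R)} (f : K ⟶ L) [QuasiIso f] (b : ℤ)
    (hKb : DRing.VanishesAbove K b) (hLb : DRing.VanishesAbove L b)
    (hKf : DRing.TermwiseFlat ((DRing.restrictCx (algebraMap R (MvPolynomial (Fin n) R))).obj K))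
    (hLf : DRing.TermwiseFlat ((DRing.restrictCx (algebraMap R (MvPolynomial (Fin n) R))).obj L)) :
    QuasiIso (((ModuleCat.extendScalars.{u, u, u} (MvPolynomial.map (algebraMap R R'))).mapHomologicalComplex
      (ComplexShape.up ℤ)).map f) := by
  let g := algebraMap R (MvPolynomial (Fin n) R)
  let res := DRing.restrictCx g
  haveI : QuasiIso (res.map f) := inferInstanceAs (QuasiIso (((ModuleCat.restrictScalars.{u} g).mapHomologicalComplex _).map f))
  have hk : ∀ {M : DRing.Cx (MvPolynomial (Fin n) R)}, DRing.VanishesAbove M b → DRing.TermwiseFlat (res.obj M) →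
      DCat.IsKFlatFor (DCat.modT R) (res.obj M) := fun hb hf =>
    DCat.isKFlatFor_of_vanishesAbove _ b (fun i hi => (ModuleCat.restrictScalars g).map_isZero (hb i hi)) hf
  haveI h1 := DCat.quasiIso_extendScalars_of_kflat (algebraMap R R') (hk hKb hKf) (hk hLb hLf) (res.map f)
  let ι := RelPC.extRestrictIso R R' (MvPolynomial (Fin n) R) (MvPolynomial (Fin n) R') _ _ _ _ _
    (RelPC.isCocartesian R R' (MvPolynomial (Fin n) R) (MvPolynomial (Fin n) R'))
  let N := NatIso.mapHomologicalComplex ι (ComplexShape.up ℤ)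
  have h2 : QuasiIso ((((ModuleCat.restrictScalars.{u} g ⋙
      ModuleCat.extendScalars.{u, u, u} (algebraMap R R'))).mapHomologicalComplex (ComplexShape.up ℤ)).map f) := h1
  have h3 : QuasiIso ((((ModuleCat.extendScalars.{u, u, u} (MvPolynomial.map (algebraMap R R')) ⋙
      ModuleCat.restrictScalars.{u} (algebraMap R' (MvPolynomial (Fin n) R')))).mapHomologicalComplex (ComplexShape.up ℤ)).map f) :=
    (quasiIso_iff_of_arrow_mk_iso _ _ (Arrow.isoMk (N.app K) (N.app L) (N.hom.naturality f).symm)).1 h2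
  exact (HomologicalComplex.quasiIso_map_iff_of_preservesHomology _ (ModuleCat.restrictScalars.{u} (algebraMap R' (MvPolynomial (Fin n) R')))).1 h3

variable [IsNoetherianRing R] [Module.Flat R A] {F : DRing.Cx (MvPolynomial (Fin n) R)}
  {π : F ⟶ sgl (P := MvPolynomial (Fin n) R) ((ModuleCat.restrictScalars ψ.toRingHom).obj (ModuleCat.of A A))}

omit [IsNoetherianRing R] in
include ψ in
lemma flat_res_A : Module.Flat R ((ModuleCat.restrictScalars (algebraMap R (MvPolynomial (Fin n) R))).obj
    ((ModuleCat.restrictScalars ψ.toRingHom).obj (ModuleCat.of A A))) :=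
  Module.Flat.of_linearEquiv (M := A)
    ({ toFun := fun x => x
       invFun := fun x => x
       map_add' := fun _ _ => rfl
       map_smul' := fun r (x : A) => by
        show ψ (algebraMap R (MvPolynomial (Fin n) R) r) * x = r • x
        rw [ψ.commutes, Algebra.smul_def] } :
      ((ModuleCat.restrictScalars (algebraMap R (MvPolynomial (Fin n) R))).obj
        ((ModuleCat.restrictScalars ψ.toRingHom).obj (ModuleCat.of A A))) ≃ₗ[R] A)

variable [IsNoetherianRing R'] (h : Res ψ.toRingHom F n π)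

omit [IsNoetherianRing R] [IsNoetherianRing R'] in
include h in
/-- The resolution base changes. -/
theorem exists_res_baseChange :
    ∃ π' : exF (MvPolynomial.map (algebraMap R R')) F ⟶ sgl (P := MvPolynomial (Fin n) R')
      ((ModuleCat.restrictScalars (bcAlg (R' := R') ψ).toRingHom).obj (ModuleCat.of (R' ⊗[R] A) (R' ⊗[R] A))),
      Res (bcAlg ψ).toRingHom (exF (MvPolynomial.map (algebraMap R R')) F) n π' := by
  let P := MvPolynomial (Fin n) R
  let P' := MvPolynomial (Fin n) R'
  let ρ := MvPolynomial.map (σ := Fin n) (algebraMap R R')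
  let α := (Algebra.TensorProduct.includeRight : A →ₐ[R] R' ⊗[R] A).toRingHom
  let A₀ := (ModuleCat.restrictScalars ψ.toRingHom).obj (ModuleCat.of A A)
  haveI := h.qis
  have hPf : Module.Flat R P := inferInstance
  have hfF : DRing.TermwiseFlat ((DRing.restrictCx (algebraMap R P)).obj F) := fun i => by
    haveI := (h.fp i).2
    letI : Module R (F.X i) := Module.compHom _ (algebraMap R P)
    haveI : IsScalarTower R P (F.X i) := IsScalarTower.of_algebraMap_smul fun _ _ => rfl
    exact (Module.Flat.trans R P (F.X i) : Module.Flat R (F.X i))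
  have hfS : DRing.TermwiseFlat ((DRing.restrictCx (algebraMap R P)).obj (sgl (P := P) A₀)) := fun i => by
    by_cases hi : i = 0
    · subst hi
      haveI := flat_res_A ψ
      exact Module.Flat.of_linearEquiv
        ((ModuleCat.restrictScalars (algebraMap R P)).mapIso (σ0 (P := P) A₀)).toLinearEquiv
    · haveI : Subsingleton (((DRing.restrictCx (algebraMap R P)).obj (sgl (P := P) A₀)).X i) :=
        ModuleCat.subsingleton_of_isZero ((ModuleCat.restrictScalars (algebraMap R P)).map_isZero
          (HomologicalComplex.isZero_single_obj_X (ComplexShape.up ℤ) 0 _ i hi))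
      haveI : Module.Free R (((DRing.restrictCx (algebraMap R P)).obj (sgl (P := P) A₀)).X i) :=
        Module.Free.of_subsingleton R _
      exact Module.Flat.of_free
  haveI := quasiIso_exF_map (R' := R') π 0 (fun i hi => h.van i (Or.inr hi))
    (fun i hi => HomologicalComplex.isZero_single_obj_X _ _ _ _ (by omega)) hfF hfS
  obtain ⟨eA⟩ := RelPC.nonempty_ext_tensor_iso (A := A) (B := R' ⊗[R] A) A
  let u : (ModuleCat.extendScalars.{u, u, u} ρ).obj A₀ ≅
      (ModuleCat.restrictScalars (bcAlg (R' := R') ψ).toRingHom).obj (ModuleCat.of (R' ⊗[R] A) (R' ⊗[R] A)) :=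
    (RelPC.extRestrictIso P P' A (R' ⊗[R] A) _ _ _ _ _ (isCocartesian_pres ψ)).app (ModuleCat.of A A) ≪≫
      (ModuleCat.restrictScalars (bcAlg (R' := R') ψ).toRingHom).mapIso
        (eA ≪≫ (TensorProduct.AlgebraTensorModule.rid A (R' ⊗[R] A) (R' ⊗[R] A)).toModuleIso)
  refine ⟨((ModuleCat.extendScalars.{u, u, u} ρ).mapHomologicalComplex (ComplexShape.up ℤ)).map π ≫
    ((HomologicalComplex.singleMapHomologicalComplex (ModuleCat.extendScalars.{u, u, u} ρ)
      (ComplexShape.up ℤ) 0).app A₀).hom ≫ (HomologicalComplex.single (ModuleCat.{u} P') (ComplexShape.up ℤ) 0).map u.hom,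
    ⟨bcPres_surjective ψ h.surj, inferInstance, ?_, fun i hi => ?_, fun i => ?_⟩⟩
  · refine DCat.isKProjective_of_vanishesAbove _ 0
      (fun i hi => (ModuleCat.extendScalars.{u, u, u} ρ).map_isZero (h.van i (Or.inr hi))) fun i => ?_
    haveI := (IsProjective.iff_projective _).1 (h.fp i).2
    exact (IsProjective.iff_projective _).2
      ((ModuleCat.extendRestrictScalarsAdj ρ).map_projective (F.X i) inferInstance)
  · exact (ModuleCat.extendScalars.{u, u, u} ρ).map_isZero (h.van i hi)
  · letI := ρ.toAlgebra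
    haveI := (h.fp i).1
    haveI := (h.fp i).2
    exact ⟨Module.Finite.base_change (R := P) (A := P') (M := F.X i),
      (inferInstance : Module.Projective P' (P' ⊗[P] (F.X i)))⟩

variable {Rψ : Dual.D (MvPolynomial (Fin n) R) ⥤ Dual.D A} (adj : DRing.restrictD ψ.toRingHom ⊣ Rψ)
  {Rψ' : Dual.D (MvPolynomial (Fin n) R') ⥤ Dual.D (R' ⊗[R] A)}
  (adj' : DRing.restrictD (bcAlg (R' := R') ψ).toRingHom ⊣ Rψ')
  [DRing.HasLBaseChange (Algebra.TensorProduct.includeRight : A →ₐ[R] R' ⊗[R] A).toRingHom]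

omit [IsNoetherianRing R] [IsNoetherianRing R'] in
include h adj adj' in
/-- Base change of `RHom_P(A, P)`, with any shift. -/
theorem nonempty_LBaseChange_om_shift (k : ℤ) :
    Nonempty ((DRing.LBaseChange (Algebra.TensorProduct.includeRight : A →ₐ[R] R' ⊗[R] A).toRingHom).obj
      ((om Rψ)⟦k⟧) ≅ (om Rψ')⟦k⟧) := by
  let P := MvPolynomial (Fin n) R
  let P' := MvPolynomial (Fin n) R'
  let ρ := MvPolynomial.map (σ := Fin n) (algebraMap R R')
  let α := (Algebra.TensorProduct.includeRight : A →ₐ[R] R' ⊗[R] A).toRingHom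
  let g := algebraMap R P
  let exα := (ModuleCat.extendScalars.{u, u, u} α).mapHomologicalComplex (ComplexShape.up ℤ)
  let resψ := DRing.restrictCx ψ.toRingHom
  obtain ⟨π', h'⟩ := exists_res_baseChange (R' := R') ψ h
  haveI := h.qis
  haveI := h.kproj
  haveI := h'.qis
  haveI := h'.kproj
  haveI hC := isKProjective_Cdual F h.fp n h.van
  obtain ⟨v⟩ := nonempty_restrict_value adj π (sgl (P := P) P)
  obtain ⟨v'⟩ := nonempty_restrict_value adj' π' (sgl (P := P') P')
  have hCb : DRing.VanishesAbove (Cdual F) (n : ℤ) := fun i hi => by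
    haveI : Subsingleton (F.X (-i) →ₗ[P] P) := by
      haveI := ModuleCat.subsingleton_of_isZero (h.van (-i) (by omega))
      infer_instance
    haveI : Subsingleton (CochainComplex.HomComplex.Cochain F (sgl (P := P) P) i) :=
      (evSgl F P (-i) i (by omega)).injective.subsingleton
    exact ModuleCat.isZero_of_subsingleton (ModuleCat.of P (CochainComplex.HomComplex.Cochain F (sgl (P := P) P) i))
  have hle : ∀ i, (n : ℤ) < i → IsZero ((homologyFunctor (ModuleCat.{u} A) i).obj (om Rψ)) := fun i hi => by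
    let E := Q.objPreimage (om Rψ)
    let e : Q.obj E ≅ om Rψ := Q.objObjPreimageIso _
    refine IsZero.of_iso ?_ ((homologyFunctor (ModuleCat.{u} A) i).mapIso e.symm)
    rw [DCat.isZero_homology_toD_iff]
    have h3 : (resψ.obj E).ExactAt i := by
      rw [← DCat.isZero_homology_toD_iff]
      refine IsZero.of_iso ?_ ((homologyFunctor (ModuleCat.{u} P) i).mapIso
        (((ModuleCat.restrictScalars.{u} ψ.toRingHom).mapDerivedCategoryFactors.app E).symm ≪≫
          (DRing.restrictD ψ.toRingHom).mapIso e ≪≫ v))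
      exact (DCat.isZero_homology_toD_iff _ i).2 (HomologicalComplex.ExactAt.of_isZero (hCb i hi))
    rw [HomologicalComplex.exactAt_iff] at h3 ⊢
    exact (ShortComplex.exact_map_iff_of_faithful _ (ModuleCat.restrictScalars ψ.toRingHom)).1 h3
  obtain ⟨L, hLk, hLf, hLb, ⟨eL⟩⟩ := DCat.exists_flat_rep (K := om Rψ) (b := (n : ℤ)) hle
  let w : Q.obj (Cdual F) ≅ Q.obj (resψ.obj L) :=
    v.symm ≪≫ (DRing.restrictD ψ.toRingHom).mapIso eL.symm ≪≫
      (ModuleCat.restrictScalars.{u} ψ.toRingHom).mapDerivedCategoryFactors.app L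
  let iso := DerivedCategory.quotientCompQhIso (ModuleCat.{u} P)
  obtain ⟨c', hc'⟩ := (CochainComplex.IsKProjective.Qh_map_bijective (Cdual F)
    ((HomotopyCategory.quotient (ModuleCat.{u} P) (ComplexShape.up ℤ)).obj (resψ.obj L))).2
      (iso.hom.app (Cdual F) ≫ w.hom ≫ iso.inv.app (resψ.obj L))
  obtain ⟨c, rfl⟩ := (HomotopyCategory.quotient (ModuleCat.{u} P) (ComplexShape.up ℤ)).map_surjective c'
  haveI : QuasiIso c := by
    rw [← DerivedCategory.isIso_Q_map_iff_quasiIso]
    refine (NatIso.isIso_map_iff iso c).1 ?_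
    rw [show (HomotopyCategory.quotient (ModuleCat.{u} P) (ComplexShape.up ℤ) ⋙ DerivedCategory.Qh).map c = _ from hc']
    infer_instance
  have hCf : DRing.TermwiseFlat ((DRing.restrictCx g).obj (Cdual F)) := fun i => by
    haveI := (h.fp (-i)).1
    haveI := (h.fp (-i)).2
    exact flat_dualR (R := R) F i
  have hLf' : DRing.TermwiseFlat ((DRing.restrictCx g).obj (resψ.obj L)) := fun i => by
    haveI := hLf i
    letI : Module R (L.X i) := Module.compHom _ (algebraMap R A)
    haveI : IsScalarTower R A (L.X i) := IsScalarTower.of_algebraMap_smul fun _ _ => rfl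
    haveI : Module.Flat R (L.X i) := Module.Flat.trans R A (L.X i)
    exact Module.Flat.of_linearEquiv (M := L.X i)
      ({ toFun := fun x => x
         invFun := fun x => x
         map_add' := fun _ _ => rfl
         map_smul' := fun r (x : L.X i) => by
          show ψ (algebraMap R P r) • x = algebraMap R A r • x
          rw [ψ.commutes] } : (((DRing.restrictCx g).obj (resψ.obj L)).X i) ≃ₗ[R] L.X i)
  haveI := quasiIso_exF_map (R' := R') c (n : ℤ) hCb
    (fun i hi => (ModuleCat.restrictScalars ψ.toRingHom).map_isZero (hLb i hi)) hCf hLf'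
  obtain ⟨d⟩ := nonempty_exF_Cdual ρ F h.fp
  let N := NatIso.mapHomologicalComplex (RelPC.extRestrictIso P P' A (R' ⊗[R] A) _ _ _ _ _
    (isCocartesian_pres (R' := R') ψ)) (ComplexShape.up ℤ)
  let x : Q.obj (exF ρ (Cdual F)) ≅ (DRing.restrictD (bcAlg (R' := R') ψ).toRingHom).obj (Q.obj (exα.obj L)) :=
    asIso (Q.map (((ModuleCat.extendScalars.{u, u, u} ρ).mapHomologicalComplex (ComplexShape.up ℤ)).map c)) ≪≫
      Q.mapIso (N.app L) ≪≫
      ((ModuleCat.restrictScalars.{u} (bcAlg (R' := R') ψ).toRingHom).mapDerivedCategoryFactors.app (exα.obj L)).symm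
  obtain ⟨r⟩ := nonempty_iso_of_restrict h' adj' (Z := Q.obj (exα.obj L)) (x.symm ≪≫ Q.mapIso d ≪≫ v'.symm)
  let sh : exα.obj (L⟦k⟧) ≅ (exα.obj L)⟦k⟧ := (exα.commShiftIso k).app L
  exact ⟨(DRing.LBaseChange α).mapIso ((shiftFunctor (Dual.D A) k).mapIso eL.symm ≪≫ ((Q.commShiftIso k).app L).symm) ≪≫
    DCat.lbaseChangeIso α (hLk.shift k) ≪≫ Q.mapIso sh ≪≫ (Q.commShiftIso k).app (exα.obj L) ≪≫
    (shiftFunctor (Dual.D (R' ⊗[R] A)) k).mapIso r⟩

omit h in
include adj adj' in
/-- Base change of `ω_{A/R}`. -/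
theorem nonempty_shriekVia_self_baseChange (hψ : Function.Surjective ψ)
    [DRing.HasLBaseChange (algebraMap R (MvPolynomial (Fin n) R))]
    [DRing.HasLBaseChange (algebraMap R' (MvPolynomial (Fin n) R'))] :
    Nonempty ((DRing.LBaseChange (Algebra.TensorProduct.includeRight : A →ₐ[R] R' ⊗[R] A).toRingHom).obj
      (Dual2.shriekVia n Rψ (Dual.inD R R)) ≅ Dual2.shriekVia n Rψ' (Dual.inD R' R')) := by
  obtain ⟨F, π, h⟩ := exists_res ψ hψ
  obtain ⟨e⟩ := nonempty_shriekVia_iso_om (A := A) (Rψ := Rψ) (R := R) (n := n)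
  obtain ⟨e'⟩ := nonempty_shriekVia_iso_om (A := R' ⊗[R] A) (Rψ := Rψ') (R := R') (n := n)
  obtain ⟨m⟩ := nonempty_LBaseChange_om_shift ψ h adj adj' (n : ℤ)
  exact ⟨(DRing.LBaseChange _).mapIso e ≪≫ m ≪≫ e'.symm⟩

end Groth.Agent.DualLib.Omega
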