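import Groth.Agent.DualLib.ShriekMv
import Groth.Agent.DCat.LTensorModule
import Groth.Prelude.Def_DualSh

/-! Independence of `shriekVia` of the presentation; the finite case. -/

set_option autoImplicit false
set_option backward.isDefEq.respectTransparency false
set_option backward.defeqAttrib.useBackward true
set_option linter.style.haveILetI false

universe u

open CategoryTheory CategoryTheory.Limits DerivedCategory MvPolynomial

attribute [local instance] HasDerivedCategory.standard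

namespace Groth.Agent.DualLib.Shriek

section Swap

variable (R : Type u) [CommRing R]

/-- Exchange two blocks of variables. -/
noncomputable def swapHom (m n : ℕ) :
    MvPolynomial (Fin m) (MvPolynomial (Fin n) R) →+* MvPolynomial (Fin n) (MvPolynomial (Fin m) R) :=
  eval₂Hom (eval₂Hom (C.comp C) X) fun j => C (X j)

lemma swapHom_swapHom (m n : ℕ) : (swapHom R n m).comp (swapHom R m n) = RingHom.id _ :=
  MvPolynomial.ringHom_ext (fun p => by
    induction p using MvPolynomial.induction_on with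
    | C a => simp [swapHom]
    | add p q hp hq => simp_all
    | mul_X p i hp => simp_all [swapHom]) fun j => by simp [swapHom]

lemma swapHom_bijective (m n : ℕ) : Function.Bijective (swapHom R m n) :=
  Function.bijective_iff_has_inverse.2 ⟨swapHom R n m, RingHom.congr_fun (swapHom_swapHom R m n),
    RingHom.congr_fun (swapHom_swapHom R n m)⟩

end Swap

/-- Adjoining variables to a presentation. -/
theorem nonempty_extend_presentation {R S A : Type u} [CommRing R] [CommRing S] [CommRing A] (φ : R →+* S)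
    {ψ : S →+* A} (hψ : Function.Surjective ψ) {Rψ : Dual.D S ⥤ Dual.D A} (adj : DRing.restrictD ψ ⊣ Rψ)
    {m : ℕ} (y : Fin m → A) {RΨ : Dual.D (MvPolynomial (Fin m) S) ⥤ Dual.D A}
    (adj' : DRing.restrictD (eval₂Hom ψ y) ⊣ RΨ) (N : DRing.Cx R) :
    Nonempty ((RΨ.obj (Q.obj ((exCx ((C : S →+* MvPolynomial (Fin m) S).comp φ)).obj N)))⟦(m : ℤ)⟧ ≅
      Rψ.obj (Q.obj ((exCx φ).obj N))) := by
  choose g hg using fun j => hψ (y j)
  let π := eval₂Hom (RingHom.id S) g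
  obtain ⟨Rπ, ⟨adjπ⟩⟩ := exists_rightAdjoint π
  have he : eval₂Hom ψ y = ψ.comp π := MvPolynomial.ringHom_ext (fun r => by simp [π]) fun j => by simp [π, hg]
  obtain ⟨e⟩ := nonempty_comp_obj he adjπ adj adj'
    (Q.obj ((exCx C).obj ((exCx φ).obj N)) : Dual.D (MvPolynomial (Fin m) S))
  obtain ⟨e₁⟩ := shr_eval m g Rπ adjπ ((exCx φ).obj N)
  obtain ⟨es⟩ := nonempty_shift_obj adj (Rπ.obj (Q.obj ((exCx C).obj ((exCx φ).obj N)))) (m : ℤ)
  have hπ : π.comp C = RingHom.id S := RingHom.ext fun r => eval₂Hom_C _ _ _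
  have hc : φ = (π.comp C).comp φ := by rw [hπ, RingHom.id_comp]
  exact ⟨(shiftFunctor (Dual.D A) (m : ℤ)).mapIso (RΨ.mapIso (Q.mapIso (exComp φ C _ rfl N)) ≪≫ e) ≪≫ es.symm ≪≫
    Rψ.mapIso (e₁ ≪≫ Q.mapIso (exComp φ (π.comp C) φ hc N).symm)⟩

variable {R A : Type u} [CommRing R] [CommRing A]

/-- A representative of the derived base change. -/
theorem exists_rep (K : Dual.D R) : ∃ N : DRing.Cx R, Nonempty (Q.obj N ≅ K) ∧
    ∀ {S : Type u} [CommRing S] (φ : R →+* S) [DRing.HasLBaseChange φ],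
      Nonempty ((DRing.LBaseChange φ).obj K ≅ Q.obj ((exCx φ).obj N)) := by
  obtain ⟨⟨P⟩, s, hP, hs⟩ :=
    DCat.exists_kflatR ((HomotopyCategory.quotient _ (ComplexShape.up ℤ)).obj (Q.objPreimage K))
  obtain ⟨s, rfl⟩ := (HomotopyCategory.quotient _ (ComplexShape.up ℤ)).map_surjective s
  haveI : QuasiIso s := (HomotopyCategory.quotient_map_mem_quasiIso_iff s).1 hs
  let e : Q.obj P ≅ K := asIso (Q.map s) ≪≫ Q.objObjPreimageIso K
  exact ⟨P, ⟨e⟩, fun φ _ => ⟨(DRing.LBaseChange φ).mapIso e.symm ≪≫ DCat.lbaseChangeIso φ hP⟩⟩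

/-- Independence of the presentation. -/
theorem nonempty_shriekVia_iso [Algebra R A] (n : ℕ) (ψ : MvPolynomial (Fin n) R →+* A)
    (hψ : Function.Surjective ψ) (hψR : ψ.comp C = algebraMap R A)
    [DRing.HasLBaseChange (algebraMap R (MvPolynomial (Fin n) R))]
    (Rψ : Dual.D (MvPolynomial (Fin n) R) ⥤ Dual.D A) (adj : DRing.restrictD ψ ⊣ Rψ)
    (m : ℕ) (ψ' : MvPolynomial (Fin m) R →+* A) (hψ' : Function.Surjective ψ') (hψR' : ψ'.comp C = algebraMap R A)
    [DRing.HasLBaseChange (algebraMap R (MvPolynomial (Fin m) R))]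
    (Rψ' : Dual.D (MvPolynomial (Fin m) R) ⥤ Dual.D A) (adj' : DRing.restrictD ψ' ⊣ Rψ') (K : Dual.D R) :
    Nonempty (Dual2.shriekVia n Rψ K ≅ Dual2.shriekVia m Rψ' K) := by
  obtain ⟨N, -, hN⟩ := exists_rep K
  obtain ⟨b⟩ := hN (algebraMap R (MvPolynomial (Fin n) R))
  obtain ⟨b'⟩ := hN (algebraMap R (MvPolynomial (Fin m) R))
  let y : Fin m → A := fun j => ψ' (X j)
  let y' : Fin n → A := fun i => ψ (X i)
  obtain ⟨R₁, ⟨adj₁⟩⟩ := exists_rightAdjoint (eval₂Hom ψ y)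
  obtain ⟨R₂, ⟨adj₂⟩⟩ := exists_rightAdjoint (eval₂Hom ψ' y')
  obtain ⟨e₁⟩ := nonempty_extend_presentation (algebraMap R (MvPolynomial (Fin n) R)) hψ adj y adj₁ N
  obtain ⟨e₂⟩ := nonempty_extend_presentation (algebraMap R (MvPolynomial (Fin m) R)) hψ' adj' y' adj₂ N
  let σ := swapHom R m n
  have hσ : Function.Bijective σ := swapHom_bijective R m n
  have hσCC : ∀ r, σ (C (C r)) = C (C r) := fun r => by simp [σ, swapHom]
  have he : eval₂Hom ψ y = (eval₂Hom ψ' y').comp σ := by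
    refine MvPolynomial.ringHom_ext (fun p => ?_) fun j => ?_
    · induction p using MvPolynomial.induction_on with
      | C a =>
        rw [RingHom.comp_apply, hσCC, eval₂Hom_C, eval₂Hom_C]
        exact (RingHom.congr_fun hψR a).trans (RingHom.congr_fun hψR' a).symm
      | add p q hp hq => simp_all
      | mul_X p i hp => simp_all [σ, swapHom, y']
    · simp [σ, swapHom, y]
  obtain ⟨Rσ, ⟨adjσ⟩⟩ := exists_rightAdjoint σ
  let c := (C : MvPolynomial (Fin n) R →+* MvPolynomial (Fin m) (MvPolynomial (Fin n) R)).comp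
    (algebraMap R (MvPolynomial (Fin n) R))
  let c' := (C : MvPolynomial (Fin m) R →+* MvPolynomial (Fin n) (MvPolynomial (Fin m) R)).comp
    (algebraMap R (MvPolynomial (Fin m) R))
  have hc : c' = σ.comp c := RingHom.ext fun r => (hσCC r).symm
  obtain ⟨e₃⟩ := nonempty_comp_obj he adjσ adj₂ adj₁ (Q.obj ((exCx c).obj N))
  obtain ⟨e₄⟩ := frob_of_bijective σ hσ Rσ adjσ ((exCx c).obj N)
  let e₅ : R₁.obj (Q.obj ((exCx c).obj N)) ≅ R₂.obj (Q.obj ((exCx c').obj N)) :=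
    e₃ ≪≫ R₂.mapIso (e₄ ≪≫ Q.mapIso (exComp c σ c' hc N).symm)
  exact ⟨(shiftFunctor (Dual.D A) (n : ℤ)).mapIso (Rψ.mapIso b ≪≫ e₁.symm) ≪≫
    (shiftFunctorComm (Dual.D A) (m : ℤ) (n : ℤ)).app _ ≪≫
    (shiftFunctor (Dual.D A) (m : ℤ)).mapIso ((shiftFunctor (Dual.D A) (n : ℤ)).mapIso e₅ ≪≫ e₂ ≪≫ Rψ'.mapIso b'.symm)⟩

/-- The finite case. -/
theorem nonempty_shriekVia_finite [Algebra R A] [Module.Finite R A] (n : ℕ) (ψ : MvPolynomial (Fin n) R →+* A)
    (hψR : ψ.comp C = algebraMap R A) [DRing.HasLBaseChange (algebraMap R (MvPolynomial (Fin n) R))]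
    (Rψ : Dual.D (MvPolynomial (Fin n) R) ⥤ Dual.D A) (adj : DRing.restrictD ψ ⊣ Rψ)
    (R' : Dual.D R ⥤ Dual.D A) (adjR : DRing.restrictD (algebraMap R A) ⊣ R') (K : Dual.D R) :
    Nonempty (Dual2.shriekVia n Rψ K ≅ R'.obj K) := by
  obtain ⟨N, ⟨eN⟩, hN⟩ := exists_rep K
  obtain ⟨b⟩ := hN (algebraMap R (MvPolynomial (Fin n) R))
  haveI : Algebra.IsIntegral R A := Algebra.IsIntegral.of_finite R A
  obtain ⟨B, _, π, ρ, hs, hF, hρ⟩ := exists_frob_factor n (algebraMap R A) (fun i => ψ (X i))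
    fun i => Algebra.IsIntegral.isIntegral _
  have hψ : ψ = ρ.comp π := by
    rw [hρ]
    exact MvPolynomial.ringHom_ext (fun r => by rw [eval₂Hom_C]; exact RingHom.congr_fun hψR r) fun i => by simp
  have hA : algebraMap R A = ρ.comp (π.comp C) := by rw [← RingHom.comp_assoc, ← hψ, hψR]
  obtain ⟨Rπ, ⟨adjπ⟩⟩ := exists_rightAdjoint π
  obtain ⟨Rρ, ⟨adjρ⟩⟩ := exists_rightAdjoint ρ
  obtain ⟨Rc, ⟨adjc⟩⟩ := exists_rightAdjoint (π.comp C)
  obtain ⟨e⟩ := nonempty_comp_obj hψ adjπ adjρ adj ((DRing.LBaseChange (algebraMap R (MvPolynomial (Fin n) R))).obj K)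
  obtain ⟨e'⟩ := nonempty_comp_obj hA adjc adjρ adjR (Q.obj N)
  obtain ⟨e₁⟩ := hs Rπ adjπ N
  obtain ⟨e₂⟩ := hF Rc adjc N
  obtain ⟨es⟩ := nonempty_shift_obj adjρ (Rπ.obj ((DRing.LBaseChange (algebraMap R (MvPolynomial (Fin n) R))).obj K)) (n : ℤ)
  exact ⟨(shiftFunctor (Dual.D A) (n : ℤ)).mapIso e ≪≫ es.symm ≪≫
    Rρ.mapIso ((shiftFunctor (Dual.D B) (n : ℤ)).mapIso (Rπ.mapIso b) ≪≫ e₁ ≪≫ e₂.symm) ≪≫ e'.symm ≪≫ R'.mapIso eN⟩

end Groth.Agent.DualLib.Shriek
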