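import Groth.Agent.DualLib.ShriekTensor
import Groth.Agent.DualLib.OmegaBC
import Groth.Agent.DualLib.ShriekIndep
import Mathlib.Algebra.Category.ModuleCat.Monoidal.Adjunction

/-! Derived base change is monoidal; base change of `φ^!`. -/

set_option autoImplicit false
set_option backward.isDefEq.respectTransparency false
set_option backward.defeqAttrib.useBackward true
set_option linter.style.haveILetI false

universe u

open CategoryTheory CategoryTheory.Limits CategoryTheory.MonoidalCategory HomologicalComplex DerivedCategory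
open scoped TensorProduct

attribute [local instance] HasDerivedCategory.standard

namespace Groth.Agent.DualLib.BaseTensor

open Groth.Agent Groth.Agent.DCat

variable {A B : Type u} [CommRing A] [CommRing B] (φ : A →+* B)

/-- Extension of scalars commutes with total tensor products. -/
noncomputable def extTensorIso (N L : DRing.Cx A) :
    (DTen.extCx φ).obj (N ⊗ L) ≅ (DTen.extCx φ).obj N ⊗ (DTen.extCx φ).obj L :=
  haveI : PreservesColimitsOfSize.{0, 0} (ModuleCat.extendScalars.{u, u, u} φ) :=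
    (ModuleCat.extendRestrictScalarsAdj.{u, u, u} φ).leftAdjoint_preservesColimits
  mapTotIso (modT A) (modT B) (ModuleCat.extendScalars.{u, u, u} φ) (ModuleCat.extendScalars.{u, u, u} φ)
    (ModuleCat.extendScalars.{u, u, u} φ)
    (fun a b => (Functor.Monoidal.μIso (ModuleCat.extendScalars.{u, u, u} φ) a b).symm)
    (fun f b => (Functor.OplaxMonoidal.δ_natural_left (F := ModuleCat.extendScalars.{u, u, u} φ) f b).symm)
    (fun a _ _ g => (Functor.OplaxMonoidal.δ_natural_right (F := ModuleCat.extendScalars.{u, u, u} φ) a g).symm) N L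

/-- Derived base change of `K ⊗ E`. -/
theorem nonempty_LBaseChange_LTensorCx [DRing.HasLBaseChange φ] (E : DRing.Cx A) [DRing.HasLTensorCx A E]
    (E' : DRing.Cx B) [DRing.HasLTensorCx B E']
    (e : (DRing.LBaseChange φ).obj (DRing.toD E) ≅ DRing.toD E') (X : Dual.D A) :
    Nonempty ((DRing.LBaseChange φ).obj ((DRing.LTensorCx A E).obj X) ≅
      (DRing.LTensorCx B E').obj ((DRing.LBaseChange φ).obj X)) := by
  haveI := hasLTen A
  haveI := hasLTen B
  haveI := SurjT.isIso_toLTensorCx (P := A) E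
  haveI := SurjT.isIso_toLTensorCx (P := B) E'
  obtain ⟨N, hN, ⟨eN⟩⟩ := exists_kflat_obj X
  obtain ⟨L, hL, ⟨eL⟩⟩ := exists_kflat_obj (DerivedCategory.Q.obj E)
  haveI := isIso_ε_of_left (L := L) hN
  haveI := isIso_ε_of_left (L := (DTen.extCx φ).obj L) (isKFlatFor_ext φ hN)
  exact ⟨(DRing.LBaseChange φ).mapIso (((asIso (DTen.toLTensorCx A E)).app X).symm ≪≫
      (DTen.LTen₂ A).mapIso (Iso.prod eN.symm eL.symm) ≪≫ asIso ((DTen.ε A).app (N, L))) ≪≫
    lbaseChangeIso φ (isKFlatFor_tensor hN hL) ≪≫ DerivedCategory.Q.mapIso (extTensorIso φ N L) ≪≫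
    (asIso ((DTen.ε B).app ((DTen.extCx φ).obj N, (DTen.extCx φ).obj L))).symm ≪≫
    (DTen.LTen₂ B).mapIso (Iso.prod ((lbaseChangeIso φ hN).symm ≪≫ (DRing.LBaseChange φ).mapIso eN)
      ((lbaseChangeIso φ hL).symm ≪≫ (DRing.LBaseChange φ).mapIso eL ≪≫ e)) ≪≫
    (asIso (DTen.toLTensorCx B E')).app _⟩

variable {R R' S : Type u} [CommRing R] [CommRing R'] [CommRing S] [IsNoetherianRing R] [IsNoetherianRing R'] [Algebra R R']
  [Algebra R S] [Module.Flat R S] {n : ℕ} (ψ : MvPolynomial (Fin n) R →ₐ[R] S) (hψ : Function.Surjective ψ)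
  [DRing.HasLBaseChange (algebraMap R (MvPolynomial (Fin n) R))]
  {Rψ : Dual.D (MvPolynomial (Fin n) R) ⥤ Dual.D S} (adj : DRing.restrictD ψ.toRingHom ⊣ Rψ)
  {m : ℕ} (ψ' : MvPolynomial (Fin m) R' →ₐ[R'] (R' ⊗[R] S)) (hψ' : Function.Surjective ψ')
  [DRing.HasLBaseChange (algebraMap R' (MvPolynomial (Fin m) R'))]
  {Rψ' : Dual.D (MvPolynomial (Fin m) R') ⥤ Dual.D (R' ⊗[R] S)} (adj' : DRing.restrictD ψ'.toRingHom ⊣ Rψ')
  [DRing.HasLBaseChange (Algebra.TensorProduct.includeRight : S →ₐ[R] R' ⊗[R] S).toRingHom]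
  [DRing.HasLBaseChange (algebraMap R R')]

include hψ adj hψ' adj' in
/-- Base change of `φ^!`. -/
theorem nonempty_shriekVia_baseChange (K : Dual.D R) :
    Nonempty ((DRing.LBaseChange (Algebra.TensorProduct.includeRight : S →ₐ[R] R' ⊗[R] S).toRingHom).obj
      (Dual2.shriekVia n Rψ K) ≅ Dual2.shriekVia m Rψ' ((DRing.LBaseChange (algebraMap R R')).obj K)) := by
  let α := (Algebra.TensorProduct.includeRight : S →ₐ[R] R' ⊗[R] S).toRingHom
  haveI := DCat.hasLBaseChange (algebraMap R S)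
  haveI := DCat.hasLBaseChange (algebraMap R' (R' ⊗[R] S))
  haveI := DCat.hasLBaseChange (algebraMap R' (MvPolynomial (Fin n) R'))
  let ω := Dual2.shriekVia n Rψ (Dual.inD R R)
  let ω' := Dual2.shriekVia m Rψ' (Dual.inD R' R')
  let W := DerivedCategory.Q.objPreimage ω
  let W' := DerivedCategory.Q.objPreimage ω'
  haveI := hasLTensorCx W
  haveI := hasLTensorCx W'
  obtain ⟨f⟩ := ShriekT.nonempty_shriekVia_tensor ψ hψ adj W ⟨DerivedCategory.Q.objObjPreimageIso ω⟩ K
  obtain ⟨f'⟩ := ShriekT.nonempty_shriekVia_tensor ψ' hψ' adj' W' ⟨DerivedCategory.Q.objObjPreimageIso ω'⟩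
    ((DRing.LBaseChange (algebraMap R R')).obj K)
  obtain ⟨Rb, ⟨adjb⟩⟩ := Shriek.exists_rightAdjoint (Omega.bcAlg (R' := R') ψ).toRingHom
  obtain ⟨eb⟩ := Omega.nonempty_shriekVia_self_baseChange (R' := R') ψ adj adjb hψ
  obtain ⟨ei⟩ := Shriek.nonempty_shriekVia_iso n (Omega.bcAlg (R' := R') ψ).toRingHom
    (Shriek.bcPres_surjective ψ hψ) (RingHom.ext fun r => (Omega.bcAlg (R' := R') ψ).commutes r) Rb adjb m ψ'.toRingHom hψ'
    (RingHom.ext fun r => ψ'.commutes r) Rψ' adj' (Dual.inD R' R')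
  let eW : (DRing.LBaseChange α).obj (DRing.toD W) ≅ DRing.toD W' :=
    (DRing.LBaseChange α).mapIso (DerivedCategory.Q.objObjPreimageIso ω) ≪≫ eb ≪≫ ei ≪≫
      (DerivedCategory.Q.objObjPreimageIso ω').symm
  obtain ⟨t⟩ := nonempty_LBaseChange_LTensorCx α W W' eW ((DRing.LBaseChange (algebraMap R S)).obj K)
  let γ := α.comp (algebraMap R S)
  haveI := DCat.hasLBaseChange γ
  have hγ : γ = (algebraMap R' (R' ⊗[R] S)).comp (algebraMap R R') := RingHom.ext fun r => by
    show (1 : R') ⊗ₜ[R] algebraMap R S r = algebraMap R R' r ⊗ₜ[R] (1 : S)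
    rw [Algebra.algebraMap_eq_smul_one, Algebra.algebraMap_eq_smul_one, TensorProduct.tmul_smul, TensorProduct.smul_tmul']
  exact ⟨(DRing.LBaseChange α).mapIso f ≪≫ t ≪≫ (DRing.LTensorCx _ W').mapIso
    ((LBC.compIso (algebraMap R S) α γ rfl).app K ≪≫ ((LBC.compIso _ _ γ hγ).app K).symm) ≪≫ f'.symm⟩

end Groth.Agent.DualLib.BaseTensor
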