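import Groth.Agent.LocCoh.Duality
import Groth.Agent.Matlis6.Completion
import Mathlib.RingTheory.AdicCompletion.AsTensorProduct

/-! The Matlis bidual of a finite module is its completion. -/

set_option autoImplicit false

universe u v

open TensorProduct

namespace Groth.Agent.DualLib

variable {A : Type u} [CommRing A] [IsLocalRing A] [IsNoetherianRing A]

theorem nonempty_bidual_completion {E : Type u} [AddCommGroup E] [Module A E]
    {f : IsLocalRing.ResidueField A →ₗ[A] E} (hf : InjHull.IsInjectiveHull f)
    (X : Type v) [AddCommGroup X] [Module A X] [Module.Finite A X] :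
    Nonempty (((X →ₗ[A] E) →ₗ[A] E) ≃ₗ[A] AdicCompletion (IsLocalRing.maximalIdeal A) X) := by
  obtain ⟨k, p, hp⟩ := Module.Finite.exists_fin' A X
  let q := p.quotKerEquivOfSurjective hp
  have hE := Matlis6.of_isInjectiveHull_residueField hf
  exact ⟨(q.congrLeft E A).symm.congrLeft E A ≪≫ₗ
    (LinearEquiv.ofBijective _ (LocCoh.dualEval_bijective (R := A) E E hE.inj ((Fin k → A) ⧸ LinearMap.ker p))).symm ≪≫ₗ
    LinearEquiv.rTensor _ hE.endEquiv.toLinearEquiv.symm ≪≫ₗ
    (AdicCompletion.ofTensorProductEquivOfFiniteNoetherian (IsLocalRing.maximalIdeal A)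
      ((Fin k → A) ⧸ LinearMap.ker p)).restrictScalars A ≪≫ₗ
    (AdicCompletion.congr (IsLocalRing.maximalIdeal A) q).restrictScalars A⟩

end Groth.Agent.DualLib
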