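import Groth.Agent.DualLib.FlatApps
import Groth.Agent.CAlgH.Catenary
import Groth.Agent.DCat.LTensorModule

/-! Rings with dualizing complexes are universally catenary. -/

set_option autoImplicit false
set_option backward.isDefEq.respectTransparency false
set_option backward.defeqAttrib.useBackward true
set_option linter.style.haveILetI false

universe u

open CategoryTheory CategoryTheory.Limits DerivedCategory

attribute [local instance] HasDerivedCategory.standard

namespace Groth.Agent.DualLib

variable {A : Type u} [CommRing A] [IsNoetherianRing A] {ω : Dual.D A} (hω : Dual.IsDualizing A ω)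
include hω

/-- A ring with a dualizing complex is catenary. -/
theorem isCatenary : CAlg.IsCatenary A := by
  have hlen : ∀ s : LTSeries (PrimeSpectrum A), deg hω s.head + (s.length : ℤ) ≤ deg hω s.last :=
    deg_add_length hω
  have hsat : ∀ s : LTSeries (PrimeSpectrum A), (∀ i : Fin s.length, s (Fin.castSucc i) ⋖ s (Fin.succ i)) →
      deg hω s.last = deg hω s.head + (s.length : ℤ) := by
    intro s hs
    have key : ∀ i : Fin (s.length + 1), deg hω (s i) = deg hω s.head + ((i : ℕ) : ℤ) := by
      intro i
      induction i using Fin.induction with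
      | zero => rw [Fin.val_zero, Nat.cast_zero, add_zero]; rfl
      | succ j ih =>
        have h1 := deg_covBy hω (hs j)
        rw [ih] at h1
        simp only [Fin.val_castSucc, Fin.val_succ] at h1 ⊢
        omega
    have := key (Fin.last _)
    rwa [Fin.val_last] at this
  refine ⟨fun p q _ => ⟨(deg hω q - deg hω p).toNat, fun s h1 h2 => ?_⟩, fun s t h1 h2 hs ht => ?_⟩
  · have := hlen s
    rw [h1, h2] at this
    omega
  · have e1 := hsat s hs
    have e2 := hsat t ht
    rw [h1, h2] at e1
    omega

/-- A ring with a dualizing complex is universally catenary. -/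
theorem isUniversallyCatenary : CAlg.IsUniversallyCatenary A := by
  refine ⟨inferInstance, fun S _ _ hS => ?_⟩
  obtain ⟨n, f, hf⟩ := Algebra.FiniteType.iff_quotient_mvPolynomial''.1 hS
  let P := MvPolynomial (Fin n) A
  haveI := DCat.hasLBaseChange (φ := algebraMap A P)
  haveI : Algebra.Smooth A P := ⟨inferInstance, inferInstance⟩
  have hP : CAlg.IsCatenary P := isCatenary (isDualizing_LBaseChange_smooth (B := P) hω)
  let e : PrimeSpectrum S ↪o PrimeSpectrum P :=
    OrderEmbedding.ofMapLEIff (PrimeSpectrum.comap f.toRingHom) fun x y => by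
      rw [← PrimeSpectrum.asIdeal_le_asIdeal, ← PrimeSpectrum.asIdeal_le_asIdeal]
      exact Ideal.comap_le_comap_iff_of_surjective f.toRingHom hf _ _
  refine CAlgH.isCatenary_of_embedding e (fun a b x hax _ => ?_) hP
  have hk : RingHom.ker f.toRingHom ≤ x.asIdeal :=
    le_trans (Ideal.comap_mono bot_le) ((PrimeSpectrum.asIdeal_le_asIdeal (e a) x).2 hax)
  exact ⟨⟨x.asIdeal.map f.toRingHom, Ideal.map_isPrime_of_surjective hf hk⟩,
    PrimeSpectrum.ext (Ideal.comap_map_of_surjective' f.toRingHom hf _ |>.trans (sup_eq_left.2 hk))⟩

end Groth.Agent.DualLib
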