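import Groth.Agent.DualLib.PnShriek
import Groth.Agent.Dual22Lib.CohAdj
import Groth.Agent.Dual22Lib.RightAdjTensor
import Groth.Agent.Dual22Lib.SuppAdjQC
import Groth.Agent.Dual22Lib.PPFlat
import Groth.Agent.Dual22Lib.ProjSmooth
import Groth.Agent.Dual22Lib.GorInvertible
import Groth.Agent.DQCoh.TildePush
import Groth.Agent.ProjLib.BaseChange
import Groth.Prelude.Def_DualSh

/-!
# The right adjoint of a proper direct image on affine charts is the algebraic upper shriek
-/

set_option autoImplicit false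
set_option backward.isDefEq.respectTransparency false
set_option backward.defeqAttrib.useBackward true
set_option linter.style.haveILetI false
set_option linter.unusedSectionVars false
set_option synthInstance.maxHeartbeats 100000

universe u

open CategoryTheory CategoryTheory.Limits CategoryTheory.Pretriangulated AlgebraicGeometry Opposite
open Groth.Agent.Coherent (DX)
open Groth.Agent.DCat Groth.Agent.DualLib.RingBase Groth.Agent.Dual22Lib

attribute [local instance] HasDerivedCategory.standard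
attribute [-instance] Int.instConditionallyCompleteLinearOrder

namespace Groth.Agent.DualLib.ChartShriek

open MvPolynomial in
/-- `R[X₀, …, Xₙ]/(X₀ - 1) ≅ R[t₁, …, tₙ]`. -/
noncomputable def dehom (R : Type u) [CommRing R] (n : ℕ) :
    (MvPolynomial (Fin (n + 1)) R ⧸ Ideal.span {(X 0 : MvPolynomial (Fin (n + 1)) R) - 1}) ≃ₐ[R]
      MvPolynomial (Fin n) R :=
  AlgEquiv.ofAlgHom
    (Ideal.Quotient.liftₐ _ (aeval (Fin.cases (1 : MvPolynomial (Fin n) R) X)) (by
      intro a ha
      obtain ⟨c, rfl⟩ := Ideal.mem_span_singleton.mp ha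
      simp))
    (aeval fun j => Ideal.Quotient.mk _ (X j.succ))
    (by
      refine MvPolynomial.algHom_ext fun j => ?_
      simp)
    (by
      refine Ideal.Quotient.algHom_ext _ (MvPolynomial.algHom_ext fun j => ?_)
      refine Fin.cases ?_ (fun i => ?_) j
      · simp only [AlgHom.comp_apply, AlgHom.id_apply, Ideal.Quotient.mkₐ_eq_mk, Ideal.Quotient.liftₐ_apply,
          Ideal.Quotient.lift_mk, aeval_X, RingHom.coe_coe, Fin.cases_zero, map_one]
        exact (Ideal.Quotient.eq.mpr (Ideal.mem_span_singleton_self _)).symm.trans rfl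
      · simp)

/-- The standard chart ring of `P^n_R` is the polynomial ring. -/
noncomputable def chartE (R : Type u) [CommRing R] (n : ℕ) :
    HomogeneousLocalization.Away (CohB1.polyGrading n R) (MvPolynomial.X 0 : MvPolynomial (Fin (n + 1)) R) ≃+*
      MvPolynomial (Fin n) R :=
  (ProjLib.awayEquivQuotient (ProjLib.X_mem_polyGrading n R 0)).trans (dehom R n).toRingEquiv

theorem chartE_toAway (R : Type u) [CommRing R] (n : ℕ) (r : R) :
    chartE R n (ProjLib.toAway n R (MvPolynomial.X 0) r) = MvPolynomial.C r := by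
  show dehom R n (ProjLib.evalOne (algebraMap _ _ (ProjLib.toAway n R (MvPolynomial.X 0) r))) = _
  rw [HomogeneousLocalization.algebraMap_apply, ProjLib.val_toAway]
  have : ProjLib.evalOne (f := (MvPolynomial.X 0 : MvPolynomial (Fin (n + 1)) R))
      (algebraMap _ (Localization.Away (MvPolynomial.X 0 : MvPolynomial (Fin (n + 1)) R)) (MvPolynomial.C r)) =
      Ideal.Quotient.mk _ (MvPolynomial.C r) := IsLocalization.Away.lift_eq _ _ _
  rw [this]
  exact (dehom R n).commutes r

/-- The standard chart of `P^n_R`. -/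
noncomputable def chart (R : Type u) [CommRing R] (n : ℕ) :
    Spec (CommRingCat.of (MvPolynomial (Fin n) R)) ⟶ CohB1.ProjSpace n R :=
  Spec.map (CommRingCat.ofHom (chartE R n).toRingHom) ≫
    Proj.awayι (CohB1.polyGrading n R) (MvPolynomial.X 0) (ProjLib.X_mem_polyGrading n R 0) one_pos

instance (R : Type u) [CommRing R] (n : ℕ) : IsOpenImmersion (chart R n) := by
  have : IsIso (CommRingCat.ofHom (chartE R n).toRingHom) :=
    (ConcreteCategory.isIso_iff_bijective _).mpr (chartE R n).bijective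
  exact @IsOpenImmersion.comp _ _ _ (Spec.map (CommRingCat.ofHom (chartE R n).toRingHom))
    (Proj.awayι (CohB1.polyGrading n R) (MvPolynomial.X 0) (ProjLib.X_mem_polyGrading n R 0) one_pos)
    inferInstance inferInstance

theorem chart_toSpec (R : Type u) [CommRing R] (n : ℕ) : chart R n ≫ CohB1.ProjSpace.toSpec n R =
    Spec.map (CommRingCat.ofHom (algebraMap R (MvPolynomial (Fin n) R))) := by
  refine (Category.assoc _ _ _).trans ?_
  refine (congrArg (_ ≫ ·) (ProjLib.awayι_toSpec n R (ProjLib.X_mem_polyGrading n R 0) one_pos)).trans ?_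
  rw [← Spec.map_comp]
  congr 1
  exact CommRingCat.hom_ext (RingHom.ext fun r => chartE_toAway R n r)

theorem range_chart (R : Type u) [CommRing R] (n : ℕ) (x : Spec (CommRingCat.of (MvPolynomial (Fin n) R))) :
    chart R n x ∈ (Coherent.projPowCover n R).D (0 : Fin (n + 1)) :=
  (Proj.opensRange_awayι (CohB1.polyGrading n R) (MvPolynomial.X 0)
    (ProjLib.X_mem_polyGrading n R 0) one_pos).le ⟨_, rfl⟩

/-- An affine scheme of finite type over `Spec R` is closed in an affine space. -/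
theorem exists_presentation {R : Type u} [CommRing R] {B : Type u} [CommRing B]
    (h : Spec (CommRingCat.of B) ⟶ Spec (CommRingCat.of R)) [LocallyOfFiniteType h] :
    ∃ (n : ℕ) (ψ : MvPolynomial (Fin n) R →+* B), Function.Surjective ψ ∧
      Spec.map (CommRingCat.ofHom ψ) ≫ chart R n ≫ CohB1.ProjSpace.toSpec n R = h := by
  let φ : CommRingCat.of R ⟶ CommRingCat.of B := Spec.preimage h
  let : Algebra R B := φ.hom.toAlgebra
  have hφ : Spec.map φ = h := Spec.map_preimage _
  have hft : φ.hom.FiniteType := by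
    refine (HasRingHomProperty.Spec_iff (P := @LocallyOfFiniteType)).1 ?_
    rw [hφ]; infer_instance
  obtain ⟨n, ψ, hψ⟩ := Algebra.FiniteType.iff_quotient_mvPolynomial''.1 (show Algebra.FiniteType R B from hft)
  refine ⟨n, ψ.toRingHom, hψ, ?_⟩
  rw [chart_toSpec, ← Spec.map_comp, ← hφ]
  congr 1
  exact CommRingCat.hom_ext (RingHom.ext fun r => ψ.commutes r)

/-- Representing objects along a morphism of affine schemes. -/
theorem repObj_affine {P B : Type u} [CommRing P] [CommRing B] (φ : P →+* B)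
    [PreservesFiniteLimits (tilde.functor (CommRingCat.of P))] [PreservesFiniteLimits (tilde.functor (CommRingCat.of B))]
    (Rψ : Dual.D P ⥤ Dual.D B) (adj : DRing.restrictD φ ⊣ Rψ) (W : Dual.D P) :
    RepLib.RepObj (Spec.map (CommRingCat.ofHom φ)) ((DCoh.tildeD (CommRingCat.of P)).obj W)
      ((DCoh.tildeD (CommRingCat.of B)).obj (Rψ.obj W)) := by
  refine ⟨fun {_} => ?_⟩
  obtain ⟨η⟩ := DQCoh.nonempty_tildeD_Rpush (CommRingCat.ofHom φ)
  obtain ⟨hfB, hfB', hessB⟩ := DQCoh.tildeD_main (CommRingCat.of B)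
  obtain ⟨hfP, hfP', -⟩ := DQCoh.tildeD_main (CommRingCat.of P)
  let TB := DCoh.tildeD (CommRingCat.of B)
  let TP := DCoh.tildeD (CommRingCat.of P)
  let F := DCoh.Rpush (Spec.map (CommRingCat.ofHom φ))
  refine ⟨DQCoh.isQCohD_tildeD _ _, η.hom.app (Rψ.obj W) ≫ TP.map (adj.counit.app W), fun K hK => ?_⟩
  obtain ⟨N, ⟨eN⟩⟩ := (hessB K).1 hK
  have key : ∀ g : N ⟶ Rψ.obj W, F.map (TB.map g) ≫ η.hom.app (Rψ.obj W) ≫ TP.map (adj.counit.app W) =
      η.hom.app N ≫ TP.map ((adj.homEquiv N W).symm g) := fun g => by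
    have hn := η.hom.naturality g
    dsimp at hn
    erw [reassoc_of% hn, ← Functor.map_comp]
    rw [Adjunction.homEquiv_counit]
  let E : (K ⟶ TB.obj (Rψ.obj W)) ≃ (F.obj K ⟶ TP.obj W) :=
    ((eN.homCongr (Iso.refl _)).symm).trans <|
      ((Functor.FullyFaithful.ofFullyFaithful TB).homEquiv).symm.trans <|
      (adj.homEquiv N W).symm.trans <|
      ((Functor.FullyFaithful.ofFullyFaithful TP).homEquiv).trans
        ((η.app N).homCongr (Iso.refl _) |>.symm.trans ((F.mapIso eN).homCongr (Iso.refl _)))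
  have hE : ∀ y, E y = F.map y ≫ η.hom.app (Rψ.obj W) ≫ TP.map (adj.counit.app W) := fun y => by
    obtain ⟨g, hg⟩ := TB.map_surjective (eN.hom ≫ y)
    have hy : y = eN.inv ≫ TB.map g := by rw [hg, Iso.inv_hom_id_assoc]
    subst hy
    rw [Functor.map_comp, Category.assoc, key]
    simp [E, TB, TP, F, Functor.FullyFaithful.homEquiv]
  unfold AdjGlue.Rep
  convert E.bijective using 1
  funext y
  exact (hE y).symm

/-- The representing object on the standard chart of `P^n_R`. -/
theorem nonempty_rep_chart {R : Type u} [CommRing R] (n : ℕ)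
    [DRing.HasLBaseChange (algebraMap R (MvPolynomial (Fin n) R))]
    [PreservesFiniteLimits (tilde.functor (CommRingCat.of R))]
    [PreservesFiniteLimits (tilde.functor (CommRingCat.of (MvPolynomial (Fin n) R)))]
    [∀ (U V : Scheme.{u}) (j : U ⟶ V) [IsOpenImmersion j], PreservesFiniteLimits (Scheme.Modules.restrictFunctor j)]
    (K : Dual.D R) {A : DCoh.D (CohB1.ProjSpace n R)}
    (hA : RepLib.RepObj (CohB1.ProjSpace.toSpec n R) ((DCoh.tildeD (CommRingCat.of R)).obj K) A) :
    Nonempty ((DCoh.restrictD (chart R n)).obj A ≅ (DCoh.tildeD (CommRingCat.of (MvPolynomial (Fin n) R))).obj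
      (((DRing.LBaseChange (algebraMap R (MvPolynomial (Fin n) R))).obj K)⟦(n : ℤ)⟧)) := by
  let π := CohB1.ProjSpace.toSpec n R
  haveI : IsProper π := Coherent.isProper_projSpace_toSpec n R
  haveI : Smooth π := ProjSmooth.smooth_toSpec n R
  haveI : CompactSpace (CohB1.ProjSpace n R) := QuasiCompact.compactSpace_of_compactSpace π
  haveI : (CohB1.ProjSpace n R).IsSeparated := inferInstanceAs (Proj (CohB1.polyGrading n R)).IsSeparated
  haveI := DCat.hasRpush π
  haveI := DCat.hasLpull π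
  have hq : DCoh.RpushPreservesQCoh π := fun K hK => DQCoh.isQCohD_Rpush π K hK
  haveI := AdjGeom.isLeftAdjoint_RpushQ π hq
  let a := (DCoh.RpushQ π hq).rightAdjoint
  let ad : DCoh.RpushQ π hq ⊣ a := Adjunction.ofIsLeftAdjoint _
  have hpp : SumAdj.PP π := PPFlat.pp_flat π
  have hrep : ∀ M : DCoh.DQCoh (Spec (CommRingCat.of R)), RepLib.RepObj π M.obj (a.obj M).obj := fun M => ⟨fun {_} =>
    ⟨(a.obj M).property, (ad.counit.app M).hom, fun L hL => SupportAdj.rep_counit π hq a ad M L hL⟩⟩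
  -- the value at `O`
  let O₀ : DCoh.DQCoh (Spec (CommRingCat.of R)) := ⟨PS R, isQCohD_PS⟩
  let eO : O₀.obj ≅ DCoh.inD (Spec (CommRingCat.of R)) (Coh.structureModule (Spec (CommRingCat.of R))) :=
    (DerivedCategory.singleFunctor (Spec (CommRingCat.of R)).Modules 0).mapIso
      (DQCoh.topIso (CommRingCat.of R) ≪≫ tildeSelf)
  obtain ⟨w⟩ : Nonempty ((a.obj O₀).obj ≅ ((DerivedCategory.singleFunctor (CohB1.ProjSpace n R).Modules 0).obj
      (Twist.twistProjSpace n R (-((n : ℤ) + 1))))⟦(n : ℤ)⟧) := by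
    haveI : DCoh.HasRpush (CohB1.ProjSpace n R ↘ Spec (CommRingCat.of R)) := inferInstanceAs (DCoh.HasRpush π)
    exact PnShriek.nonempty_rep_iso (hrep O₀)
  let E := DerivedCategory.Q.objPreimage (a.obj O₀).obj
  let eE : DCoh.toD _ E ≅ (a.obj O₀).obj := DerivedCategory.Q.objObjPreimageIso _
  haveI := LTensorSheaf.hasLTensorCx E
  obtain ⟨t⟩ := RightAdjTensor.nonempty_iso π (hf := hq) (a := a) ad (SumAdj.ps_of_pp π (hf := hq) ad hpp)
    (fun V hV Q hQ => SuppAdjQC.killed_rightAdjoint π hpp hq a ad V hV Q hQ) O₀ eO E eE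
  let Q₀ : DCoh.DQCoh (Spec (CommRingCat.of R)) := ⟨_, DQCoh.isQCohD_tildeD (CommRingCat.of R) K⟩
  obtain ⟨eA⟩ := hA.unique (hrep Q₀)
  -- restriction to the chart
  let j := chart R n
  haveI := PullPerf.preservesFiniteLimits_restrict j
  obtain ⟨M', hM', ⟨eM⟩, hten⟩ := TenLocal.nonempty_rd_LTensor j E
  obtain ⟨eω⟩ : Nonempty ((Scheme.Modules.restrictFunctor j).obj (Twist.twistProjSpace n R (-((n : ℤ) + 1))) ≅
      Coh.structureModule (Spec (CommRingCat.of (MvPolynomial (Fin n) R)))) := by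
    obtain ⟨η⟩ := H8Constr.nonempty_restrict_iso_of_isGen ((Coherent.twistGens n R (n + 1)).isGen (0 : Fin (n + 1)))
    let U := (Coherent.projPowCover n R).D (0 : Fin (n + 1))
    let l := IsOpenImmersion.lift U.ι j (by rw [Scheme.Opens.range_ι]; rintro _ ⟨x, rfl⟩; exact range_chart R n x)
    have hl : l ≫ U.ι = j := IsOpenImmersion.lift_fac _ _ _
    have hd : -((n : ℤ) + 1) = -((n + 1 : ℕ) : ℤ) := by push_cast; ring
    rw [hd]
    exact ⟨(Scheme.Modules.restrictFunctorCongr hl.symm).app _ ≪≫ (Scheme.Modules.restrictFunctorComp l U.ι).app _ ≪≫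
      (Scheme.Modules.restrictFunctor l).mapIso η ≪≫ Scheme.Modules.restrictUnitIso l⟩
  let S₁ := (HomologicalComplex.single (Spec (CommRingCat.of (MvPolynomial (Fin n) R))).Modules (ComplexShape.up ℤ) 0).obj
    (Coh.structureModule _)
  haveI := LTensorSheaf.hasLTensorCx S₁
  haveI := LTensorSheaf.hasLTensorCx (S₁⟦(n : ℤ)⟧)
  let eS : DerivedCategory.Q.obj M' ≅ DerivedCategory.Q.obj (S₁⟦(n : ℤ)⟧) :=
    eM ≪≫ (DCoh.restrictD j).mapIso (eE ≪≫ w) ≪≫ ((DCoh.restrictD j).commShiftIso (n : ℤ)).app _ ≪≫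
      (shiftFunctor _ (n : ℤ)).mapIso (((Scheme.Modules.restrictFunctor j).mapDerivedCategorySingleFunctor 0).app _ ≪≫
        (DerivedCategory.singleFunctor _ 0).mapIso eω ≪≫
        (DerivedCategory.singleFunctorIsoCompQ _ 0).app _) ≪≫
      ((DerivedCategory.Q.commShiftIso (n : ℤ)).app S₁).symm
  obtain ⟨c₁⟩ := TensorCongr.nonempty_congr eS
  obtain ⟨c₂⟩ := RHomLeft.nonempty_LTensor_shift S₁ (RHomLeft.isKFlatFor_structure _) (n : ℤ)
  obtain ⟨c₃⟩ := RHomLeft.nonempty_LTensor_structure (X := Spec (CommRingCat.of (MvPolynomial (Fin n) R)))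
  obtain ⟨h₁⟩ := hten ((DCoh.Lpull π).obj Q₀.obj)
  haveI := DCat.hasLpull j
  haveI := DCat.hasLpull (j ≫ π)
  haveI := DCat.hasLpull (Spec.map (CommRingCat.ofHom (algebraMap R (MvPolynomial (Fin n) R))))
  obtain ⟨r⟩ := DQCoh.nonempty_Lpull_restrict j ((DCoh.Lpull π).obj Q₀.obj)
  obtain ⟨q⟩ := DCat.nonempty_LpullComp j π
  have key : ∀ (u v : Spec (CommRingCat.of (MvPolynomial (Fin n) R)) ⟶ Spec (CommRingCat.of R))
      [DCoh.HasLpull u] [DCoh.HasLpull v], u = v → Nonempty ((DCoh.Lpull u).obj Q₀.obj ≅ (DCoh.Lpull v).obj Q₀.obj) := by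
    intro u v _ _ huv
    subst huv
    exact ⟨Iso.refl _⟩
  obtain ⟨m⟩ := key (j ≫ π) _ (chart_toSpec R n)
  haveI : DRing.HasLBaseChange (CommRingCat.ofHom (algebraMap R (MvPolynomial (Fin n) R))).hom :=
    ‹DRing.HasLBaseChange (algebraMap R (MvPolynomial (Fin n) R))›
  obtain ⟨b⟩ := DQCoh.nonempty_LBaseChange_tildeD (CommRingCat.ofHom (algebraMap R (MvPolynomial (Fin n) R)))
  exact ⟨(DCoh.restrictD j).mapIso (eA ≪≫ t.app Q₀) ≪≫ h₁ ≪≫ c₁.app _ ≪≫ c₂.app _ ≪≫
    (shiftFunctor _ (n : ℤ)).mapIso (c₃.app _ ≪≫ r.symm ≪≫ q.app _ ≪≫ m ≪≫ (b.app K).symm) ≪≫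
    (((DCoh.tildeD (CommRingCat.of (MvPolynomial (Fin n) R))).commShiftIso (n : ℤ)).app
      ((DRing.LBaseChange (algebraMap R (MvPolynomial (Fin n) R))).obj K)).symm⟩

end Groth.Agent.DualLib.ChartShriek
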