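import Groth.Agent.Formal2Lib.PuncturedDepth
import Groth.Agent.EGA43.FibDepth.LociLocal
import Groth.Agent.CAlgH3.CohenMacaulay

/-!
# Stalks of a module in an affine chart, semilinearly, and transfer of local properties
-/

set_option autoImplicit false
set_option backward.isDefEq.respectTransparency false
set_option linter.style.haveILetI false

universe u

open CategoryTheory CategoryTheory.Limits AlgebraicGeometry

namespace Groth.Agent.DualLib.ChartStalk

theorem exists_stalk_semilinear_aux {X : Scheme.{u}} {R : CommRingCat.{u}} (j : Spec R ⟶ X)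
    [IsOpenImmersion j] (M : X.Modules) (N : ModuleCat.{u} R)
    (e : M.restrict j ≅ tilde (R := R) N) (p : PrimeSpectrum R) :
    ∃ (σ : Localization.AtPrime p.asIdeal ≃+* X.presheaf.stalk (j p))
      (Φ : LocalizedModule p.asIdeal.primeCompl N ≃+ M.presheaf.stalk (j p)),
      ∀ b z, Φ (b • z) = σ b • Φ z := by
  let S := (Spec R).presheaf.stalk p
  let Z : (Spec R).Modules := tilde (R := R) N
  let _ : Algebra R S := (StructureSheaf.toStalk R p).hom.toAlgebra
  haveI : IsLocalization.AtPrime S p.asIdeal := StructureSheaf.IsLocalization.to_stalk R p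
  let eS := IsLocalization.algEquiv p.asIdeal.primeCompl (Localization.AtPrime p.asIdeal) S
  let τ : X.presheaf.stalk (j p) ≃+* S := (asIso (j.stalkMap p)).commRingCatIsoToRingEquiv
  have hsm : ∀ (r : R) (z : Z.presheaf.stalk p), r • z = algebraMap R S r • z := fun _ _ => rfl
  let _ : Module (Localization.AtPrime p.asIdeal) (Z.presheaf.stalk p) :=
    Module.compHom (Z.presheaf.stalk p) eS.toRingEquiv.toRingHom
  haveI : IsScalarTower R (Localization.AtPrime p.asIdeal) (Z.presheaf.stalk p) :=
    IsScalarTower.of_algebraMap_smul fun r m => by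
      show eS (algebraMap R (Localization.AtPrime p.asIdeal) r) • m = r • m
      rw [eS.commutes, hsm]
  let φ : LocalizedModule p.asIdeal.primeCompl N ≃ₗ[Localization.AtPrime p.asIdeal] Z.presheaf.stalk p :=
    (IsLocalizedModule.iso p.asIdeal.primeCompl (tilde.toStalk (R := R) N p).hom).extendScalarsOfIsLocalization
      p.asIdeal.primeCompl (Localization.AtPrime p.asIdeal)
  let E := (Scheme.Modules.restrictStalkNatIso j p).app M
  let ψ : ((Scheme.Modules.restrictFunctor j).obj M).presheaf.stalk p ≃+ M.presheaf.stalk (j p) :=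
    E.addCommGroupIsoToAddEquiv
  have hψ : ∀ (c : X.presheaf.stalk (j p)) z, ψ (τ c • z) = c • ψ z := fun c z => by
    apply ψ.symm.injective
    rw [AddEquiv.symm_apply_apply]
    have h := Formal2Lib.Punct.restrictStalk_smul j M p c (ψ z)
    refine (h.trans ?_).symm
    exact congrArg (τ c • ·) (ψ.symm_apply_apply z)
  let ℓ := Formal2Lib.Punct.stalkIsoLin e p
  refine ⟨eS.toRingEquiv.trans τ.symm, φ.toAddEquiv.trans (ℓ.symm.toAddEquiv.trans ψ), fun b z => ?_⟩
  show ψ (ℓ.symm (φ (b • z))) = τ.symm (eS b) • ψ (ℓ.symm (φ z))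
  rw [map_smul, ← hψ, RingEquiv.apply_symm_apply]
  exact congrArg ψ (map_smul ℓ.symm (eS b) (φ z))

/-- The stalk at a point of a chart is the localization, semilinearly. -/
theorem exists_stalk_semilinear {X : Scheme.{u}} {B : Type u} [CommRing B] (j : Spec (CommRingCat.of B) ⟶ X)
    [IsOpenImmersion j] (M : X.Modules) (N : ModuleCat.{u} B)
    (e : M.restrict j ≅ tilde (R := CommRingCat.of B) N) (y : PrimeSpectrum B) :
    ∃ (σ : Localization.AtPrime y.asIdeal ≃+* X.presheaf.stalk (j y))
      (Φ : LocalizedModule y.asIdeal.primeCompl N ≃+ M.presheaf.stalk (j y)),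
      ∀ b z, Φ (b • z) = σ b • Φ z :=
  exists_stalk_semilinear_aux (R := CommRingCat.of B) j M N e y

variable {R S : Type u} [CommRing R] [CommRing S] [IsLocalRing R] [IsLocalRing S]
  {M N : Type u} [AddCommGroup M] [Module R M] [AddCommGroup N] [Module S N]
  (σ : R ≃+* S) (Φ : M ≃+ N) (h : ∀ b z, Φ (b • z) = σ b • Φ z)

include σ Φ h

/-- Depth and support dimension do not see a semilinear equivalence. -/
theorem depth_supportDim_eq [IsNoetherianRing R] [Module.Finite R M] :
    _root_.LocCoh.depth S N = _root_.LocCoh.depth R M ∧ Module.supportDim S N = Module.supportDim R M ∧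
      ∀ k : ℕ, _root_.LocCoh.HasSk k R M → _root_.LocCoh.HasSk k S N := by
  letI : Algebra R S := σ.toRingHom.toAlgebra
  letI : Module R N := Module.compHom N σ.toRingHom
  haveI : IsScalarTower R S N := IsScalarTower.of_algebraMap_smul fun _ _ => rfl
  have hs : Function.Surjective (algebraMap R S) := σ.surjective
  let L : M ≃ₗ[R] N := { Φ with map_smul' := h }
  haveI : Module.Finite R N := Module.Finite.equiv L
  haveI : Module.Finite S N := Module.Finite.of_restrictScalars_finite R S N
  exact ⟨(CAlgH3.depth_of_surjective (R := R) (S := S) hs N).trans (CAlgH3.depth_congr L).symm,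
    (CommAlg6.supportDim_of_surjective hs N).trans (Module.supportDim_eq_of_equiv L).symm,
    fun k hk => (EGA43.FibDepth.hasSk_of_surjective_iff hs k).1 ((EGA43.FibDepth.hasSk_congr L k).1 hk)⟩

theorem isCohenMacaulayModule_of_semilinear [IsNoetherianRing R] [Module.Finite R M]
    (hM : _root_.LocCoh.IsCohenMacaulayModule R M) : _root_.LocCoh.IsCohenMacaulayModule S N := by
  obtain ⟨h1, h2, -⟩ := depth_supportDim_eq σ Φ h
  unfold _root_.LocCoh.IsCohenMacaulayModule at hM ⊢
  rw [h1, h2, hM]

end Groth.Agent.DualLib.ChartStalk
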