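import Groth.Agent.DualLib.FlatBase
import Groth.Agent.DualLib.Trunc
import Mathlib.RingTheory.Localization.BaseChange

/-! Localization of derived objects and of `Hom` out of objects with finite cohomology. -/

set_option autoImplicit false
set_option backward.isDefEq.respectTransparency false
set_option backward.defeqAttrib.useBackward true
set_option linter.style.haveILetI false

universe u

open CategoryTheory CategoryTheory.Limits CategoryTheory.Pretriangulated DerivedCategory
open scoped TensorProduct

attribute [local instance] HasDerivedCategory.standard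

namespace Groth.Agent.DualLib

variable {A : Type u} [CommRing A] (S : Submonoid A)

/-- A linear map with `S`-torsion kernel and cokernel. -/
def TorsIso {M N : Type*} [AddCommGroup M] [Module A M] [AddCommGroup N] [Module A N] (f : M →ₗ[A] N) : Prop :=
  (∀ m, f m = 0 → ∃ s ∈ S, s • m = 0) ∧ ∀ y, ∃ s ∈ S, ∃ m, f m = s • y

variable {B : Type u} [CommRing B] [Algebra A B] [IsLocalization S B]

/-- Composition with isomorphisms preserves `TorsIso`. -/
lemma TorsIso.comp_iso {M N P Q : ModuleCat.{u} A} {f : N ⟶ P} (h : TorsIso S f.hom) (g : M ⟶ N) [IsIso g]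
    (k : P ⟶ Q) [IsIso k] : TorsIso S (g ≫ f ≫ k).hom := by
  let eg := (asIso g).toLinearEquiv
  let ek := (asIso k).toLinearEquiv
  refine ⟨fun m hm => ?_, fun y => ?_⟩
  · obtain ⟨s, hs, h0⟩ := h.1 (eg m) (ek.injective (hm.trans (map_zero _).symm))
    exact ⟨s, hs, eg.injective (by rw [map_smul, h0, map_zero])⟩
  · obtain ⟨y, rfl⟩ := ek.surjective y
    obtain ⟨s, hs, n, hn⟩ := h.2 y
    obtain ⟨m, rfl⟩ := eg.surjective n
    exact ⟨s, hs, m, (congrArg ek hn).trans (map_smul ek _ _)⟩

/-- `M → B ⊗ M`. -/
lemma torsIso_unit (M : ModuleCat.{u} A) :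
    TorsIso S ((ModuleCat.extendRestrictScalarsAdj.{u, u, u} (algebraMap A B)).unit.app M).hom := by
  have key : ∀ (φ : A →+* B) (i' : Algebra A B), φ.toAlgebra = i' →
      (letI := i'; TorsIso S (TensorProduct.mk A B M 1)) →
        TorsIso S ((ModuleCat.extendRestrictScalarsAdj.{u, u, u} φ).unit.app M).hom := by
    rintro φ _ rfl h
    exact h
  refine key _ inferInstance (Algebra.algebra_ext _ _ fun _ => rfl) ?_
  haveI : IsLocalizedModule S (TensorProduct.mk A B M 1) :=
    (isLocalizedModule_iff_isBaseChange S B _).2 (TensorProduct.isBaseChange A M B)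
  refine ⟨fun m hm => ?_, fun y => ?_⟩
  · obtain ⟨c, hc⟩ := (IsLocalizedModule.eq_zero_iff S (TensorProduct.mk A B M 1)).1 hm
    exact ⟨c, c.2, hc⟩
  · obtain ⟨⟨m, c⟩, hc⟩ := IsLocalizedModule.surj S (TensorProduct.mk A B M 1) y
    exact ⟨c, c.2, m, hc.symm⟩

variable [PreservesFiniteLimits (ModuleCat.extendScalars.{u, u, u} (algebraMap A B))]
  [PreservesFiniteColimits (ModuleCat.extendScalars.{u, u, u} (algebraMap A B))]

/-- The unit of localization is a localization on cohomology. -/
theorem torsIso_homology_unit (X : Dual.D A) (i : ℤ) :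
    TorsIso S ((homologyFunctor (ModuleCat.{u} A) i).map ((adjD (algebraMap A B)).unit.app X)).hom := by
  let φ := algebraMap A B
  suffices hQ : ∀ K : DRing.Cx A,
      TorsIso S ((homologyFunctor (ModuleCat.{u} A) i).map ((adjD φ).unit.app (Q.obj K))).hom by
    let e := Q.objObjPreimageIso X
    have h1 : (adjD φ).unit.app X = e.inv ≫ (adjD φ).unit.app _ ≫ (DRing.restrictD φ).map ((extD φ).map e.hom) := by
      rw [Iso.eq_inv_comp]
      exact (adjD φ).unit.naturality e.hom
    rw [h1, Functor.map_comp, Functor.map_comp]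
    exact (hQ _).comp_iso S _ _
  intro K
  let η := (adjCx (ComplexShape.up ℤ) (ModuleCat.extendRestrictScalarsAdj.{u, u, u} φ)).unit.app K
  suffices hη : TorsIso S (HomologicalComplex.homologyMap η i).hom by
    rw [adjD_unit_app, Functor.map_comp]
    have h2 : (homologyFunctor (ModuleCat.{u} A) i).map (Q.map η) =
        (homologyFunctorFactors (ModuleCat.{u} A) i).hom.app K ≫ HomologicalComplex.homologyMap η i ≫
          (homologyFunctorFactors (ModuleCat.{u} A) i).inv.app _ := by
      erw [← (homologyFunctorFactors (ModuleCat.{u} A) i).hom.naturality_assoc η]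
      simp
    rw [h2, Category.assoc, Category.assoc]
    exact hη.comp_iso S _ _
  let τ : 𝟭 (ModuleCat.{u} A) ⟶ ModuleCat.extendScalars.{u, u, u} φ ⋙ ModuleCat.restrictScalars.{u} φ :=
    (ModuleCat.extendRestrictScalarsAdj.{u, u, u} φ).unit
  have h3 : HomologicalComplex.homologyMap η i = ShortComplex.homologyMap ((K.sc i).mapNatTrans τ) := rfl
  rw [h3, ShortComplex.homologyMap_mapNatTrans]
  exact (torsIso_unit S _).comp_iso S _ _

omit [PreservesFiniteLimits (ModuleCat.extendScalars.{u, u, u} (algebraMap A B))]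
  [PreservesFiniteColimits (ModuleCat.extendScalars.{u, u, u} (algebraMap A B))] in
/-- Multiplication by `s ∈ S` on a restricted object is invertible. -/
lemma isIso_smul_restrict (Y : Dual.D B) (s : S) :
    IsIso ((s : A) • 𝟙 ((DRing.restrictD (algebraMap A B)).obj Y)) := by
  rw [← CategoryTheory.Functor.map_id, ← restrictD_map_smul]
  haveI : IsIso (algebraMap A B (s : A) • 𝟙 Y) := by
    obtain ⟨v, hv⟩ := IsLocalization.map_units B s
    refine ⟨(↑v⁻¹ : B) • 𝟙 Y, ?_, ?_⟩ <;>
      simp [← hv, Linear.smul_comp, Linear.comp_smul, smul_smul]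
  infer_instance

omit [CommRing B] [Algebra A B] [IsLocalization S B]
  [PreservesFiniteLimits (ModuleCat.extendScalars.{u, u, u} (algebraMap A B))]
  [PreservesFiniteColimits (ModuleCat.extendScalars.{u, u, u} (algebraMap A B))] in
/-- `S`-torsion cohomology gives `S`-torsion homomorphisms from finite modules. -/
theorem torsion_E [IsNoetherianRing A] (C : Dual.D A) (a : ℤ) [C.IsGE a]
    (hC : ∀ (i : ℤ) (z : Dual.HD A C i), ∃ s ∈ S, s • z = 0) :
    ∀ (M : Type u) [AddCommGroup M] [Module A M] [Module.Finite A M] (i : ℤ) (φ : E C M i), ∃ s ∈ S, s • φ = 0 := by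
  suffices H : ∀ (n : ℕ) (i : ℤ), i < a + n → ∀ (M : Type u) [AddCommGroup M] [Module A M] [Module.Finite A M],
      ∀ φ : E C M i, ∃ s ∈ S, s • φ = 0 by
    intro M _ _ _ i φ
    exact H ((i - a).toNat + 1) i (by omega) M φ
  have hvan : ∀ i : ℤ, i < a → ∀ (M : Type u) [AddCommGroup M] [Module A M], Subsingleton (E C M i) := by
    intro i hi M _ _
    haveI : (C⟦i⟧).IsGE (a - i) := (ts A).isGE_shift C a i (a - i) (by omega)
    exact subsingleton_of_forall_eq 0 fun φ => (ts A).zero φ 0 (a - i) (by omega)
  intro n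
  induction n with
  | zero =>
    intro i hi M _ _ _ φ
    haveI := hvan i (by simpa using hi) M
    exact ⟨1, S.one_mem, Subsingleton.elim _ _⟩
  | succ n ih =>
    intro i hi M _ _ _ φ
    have hpi : ∀ (k : ℕ) (ψ : E C (Fin k → A) i), ∃ s ∈ S, s • ψ = 0 := by
      intro k
      induction k with
      | zero =>
        intro ψ
        haveI := subsingleton_of_subsingleton C (M := Fin 0 → A) i
        exact ⟨1, S.one_mem, Subsingleton.elim _ _⟩
      | succ k ihk =>
        intro ψ
        let f : A →ₗ[A] (Fin (k + 1) → A) := LinearMap.single A (fun _ => A) 0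
        let g : (Fin (k + 1) → A) →ₗ[A] (Fin k → A) := LinearMap.funLeft A A Fin.succ
        have hex : Function.Exact f g := by
          intro v
          constructor
          · intro hv
            refine ⟨v 0, funext fun j => ?_⟩
            refine Fin.cases ?_ (fun j => ?_) j
            · simp [f]
            · have := congrFun hv j
              simp [g, LinearMap.funLeft_apply] at this
              simp [f, this]
          · rintro ⟨b, rfl⟩
            funext j
            simp [f, g, LinearMap.funLeft_apply]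
        obtain ⟨s, hs, h1⟩ := hC i (eSelf C i (emap C f i ψ))
        have h2 : emap C f i (s • ψ) = 0 := (eSelf C i).injective (by rw [map_smul, map_smul, h1, map_zero])
        obtain ⟨χ, hχ⟩ := (exact_emap (W := C) (Pi.single_injective (M := fun _ => A) 0)
          (LinearMap.funLeft_surjective_of_injective A A _ (Fin.succ_injective k)) hex i _).1 h2
        obtain ⟨t, ht, h3⟩ := ihk χ
        exact ⟨t * s, S.mul_mem ht hs, by rw [mul_smul, ← hχ, ← map_smul, h3, map_zero]⟩
    obtain ⟨k, g, hg⟩ := Module.Finite.exists_fin' A M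
    haveI : Module.Finite A (LinearMap.ker g) := Module.Finite.of_fg (IsNoetherian.noetherian _)
    obtain ⟨s, hs, h1⟩ := hpi k (emap C g i φ)
    obtain ⟨d, -, hd⟩ := exists_delta (W := C) (Submodule.injective_subtype (LinearMap.ker g)) hg
      (LinearMap.exact_subtype_ker_map g) (i - 1) i (by omega)
    obtain ⟨χ, hχ⟩ := (hd (s • φ)).1 (by rw [map_smul, h1])
    obtain ⟨t, ht, h3⟩ := ih (i - 1) (by push_cast at hi; omega) (LinearMap.ker g) χ
    exact ⟨t * s, S.mul_mem ht hs, by rw [mul_smul, ← hχ, ← map_smul, h3, map_zero]⟩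

omit [CommRing B] [Algebra A B] [IsLocalization S B]
  [PreservesFiniteLimits (ModuleCat.extendScalars.{u, u, u} (algebraMap A B))]
  [PreservesFiniteColimits (ModuleCat.extendScalars.{u, u, u} (algebraMap A B))] in
/-- The same out of a bounded object with finite cohomology. -/
theorem torsion_hom [IsNoetherianRing A] (C : Dual.D A) (a : ℤ) [C.IsGE a]
    (hC : ∀ (i : ℤ) (z : Dual.HD A C i), ∃ s ∈ S, s • z = 0) :
    ∀ (n : ℕ) (c : ℤ) (X : Dual.D A), X.IsGE c → X.IsLE (c + n - 1) → (∀ q, Module.Finite A (Dual.HD A X q)) →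
      ∀ (i : ℤ) (φ : X ⟶ C⟦i⟧), ∃ s ∈ S, s • φ = 0 := by
  intro n
  induction n with
  | zero =>
    intro c X hge hle _ i φ
    exact ⟨1, S.one_mem, ((ts A).isZero X (c + (0 : ℕ) - 1) c (by omega)).eq_of_src _ _⟩
  | succ n ih =>
    intro c X hge hle hX i φ
    haveI h₁ : (((ts A).truncLT (c + n)).obj X).IsLE (c + n - 1) := (ts A).isLE_truncLT_obj _ _ _ (by omega)
    haveI : (((ts A).truncLT (c + n)).obj X).IsGE c := inferInstance
    obtain ⟨s, hs, h1⟩ := ih c _ inferInstance h₁ (fun q => by
      rcases lt_or_ge q (c + n) with hq | hq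
      · haveI := hX q
        exact Module.Finite.equiv (hTruncLT X (c + n) q hq).symm
      · haveI := ModuleCat.subsingleton_of_isZero
          (isZero_of_isLE (((ts A).truncLT (c + n)).obj X) (c + n - 1) q (by omega))
        infer_instance) i (pre C (((ts A).truncLTι (c + n)).app X) i φ)
    haveI : X.IsLE (c + n) := by
      have : c + ((n + 1 : ℕ) : ℤ) - 1 = c + n := by push_cast; omega
      exact this ▸ hle
    haveI : (((ts A).truncGE (c + n)).obj X).IsGE (c + n) := inferInstance
    haveI : (((ts A).truncGE (c + n)).obj X).IsLE (c + n) := inferInstance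
    obtain ⟨χ, hχ⟩ := (exact_trunc (W := C) X (c + n) i (s • φ)).1 (by rw [map_smul, h1])
    obtain ⟨e⟩ := exists_single_iso (((ts A).truncGE (c + n)).obj X) (c + n)
    haveI : Module.Finite A (Dual.HD A (((ts A).truncGE (c + n)).obj X) (c + n)) :=
      haveI := hX (c + n)
      Module.Finite.equiv (hTruncGE X (c + n) (c + n) le_rfl)
    let T := (homCongr C e i).trans (singleHom C
      (ModuleCat.of A (Dual.HD A (((ts A).truncGE (c + n)).obj X) (c + n))) (c + n) i (i + (c + n)) rfl)
    obtain ⟨t, ht, h3⟩ := torsion_E S C a hC _ _ (T χ)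
    rw [← map_smul] at h3
    have h4 : t • χ = 0 := T.injective (h3.trans (map_zero _).symm)
    exact ⟨t * s, S.mul_mem ht hs, by
      rw [mul_smul, ← hχ]
      exact (map_smul _ _ _).symm.trans ((congrArg _ h4).trans (map_zero _))⟩

end Groth.Agent.DualLib
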