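import Groth.Agent.DualLib.Biduality
import Groth.Agent.DualLib.LocBase
import Groth.Agent.DualLib.FlatDualizing
import Groth.Agent.DualLib.Trunc
import Groth.Agent.CAlgH3.RGam.CechModel
import Groth.Agent.CAlgH3.RGam.Coreflect
import Groth.Agent.CAlgH3.RGam.BaseChange

/-! `RHom` out of torsion objects and derived completion. -/

set_option autoImplicit false
set_option backward.isDefEq.respectTransparency false
set_option backward.defeqAttrib.useBackward true
set_option linter.style.haveILetI false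

universe u

open CategoryTheory CategoryTheory.Limits CategoryTheory.Pretriangulated DerivedCategory Opposite

attribute [local instance] HasDerivedCategory.standard

namespace Groth.Agent.DualLib.TC

open Groth.Agent Groth.Agent.DualLib Groth.Agent.DCat Groth.Agent.DCat.DC Groth.Agent.CAlgH3.RGam

variable {A : Type u} [CommRing A]

lemma smul_comp_id (f : A) {X Y : Dual.D A} (φ : X ⟶ Y) : φ ≫ (f • 𝟙 Y) = f • φ := by
  rw [Linear.comp_smul, Category.comp_id]

lemma finv_of_iso {f : A} {X Y : Dual.D A} (e : X ≅ Y) (h : FInv f X) : FInv f Y := by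
  haveI : IsIso (f • 𝟙 X) := h
  have : f • 𝟙 Y = e.inv ≫ (f • 𝟙 X) ≫ e.hom := by
    rw [Linear.smul_comp, Linear.comp_smul, Category.id_comp, e.inv_hom_id]
  show IsIso (f • 𝟙 Y)
  rw [this]
  infer_instance

lemma bijective_HD_of_finv {f : A} {X : Dual.D A} (h : FInv f X) (i : ℤ) :
    Function.Bijective (fun x : Dual.HD A X i => f • x) := by
  haveI : IsIso (f • 𝟙 X) := h
  have e : (homologyFunctor (ModuleCat.{u} A) i).map (f • 𝟙 X) = f • 𝟙 _ := by
    exact homologyFunctor_map_smul_id f X i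
  have hb := (ConcreteCategory.isIso_iff_bijective ((homologyFunctor (ModuleCat.{u} A) i).map (f • 𝟙 X))).1 inferInstance
  rw [e] at hb
  exact hb

lemma bijective_smul_hom {f : A} {Y : Dual.D A} (h : FInv f Y) (W : Dual.D A) :
    Function.Bijective (fun ψ : W ⟶ Y => f • ψ) := by
  haveI : IsIso (f • 𝟙 Y) := h
  rw [show (fun ψ : W ⟶ Y => f • ψ) = fun ψ => ψ ≫ (f • 𝟙 Y) from funext fun ψ => (smul_comp_id f ψ).symm]
  exact ⟨fun a b hab => (cancel_mono (f • 𝟙 Y)).1 hab, fun b => ⟨b ≫ inv (f • 𝟙 Y), by simp only [Category.assoc, IsIso.inv_hom_id, Category.comp_id]⟩⟩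

/-- The localization of an object at one element. -/
theorem exists_loc (f : A) (X : Dual.D A) : ∃ (Y : Dual.D A) (η : X ⟶ Y), FInv f Y ∧
    ∀ i, TorsIso (Submonoid.powers f) ((homologyFunctor (ModuleCat.{u} A) i).map η).hom := by
  haveI : Module.Flat A (Localization.Away f) := IsLocalization.flat (Localization.Away f) (Submonoid.powers f)
  haveI := preservesFiniteLimits_flat (A := A) (B := Localization.Away f)
  haveI := preservesFiniteColimits_ext (A := A) (B := Localization.Away f)
  exact ⟨_, (adjD (algebraMap A (Localization.Away f))).unit.app X,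
    isIso_smul_restrict (Submonoid.powers f) _ ⟨f, Submonoid.mem_powers f⟩,
    fun i => torsIso_homology_unit (Submonoid.powers f) X i⟩

/-- Torsion from orthogonality to the objects where an element acts invertibly. -/
theorem tors_of_orth (s : List A) (X : Dual.D A) (h : ∀ f ∈ s, ∀ Y : Dual.D A, FInv f Y → ∀ φ : X ⟶ Y, φ = 0) :
    Tors (Ideal.ofList s) X := fun i y => mem_tor_of_forall y s fun f hf => by
  obtain ⟨Y, η, hY, hη⟩ := exists_loc f X
  obtain ⟨c, ⟨a, rfl⟩, hc⟩ := (hη i).1 y (by rw [h f hf Y hY η, Functor.map_zero]; rfl)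
  exact ⟨a, hc⟩

section Tensor

variable [DTen.HasLTen A] [DTen.HasRHom A]

lemma finv_RHomR {f : A} (L : Dual.D A) {Y : Dual.D A} (h : FInv f Y) : FInv f ((DTen.RHomR A L).obj Y) := by
  show IsIso (f • 𝟙 ((DTen.RHomR A L).obj Y))
  rw [isIso_iff_yoneda_map_bijective]
  intro Z
  have e : (fun φ : Z ⟶ (DTen.RHomR A L).obj Y => φ ≫ (f • 𝟙 _)) =
      (adjLin Z L Y).symm ∘ (fun ψ : _ ⟶ Y => f • ψ) ∘ (adjLin Z L Y) := funext fun φ => by
    simp [smul_comp_id]
  rw [e]
  exact (adjLin Z L Y).symm.bijective.comp ((bijective_smul_hom h _).comp (adjLin Z L Y).bijective)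

lemma finv_LTen {f : A} (L : Dual.D A) {X : Dual.D A} (h : FInv f X) : FInv f ((DTen.tensorRightD A L).obj X) := by
  haveI : IsIso (f • 𝟙 X) := h
  show IsIso (f • 𝟙 ((DTen.tensorRightD A L).obj X))
  rw [← CategoryTheory.Functor.map_id, ← Functor.map_smul]
  infer_instance

lemma finv_LTen' {f : A} (L : Dual.D A) {X : Dual.D A} (h : FInv f X) : FInv f ((DTen.tensorRightD A X).obj L) :=
  haveI := isIso_symm_app' (A := A) L X
  haveI := isIso_symm_app' (A := A) X L
  finv_of_iso (asIso ((DTen.symm A).app (L, X))) (finv_LTen L h)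

lemma finv_RHomR_left {f : A} {L : Dual.D A} (h : FInv f L) (Y : Dual.D A) : FInv f ((DTen.RHomR A L).obj Y) := by
  show IsIso (f • 𝟙 ((DTen.RHomR A L).obj Y))
  rw [isIso_iff_yoneda_map_bijective]
  intro Z
  have e : (fun φ : Z ⟶ (DTen.RHomR A L).obj Y => φ ≫ (f • 𝟙 _)) =
      (adjLin Z L Y).symm ∘ (fun ψ : _ ⟶ Y => f • ψ) ∘ (adjLin Z L Y) := funext fun φ => by
    simp [smul_comp_id]
  rw [e]
  exact (adjLin Z L Y).symm.bijective.comp (((finv_LTen' Z h).bijective Y).comp (adjLin Z L Y).bijective)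

variable [IsNoetherianRing A] {I : Ideal A} [DRing.HasRgammaI I]

theorem tors_LTen {T : Dual.D A} (hT : Tors I T) (Z : Dual.D A) : Tors I ((DTen.tensorRightD A Z).obj T) := by
  obtain ⟨s, rfl⟩ := exists_list I
  refine tors_of_orth s _ fun f hf Y hY φ => ?_
  obtain ⟨ψ, rfl⟩ := (adjLin T Z Y).surjective φ
  rw [eq_zero_of_tors_finv (Ideal.ofList s) (Ideal.subset_span hf) (finv_RHomR Z hY) hT ψ, map_zero]

theorem tors_LTen' {T : Dual.D A} (hT : Tors I T) (Z : Dual.D A) : Tors I ((DTen.tensorRightD A T).obj Z) :=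
  haveI := isIso_symm_app' (A := A) Z T
  haveI := isIso_symm_app' (A := A) T Z
  Tors.of_iso (asIso ((DTen.symm A).app (Z, T))) (tors_LTen hT Z)

/-- `RHom` out of a torsion object is complete. -/
theorem isDerivedComplete_RHomR {T : Dual.D A} (hT : Tors I T) (Y : Dual.D A) :
    DRing.IsDerivedComplete I ((DTen.RHomR A T).obj Y) := by
  obtain ⟨s, rfl⟩ := exists_list I
  refine isDerivedComplete_of_generators {g | g ∈ s} rfl _ fun g hg n φ => ?_
  apply (adjLin _ T Y).injective
  rw [map_zero]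
  have h0 := eq_zero_of_tors_finv (Ideal.ofList s) (Ideal.subset_span hg) (finv_LTen T (finv_away.shift n))
    (tors_LTen' hT ((Dual.inD A (Localization.Away g))⟦n⟧)) (𝟙 _)
  rw [← Category.id_comp (adjLin _ T Y φ), h0, zero_comp]

/-- `RHom` out of a torsion object only sees `RΓ_I`. -/
theorem isIso_RHomR_map_ε {T : Dual.D A} (hT : Tors I T) (Y : Dual.D A) :
    IsIso ((DTen.RHomR A T).map ((DRing.RgammaIε I).app Y)) := by
  rw [isIso_iff_yoneda_map_bijective]
  intro Z
  let a := (DTen.rhomAdj A T).homEquiv Z ((DRing.RgammaI I).obj Y)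
  let b := (DTen.rhomAdj A T).homEquiv Z Y
  have e : (fun φ : Z ⟶ (DTen.RHomR A T).obj ((DRing.RgammaI I).obj Y) => φ ≫ (DTen.RHomR A T).map ((DRing.RgammaIε I).app Y)) =
      b ∘ (fun ψ => ψ ≫ (DRing.RgammaIε I).app Y) ∘ a.symm := funext fun φ => by
    show _ = b (a.symm φ ≫ _)
    rw [Adjunction.homEquiv_naturality_right]
    exact congrArg (· ≫ _) (a.apply_symm_apply φ).symm
  rw [e]
  exact (b.bijective.comp (bijective_comp_ε I (tors_LTen' hT Z) Y)).comp a.symm.bijective

/-- Torsion approximations, with their effect on `RHom(-, W)`. -/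
theorem exists_approx (W : Dual.D A) : ∀ (t : List A), (∀ g ∈ t, g ∈ I) → ∀ K : Dual.D A, ∃ (T : Dual.D A) (g : T ⟶ K),
    Tors (Ideal.ofList t) T ∧ (∀ L : Dual.D A, Tors I L → Function.Bijective (fun φ : L ⟶ T => φ ≫ g)) ∧
      CIso I (((DTen.RHom A).flip.obj W).map g.op) := by
  intro t
  induction t with
  | nil =>
    intro _ K
    refine ⟨K, 𝟙 K, fun i y => mem_tor_nil y, fun L _ => ?_, fun L _ => ?_⟩
    · simp only [Category.comp_id]; exact Function.bijective_id
    · simp only [op_id, CategoryTheory.Functor.map_id, Category.id_comp]; exact Function.bijective_id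
  | cons f t ih =>
    intro hft K
    have hf : f ∈ I := hft f List.mem_cons_self
    obtain ⟨X, g, hX, hgb, hgc⟩ := ih (fun x hx => hft x (List.mem_cons_of_mem _ hx)) K
    obtain ⟨Y, η, hY, hη⟩ := exists_loc f X
    obtain ⟨C, v, w, hC⟩ := distinguished_cocone_triangle η
    let T' := (Triangle.mk η v w).invRotate
    have hT' : T' ∈ distTriang _ := inv_rot_of_distTriang _ hC
    refine ⟨T'.obj₁, T'.mor₁ ≫ g, ?_, fun L hL => ?_, ?_⟩
    · intro i y
      let H := fun j => homologyFunctor (ModuleCat.{u} A) j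
      have e1 := (ShortComplex.moduleCat_exact_iff _).1 (HomologySequence.exact₁ T' hT' (i - 1) i (by omega))
      have hη' : ∀ j, TorsIso (Submonoid.powers f) ((H j).map T'.mor₂).hom := hη
      have hX' : ∀ j (x : Dual.HD A T'.obj₂ j), ∃ n : ℕ, ∀ r ∈ (Ideal.ofList t) ^ n, r • x = 0 := hX
      have hY' : FInv f T'.obj₃ := hY
      obtain ⟨a', ⟨a, rfl⟩, hx⟩ := (hη' i).1 ((H i).map T'.mor₁ y) (by
        show ((H i).map T'.mor₂) ((H i).map T'.mor₁ y) = 0
        rw [← ConcreteCategory.comp_apply, ← Functor.map_comp]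
        show ((H i).map (T'.mor₁ ≫ T'.mor₂)) y = 0
        rw [comp_distTriang_mor_zero₁₂ _ hT', Functor.map_zero]; rfl)
      obtain ⟨z, hz⟩ := e1 (f ^ a • y) (by
        show (H i).map T'.mor₁ (f ^ a • y) = 0
        rw [map_smul]; exact hx)
      obtain ⟨b', ⟨b, rfl⟩, w', hw⟩ := (hη' (i - 1)).2 z
      refine mem_tor_of_forall y (f :: t) fun x hx' => ?_
      rcases List.mem_cons.1 hx' with rfl | hxt
      · refine ⟨b + a, ?_⟩
        rw [pow_add, mul_smul, ← hz]
        refine ((map_smul (HomologySequence.δ T' (i - 1) i (by omega)).hom (x ^ b) z).symm.trans (congrArg _ hw.symm)).trans ?_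
        show (HomologySequence.δ T' (i - 1) i (by omega)) ((H (i - 1)).map T'.mor₂ w') = 0
        rw [← ConcreteCategory.comp_apply]
        show ((H (i - 1)).map T'.mor₂ ≫ HomologySequence.δ T' (i - 1) i (by omega)) w' = 0
        rw [HomologySequence.comp_δ _ hT' (i - 1) i (by omega)]
        rfl
      · obtain ⟨c, hc⟩ := hX' (i - 1) w'
        obtain ⟨d, hd⟩ := hX' i ((H i).map T'.mor₁ y)
        obtain ⟨z', hz'⟩ := e1 (x ^ d • y) (by
          show (H i).map T'.mor₁ (x ^ d • y) = 0
          rw [map_smul]; exact hd _ (Ideal.pow_mem_pow (Ideal.subset_span (show x ∈ {r | r ∈ t} from hxt)) d))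
        obtain ⟨b₁, ⟨b₁', rfl⟩, w₁, hw₁⟩ := (hη' (i - 1)).2 z'
        obtain ⟨c₁, hc₁⟩ := hX' (i - 1) w₁
        refine ⟨c₁ + d, ?_⟩
        have hzero : x ^ c₁ • z' = 0 := by
          have hinj : Function.Injective fun m : Dual.HD A T'.obj₃ (i - 1) => f ^ b₁' • m := by
            clear hw₁
            induction b₁' with
            | zero =>
              intro u v huv
              have huv' : f ^ 0 • u = f ^ 0 • v := huv
              rw [pow_zero, one_smul, one_smul] at huv'
              exact huv'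
            | succ k ihk =>
              intro u v huv
              refine ihk ((bijective_HD_of_finv hY' (i - 1)).1 ?_)
              show f • f ^ k • u = f • f ^ k • v
              rw [← mul_smul, ← mul_smul, ← pow_succ']
              exact huv
          refine hinj ?_
          show f ^ b₁' • x ^ c₁ • z' = f ^ b₁' • (0 : Dual.HD A T'.obj₃ (i - 1))
          rw [smul_zero, smul_comm, ← hw₁, ← map_smul, hc₁ _ (Ideal.pow_mem_pow (Ideal.subset_span (show x ∈ {r | r ∈ t} from hxt)) c₁), map_zero]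
        rw [pow_add, mul_smul, ← hz', ← map_smul]
        exact (congrArg _ hzero).trans (map_zero _)
    · have hb : Function.Bijective (fun φ : L ⟶ T'.obj₁ => φ ≫ T'.mor₁) := by
        refine ⟨(injective_iff_map_eq_zero (Preadditive.rightComp L T'.mor₁)).2 fun φ hφ => ?_, fun φ => ?_⟩
        · obtain ⟨θ, rfl⟩ := Triangle.coyoneda_exact₂ _ (inv_rot_of_distTriang _ hT') φ hφ
          rw [eq_zero_of_tors_finv I hf (hY.shift (-1)) hL θ, zero_comp]
        · obtain ⟨θ, hθ⟩ := Triangle.coyoneda_exact₂ _ hT' φ (eq_zero_of_tors_finv I hf hY hL _)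
          exact ⟨θ, hθ.symm⟩
      have e : (fun φ : L ⟶ T'.obj₁ => φ ≫ T'.mor₁ ≫ g) = (fun φ => φ ≫ g) ∘ (fun φ => φ ≫ T'.mor₁) :=
        funext fun φ => (Category.assoc _ _ _).symm
      rw [e]
      exact (hgb L hL).comp hb
    · rw [op_comp, Functor.map_comp]
      obtain ⟨δ, hδ⟩ := mapsTriOp_RHom W T' hT'
      exact hgc.comp (cIso_of_finv hf (rot_of_distTriang _ hδ) ((finv_RHomR_left hY W).shift 1))

/-- `RHom(RΓ_I K, W)` completes `RHom(K, W)`. -/
theorem isCompl_RHom (W K : Dual.D A) :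
    IsCompl I (((DTen.RHom A).flip.obj W).map ((DRing.RgammaIε I).app K).op) := by
  obtain ⟨s, rfl⟩ := exists_list I
  let G := (DRing.RgammaI (Ideal.ofList s)).obj K
  let ε := (DRing.RgammaIε (Ideal.ofList s)).app K
  have hG : Tors (Ideal.ofList s) G := tors_RgammaI _ K
  obtain ⟨T, g, hT, hgb, hgc⟩ := exists_approx (I := Ideal.ofList s) W s
    (fun x hx => Ideal.subset_span (show x ∈ {r | r ∈ s} from hx)) K
  obtain ⟨a, ha⟩ := (hgb G hG).2 ε
  obtain ⟨b, hb⟩ := (bijective_comp_ε (Ideal.ofList s) hT K).2 g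
  dsimp only at ha hb
  have hba : b ≫ a = 𝟙 T := (hgb T hT).1 (by
    show (b ≫ a) ≫ g = 𝟙 T ≫ g
    rw [Category.assoc, ha, Category.id_comp]; exact hb)
  have hab : a ≫ b = 𝟙 G := (bijective_comp_ε (Ideal.ofList s) hG K).1 (by
    show (a ≫ b) ≫ ε = 𝟙 G ≫ ε
    rw [Category.assoc, Category.id_comp]; exact (congrArg (a ≫ ·) hb).trans ha)
  haveI : IsIso (((DTen.RHom A).flip.obj W).map a.op) := by
    haveI : IsIso a := ⟨b, hab, hba⟩
    infer_instance
  refine ⟨isDerivedComplete_RHomR hG W, fun L hL => ?_⟩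
  rw [show (DRing.RgammaIε (Ideal.ofList s)).app K = a ≫ g from ha.symm, op_comp, Functor.map_comp]
  exact (hgc.comp (cIso_of_isIso _)) L hL

end Tensor

end Groth.Agent.DualLib.TC
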