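import Groth.Agent.DualLib.GammaHDI
import Groth.Agent.DualLib.CxDualityHDI
import Groth.Agent.DualLib.TorsComplete
import Groth.Agent.DualLib.Trunc
import Groth.Agent.Matlis6.HullExistence
import Groth.Agent.Matlis6.Local
import Groth.Agent.CAlgH3.RGam.Completion
import Groth.Agent.S7060

/-!
# Finite and cofinite complexes over a complete local ring
-/

set_option autoImplicit false
set_option backward.isDefEq.respectTransparency false
set_option backward.defeqAttrib.useBackward true
set_option linter.style.haveILetI false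

universe u

open CategoryTheory CategoryTheory.Limits CategoryTheory.Pretriangulated DerivedCategory
open Groth.Agent Groth.Agent.DualLib Groth.Agent.DCat.DC Groth.Agent.CAlgH3.RGam

attribute [local instance] HasDerivedCategory.standard
attribute [-instance] Int.instConditionallyCompleteLinearOrder

namespace Groth.Agent.DLTr

section General

variable {A : Type u} [CommRing A]

theorem isIso_completion_of_cIso (I : Ideal A) [DRing.HasDerivedCompletion I] {X Y : Dual.D A} {φ : X ⟶ Y}
    (h : CIso I φ) : IsIso ((DRing.derivedCompletion I).map φ) := by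
  obtain ⟨e, he⟩ := (isCompl_toDerivedCompletion I X).exists_iso
    (show IsCompl I (φ ≫ DRing.toDerivedCompletion I Y) from
      ⟨((DRing.derivedCompletion I).obj Y).property, fun L hL => by
        have e : (fun ψ : ((DRing.derivedCompletion I).obj Y).obj ⟶ L => (φ ≫ DRing.toDerivedCompletion I Y) ≫ ψ) =
            (fun χ : Y ⟶ L => φ ≫ χ) ∘ fun ψ => DRing.toDerivedCompletion I Y ≫ ψ :=
          funext fun ψ => Category.assoc _ _ _
        rw [e]
        exact (h L hL).comp ((isCompl_toDerivedCompletion I Y).2 L hL)⟩)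
  have hn : DRing.toDerivedCompletion I X ≫ ((DRing.derivedCompletion I).map φ).hom =
      φ ≫ DRing.toDerivedCompletion I Y := ((DRing.derivedCompletionAdj I).unit.naturality φ).symm
  have h1 : ((DRing.derivedCompletion I).map φ).hom = e.hom :=
    ((isCompl_toDerivedCompletion I X).2 _ ((DRing.derivedCompletion I).obj Y).property).1 (hn.trans he.symm)
  haveI : IsIso ((ObjectProperty.ι (DRing.IsDerivedComplete I)).map ((DRing.derivedCompletion I).map φ)) := by
    show IsIso ((DRing.derivedCompletion I).map φ).hom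
    rw [h1]
    infer_instance
  exact isIso_of_fully_faithful (ObjectProperty.ι (DRing.IsDerivedComplete I)) _

theorem bounded_completion [IsNoetherianRing A] (I : Ideal A) [DRing.HasDerivedCompletion I] (K : Dual.D A)
    (hbd : ∃ a b : ℤ, ∀ i : ℤ, (i < a ∨ b < i) → Subsingleton (Dual.HD A K i)) :
    ∃ a b : ℤ, ∀ i : ℤ, (i < a ∨ b < i) →
      Subsingleton (Dual.HD A ((DRing.derivedCompletion I).obj K).obj i) := by
  obtain ⟨s, hs⟩ : I.FG := IsNoetherian.noetherian I
  obtain ⟨a, b, h⟩ := hbd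
  exact ⟨a - s.card, b, fun i hi => (isCompl_toDerivedCompletion I K).subsingleton_hd s hs i
    fun m h1 h2 => h m (by omega)⟩

/-- Finite, resp. cofinite, cohomology of all completions. -/
def FinCompl (I : Ideal A) (K : Dual.D A) (i : ℤ) : Prop :=
  ∀ (C : Dual.D A) (q : K ⟶ C), IsCompl I q → Module.Finite A (Dual.HD A C i)

theorem finite_of_exact [IsNoetherianRing A] (S : ShortComplex (ModuleCat.{u} A)) (hS : S.Exact)
    [Module.Finite A S.X₁] [Module.Finite A S.X₃] : Module.Finite A S.X₂ := by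
  have he := (ShortComplex.ShortExact.moduleCat_exact_iff_function_exact _).1 hS
  haveI : Module.Finite A (LinearMap.ker S.g.hom) := by
    rw [LinearMap.exact_iff.1 he]
    infer_instance
  haveI : Module.Finite A (LinearMap.range S.g.hom) := Module.Finite.of_fg (IsNoetherian.noetherian _)
  exact Module.Finite.of_exact (f := (LinearMap.ker S.g.hom).subtype) (g := S.g.hom.rangeRestrict)
    (fun y => ⟨fun h => ⟨⟨y, congrArg Subtype.val h⟩, rfl⟩, fun ⟨x, hx⟩ => Subtype.ext (hx ▸ x.2)⟩)
    S.g.hom.surjective_rangeRestrict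

variable [IsNoetherianRing A] {I : Ideal A} [DRing.HasDerivedCompletion I] {T : Triangle (Dual.D A)}

theorem finCompl_of_one {K C : Dual.D A} {q : K ⟶ C} (h : IsCompl I q) {i : ℤ}
    [Module.Finite A (Dual.HD A C i)] : FinCompl I K i := fun C' q' h' => by
  obtain ⟨e, -⟩ := h.exists_iso h'
  exact Module.Finite.equiv ((homologyFunctor (ModuleCat.{u} A) i).mapIso e).toLinearEquiv

theorem finCompl_of_iso {K K' : Dual.D A} (e : K ≅ K') {i : ℤ} (h : FinCompl I K i) : FinCompl I K' i :=
  fun C q hq => h C (e.hom ≫ q) ⟨hq.1, fun L hL => by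
    have e' : (fun ψ : C ⟶ L => (e.hom ≫ q) ≫ ψ) = (fun χ : K' ⟶ L => e.hom ≫ χ) ∘ fun ψ => q ≫ ψ :=
      funext fun ψ => Category.assoc _ _ _
    rw [e']
    exact (cIso_of_isIso e.hom L hL).comp (hq.2 L hL)⟩

/-- The completed triangle. -/
theorem exists_completed (hT : T ∈ distTriang _) : ∃ (T' : Triangle (Dual.D A)) (_ : T' ∈ distTriang _)
    (q₁ : T.obj₁ ⟶ T'.obj₁) (q₂ : T.obj₂ ⟶ T'.obj₂) (q₃ : T.obj₃ ⟶ T'.obj₃),
    IsCompl I q₁ ∧ IsCompl I q₂ ∧ IsCompl I q₃ := by
  have h1 := isCompl_toDerivedCompletion I T.obj₁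
  have h2 := isCompl_toDerivedCompletion I T.obj₂
  obtain ⟨f', hf'⟩ := (h1.2 _ h2.1).2 (T.mor₁ ≫ DRing.toDerivedCompletion I T.obj₂)
  obtain ⟨Z, g, d, hd⟩ := distinguished_cocone_triangle f'
  obtain ⟨m, hm⟩ := exists_compl_cone hT hd _ _ hf'.symm h1 h2
  exact ⟨_, hd, _, _, m, h1, h2, hm⟩

theorem finCompl_mid (hT : T ∈ distTriang _) {i : ℤ} (h1 : FinCompl I T.obj₁ i) (h3 : FinCompl I T.obj₃ i) :
    FinCompl I T.obj₂ i := by
  obtain ⟨T', hT', q₁, q₂, q₃, c1, c2, c3⟩ := exists_completed (I := I) hT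
  haveI : Module.Finite A (Dual.HD A T'.obj₂ i) :=
    haveI := h1 _ _ c1
    haveI := h3 _ _ c3
    finite_of_exact _ (HomologySequence.exact₂ T' hT' i)
  exact finCompl_of_one c2

theorem finCompl_left (hT : T ∈ distTriang _) {i j : ℤ} (hij : i + 1 = j) (h2 : FinCompl I T.obj₂ j)
    (h3 : FinCompl I T.obj₃ i) : FinCompl I T.obj₁ j := by
  obtain ⟨T', hT', q₁, q₂, q₃, c1, c2, c3⟩ := exists_completed (I := I) hT
  haveI : Module.Finite A (Dual.HD A T'.obj₁ j) :=
    haveI := h2 _ _ c2
    haveI := h3 _ _ c3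
    finite_of_exact _ (HomologySequence.exact₁ T' hT' i j hij)
  exact finCompl_of_one c1

theorem finCompl_shift {K : Dual.D A} (k : ℤ) {i : ℤ} (h : FinCompl I K (k + i)) : FinCompl I (K⟦k⟧) i := by
  have hc := isCompl_toDerivedCompletion I K
  haveI : Module.Finite A ↑(((homologyFunctor (ModuleCat.{u} A) 0).shift (k + i)).obj
      ((DRing.derivedCompletion I).obj K).obj) := h _ _ hc
  haveI : Module.Finite A (Dual.HD A (((DRing.derivedCompletion I).obj K).obj⟦k⟧) i) :=
    Module.Finite.equiv ((((homologyFunctor (ModuleCat.{u} A) 0).shiftIso k i (k + i) rfl).app _).symm.toLinearEquiv)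
  exact finCompl_of_one (q := (DRing.toDerivedCompletion I K)⟦k⟧')
    ⟨isDerivedComplete_shift hc.1 k, fun L hL => hc.bijective_shift k hL⟩

theorem finCompl_isZero {K : Dual.D A} (h : IsZero K) (i : ℤ) : FinCompl I K i := fun C q hq => by
  obtain ⟨s, hs⟩ : I.FG := IsNoetherian.noetherian I
  haveI := hq.subsingleton_hd s hs i fun m _ _ =>
    ModuleCat.subsingleton_of_isZero ((homologyFunctor (ModuleCat.{u} A) m).map_isZero h)
  infer_instance

end General

section Local

variable {A : Type u} [CommRing A] [IsLocalRing A] [IsNoetherianRing A]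
  [IsAdicComplete (IsLocalRing.maximalIdeal A) A] {ω : Dual.D A}
  (hω : Dual.IsDualizing A ω) (hn : Dual.IsNormalized A ω)
  [DRing.HasRgammaI (IsLocalRing.maximalIdeal A)] [DRing.HasDerivedCompletion (IsLocalRing.maximalIdeal A)]
  {E₀ : Type u} [AddCommGroup E₀] [Module A E₀]
  {f₀ : IsLocalRing.ResidueField A →ₗ[A] E₀} (hf₀ : InjHull.IsInjectiveHull f₀)

local notation "𝔪" => IsLocalRing.maximalIdeal A

omit [DRing.HasRgammaI (IsLocalRing.maximalIdeal A)] in
theorem isIso_toDC (M : Dual.D A) (hfin : ∀ i : ℤ, Module.Finite A (Dual.HD A M i)) :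
    IsIso (DRing.toDerivedCompletion 𝔪 M) := by
  refine (DerivedCategory.isIso_iff (ModuleCat.{u} A) _).2 fun i => ?_
  obtain ⟨e, he⟩ := Groth.Agent.S7060.result 𝔪 M hfin i
  haveI := hfin i
  haveI : IsAdicComplete 𝔪 (Dual.HD A M i) := by
    rw [← AdicCompletion.of_bijective_iff]
    have hA : Function.Bijective (AdicCompletion.of 𝔪 A) := AdicCompletion.of_bijective 𝔪 A
    let e₂ := AdicCompletion.ofTensorProductEquivOfFiniteNoetherian 𝔪 (Dual.HD A M i)
    let e₁ : A ≃ₗ[A] AdicCompletion 𝔪 A := LinearEquiv.ofBijective _ hA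
    have : ∀ x, AdicCompletion.of 𝔪 (Dual.HD A M i) x = e₂ (TensorProduct.congr e₁ (LinearEquiv.refl A _)
        ((TensorProduct.lid A _).symm x)) := fun x => by
      simp [e₁, e₂, AdicCompletion.ofTensorProductEquivOfFiniteNoetherian, AdicCompletion.ofTensorProduct_tmul]
      ext n
      simp
      exact (one_smul _ _).symm
    rw [show (AdicCompletion.of 𝔪 (Dual.HD A M i) : _ → _) = _ from funext this]
    exact e₂.bijective.comp ((TensorProduct.congr e₁ (LinearEquiv.refl A _)).bijective.comp (TensorProduct.lid A _).symm.bijective)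
  rw [ConcreteCategory.isIso_iff_bijective]
  have h2 : Function.Bijective fun x => e (((homologyFunctor (ModuleCat.{u} A) i).map
      (DRing.toDerivedCompletion 𝔪 M)).hom x) := by
    simp only [he]
    exact AdicCompletion.of_bijective 𝔪 _
  exact (Function.Bijective.of_comp_iff' e.bijective _).1 h2

include hω hn hf₀ in
omit [IsAdicComplete (IsLocalRing.maximalIdeal A) A] [DRing.HasDerivedCompletion (IsLocalRing.maximalIdeal A)] in
theorem bounded_RgammaI (M : Dual.D A) (hfin : ∀ i : ℤ, Module.Finite A (Dual.HD A M i))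
    (hbd : ∃ a b : ℤ, ∀ i : ℤ, (i < a ∨ b < i) → Subsingleton (Dual.HD A M i)) :
    ∃ a b : ℤ, ∀ i : ℤ, (i < a ∨ b < i) →
      Subsingleton (Dual.HD A ((DRing.RgammaI 𝔪).obj M) i) := by
  obtain ⟨a, b, h⟩ := hbd
  obtain ⟨c, d, hcd⟩ := hω.finite_injective_dimension
  refine ⟨a - d, b - c, fun i hi => ?_⟩
  obtain ⟨Φ⟩ := CxDuality.nonempty_HDI_equiv hω hn hf₀ M hfin i
  obtain ⟨Ψ⟩ := GammaHDI.nonempty_HDI_RgammaI 𝔪 M i
  haveI : M.IsGE a := (DerivedCategory.isGE_iff _ _).2 fun q hq =>
    haveI := h q (Or.inl hq); ModuleCat.isZero_of_subsingleton _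
  haveI : M.IsLE b := (DerivedCategory.isLE_iff _ _).2 fun q hq =>
    haveI := h q (Or.inr hq); ModuleCat.isZero_of_subsingleton _
  haveI : Subsingleton (M ⟶ ω⟦(-i)⟧) := vanish' (W := ω) M a b (-i) fun q hq hq' => hcd _ _ (by omega)
  exact (Ψ.symm.trans Φ).toEquiv.subsingleton

/-- Torsion with finite socle. -/
def Cof (N : Type u) [AddCommGroup N] [Module A N] : Prop :=
  LocCoh.IsPowerTorsion 𝔪 N ∧ IsArtinian A N

include hf₀ in
omit [IsAdicComplete (IsLocalRing.maximalIdeal A) A] [DRing.HasRgammaI (IsLocalRing.maximalIdeal A)]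
  [DRing.HasDerivedCompletion (IsLocalRing.maximalIdeal A)] in
theorem isArtinian_hull : IsArtinian A E₀ := by
  haveI := Matlis6.isNoetherianRing_adicCompletion 𝔪
  exact (Matlis6.of_isInjectiveHull_residueField hf₀).isArtinian_of_isNoetherianRing

omit [IsAdicComplete (IsLocalRing.maximalIdeal A) A] [DRing.HasRgammaI (IsLocalRing.maximalIdeal A)]
  [DRing.HasDerivedCompletion (IsLocalRing.maximalIdeal A)] in
theorem finite_socle (N : Type u) [AddCommGroup N] [Module A N] [IsArtinian A N] :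
    Module.Finite A ↥(LocCoh.torsionBy 𝔪 N) := by
  haveI := Matlis6.finite_socle_of_isArtinian (R := A) (M := N)
  exact Module.Finite.trans (A ⧸ 𝔪) _

include hω hn hf₀ in
omit [IsAdicComplete (IsLocalRing.maximalIdeal A) A] [DRing.HasDerivedCompletion (IsLocalRing.maximalIdeal A)] in
theorem finite_socle_RgammaI (M : Dual.D A) (hfin : ∀ i : ℤ, Module.Finite A (Dual.HD A M i)) (i : ℤ) :
    Module.Finite A ↥(LocCoh.torsionBy 𝔪 (Dual.HD A ((DRing.RgammaI 𝔪).obj M) i)) := by
  obtain ⟨Φ⟩ := CxDuality.nonempty_HDI_equiv hω hn hf₀ M hfin i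
  obtain ⟨Ψ⟩ := GammaHDI.nonempty_HDI_RgammaI 𝔪 M i
  haveI := CxDuality.finite_hom hω M hfin (-i)
  obtain ⟨m, π, hπ⟩ := Module.Finite.exists_fin' A (M ⟶ ω⟦(-i)⟧)
  haveI := isArtinian_hull hf₀
  haveI : IsArtinian A ((M ⟶ ω⟦(-i)⟧) →ₗ[A] E₀) := by
    let g : ((M ⟶ ω⟦(-i)⟧) →ₗ[A] E₀) →ₗ[A] (Fin m → E₀) :=
      LinearMap.pi fun k => LinearMap.applyₗ (π (Pi.single k 1))
    refine isArtinian_of_injective g fun φ ψ h => ?_
    refine LinearMap.ext fun x => ?_
    obtain ⟨y, rfl⟩ := hπ x
    refine LinearMap.congr_fun (f := φ.comp π) (g := ψ.comp π) ((Pi.basisFun A (Fin m)).ext fun k => ?_) y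
    rw [Pi.basisFun_apply]
    exact congrFun h k
  haveI : IsArtinian A (Dual.HD A ((DRing.RgammaI 𝔪).obj M) i) :=
    isArtinian_of_injective (Ψ.symm.trans Φ).toLinearMap (Ψ.symm.trans Φ).injective
  exact finite_socle _

include hω hn hf₀ in
omit [IsAdicComplete (IsLocalRing.maximalIdeal A) A] [DRing.HasDerivedCompletion (IsLocalRing.maximalIdeal A)] in
theorem nonempty_gamma_omega : Nonempty ((DRing.RgammaI 𝔪).obj ω ≅ Dual.inD A E₀) := by
  have hd : ∀ i, Nonempty (Dual2.HDI A 𝔪 ω i ≃ₗ[A] Dual.HD A ((DRing.RgammaI 𝔪).obj ω) i) := fun i =>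
    GammaHDI.nonempty_HDI_RgammaI 𝔪 ω i
  have hne : ∀ i ≠ 0, IsZero ((homologyFunctor (ModuleCat.{u} A) i).obj ((DRing.RgammaI 𝔪).obj ω)) :=
    fun i hi => by
      haveI := subsingleton_HDI_of_ne hn i hi
      haveI : Subsingleton (Dual.HD A ((DRing.RgammaI 𝔪).obj ω) i) := (hd i).some.symm.injective.subsingleton
      exact ModuleCat.isZero_of_subsingleton _
  haveI : ((DRing.RgammaI 𝔪).obj ω).IsGE 0 := (DerivedCategory.isGE_iff _ 0).2 fun i hi => hne i (ne_of_lt hi)
  haveI : ((DRing.RgammaI 𝔪).obj ω).IsLE 0 := (DerivedCategory.isLE_iff _ 0).2 fun i hi => hne i (ne_of_gt hi)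
  obtain ⟨e3⟩ := DualLib.exists_single_iso ((DRing.RgammaI 𝔪).obj ω) 0
  obtain ⟨d0⟩ := hd 0
  obtain ⟨d1⟩ := nonempty_HDI_zero hω hn hf₀
  exact ⟨e3.symm ≪≫ (singleFunctor (ModuleCat.{u} A) 0).mapIso ((d0.symm.trans d1).toModuleIso)⟩

include hω hn hf₀ in
theorem finCompl_hull (i : ℤ) : FinCompl 𝔪 (Dual.inD A E₀) i := by
  obtain ⟨e⟩ := nonempty_gamma_omega hω hn hf₀
  haveI := isIso_toDC ω hω.finite_cohomology
  refine finCompl_of_iso e ?_
  haveI : Module.Finite A (Dual.HD A ω i) := hω.finite_cohomology i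
  exact finCompl_of_one (C := ω) (q := (DRing.RgammaIε 𝔪).app ω)
    ⟨isDerivedComplete_of_iso (asIso (DRing.toDerivedCompletion 𝔪 ω)).symm
      ((DRing.derivedCompletion 𝔪).obj ω).property, cIso_ε 𝔪 ω⟩

include hω hn hf₀ in
theorem finCompl_pi (i : ℤ) : ∀ r : ℕ, FinCompl 𝔪 (Dual.inD A (Fin r → E₀)) i := by
  intro r
  induction r with
  | zero => exact finCompl_isZero ((singleFunctor (ModuleCat.{u} A) 0).map_isZero (ModuleCat.isZero_of_subsingleton _)) i
  | succ r ih =>
    let e : (Fin (r + 1) → E₀) ≃ₗ[A] E₀ × (Fin r → E₀) := (Fin.consLinearEquiv A fun _ => E₀).symm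
    let S : ShortComplex (ModuleCat.{u} A) := ShortComplex.mk (ModuleCat.ofHom (LinearMap.inl A E₀ (Fin r → E₀)))
      (ModuleCat.ofHom (LinearMap.snd A E₀ (Fin r → E₀))) (ModuleCat.hom_ext (LinearMap.ext fun _ => rfl))
    have hS : S.ShortExact :=
      { exact := (ShortComplex.ShortExact.moduleCat_exact_iff_function_exact _).2 Function.Exact.inl_snd
        mono_f := (ModuleCat.mono_iff_injective _).2 LinearMap.inl_injective
        epi_g := (ModuleCat.epi_iff_surjective _).2 LinearMap.snd_surjective }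
    exact finCompl_of_iso ((singleFunctor (ModuleCat.{u} A) 0).mapIso e.symm.toModuleIso)
      (finCompl_mid hS.singleTriangle_distinguished (finCompl_hull hω hn hf₀ i) ih)

include hω hn hf₀ in
theorem finCompl_module : ∀ (i : ℤ) (N : Type u) [AddCommGroup N] [Module A N],
    LocCoh.IsPowerTorsion 𝔪 N → IsArtinian A N → FinCompl 𝔪 (Dual.inD A N) i := by
  obtain ⟨s, hs⟩ : (𝔪).FG := IsNoetherian.noetherian 𝔪
  suffices h : ∀ (n : ℕ) (N : Type u) [AddCommGroup N] [Module A N], IsArtinian A N →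
      ∀ i : ℤ, i < n - s.card → FinCompl 𝔪 (Dual.inD A N) i from
    fun i N _ _ _ hA => h (i + s.card + 1).toNat N hA i (by omega)
  intro n
  induction n with
  | zero =>
    intro N _ _ _ i hi C q hq
    haveI := hq.subsingleton_hd s hs i fun m h1 h2 =>
      ModuleCat.subsingleton_of_isZero (DerivedCategory.isZero_of_isGE _ 0 m (by omega))
    infer_instance
  | succ n ih =>
    intro N _ _ hA i hi
    obtain ⟨g, hg⟩ : ∃ g : N →ₗ[A] (Fin (Module.finrank (A ⧸ 𝔪) ↥(LocCoh.torsionBy 𝔪 N)) → E₀),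
        Function.Injective g := by
      haveI := Matlis6.finite_socle_of_isArtinian (R := A) (M := N)
      exact (Matlis6.of_isInjectiveHull_residueField hf₀).exists_embedding
        Matlis6.isPowerTorsion_of_isArtinian _ rfl
    haveI := isArtinian_hull hf₀
    let S : ShortComplex (ModuleCat.{u} A) := ShortComplex.mk (ModuleCat.ofHom g)
      (ModuleCat.ofHom (LinearMap.range g).mkQ) (by ext x; simp)
    have hS : S.ShortExact :=
      { exact := (ShortComplex.ShortExact.moduleCat_exact_iff_function_exact _).2 (LinearMap.exact_map_mkQ_range g)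
        mono_f := (ModuleCat.mono_iff_injective _).2 hg
        epi_g := (ModuleCat.epi_iff_surjective _).2 (Submodule.mkQ_surjective _) }
    exact finCompl_left hS.singleTriangle_distinguished (show (i - 1) + 1 = i by omega)
      (finCompl_pi hω hn hf₀ i _) (ih _ inferInstance (i - 1) (by omega))

include hω hn hf₀ in
theorem finite_completion (K : Dual.D A)
    (hbd : ∃ a b : ℤ, ∀ i : ℤ, (i < a ∨ b < i) → Subsingleton (Dual.HD A K i))
    (hK : ∀ i : ℤ, LocCoh.IsPowerTorsion 𝔪 (Dual.HD A K i) ∧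
      Module.Finite A ↥(LocCoh.torsionBy 𝔪 (Dual.HD A K i))) (i : ℤ) :
    Module.Finite A (Dual.HD A ((DRing.derivedCompletion 𝔪).obj K).obj i) := by
  obtain ⟨a, b, hab⟩ := hbd
  suffices h : ∀ (n : ℕ) (X : Dual.D A), X.IsGE a → X.IsLE (a + n - 1) →
      (∀ q, IsArtinian A (Dual.HD A X q)) → ∀ i, FinCompl 𝔪 X i by
    refine h (b + 1 - a).toNat K ?_ ?_ (fun q => ?_) i _ _ (isCompl_toDerivedCompletion _ K)
    · exact (DerivedCategory.isGE_iff _ _).2 fun q hq =>
        haveI := hab q (Or.inl hq); ModuleCat.isZero_of_subsingleton _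
    · exact (DerivedCategory.isLE_iff _ _).2 fun q hq => by
        haveI : Subsingleton (Dual.HD A K q) := hab q (by omega)
        exact ModuleCat.isZero_of_subsingleton _
    · haveI := (hK q).2
      haveI : Module.Finite (A ⧸ 𝔪) ↥(LocCoh.torsionBy 𝔪 (Dual.HD A K q)) :=
        Module.Finite.of_restrictScalars_finite A _ _
      haveI := isArtinian_hull hf₀
      obtain ⟨g, hg⟩ := (Matlis6.of_isInjectiveHull_residueField hf₀).exists_embedding (hK q).1 _ rfl
      exact isArtinian_of_injective g hg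
  intro n
  induction n with
  | zero => exact fun X hge hle _ i => finCompl_isZero ((ts A).isZero X (a + (0 : ℕ) - 1) a (by omega)) i
  | succ n ih =>
    intro X hge hle hart i
    haveI h₁ : (((ts A).truncLT (a + n)).obj X).IsLE (a + n - 1) := (ts A).isLE_truncLT_obj _ _ _ (by omega)
    haveI : X.IsLE (a + n) := by
      have : a + ((n + 1 : ℕ) : ℤ) - 1 = a + n := by push_cast; omega
      exact this ▸ hle
    haveI : (((ts A).truncGE (a + n)).obj X).IsGE (a + n) := inferInstance
    haveI : (((ts A).truncGE (a + n)).obj X).IsLE (a + n) := inferInstance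
    haveI : (((ts A).truncLT (a + n)).obj X).IsGE a := inferInstance
    obtain ⟨e⟩ := exists_single_iso (((ts A).truncGE (a + n)).obj X) (a + n)
    refine finCompl_mid ((ts A).triangleLTGE_distinguished (a + n) X)
      (ih _ inferInstance h₁ (fun q => ?_) i) ?_
    · rcases lt_or_ge q (a + n) with hq | hq
      · haveI := hart q
        exact isArtinian_of_injective (hTruncLT X (a + n) q hq).toLinearMap (hTruncLT X (a + n) q hq).injective
      · haveI := ModuleCat.subsingleton_of_isZero (isZero_of_isLE (((ts A).truncLT (a + n)).obj X) (a + n - 1) q (by omega))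
        infer_instance
    · haveI := hart (a + n)
      haveI : IsArtinian A (Dual.HD A (((ts A).truncGE (a + n)).obj X) (a + n)) :=
        isArtinian_of_injective (hTruncGE X (a + n) (a + n) le_rfl).symm.toLinearMap
          (hTruncGE X (a + n) (a + n) le_rfl).symm.injective
      refine finCompl_of_iso (((singleFunctors (ModuleCat.{u} A)).shiftIso (-(a + n)) (a + n) 0 (by omega)).app _ ≪≫ e) ?_
      exact finCompl_shift _ (finCompl_module hω hn hf₀ _ _ Matlis6.isPowerTorsion_of_isArtinian inferInstance)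

include hω hn hf₀ in
theorem perverse (N : Type u) [AddCommGroup N] [Module A N] (htors : LocCoh.IsPowerTorsion 𝔪 N)
    (i : ℤ) (hi : i ≠ 0) :
    Subsingleton (((DRing.derivedCompletion 𝔪).obj (Dual.inD A N)).obj ⟶ ω⟦i⟧) := by
  haveI := isIso_toDC ω hω.finite_cohomology
  have hc : DRing.IsDerivedComplete 𝔪 (ω⟦i⟧) := isDerivedComplete_shift
    (isDerivedComplete_of_iso (asIso (DRing.toDerivedCompletion 𝔪 ω)).symm
      ((DRing.derivedCompletion 𝔪).obj ω).property) i
  obtain ⟨e⟩ := nonempty_gamma_omega hω hn hf₀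
  suffices h : Subsingleton (Dual.inD A N ⟶ ω⟦i⟧) from
    ((isCompl_toDerivedCompletion 𝔪 (Dual.inD A N)).2 _ hc).injective.subsingleton
  have ht : Tors 𝔪 (Dual.inD A N) := fun j => by
    rcases eq_or_ne j 0 with rfl | hj
    · exact isPowerTorsion_of_equiv (((singleFunctorCompHomologyFunctorIso (ModuleCat.{u} A) 0).app
        (ModuleCat.of A N)).toLinearEquiv).symm htors
    · haveI : Subsingleton (Dual.HD A (Dual.inD A N) j) := ModuleCat.subsingleton_of_isZero (by
        rcases lt_or_gt_of_ne hj with hj | hj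
        · exact DerivedCategory.isZero_of_isGE _ 0 j hj
        · exact DerivedCategory.isZero_of_isLE _ 0 j hj)
      exact fun x => ⟨0, fun a _ => Subsingleton.elim _ _⟩
  suffices h : Subsingleton (Dual.inD A N ⟶ (Dual.inD A E₀)⟦i⟧) by
    haveI : Subsingleton (Dual.inD A N ⟶ ((DRing.RgammaI 𝔪).obj ω)⟦i⟧) :=
      ((Iso.refl (Dual.inD A N)).homCongr ((shiftFunctor (Dual.D A) i).mapIso e)).injective.subsingleton
    let sh := shiftFunctorCompIsoId (Dual.D A) i (-i) (by omega)
    have ht' : Tors 𝔪 ((Dual.inD A N)⟦(-i)⟧) := fun j => isPowerTorsion_of_equiv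
      ((((homologyFunctor (ModuleCat.{u} A) 0).shiftIso (-i) j (-i + j) rfl).app (Dual.inD A N)).toLinearEquiv).symm
      (ht (-i + j))
    refine subsingleton_of_forall_eq 0 fun φ => ?_
    obtain ⟨ψ, hψ⟩ := (bijective_comp_ε 𝔪 ht' ω).2 (φ⟦(-i)⟧' ≫ sh.hom.app ω)
    obtain ⟨χ, hχ⟩ := (shiftFunctor (Dual.D A) (-i)).map_surjective (ψ ≫ sh.inv.app ((DRing.RgammaI 𝔪).obj ω))
    have hψ0 : ψ = 0 := by
      rw [Subsingleton.elim χ 0, Functor.map_zero] at hχ
      exact (cancel_mono (sh.inv.app ((DRing.RgammaI 𝔪).obj ω))).1 (hχ.symm.trans zero_comp.symm)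
    refine (shiftFunctor (Dual.D A) (-i)).map_injective ((cancel_mono (sh.hom.app ω)).1 ?_)
    rw [← hψ, hψ0, Functor.map_zero]
    exact (zero_comp.trans zero_comp.symm)
  rcases lt_or_gt_of_ne hi with hi | hi
  · exact subsingleton_of_forall_eq 0 fun φ => by
      haveI : ((Dual.inD A E₀)⟦i⟧).IsGE (0 - i) := (ts A).isGE_shift _ 0 i _ (by omega)
      exact (ts A).zero φ 0 (0 - i) (by omega)
  · obtain ⟨k, rfl⟩ : ∃ k : ℕ, i = ((k + 1 : ℕ) : ℤ) := ⟨(i - 1).toNat, by omega⟩
    haveI : Module.Injective A E₀ := (Matlis6.of_isInjectiveHull_residueField hf₀).inj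
    haveI : Injective (ModuleCat.of A E₀) := Module.injective_object_of_injective_module A E₀
    haveI : Subsingleton (Abelian.Ext (ModuleCat.of A N) (ModuleCat.of A E₀) (k + 1)) :=
      subsingleton_of_forall_eq 0 fun x => x.eq_zero_of_injective
    exact (Abelian.Ext.homEquiv (X := ModuleCat.of A N) (Y := ModuleCat.of A E₀) (n := k + 1)).symm.subsingleton

end Local

end Groth.Agent.DLTr
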