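import Groth.Agent.DualLib.LocalDuality
import Groth.Agent.DualLib.Trunc

/-!
Local duality for complexes: the compatible maps `x : A/mⁿ ⟶ K⟦i⟧` are in perfect pairing with
`Hom(K, ω⟦-i⟧)`, with values in the injective hull of the residue field.
-/

set_option autoImplicit false
set_option backward.isDefEq.respectTransparency false
set_option backward.defeqAttrib.useBackward true
set_option linter.style.haveILetI false

universe u

open CategoryTheory CategoryTheory.Limits CategoryTheory.Pretriangulated CategoryTheory.Abelian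

attribute [local instance] HasDerivedCategory.standard

namespace Groth.Agent.DualLib.CxDuality

variable {A : Type u} [CommRing A] [IsLocalRing A]

local notation "𝔪" => IsLocalRing.maximalIdeal A

/-- `A/mⁿ` in `D(A)`. -/
noncomputable abbrev Nn (A : Type u) [CommRing A] [IsLocalRing A] (n : ℕ) : Dual.D A :=
  (S0 A).obj (LocCoh.Q (IsLocalRing.maximalIdeal A) n)

/-- The transition maps. -/
noncomputable abbrev qm (A : Type u) [CommRing A] [IsLocalRing A] {n k : ℕ} (h : n ≤ k) : Nn A k ⟶ Nn A n :=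
  (S0 A).map (LocCoh.qmap (IsLocalRing.maximalIdeal A) h)

/-- `x` vanishes in the colimit. -/
def Dies {n : ℕ} {X : Dual.D A} (x : Nn A n ⟶ X) : Prop := ∃ (k : ℕ) (h : n ≤ k), qm A h ≫ x = 0

lemma qm_comp {n k l : ℕ} (h : n ≤ k) (h' : k ≤ l) : qm A h' ≫ qm A h = qm A (h.trans h') := by
  rw [← Functor.map_comp]
  congr 1
  refine ModuleCat.hom_ext (LinearMap.ext fun x => ?_)
  obtain ⟨a, rfl⟩ := Submodule.Quotient.mk_surjective _ x
  rfl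

lemma qm_assoc {n k l : ℕ} (h : n ≤ k) (h' : k ≤ l) {X : Dual.D A} (x : Nn A n ⟶ X) :
    qm A h' ≫ qm A h ≫ x = qm A (h.trans h') ≫ x := by
  rw [← Category.assoc, qm_comp]

lemma comp_comp {X X' Y Z : Dual.D A} (g : X' ⟶ X) {a b c : ℤ} (f : ShiftedHom X Y a) (e : ShiftedHom Y Z b)
    (h : b + a = c) : ShiftedHom.comp (g ≫ f : ShiftedHom X' Y a) e h = g ≫ ShiftedHom.comp f e h :=
  Category.assoc _ _ _

variable {ω : Dual.D A} {E₀ : Type u} [AddCommGroup E₀] [Module A E₀] (ρ : DualSystem ω E₀)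

/-- The pairing. -/
noncomputable def pr {K : Dual.D A} {i j : ℤ} (h : j + i = 0) {n : ℕ} (x : Nn A n ⟶ K⟦i⟧) (φ : K ⟶ ω⟦j⟧) : E₀ :=
  ρ.toFun n (ShiftedHom.comp x φ h)

variable {K : Dual.D A} {i j : ℤ} (h : j + i = 0) {n : ℕ}

lemma pr_qm {k : ℕ} (hk : n ≤ k) (x : Nn A n ⟶ K⟦i⟧) (φ : K ⟶ ω⟦j⟧) :
    pr ρ h (qm A hk ≫ x) φ = pr ρ h x φ :=
  (congrArg (ρ.toFun k) (comp_comp (qm A hk) x φ h)).trans
    (LinearMap.congr_fun (ρ.compat hk) (ShiftedHom.comp x φ h))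

lemma pr_add_left (x y : Nn A n ⟶ K⟦i⟧) (φ : K ⟶ ω⟦j⟧) : pr ρ h (x + y) φ = pr ρ h x φ + pr ρ h y φ :=
  (congrArg (ρ.toFun n) (ShiftedHom.add_comp x y φ h)).trans (map_add _ _ _)

lemma pr_sub_left (x y : Nn A n ⟶ K⟦i⟧) (φ : K ⟶ ω⟦j⟧) : pr ρ h (x - y) φ = pr ρ h x φ - pr ρ h y φ := by
  rw [eq_sub_iff_add_eq, ← pr_add_left, sub_add_cancel]

/-- The pairing as a linear form. -/
noncomputable def prL (x : Nn A n ⟶ K⟦i⟧) : (K ⟶ ω⟦j⟧) →ₗ[A] E₀ where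
  toFun φ := pr ρ h x φ
  map_add' φ ψ := (congrArg (ρ.toFun n) (ShiftedHom.comp_add x φ ψ h)).trans (map_add _ _ _)
  map_smul' a φ := (congrArg (ρ.toFun n) (ShiftedHom.comp_smul a x φ h)).trans (map_smul _ _ _)

lemma pr_mk₀ {L : Dual.D A} (g : K ⟶ L) (x : Nn A n ⟶ K⟦i⟧) (φ : L ⟶ ω⟦j⟧) :
    pr ρ h (x ≫ g⟦i⟧') φ = pr ρ h x (g ≫ φ) := by
  refine congrArg (ρ.toFun n) ?_
  show ShiftedHom.comp (x ≫ g⟦i⟧' : ShiftedHom (Nn A n) L i) φ h = ShiftedHom.comp x (g ≫ φ : ShiftedHom K ω j) h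
  rw [ShiftedHom.comp, ShiftedHom.comp, Functor.map_comp, Category.assoc, Category.assoc]

variable (K i)

/-- No element of the colimit is orthogonal to all of `Hom(K, ω⟦-i⟧)`. -/
def Inj : Prop :=
  ∀ (n : ℕ) (x : Nn A n ⟶ K⟦i⟧), (∀ (j : ℤ) (h : j + i = 0) (φ : K ⟶ ω⟦j⟧), pr ρ h x φ = 0) → Dies x

/-- Every form on `Hom(K, ω⟦-i⟧)` comes from the colimit. -/
def Surj : Prop :=
  ∀ (j : ℤ) (h : j + i = 0) (t : (K ⟶ ω⟦j⟧) →ₗ[A] E₀),
    ∃ (n : ℕ) (x : Nn A n ⟶ K⟦i⟧), ∀ φ : K ⟶ ω⟦j⟧, pr ρ h x φ = t φ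

variable {K i}

omit h in
lemma inj_of_dies (hd : ∀ (n : ℕ) (x : Nn A n ⟶ K⟦i⟧), Dies x) : Inj ρ K i := fun n x _ => hd n x

omit h in
lemma surj_of_subsingleton (hs : ∀ j : ℤ, j + i = 0 → Subsingleton (K ⟶ ω⟦j⟧)) : Surj ρ K i := fun j h t =>
  ⟨0, 0, fun φ => by
    haveI := hs j h
    show prL ρ h 0 φ = t φ
    rw [show φ = 0 from Subsingleton.elim (α := K ⟶ ω⟦j⟧) φ 0, map_zero, map_zero]⟩

section Triangle

variable [Module.Injective A E₀] (T : Triangle (Dual.D A)) (hT : T ∈ distinguishedTriangles)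
include hT

omit ρ h [Module.Injective A E₀] in
lemma coyoneda_shift₂ (i : ℤ) {N : Dual.D A} (x : N ⟶ T.obj₂⟦i⟧) (hx : x ≫ T.mor₂⟦i⟧' = 0) :
    ∃ y : N ⟶ T.obj₁⟦i⟧, x = y ≫ T.mor₁⟦i⟧' := by
  obtain ⟨y, hy⟩ := Triangle.coyoneda_exact₂ _ (Triangle.shift_distinguished T hT i) x
    (by
      show x ≫ (i.negOnePow • T.mor₂⟦i⟧') = 0
      rw [Linear.comp_units_smul, hx, smul_zero])
  refine ⟨i.negOnePow • y, hy.trans ?_⟩
  show y ≫ (i.negOnePow • T.mor₁⟦i⟧') = _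
  rw [Linear.comp_units_smul, Linear.units_smul_comp]

omit ρ h [Module.Injective A E₀] in
lemma coyoneda_shift₃ (i : ℤ) {N : Dual.D A} (x : N ⟶ T.obj₃⟦i⟧) (hx : x ≫ T.mor₃⟦i⟧' = 0) :
    ∃ y : N ⟶ T.obj₂⟦i⟧, x = y ≫ T.mor₂⟦i⟧' := by
  obtain ⟨y, hy⟩ := Triangle.coyoneda_exact₃ _ (Triangle.shift_distinguished T hT i) x
    (by
      show x ≫ (i.negOnePow • T.mor₃⟦i⟧' ≫ (shiftFunctorComm (Dual.D A) 1 i).hom.app T.obj₁) = 0
      rw [Linear.comp_units_smul, reassoc_of% hx, zero_comp, smul_zero])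
  refine ⟨i.negOnePow • y, hy.trans ?_⟩
  show y ≫ (i.negOnePow • T.mor₂⟦i⟧') = _
  rw [Linear.comp_units_smul, Linear.units_smul_comp]

omit h [Module.Injective A E₀] in
lemma pr_delta {i₀ i₁ j₁ j₀ : ℤ} (hi : i₀ + 1 = i₁) (hj : j₁ + 1 = j₀) (h₁ : j₁ + i₁ = 0) (h₀ : j₀ + i₀ = 0)
    {n : ℕ} (z : Nn A n ⟶ T.obj₃⟦i₀⟧) (φ : T.obj₁ ⟶ ω⟦j₁⟧) :
    pr ρ h₁ (ShiftedHom.comp z T.mor₃ ((add_comm (1 : ℤ) i₀).trans hi) : Nn A n ⟶ T.obj₁⟦i₁⟧) φ =
      pr ρ h₀ z (delta ω T j₁ j₀ hj φ) := by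
  refine congrArg (ρ.toFun n) ?_
  exact ShiftedHom.comp_assoc z T.mor₃ φ (a₁₂ := i₁) (a₂₃ := j₀) (by omega) (by omega) (by omega)

omit h in
theorem inj_mid {i : ℤ} (hX : Inj ρ T.obj₁ i) (hZ : Inj ρ T.obj₃ i) (hZs : Surj ρ T.obj₃ (i - 1)) :
    Inj ρ T.obj₂ i := by
  intro n x hx
  have h : -i + i = 0 := by omega
  obtain ⟨k, hk, hxk⟩ := hZ n (x ≫ T.mor₂⟦i⟧') fun j h φ => by rw [pr_mk₀, hx]
  obtain ⟨x₁, hx₁⟩ := coyoneda_shift₂ T hT i (qm A hk ≫ x) (by rw [Category.assoc]; exact hxk)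
  have hu : prL ρ h x₁ ∘ₗ pre ω T.mor₁ (-i) = 0 := LinearMap.ext fun χ => by
    show pr ρ h x₁ (T.mor₁ ≫ χ) = 0
    rw [← pr_mk₀, ← hx₁, pr_qm, hx]
  obtain ⟨s, hs⟩ := exists_of_comp_eq_zero (exact_pre_delta (W := ω) T hT (-i) (-i + 1) rfl) _ hu
  obtain ⟨m, z, hz⟩ := hZs (-i + 1) (by omega) s
  let δz : Nn A m ⟶ T.obj₁⟦i⟧ := ShiftedHom.comp z T.mor₃ (show (1 : ℤ) + (i - 1) = i by omega)
  have hd : Dies (qm A (le_max_left k m) ≫ x₁ - qm A (le_max_right k m) ≫ δz) := by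
    refine hX _ _ fun j h' φ => ?_
    obtain rfl : j = -i := by omega
    rw [pr_sub_left, pr_qm, pr_qm, pr_delta ρ T hT (i₀ := i - 1) (i₁ := i) (j₁ := -i) (j₀ := -i + 1) (by omega) rfl h' (by omega) z φ,
      hz, sub_eq_zero]
    exact (LinearMap.congr_fun hs φ).symm
  obtain ⟨l, hl, hl0⟩ := hd
  rw [Preadditive.comp_sub, qm_assoc, qm_assoc, sub_eq_zero] at hl0
  have hδ : δz ≫ T.mor₁⟦i⟧' = 0 := by
    show ShiftedHom.comp z T.mor₃ _ ≫ T.mor₁⟦i⟧' = 0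
    rw [ShiftedHom.comp, Category.assoc, Category.assoc]
    erw [← NatTrans.naturality]
    rw [Functor.comp_map, ← Functor.map_comp_assoc, comp_distTriang_mor_zero₃₁ T hT, Functor.map_zero,
      Limits.zero_comp, Limits.comp_zero]
  refine ⟨l, hk.trans ((le_max_left k m).trans hl), ?_⟩
  rw [← qm_assoc hk ((le_max_left k m).trans hl), hx₁, ← Category.assoc, hl0, Category.assoc, hδ, Limits.comp_zero]

omit h in
theorem surj_mid {i : ℤ} (hXs : Surj ρ T.obj₁ i) (hX : Inj ρ T.obj₁ (i + 1)) (hZs : Surj ρ T.obj₃ i) :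
    Surj ρ T.obj₂ i := by
  intro j h t
  obtain ⟨n, z, hz⟩ := hZs j h (t ∘ₗ pre ω T.mor₂ j)
  let δz : Nn A n ⟶ T.obj₁⟦i + 1⟧ := ShiftedHom.comp z T.mor₃ (show (1 : ℤ) + i = i + 1 by omega)
  obtain ⟨k, hk, hk0⟩ := hX n δz fun j' h' φ => by
    rw [pr_delta ρ T hT (i₀ := i) (i₁ := i + 1) (j₁ := j') (j₀ := j) rfl (by omega) h' h z φ, hz]
    show t (pre ω T.mor₂ j (delta ω T j' j (by omega) φ)) = 0
    rw [(exact_delta_pre (W := ω) T hT j' j (by omega)).apply_apply_eq_zero, map_zero]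
  obtain ⟨y, hy⟩ := coyoneda_shift₃ T hT i (qm A hk ≫ z) (by
    rw [Category.assoc]
    have e : δz = (z ≫ T.mor₃⟦i⟧') ≫ (shiftFunctorAdd' (Dual.D A) 1 i (i + 1) (by omega)).inv.app T.obj₁ :=
      (Category.assoc _ _ _).symm
    rw [e, ← Category.assoc] at hk0
    exact (cancel_mono ((shiftFunctorAdd' (Dual.D A) 1 i (i + 1) (by omega)).inv.app T.obj₁)).1
      (hk0.trans Limits.zero_comp.symm))
  obtain ⟨s, hs⟩ := exists_of_comp_eq_zero (exact_pre (W := ω) T hT j) (t - prL ρ h y)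
    (LinearMap.ext fun χ => by
      show t (T.mor₂ ≫ χ) - pr ρ h y (T.mor₂ ≫ χ) = 0
      rw [← pr_mk₀, ← hy, pr_qm, hz, sub_eq_zero]
      rfl)
  obtain ⟨m, x₁, hx₁⟩ := hXs j h s
  refine ⟨max k m, qm A (le_max_left k m) ≫ y + qm A (le_max_right k m) ≫ (x₁ ≫ T.mor₁⟦i⟧'), fun φ => ?_⟩
  rw [pr_add_left, pr_qm, pr_qm, pr_mk₀, hx₁]
  have := LinearMap.congr_fun hs φ
  show pr ρ h y φ + s (T.mor₁ ≫ φ) = t φ
  rw [show s (T.mor₁ ≫ φ) = t φ - pr ρ h y φ from this]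
  abel

end Triangle

section Transfer

variable {L : Dual.D A} {q : ℤ}

omit h in
theorem inj_of_iso (e : L ≅ K⟦q⟧) {i : ℤ} (hK : Inj ρ K (q + i)) : Inj ρ L i := by
  intro n x hx
  obtain ⟨k, hk, hk0⟩ := hK n (ShiftedHom.comp x e.hom rfl) fun j h φ => by
    rw [← hx (j + q) (by omega) (ShiftedHom.comp e.hom φ rfl)]
    exact congrArg (ρ.toFun n) (ShiftedHom.comp_assoc x e.hom φ (a₁₂ := q + i) (a₂₃ := j + q) rfl rfl (by omega))
  refine ⟨k, hk, ?_⟩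
  have e' : ShiftedHom.comp x e.hom rfl = x ≫ (e.hom⟦i⟧' ≫ (shiftFunctorAdd' (Dual.D A) q i (q + i) rfl).inv.app K) :=
    rfl
  rw [e', ← Category.assoc] at hk0
  exact (cancel_mono (e.hom⟦i⟧' ≫ (shiftFunctorAdd' (Dual.D A) q i (q + i) rfl).inv.app K)).1
    (hk0.trans Limits.zero_comp.symm)

omit h in
theorem surj_of_iso (e : L ≅ K⟦q⟧) {i : ℤ} (hK : Surj ρ K (q + i)) : Surj ρ L i := by
  intro j h t
  let P : (K ⟶ ω⟦j - q⟧) →ₗ[A] (L ⟶ ω⟦j⟧) :=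
    { toFun := fun φ => ShiftedHom.comp e.hom φ (by omega)
      map_add' := fun φ ψ => ShiftedHom.comp_add (e.hom : ShiftedHom L K q) φ ψ _
      map_smul' := fun a φ => ShiftedHom.comp_smul a (e.hom : ShiftedHom L K q) φ _ }
  obtain ⟨n, y, hy⟩ := hK (j - q) (by omega) (t ∘ₗ P)
  let σ := e.hom⟦i⟧' ≫ (shiftFunctorAdd' (Dual.D A) q i (q + i) rfl).inv.app K
  refine ⟨n, y ≫ inv σ, fun ψ => ?_⟩
  obtain ⟨φ, rfl⟩ : ∃ φ, P φ = ψ := by
    obtain ⟨φ, hφ⟩ := (shiftFunctor (Dual.D A) q).map_surjective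
      (e.inv ≫ ψ ≫ (shiftFunctorAdd' (Dual.D A) (j - q) q j (by omega)).hom.app ω)
    refine ⟨φ, ?_⟩
    show e.hom ≫ φ⟦q⟧' ≫ _ = ψ
    rw [hφ]
    simp
  refine Eq.trans ?_ (hy φ)
  refine congrArg (ρ.toFun n) ?_
  have e' : ShiftedHom.comp (y ≫ inv σ : ShiftedHom (Nn A n) L i) e.hom (rfl : q + i = q + i) = y := by
    show (y ≫ inv σ) ≫ σ = y
    simp
  conv_rhs => rw [← e']
  exact (ShiftedHom.comp_assoc (y ≫ inv σ : ShiftedHom (Nn A n) L i) e.hom φ (a₁₂ := q + i) (a₂₃ := j)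
    rfl (by omega) (by omega)).symm

end Transfer

section Module

variable [IsNoetherianRing A] (hω : Dual.IsDualizing A ω) (hn : Dual.IsNormalized A ω)
  {f₀ : IsLocalRing.ResidueField A →ₗ[A] E₀} (hf₀ : InjHull.IsInjectiveHull f₀)
  (M : Type u) [AddCommGroup M] [Module A M] [Module.Finite A M]
include hω hn hf₀

omit h in
theorem inj_module (i : ℤ) : Inj ρ (Dual.inD A M) i := by
  intro n x hx
  rcases lt_or_ge i 0 with hi | hi
  · haveI : ((Dual.inD A M)⟦i⟧).IsGE (-i) := (ts A).isGE_shift _ 0 i (-i) (by omega)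
    exact ⟨n, le_rfl, by rw [show x = 0 from (ts A).zero x 0 (-i) (by omega), Limits.comp_zero]⟩
  · lift i to ℕ using hi
    obtain ⟨y, rfl⟩ := Ext.homEquiv.surjective x
    have h0 : LocCoh.cls (M := M) n i y = 0 :=
      (dualMap_bijective ρ hω hn hf₀ i M).1 (LinearMap.ext fun φ => by
        rw [dualMap_cls, map_zero, LinearMap.zero_apply]
        exact hx _ (by omega) φ)
    obtain ⟨k, hk, hk0⟩ := (LocCoh.cls_eq_zero_iff y).1 h0
    refine ⟨k, hk, ?_⟩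
    have := congrArg Ext.hom hk0
    rw [Ext.comp_hom, Ext.mk₀_hom, ShiftedHom.mk₀_comp, Ext.zero_hom] at this
    exact this

omit h in
theorem surj_module (i : ℤ) : Surj ρ (Dual.inD A M) i := by
  rcases lt_or_ge i 0 with hi | hi
  · exact surj_of_subsingleton ρ fun j hj => subsingleton_of_pos hω hn M j (by omega)
  · lift i to ℕ using hi
    intro j h t
    obtain rfl : j = -(i : ℤ) := by omega
    obtain ⟨a, ha⟩ := (dualMap_bijective ρ hω hn hf₀ i M).2 t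
    obtain ⟨n, y, rfl⟩ := LocCoh.exists_cls a
    exact ⟨n, y.hom, fun φ => (dualMap_cls ρ n i y φ).symm.trans (LinearMap.congr_fun ha φ)⟩

end Module

end Groth.Agent.DualLib.CxDuality
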