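import Groth.Agent.DualLib.CxDuality
import Groth.Agent.DualLib.InjAmp
import Groth.Agent.DualLib.Biduality

/-! Local duality for complexes with finite cohomology. -/

set_option autoImplicit false
set_option backward.isDefEq.respectTransparency false
set_option backward.defeqAttrib.useBackward true
set_option linter.style.haveILetI false

universe u

open CategoryTheory CategoryTheory.Limits CategoryTheory.Pretriangulated CategoryTheory.Abelian DerivedCategory

attribute [local instance] HasDerivedCategory.standard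

namespace Groth.Agent.DualLib.CxDuality

variable {A : Type u} [CommRing A] [IsLocalRing A] [IsNoetherianRing A]

omit [IsLocalRing A] in
/-- Maps out of a finite module into an object far to the left factor through high syzygies. -/
theorem exists_factor (Y : Dual.D A) (a₀ : ℤ) [Y.IsLE a₀] : ∀ (l : ℕ) (M : Type u) [AddCommGroup M] [Module A M]
    [Module.Finite A M] (m : ℤ), a₀ + l ≤ m → ∀ χ : Dual.inD A M ⟶ Y⟦m⟧,
    ∃ (P : ModuleCat.{u} A) (e : Ext (ModuleCat.of A M) P l) (p : ℤ) (hp : p + (l : ℤ) = m)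
      (ψ : (S0 A).obj P ⟶ Y⟦p⟧), Module.Finite A P ∧ ShiftedHom.comp e.hom ψ hp = χ := by
  intro l
  induction l with
  | zero =>
    intro M _ _ _ m _ χ
    refine ⟨ModuleCat.of A M, Ext.mk₀ (𝟙 _), m, by simp, χ, ‹_›, ?_⟩
    simp [Ext.mk₀_hom]
  | succ l ih =>
    intro M _ _ _ m hm χ
    obtain ⟨k, g, hg⟩ := Module.Finite.exists_fin' A M
    haveI : Module.Finite A (LinearMap.ker g) := Module.Finite.of_fg (IsNoetherian.noetherian _)
    let Ω := LinearMap.ker g
    let T := (shortExact (A := A) (f := Ω.subtype) (g := g) Ω.injective_subtype hg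
      (LinearMap.exact_subtype_ker_map g)).singleTriangle
    have hT : T ∈ distinguishedTriangles := ShortComplex.ShortExact.singleTriangle_distinguished _
    haveI : Projective (ModuleCat.of A (Fin k → A)) := ModuleCat.projective_of_categoryTheory_projective _
    haveI : (Y⟦m⟧).IsLE (a₀ - m) := (ts A).isLE_shift Y a₀ m (a₀ - m) (by omega)
    have h0 : pre Y T.mor₂ m χ = 0 := by
      apply (DCat.ProjHomology.bijective_toH (ModuleCat.of A (Fin k → A)) (Y⟦m⟧)).1
      exact (isZero_of_isLE (Y⟦m⟧) (a₀ - m) 0 (by push_cast at hm; omega)).eq_of_tgt _ _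
    obtain ⟨ψ₁, hψ₁⟩ := (exact_delta_pre (W := Y) T hT (m - 1) m (by omega) χ).1 h0
    obtain ⟨P, e, p, hp, ψ, hP, he⟩ := ih Ω (m - 1) (by push_cast at hm; omega) ψ₁
    let S := shortExact (A := A) (f := Ω.subtype) (g := g) Ω.injective_subtype hg
      (LinearMap.exact_subtype_ker_map g)
    refine ⟨P, S.extClass.comp e (add_comm 1 l), p, by push_cast; omega, ψ, hP, ?_⟩
    rw [Ext.comp_hom]
    refine (ShiftedHom.comp_assoc S.extClass.hom e.hom ψ (a₁₂ := ((l + 1 : ℕ) : ℤ)) (a₂₃ := m - 1)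
      (by push_cast; omega) (by omega) (by push_cast; omega)).trans ?_
    rw [he, ← hψ₁]
    show _ = T.mor₃ ≫ _
    rw [ShortComplex.ShortExact.extClass_hom]
    rfl

theorem exists_dies_bound : ∃ D : ℕ, ∀ (Y : Dual.D A) (a₀ : ℤ), Y.IsLE a₀ → ∀ (i : ℤ), a₀ + D ≤ i →
    ∀ (n : ℕ) (x : Nn A n ⟶ Y⟦i⟧), Dies x := by
  obtain ⟨r, hr⟩ := LocCoh.exists_cdLE (R := A) (I := IsLocalRing.maximalIdeal A)
  refine ⟨r + 1, fun Y a₀ hY i hi n x => ?_⟩
  obtain ⟨P, e, p, hp, ψ, -, he⟩ := exists_factor Y a₀ (r + 1) (N A n) i hi x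
  have h0 : LocCoh.cls (M := P) n (r + 1) e = 0 :=
    (hr P (r + 1) (Nat.lt_succ_self r)).elim _ _
  obtain ⟨k, hk, hk0⟩ := (LocCoh.cls_eq_zero_iff _).1 h0
  refine ⟨k, hk, ?_⟩
  have h1 := congrArg Ext.hom hk0
  rw [Ext.comp_hom, Ext.mk₀_hom, ShiftedHom.mk₀_comp, Ext.zero_hom] at h1
  rw [← he]
  refine (comp_comp (qm A hk) e.hom ψ _).symm.trans ?_
  rw [show (qm A hk ≫ e.hom : ShiftedHom (Nn A k) ((S0 A).obj P) ((r + 1 : ℕ) : ℤ)) = 0 from h1,
    ShiftedHom.zero_comp]

variable {ω : Dual.D A} {E₀ : Type u} [AddCommGroup E₀] [Module A E₀] (ρ : DualSystem ω E₀)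
  (hω : Dual.IsDualizing A ω) (hn : Dual.IsNormalized A ω)
  {f₀ : IsLocalRing.ResidueField A →ₗ[A] E₀} (hf₀ : InjHull.IsInjectiveHull f₀)
include hω hn hf₀

theorem stat_bounded : ∀ (n : ℕ) (c : ℤ) (X : Dual.D A), X.IsGE c → X.IsLE (c + n - 1) →
    (∀ q, Module.Finite A (Dual.HD A X q)) → ∀ i : ℤ, Inj ρ X i ∧ Surj ρ X i := by
  haveI : Module.Injective A E₀ := hf₀.isInjective
  intro n
  induction n with
  | zero =>
    intro c X hge hle _ i
    have h0 := (ts A).isZero X (c + (0 : ℕ) - 1) c (by omega)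
    exact ⟨inj_of_dies ρ fun m x => ⟨m, le_rfl, ((shiftFunctor (Dual.D A) i).map_isZero h0).eq_of_tgt _ _⟩,
      surj_of_subsingleton ρ fun j _ => isZero_hom ω h0 j⟩
  | succ n ih =>
    intro c X hge hle hX i
    haveI h₁ : (((ts A).truncLT (c + n)).obj X).IsLE (c + n - 1) := (ts A).isLE_truncLT_obj _ _ _ (by omega)
    haveI : (((ts A).truncLT (c + n)).obj X).IsGE c := inferInstance
    have hL : ∀ i, Inj ρ (((ts A).truncLT (c + n)).obj X) i ∧ Surj ρ (((ts A).truncLT (c + n)).obj X) i := by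
      refine ih c _ inferInstance h₁ (fun q => ?_)
      rcases lt_or_ge q (c + n) with hq | hq
      · haveI := hX q
        exact Module.Finite.equiv (hTruncLT X (c + n) q hq).symm
      · haveI := ModuleCat.subsingleton_of_isZero
          (isZero_of_isLE (((ts A).truncLT (c + n)).obj X) (c + n - 1) q (by omega))
        infer_instance
    haveI : X.IsLE (c + n) := by
      have : c + ((n + 1 : ℕ) : ℤ) - 1 = c + n := by push_cast; omega
      exact this ▸ hle
    haveI : (((ts A).truncGE (c + n)).obj X).IsGE (c + n) := inferInstance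
    haveI : (((ts A).truncGE (c + n)).obj X).IsLE (c + n) := inferInstance
    obtain ⟨e⟩ := exists_single_iso (((ts A).truncGE (c + n)).obj X) (c + n)
    let M := Dual.HD A (((ts A).truncGE (c + n)).obj X) (c + n)
    haveI : Module.Finite A M :=
      haveI := hX (c + n)
      Module.Finite.equiv (hTruncGE X (c + n) (c + n) le_rfl)
    let e' : ((ts A).truncGE (c + n)).obj X ≅ (Dual.inD A M)⟦-(c + n)⟧ :=
      e.symm ≪≫ (((singleFunctors (ModuleCat.{u} A)).shiftIso (-(c + n)) (c + n) 0 (by omega)).app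
        (ModuleCat.of A M)).symm
    have hU : ∀ i, Inj ρ (((ts A).truncGE (c + n)).obj X) i ∧ Surj ρ (((ts A).truncGE (c + n)).obj X) i :=
      fun i => ⟨inj_of_iso ρ e' (inj_module ρ hω hn hf₀ M _), surj_of_iso ρ e' (surj_module ρ hω hn hf₀ M _)⟩
    let T := ((ts A).triangleLTGE (c + n)).obj X
    exact ⟨inj_mid ρ T ((ts A).triangleLTGE_distinguished _ X) (hL i).1 (hU i).1 (hU (i - 1)).2,
      surj_mid ρ T ((ts A).triangleLTGE_distinguished _ X) (hL i).2 (hL (i + 1)).1 (hU i).2⟩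

theorem stat_boundedBelow (Y : Dual.D A) (c : ℤ) [Y.IsGE c] (hY : ∀ q, Module.Finite A (Dual.HD A Y q)) (i : ℤ) :
    Inj ρ Y i ∧ Surj ρ Y i := by
  haveI : Module.Injective A E₀ := hf₀.isInjective
  obtain ⟨a, b, hab⟩ := exists_injAmplitude hω
  let d := max c (max (i + 1) (b + i + 1)) + 1
  let T := ((ts A).triangleLTGE d).obj Y
  have hT : T ∈ distinguishedTriangles := (ts A).triangleLTGE_distinguished d Y
  haveI : (((ts A).truncLT d).obj Y).IsGE c := inferInstance
  haveI h₁ : (((ts A).truncLT d).obj Y).IsLE (d - 1) := (ts A).isLE_truncLT_obj _ _ _ (by omega)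
  have hV : ∀ i, Inj ρ (((ts A).truncLT d).obj Y) i ∧ Surj ρ (((ts A).truncLT d).obj Y) i := by
    refine stat_bounded ρ hω hn hf₀ (d - c).toNat c _ inferInstance ((ts A).isLE_of_le _ (d - 1) _ (by omega))
      (fun q => ?_)
    rcases lt_or_ge q d with hq | hq
    · haveI := hY q
      exact Module.Finite.equiv (hTruncLT Y d q hq).symm
    · haveI := ModuleCat.subsingleton_of_isZero
        (isZero_of_isLE (((ts A).truncLT d).obj Y) (d - 1) q (by omega))
      infer_instance
  have hUd : ∀ (n : ℕ) (x : Nn A n ⟶ T.obj₃⟦i⟧), Dies x := fun n x => by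
    haveI : (T.obj₃).IsGE d := inferInstanceAs ((((ts A).truncGE d).obj Y).IsGE d)
    haveI : (T.obj₃⟦i⟧).IsGE (d - i) := (ts A).isGE_shift _ d i (d - i) (by omega)
    exact ⟨n, le_rfl, by rw [show x = 0 from (ts A).zero x 0 (d - i) (by omega), Limits.comp_zero]⟩
  have hUs : ∀ i' : ℤ, i' ≤ i → Surj ρ T.obj₃ i' := fun i' hi' => by
    haveI : (T.obj₃).IsGE d := inferInstanceAs ((((ts A).truncGE d).obj Y).IsGE d)
    exact surj_of_subsingleton ρ fun j hj => subsingleton_hom_of_isGE hab _ d j (by omega)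
  exact ⟨inj_mid ρ T hT (hV i).1 (inj_of_dies ρ hUd) (hUs _ (by omega)),
    surj_mid ρ T hT (hV i).2 (hV (i + 1)).1 (hUs i le_rfl)⟩

/-- **Local duality** for an object with finite cohomology. -/
theorem stat (K : Dual.D A) (hK : ∀ q, Module.Finite A (Dual.HD A K q)) (i : ℤ) : Inj ρ K i ∧ Surj ρ K i := by
  haveI : Module.Injective A E₀ := hf₀.isInjective
  obtain ⟨a, b, hab⟩ := exists_injAmplitude hω
  obtain ⟨D, hD⟩ := exists_dies_bound (A := A)
  let c := min (a + i) (i - D)
  let T := ((ts A).triangleLTGE c).obj K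
  have hT : T ∈ distinguishedTriangles := (ts A).triangleLTGE_distinguished c K
  haveI hle : (T.obj₁).IsLE (c - 1) := (ts A).isLE_truncLT_obj _ _ _ (by omega)
  have hY : ∀ i, Inj ρ T.obj₃ i ∧ Surj ρ T.obj₃ i := by
    haveI : (T.obj₃).IsGE c := inferInstanceAs ((((ts A).truncGE c).obj K).IsGE c)
    refine stat_boundedBelow ρ hω hn hf₀ _ c fun q => ?_
    rcases lt_or_ge q c with hq | hq
    · haveI := ModuleCat.subsingleton_of_isZero (isZero_of_isGE T.obj₃ c q hq)
      infer_instance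
    · haveI := hK q
      exact Module.Finite.equiv (hTruncGE K c q hq)
  refine ⟨inj_mid ρ T hT (inj_of_dies ρ (hD _ _ hle i (by omega))) (hY i).1 (hY (i - 1)).2,
    surj_mid ρ T hT (surj_of_subsingleton ρ fun j hj => subsingleton_hom_of_isLE hab _ (c - 1) j (by omega))
      (inj_of_dies ρ (hD _ _ hle (i + 1) (by omega))) (hY i).2⟩

end Groth.Agent.DualLib.CxDuality
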