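import Groth.Agent.DualLib.DbLocal
import Groth.Agent.DualLib.Biduality
import Groth.Agent.DCat.DTenEval

/-! Linear autoequivalences of `D^b_coh(A)` send `A` to an invertible object. -/

set_option autoImplicit false
set_option backward.isDefEq.respectTransparency false
set_option backward.defeqAttrib.useBackward true
set_option linter.style.haveILetI false
set_option linter.unusedSectionVars false

universe u

open CategoryTheory CategoryTheory.Limits CategoryTheory.Pretriangulated DerivedCategory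

attribute [local instance] HasDerivedCategory.standard

namespace Groth.Agent.DualLib

open Groth.Agent.DCat

variable {A : Type u} [CommRing A]

/-- Projectivity from the local structure. -/
theorem projective_of_killed [IsNoetherianRing A] (M : Type u) [AddCommGroup M] [Module A M] [Module.Finite A M]
    (h : ∀ m : Ideal A, m.IsMaximal → Killed m M ∨
      ∃ (g : A →ₗ[A] M) (a : A), a ∉ m ∧ (∀ r, g r = 0 → a • r = 0) ∧ ∀ y, ∃ r, g r = a • y) :
    Module.Projective A M := by
  haveI : Module.FinitePresentation A M := Module.finitePresentation_of_finite A M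
  refine Module.projective_of_localization_maximal fun m hm => ?_
  rcases h m hm with ⟨a, ha, hkill⟩ | ⟨g, a, ha, hg₁, hg₂⟩
  · haveI : Subsingleton (LocalizedModule m.primeCompl M) :=
      LocalizedModule.subsingleton_iff.2 fun x => ⟨a, ha, hkill x⟩
    infer_instance
  · have hbij : Function.Bijective (LocalizedModule.map m.primeCompl g) := by
      constructor
      · rw [injective_iff_map_eq_zero]
        intro x hx
        induction x using LocalizedModule.induction_on with
        | h x s =>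
          rw [LocalizedModule.map_mk, ← LocalizedModule.zero_mk 1, LocalizedModule.mk_eq] at hx
          obtain ⟨t, ht⟩ := hx
          have ht' : g ((t : A) • x) = 0 := by
            rw [map_smul]
            simpa [Submonoid.smul_def] using ht
          rw [← LocalizedModule.zero_mk 1, LocalizedModule.mk_eq]
          refine ⟨⟨a, ha⟩ * t, ?_⟩
          have := hg₁ _ ht'
          simpa [Submonoid.smul_def, mul_smul, mul_assoc] using this
      · intro y
        induction y using LocalizedModule.induction_on with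
        | h y s =>
          obtain ⟨r, hr⟩ := hg₂ y
          refine ⟨LocalizedModule.mk r (⟨a, ha⟩ * s), ?_⟩
          rw [LocalizedModule.map_mk, hr]
          exact LocalizedModule.mk_cancel_common_left ⟨a, ha⟩ s y
    exact Module.Projective.of_equiv (LinearEquiv.ofBijective _ hbij)

/-- Bounded with finite projective cohomology is perfect. -/
theorem perfect_of_projective_homology :
    ∀ (n : ℕ) (K : Dual.D A) (a : ℤ), K.IsGE a → K.IsLE (a - 1 + n) →
      (∀ i, Module.Finite A (Dual.HD A K i)) → (∀ i, Module.Projective A (Dual.HD A K i)) →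
      DRing.IsPerfect A K := by
  intro n
  induction n with
  | zero =>
    intro K a ha hb _ _
    have hz : IsZero K := (ts A).isZero K (a - 1 + ((0 : ℕ) : ℤ)) a (by omega)
    haveI : Projective (ModuleCat.of A PUnit.{u + 1}) := (IsProjective.iff_projective (R := A) _).1 inferInstance
    exact DRingLib.perfect_of_iso
      (((S0 A).map_isZero (ModuleCat.isZero_of_subsingleton (ModuleCat.of A PUnit.{u + 1}))).iso hz)
      (DRingLib.perfect_inD_projective PUnit.{u + 1})
  | succ n ih =>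
    intro K a ha hb hf hp
    let b : ℤ := a + n
    haveI : K.IsLE b := by rwa [show b = a - 1 + ((n + 1 : ℕ) : ℤ) by simp only [b]; omega]
    haveI : (((ts A).truncLT b).obj K).IsLE (b - 1) := (ts A).isLE_truncLT_obj _ _ _ (by omega)
    haveI : (((ts A).truncLT b).obj K).IsGE a := inferInstance
    haveI : (((ts A).truncGE b).obj K).IsLE b := inferInstance
    haveI : (((ts A).truncGE b).obj K).IsGE b := inferInstance
    refine DRingLib.perfect_ext ((ts A).triangleLTGE_distinguished b K) (ih _ a ‹_› ?_ (fun i => ?_) fun i => ?_) ?_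
    · exact (ts A).isLE_of_le _ (b - 1) _ (by omega)
    · rcases lt_or_ge i b with hi | hi
      · haveI := hf i
        exact Module.Finite.equiv (hTruncLT K b i hi).symm
      · haveI := ModuleCat.subsingleton_of_isZero (isZero_of_isLE (((ts A).truncLT b).obj K) (b - 1) i (by omega))
        exact inferInstanceAs (Module.Finite A ((homologyFunctor (ModuleCat.{u} A) i).obj (((ts A).truncLT b).obj K)))
    · rcases lt_or_ge i b with hi | hi
      · haveI := hp i
        exact Module.Projective.of_equiv (hTruncLT K b i hi).symm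
      · haveI := ModuleCat.subsingleton_of_isZero (isZero_of_isLE (((ts A).truncLT b).obj K) (b - 1) i (by omega))
        exact inferInstanceAs (Module.Projective A ((homologyFunctor (ModuleCat.{u} A) i).obj (((ts A).truncLT b).obj K)))
    · obtain ⟨e⟩ := exists_single_iso (((ts A).truncGE b).obj K) b
      haveI := hf b
      haveI := hp b
      haveI : Module.Finite A (Dual.HD A (((ts A).truncGE b).obj K) b) := Module.Finite.equiv (hTruncGE K b b le_rfl)
      haveI : Module.Projective A (Dual.HD A (((ts A).truncGE b).obj K) b) :=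
        Module.Projective.of_equiv (hTruncGE K b b le_rfl)
      exact DRingLib.perfect_of_iso (((singleFunctors (ModuleCat.{u} A)).shiftIso (-b) b 0 (by omega)).app _ ≪≫ e)
        (DRingLib.perfect_shift
          (DRingLib.perfect_inD_projective (Dual.HD A (((ts A).truncGE b).obj K) b)) (-b))

/-- An object with the Hom-properties of a residue field is one up to shift. -/
theorem exists_degree_of_residue_like {m : Ideal A} [hm : m.IsMaximal] (Q : Dual.D A) (a b : ℤ) [Q.IsGE a] [Q.IsLE b]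
    (hfin : ∀ i, Module.Finite A (Dual.HD A Q i)) (hkill : ∀ c ∈ m, c • 𝟙 Q = 0)
    (hneg : ∀ i : ℤ, i < 0 → Subsingleton (Q ⟶ Q⟦i⟧)) (hscal : ∀ f : Q ⟶ Q, ∃ c : A, f = c • 𝟙 Q)
    (hne : ¬ IsZero Q) :
    ∃ s : ℤ, (∀ i, i ≠ s → Subsingleton (Dual.HD A Q i)) ∧ Nonempty (Dual.HD A Q s ≃ₗ[A] A ⧸ m) := by
  classical
  have hmk : ∀ (i : ℤ) (c : A), c ∈ m → ∀ x : Dual.HD A Q i, c • x = 0 := fun i c hc x => by
    have h := congrArg (fun f => ((homologyFunctor (ModuleCat.{u} A) i).map f).hom x) (hkill c hc)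
    simp only [Functor.map_zero, DCat.DC.homologyFunctor_map_smul_id] at h
    exact h
  let S := (Finset.Icc a b).filter fun i => Nontrivial (Dual.HD A Q i)
  have hout : ∀ i, i ∉ S → Subsingleton (Dual.HD A Q i) := fun i hi => by
    simp only [S, Finset.mem_filter, Finset.mem_Icc, not_and, not_nontrivial_iff_subsingleton] at hi
    by_cases h : a ≤ i ∧ i ≤ b
    · exact hi h
    · rcases lt_or_ge i a with h' | h'
      · exact (DRingLib.isGE_iff_HD Q a).1 inferInstance i h'
      · exact (DRingLib.isLE_iff_HD Q b).1 inferInstance i (by omega)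
  have hS : S.Nonempty := by
    by_contra hc
    rw [Finset.not_nonempty_iff_eq_empty] at hc
    exact hne (DCat.SuppOpen.isZero_of_hd Q fun i =>
      haveI := hout i (by simp [hc])
      ModuleCat.isZero_of_subsingleton _)
  let a₀ := S.min' hS
  let b₀ := S.max' hS
  haveI : Q.IsGE a₀ := (DRingLib.isGE_iff_HD Q a₀).2 fun i hi => hout i fun h => by
    have := S.min'_le i h
    omega
  haveI : Q.IsLE b₀ := (DRingLib.isLE_iff_HD Q b₀).2 fun i hi => hout i fun h => by
    have := S.le_max' i h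
    omega
  have hk : IsSimpleModule A (A ⧸ m) := isSimpleModule_iff_quot_maximal.2 ⟨m, hm, ⟨LinearEquiv.refl A _⟩⟩
  have hproj : ∀ i ∈ S, ∃ f : Dual.HD A Q i →ₗ[A] A ⧸ m, Function.Surjective f := fun i hi => by
    haveI := hfin i
    haveI : Nontrivial (Dual.HD A Q i) := (Finset.mem_filter.1 hi).2
    obtain ⟨f, hf⟩ : ∃ f : Dual.HD A Q i →ₗ[A] A ⧸ m, f ≠ 0 := by
      by_contra! hc
      obtain ⟨c, hc₁, hc₂⟩ := killed_of_hom_residue _ hc
      obtain ⟨y, j, hj, hyj⟩ := Ideal.IsMaximal.exists_inv hm hc₁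
      obtain ⟨x, hx⟩ := exists_ne (0 : Dual.HD A Q i)
      refine hx ?_
      calc x = (y * c + j) • x := by rw [hyj, one_smul]
        _ = 0 := by rw [add_smul, mul_smul, hc₂, smul_zero, hmk i j hj, add_zero]
    exact ⟨f, LinearMap.surjective_of_ne_zero hf⟩
  have hinc : ∀ i ∈ S, ∃ f : A ⧸ m →ₗ[A] Dual.HD A Q i, f ≠ 0 := fun i hi => by
    haveI : Nontrivial (Dual.HD A Q i) := (Finset.mem_filter.1 hi).2
    obtain ⟨y, hy⟩ := exists_ne (0 : Dual.HD A Q i)
    refine ⟨Submodule.liftQ m (LinearMap.toSpanSingleton A _ y) fun c hc => hmk i c hc y, fun h => hy ?_⟩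
    have h' := LinearMap.congr_fun h (Submodule.Quotient.mk 1)
    rw [Submodule.liftQ_apply] at h'
    simpa using h'
  have heq : a₀ = b₀ := by
    by_contra hab
    have hlt : a₀ < b₀ := lt_of_le_of_ne (S.min'_le_max' hS) hab
    haveI := hneg (a₀ - b₀) (by omega)
    haveI : Subsingleton ((𝟭 (Dual.D A)).obj Q ⟶ Q⟦a₀ - b₀⟧) := ‹_›
    haveI : Subsingleton (((ts A).truncGE b₀).obj Q ⟶ Q⟦a₀ - b₀⟧) := by
      refine (injective_pre_truncGE (W := Q) Q b₀ (a₀ - b₀) ?_).subsingleton
      haveI : (((ts A).truncLT b₀).obj Q).IsLE (b₀ - 1) := (ts A).isLE_truncLT_obj _ _ _ (by omega)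
      haveI : (Q⟦a₀ - b₀ - 1⟧).IsGE (b₀ + 1) := (ts A).isGE_shift Q a₀ (a₀ - b₀ - 1) (b₀ + 1) (by omega)
      exact subsingleton_of_forall_eq 0 fun φ => (ts A).zero φ (b₀ - 1) (b₀ + 1) (by omega)
    obtain ⟨eR⟩ := exists_single_iso (((ts A).truncGE b₀).obj Q) b₀
    haveI := (homCongr Q eR (a₀ - b₀)).symm.injective.subsingleton
    haveI hE := (singleHom Q (ModuleCat.of A (Dual.HD A (((ts A).truncGE b₀).obj Q) b₀)) b₀ (a₀ - b₀) a₀
      (by omega)).symm.injective.subsingleton
    let T := ((ts A).truncLT (a₀ + 1)).obj Q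
    haveI : T.IsLE a₀ := (ts A).isLE_truncLT_obj _ _ _ (by omega)
    haveI : T.IsGE a₀ := inferInstance
    obtain ⟨eT⟩ := exists_single_iso T a₀
    obtain ⟨f, hf⟩ := hproj b₀ (S.max'_mem hS)
    obtain ⟨f', hf'⟩ := hinc a₀ (S.min'_mem hS)
    let g : Dual.HD A (((ts A).truncGE b₀).obj Q) b₀ →ₗ[A] Dual.HD A T a₀ :=
      (hTruncLT Q (a₀ + 1) a₀ (by omega)).symm.toLinearMap ∘ₗ f' ∘ₗ f ∘ₗ (hTruncGE Q b₀ b₀ le_rfl).symm.toLinearMap
    have hg : g ≠ 0 := fun h => hf' (LinearMap.ext fun z => by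
      obtain ⟨z, rfl⟩ := hf z
      have h' := LinearMap.congr_fun h (hTruncGE Q b₀ b₀ le_rfl z)
      simp only [g, LinearMap.comp_apply, LinearEquiv.coe_coe, LinearEquiv.symm_apply_apply, LinearMap.zero_apply] at h'
      simpa using (LinearEquiv.map_eq_zero_iff _).1 h')
    let ψ : (singleFunctor (ModuleCat.{u} A) a₀).obj (ModuleCat.of A (Dual.HD A (((ts A).truncGE b₀).obj Q) b₀)) ⟶ T :=
      (singleFunctor (ModuleCat.{u} A) a₀).map (ModuleCat.ofHom g) ≫ eT.hom
    have h0 : ψ ≫ ((ts A).truncLTι (a₀ + 1)).app Q = 0 := by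
      apply (shiftFunctor (Dual.D A) a₀).map_injective
      rw [Functor.map_zero, ← cancel_epi (((singleFunctors (ModuleCat.{u} A)).shiftIso a₀ 0 a₀ (by omega)).app
        (ModuleCat.of A (Dual.HD A (((ts A).truncGE b₀).obj Q) b₀))).inv]
      exact (Subsingleton.elim (α := E Q (Dual.HD A (((ts A).truncGE b₀).obj Q) b₀) a₀) _ _)
    have h1 : (homologyFunctor (ModuleCat.{u} A) a₀).map ψ = 0 := by
      have h2 := congrArg (homologyFunctor (ModuleCat.{u} A) a₀).map h0
      rw [Functor.map_comp, Functor.map_zero] at h2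
      haveI := DCat.mono_homology_truncLTι Q (a₀ + 1) a₀
      exact zero_of_comp_mono _ h2
    have h2 := DCat.eq_zero_of_homology_map_eq_zero ψ a₀ h1
    refine hg (congrArg ModuleCat.Hom.hom ((singleFunctor (ModuleCat.{u} A) a₀).map_injective ?_ :
      ModuleCat.ofHom g = 0))
    rw [Functor.map_zero, ← cancel_mono eT.hom, zero_comp]
    exact h2
  refine ⟨a₀, fun i hi => hout i fun h => hi ?_, ?_⟩
  · have := S.min'_le i h
    have := S.le_max' i h
    omega
  · haveI : Q.IsLE a₀ := heq ▸ ‹Q.IsLE b₀›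
    obtain ⟨e⟩ := exists_single_iso Q a₀
    let V := Dual.HD A Q a₀
    have hV : ∀ h : V →ₗ[A] V, ∃ c : A, ∀ v, h v = c • v := fun h => by
      obtain ⟨c, hc⟩ := hscal (e.inv ≫ (singleFunctor (ModuleCat.{u} A) a₀).map (ModuleCat.ofHom h) ≫ e.hom)
      have h1 : (singleFunctor (ModuleCat.{u} A) a₀).map (ModuleCat.ofHom h) =
          c • 𝟙 ((singleFunctor (ModuleCat.{u} A) a₀).obj (ModuleCat.of A V)) := by
        rw [← cancel_epi e.inv, ← cancel_mono e.hom, Category.assoc, hc]
        rw [Linear.comp_smul, Category.comp_id, Linear.smul_comp, Iso.inv_hom_id]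
      have h2 := NatIso.naturality_1 (singleFunctorCompHomologyFunctorIso (ModuleCat.{u} A) a₀) (ModuleCat.ofHom h)
      dsimp only [Functor.comp_map, Functor.id_map] at h2
      rw [h1, DCat.DC.homologyFunctor_map_smul_id] at h2
      refine ⟨c, fun v => ?_⟩
      have h3 := congrArg (fun t => t.hom v) h2
      simp at h3
      exact h3.symm
    obtain ⟨π, hπ⟩ := hproj a₀ (S.min'_mem hS)
    obtain ⟨v, hv⟩ := hπ 1
    let ι : A ⧸ m →ₗ[A] V := Submodule.liftQ m (LinearMap.toSpanSingleton A _ v) fun c hc => hmk a₀ c hc v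
    have hπι : ∀ z, π (ι z) = z := fun z => by
      obtain ⟨r, rfl⟩ := Submodule.mkQ_surjective m z
      show π (Submodule.liftQ m _ _ (Submodule.Quotient.mk r)) = Submodule.Quotient.mk r
      rw [Submodule.liftQ_apply, LinearMap.toSpanSingleton_apply, map_smul, hv, Algebra.smul_def, mul_one]
      rfl
    obtain ⟨c, hc⟩ := hV (ι ∘ₗ π)
    refine ⟨LinearEquiv.ofBijective π ⟨(injective_iff_map_eq_zero π).2 fun w hw => ?_, hπ⟩⟩
    have hcm : c ∉ m := fun hcm => by
      have h := hc v
      rw [hmk a₀ c hcm v] at h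
      have h' := congrArg π h
      rw [LinearMap.comp_apply, hv, hπι, map_zero] at h'
      exact hm.ne_top ((m.eq_top_iff_one).2 (Ideal.Quotient.eq_zero_iff_mem.1 h'))
    have hw0 : c • w = 0 := by rw [← hc w, LinearMap.comp_apply, hw, map_zero]
    obtain ⟨y, j, hj, hyj⟩ := Ideal.IsMaximal.exists_inv hm hcm
    calc w = (y * c + j) • w := by rw [hyj, one_smul]
      _ = 0 := by rw [add_smul, mul_smul, hw0, smul_zero, hmk a₀ j hj, add_zero]

/-- `Hom(X, W⟦i⟧) = Hom(X⟦n⟧, W⟦i + n⟧)`. -/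
noncomputable def homShiftBoth (X W : Dual.D A) (n i j : ℤ) (h : i + n = j) :
    (X ⟶ W⟦i⟧) ≃ₗ[A] (X⟦n⟧ ⟶ W⟦j⟧) :=
  LinearEquiv.ofBijective
    { toFun := fun f => f⟦n⟧' ≫ (shiftFunctorAdd' (Dual.D A) i n j h).inv.app W
      map_add' := fun φ ψ => by simp
      map_smul' := fun a φ => by
        rw [Functor.map_smul, Linear.smul_comp]
        rfl }
    (by
      have h2 := ((Iso.refl (X⟦n⟧)).homCongr ((shiftFunctorAdd' (Dual.D A) i n j h).app W).symm).bijective.comp
        ((Functor.FullyFaithful.ofFullyFaithful (shiftFunctor (Dual.D A) n)).map_bijective X (W⟦i⟧))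
      convert h2 using 1
      ext f
      simp [Iso.homCongr])

section Equiv

variable {P : ObjectProperty (Dual.D A)} [P.IsTriangulated] (F : P.FullSubcategory ⥤ P.FullSubcategory)
  [F.CommShift ℤ] [F.IsTriangulated] [F.IsEquivalence] [F.Additive] [F.Linear A]

/-- Full faithfulness as a linear equivalence on the ambient Hom-modules. -/
noncomputable def fEquiv (K L : P.FullSubcategory) : (K.obj ⟶ L.obj) ≃ₗ[A] ((F.obj K).obj ⟶ (F.obj L).obj) :=
  LinearEquiv.ofBijective
    { toFun := fun f => (F.map (P.homMk f)).hom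
      map_add' := fun f g => congrArg (fun t => t.hom) (F.map_add (f := P.homMk f) (g := P.homMk g))
      map_smul' := fun c f => congrArg (fun t => t.hom) (F.map_smul c (P.homMk f)) }
    ⟨fun f g h => congrArg (fun t => t.hom) (F.map_injective (ObjectProperty.hom_ext _ h :
        F.map (P.homMk f) = F.map (P.homMk g))),
      fun y => ⟨(F.preimage (P.homMk y)).hom, congrArg (fun t => t.hom) (F.map_preimage (P.homMk y))⟩⟩

lemma fEquiv_id (K : P.FullSubcategory) : fEquiv F K K (𝟙 K.obj) = 𝟙 (F.obj K).obj :=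
  congrArg (fun t => t.hom) (F.map_id K)

/-- The same with a shift. -/
noncomputable def fEquivShift (K L : P.FullSubcategory) (i : ℤ) :
    (K.obj ⟶ L.obj⟦i⟧) ≃ₗ[A] ((F.obj K).obj ⟶ (F.obj L).obj⟦i⟧) :=
  Linear.homCongr A (Iso.refl K.obj) ((P.ι.commShiftIso i).app L).symm ≪≫ₗ fEquiv F K (L⟦i⟧) ≪≫ₗ
    Linear.homCongr A (Iso.refl (F.obj K).obj)
      (P.ι.mapIso ((F.commShiftIso i).app L) ≪≫ (P.ι.commShiftIso i).app (F.obj L))

variable [IsNoetherianRing A]
  (hP : ∀ K : Dual.D A, P K ↔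
    ((∀ i : ℤ, Module.Finite A (Dual.HD A K i)) ∧ ∃ a b : ℤ, ∀ i : ℤ, (i < a ∨ b < i) → Subsingleton (Dual.HD A K i)))
  (hA : P (DTen.unit A))

include hP in
lemma exists_bounds_of_P {K : Dual.D A} (hK : P K) : ∃ a b : ℤ, K.IsGE a ∧ K.IsLE b := by
  obtain ⟨-, a, b, h⟩ := (hP K).1 hK
  exact ⟨a, b, (DRingLib.isGE_iff_HD K a).2 fun i hi => h i (Or.inl hi),
    (DRingLib.isLE_iff_HD K b).2 fun i hi => h i (Or.inr hi)⟩

include hP in
/-- The maps from the image of `A` to a residue field. -/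
theorem exists_degree_hom (m : Ideal A) [hm : m.IsMaximal] :
    ∃ s : ℤ, (∀ i, i ≠ s → Subsingleton ((F.obj ⟨DTen.unit A, hA⟩).obj ⟶ (kM m)⟦i⟧)) ∧
      Nonempty (((F.obj ⟨DTen.unit A, hA⟩).obj ⟶ (kM m)⟦s⟧) ≃ₗ[A] A ⧸ m) := by
  have hk : P (kM m) := (hP _).2 ⟨fun i => by
      rcases eq_or_ne i 0 with rfl | hi
      · haveI : Module.Finite A ((𝟭 (ModuleCat.{u} A)).obj (ModuleCat.of A (A ⧸ m))) :=
          Module.Finite.quotient A m
        exact Module.Finite.equiv ((singleFunctorCompHomologyFunctorIso (ModuleCat.{u} A) 0).app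
          (ModuleCat.of A (A ⧸ m))).toLinearEquiv.symm
      · haveI := hd_single_subsingleton (A := A) (A ⧸ m) i hi
        infer_instance,
    0, 0, fun i hi => hd_single_subsingleton (A := A) (A ⧸ m) i (by omega)⟩
  let Q := F.objPreimage ⟨kM m, hk⟩
  let e : (F.obj Q).obj ≅ kM m := P.ι.mapIso (F.objObjPreimageIso ⟨kM m, hk⟩)
  let E₀ : (Q.obj ⟶ Q.obj) ≃ₗ[A] (kM m ⟶ kM m) := fEquiv F Q Q ≪≫ₗ Linear.homCongr A e e
  have hE₀ : E₀ (𝟙 Q.obj) = 𝟙 (kM m) := by
    show Linear.homCongr A e e (fEquiv F Q Q (𝟙 Q.obj)) = _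
    rw [fEquiv_id]
    simp [Linear.homCongr_apply]
  obtain ⟨a, b, ha, hb⟩ := exists_bounds_of_P hP Q.property
  obtain ⟨s, hs, ⟨es⟩⟩ := exists_degree_of_residue_like (m := m) Q.obj a b ((hP _).1 Q.property).1
    (fun c hc => E₀.injective (by
      rw [map_smul, hE₀, map_zero]
      have h : (c • 𝟙 (ModuleCat.of A (A ⧸ m))) = 0 := ModuleCat.hom_ext (LinearMap.ext fun x => by
        obtain ⟨x, rfl⟩ := Ideal.Quotient.mk_surjective x
        show c • Ideal.Quotient.mk m x = 0
        rw [Algebra.smul_def]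
        exact Ideal.Quotient.eq_zero_iff_mem.2 (m.mul_mem_right _ hc))
      have h1 := congrArg (S0 A).map h
      rw [Functor.map_smul, CategoryTheory.Functor.map_id, Functor.map_zero] at h1
      exact h1))
    (fun i hi => by
      haveI : Subsingleton (kM m ⟶ (kM m)⟦i⟧) := by
        haveI : ((kM m)⟦i⟧).IsGE (-i) := (ts A).isGE_shift (kM m) 0 i (-i) (by omega)
        exact subsingleton_of_forall_eq 0 fun φ => (ts A).zero φ 0 (-i) (by omega)
      exact (fEquivShift F Q Q i ≪≫ₗ Linear.homCongr A e ((shiftFunctor (Dual.D A) i).mapIso e)).injective.subsingleton)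
    (fun f => by
      obtain ⟨g, hg⟩ := (S0 A).map_surjective (E₀ f)
      obtain ⟨c, hc⟩ := Ideal.Quotient.mk_surjective (g.hom (Submodule.Quotient.mk 1))
      refine ⟨c, E₀.injective ?_⟩
      have hg' : g = c • 𝟙 (ModuleCat.of A (A ⧸ m)) := ModuleCat.hom_ext (LinearMap.ext fun x => by
        obtain ⟨x, rfl⟩ := Submodule.mkQ_surjective m x
        have hx : (m.mkQ x : A ⧸ m) = x • Submodule.Quotient.mk (1 : A) := by
          rw [← Submodule.Quotient.mk_smul m x (1 : A), smul_eq_mul, mul_one]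
          rfl
        rw [hx, map_smul, map_smul, ← hc]
        show x • Ideal.Quotient.mk m c = x • (c • Submodule.Quotient.mk (1 : A))
        rw [← Submodule.Quotient.mk_smul m c (1 : A), smul_eq_mul, mul_one]
        rfl)
      rw [map_smul, hE₀, ← hg, hg', Functor.map_smul, CategoryTheory.Functor.map_id])
    (fun hz => by
      have h : 𝟙 (kM m) = 0 := by rw [← hE₀, hz.eq_of_src (𝟙 Q.obj) 0, map_zero]
      have h' : 𝟙 (ModuleCat.of A (A ⧸ m)) = 0 := (S0 A).map_injective (by
        rw [CategoryTheory.Functor.map_id, Functor.map_zero]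
        exact h)
      have h'' := congrArg (fun t => t.hom (Submodule.Quotient.mk (1 : A))) h'
      exact hm.ne_top ((m.eq_top_iff_one).2 ((Submodule.Quotient.mk_eq_zero m).1 h'')))
  let key : ∀ i : ℤ, ((F.obj ⟨DTen.unit A, hA⟩).obj ⟶ (kM m)⟦i⟧) ≃ₗ[A] Dual.HD A Q.obj i := fun i =>
    Linear.homCongr A (Iso.refl _) ((shiftFunctor (Dual.D A) i).mapIso e.symm) ≪≫ₗ
      (fEquivShift F ⟨DTen.unit A, hA⟩ Q i).symm ≪≫ₗ eSelf Q.obj i
  exact ⟨s, fun i hi => haveI := hs i hi; (key i).injective.subsingleton, ⟨key s ≪≫ₗ es⟩⟩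

/-- Cohomology of a shift. -/
noncomputable def hdShift (X : Dual.D A) (n q r : ℤ) (h : n + q = r) :
    Dual.HD A (X⟦n⟧) q ≃ₗ[A] Dual.HD A X r :=
  (((DerivedCategory.homologyFunctor (ModuleCat.{u} A) 0).shiftIso n q r h).app X).toLinearEquiv

include hP in
theorem isPerfect_image : DRing.IsPerfect A (F.obj ⟨DTen.unit A, hA⟩).obj := by
  let X := (F.obj ⟨DTen.unit A, hA⟩).obj
  obtain ⟨a, b, ha, hb⟩ := exists_bounds_of_P hP (F.obj ⟨DTen.unit A, hA⟩).property
  have hfin := ((hP X).1 (F.obj ⟨DTen.unit A, hA⟩).property).1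
  refine perfect_of_projective_homology (b - a + 1).toNat X a ha ((ts A).isLE_of_le X b _ (by omega)) hfin fun i => ?_
  haveI := hfin i
  refine projective_of_killed _ fun m hm => ?_
  haveI := hm
  obtain ⟨s, hs, ⟨es⟩⟩ := exists_degree_hom F hP hA m
  haveI : (X⟦-s⟧).IsGE (a + s) := (ts A).isGE_shift X a (-s) (a + s) (by omega)
  haveI : (X⟦-s⟧).IsLE (b + s) := (ts A).isLE_shift X b (-s) (b + s) (by omega)
  have hst := local_structure (m := m) (X⟦-s⟧) (b + s)
    (fun q => haveI := hfin (-s + q); Module.Finite.equiv (hdShift X (-s) q (-s + q) rfl).symm)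
    (fun j hj => haveI := hs (j + s) (by omega)
      (homShiftBoth X (kM m) (-s) (j + s) j (by omega)).symm.injective.subsingleton)
    ⟨(homShiftBoth X (kM m) (-s) s 0 (by omega)).symm ≪≫ₗ es⟩ (a + s)
  let u := hdShift X (-s) (i + s) i (by omega)
  by_cases h0 : i + s = 0
  · obtain ⟨g, c, hc, hg₁, hg₂⟩ := hst.2
    let u' := hdShift X (-s) 0 i (by omega)
    refine Or.inr ⟨u'.toLinearMap ∘ₗ g, c, hc, fun r hr => hg₁ r (u'.map_eq_zero_iff.1 hr), fun y => ?_⟩
    obtain ⟨r, hr⟩ := hg₂ (u'.symm y)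
    exact ⟨r, by rw [LinearMap.comp_apply, hr, LinearEquiv.coe_coe, map_smul, u'.apply_symm_apply]⟩
  · exact Or.inl ((hst.1 (i + s) h0).congr u)

include hP in
theorem isInvertible_image [DTen.HasLTen A] : DTen.IsInvertible A (F.obj ⟨DTen.unit A, hA⟩).obj := by
  haveI := DCat.hasLTen₃ A
  haveI : DTen.HasRHom A := DCat.hasRHom
  haveI : DTen.IsSymMonoidal A := isSymMonoidal
  let U : P.FullSubcategory := ⟨DTen.unit A, hA⟩
  let X := (F.obj U).obj
  have hX : DRing.IsPerfect A X := isPerfect_image F hP hA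
  let G := (DTen.RHomR A X).obj X
  have hz : ∀ i : ℤ, i ≠ 0 → Subsingleton (Dual.HD A G i) := fun i hi =>
    haveI := hd_single_subsingleton (A := A) A i hi
    ((hdRHom X X i).trans ((fEquivShift F U U i).symm.trans (eSelf (Dual.inD A A) i))).injective.subsingleton
  haveI : G.IsGE 0 := (DRingLib.isGE_iff_HD G 0).2 fun i hi => hz i (by omega)
  haveI : G.IsLE 0 := (DRingLib.isLE_iff_HD G 0).2 fun i hi => hz i (by omega)
  obtain ⟨e⟩ := exists_single_iso G 0
  let z : Dual.HD A G 0 ≃ₗ[A] A :=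
    (hdRHom X X 0).trans ((fEquivShift F U U 0).symm.trans ((eSelf (Dual.inD A A) 0).trans
      ((singleFunctorCompHomologyFunctorIso (ModuleCat.{u} A) 0).app (ModuleCat.of A A)).toLinearEquiv))
  let eG : G ≅ DTen.unit A := e.symm ≪≫ (S0 A).mapIso z.toModuleIso
  haveI : IsIso (DTen.evalTen X (DTen.unit A) X) := isIso_evalTen_K _ _ hX
  let L := (DTen.RHomR A X).obj (DTen.unit A)
  let e₁ : (DTen.LTen₂ A).obj (X, L) ≅ DTen.unit A :=
    asIso (DTen.evalTen X (DTen.unit A) X) ≪≫
      (DTen.RHomR A X).mapIso (asIso ((DTen.unitR A).app X)) ≪≫ eG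
  haveI := isIso_symm_app' X L
  exact ⟨L, ⟨e₁⟩, ⟨asIso ((DTen.symm A).app (X, L)) ≪≫ e₁⟩⟩

end Equiv

end Groth.Agent.DualLib
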