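import Groth.Agent.DualLib.FreeCriterion
import Groth.Agent.DRingLib.PCRegular
import Mathlib.RingTheory.LocalProperties.Projective

/-! The local structure of a bounded object with one-dimensional maps to a residue field. -/

set_option autoImplicit false
set_option backward.isDefEq.respectTransparency false
set_option backward.defeqAttrib.useBackward true
set_option linter.style.haveILetI false
set_option linter.unusedSectionVars false

universe u

open CategoryTheory CategoryTheory.Limits CategoryTheory.Pretriangulated DerivedCategory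

attribute [local instance] HasDerivedCategory.standard

namespace Groth.Agent.DualLib

variable {A : Type u} [CommRing A] (m : Ideal A)

/-- Killed by an element outside `m`. -/
def Killed (M : Type u) [AddCommGroup M] [Module A M] : Prop := ∃ a : A, a ∉ m ∧ ∀ x : M, a • x = 0

variable {m}

lemma Killed.congr {M N : Type u} [AddCommGroup M] [Module A M] [AddCommGroup N] [Module A N]
    (h : Killed m M) (e : M ≃ₗ[A] N) : Killed m N := by
  obtain ⟨a, ha, h⟩ := h
  exact ⟨a, ha, fun x => e.symm.injective (by rw [map_smul, h, map_zero])⟩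

lemma killed_of_subsingleton [m.IsMaximal] (M : Type u) [AddCommGroup M] [Module A M] [Subsingleton M] :
    Killed m M :=
  ⟨1, fun h => (Ideal.IsMaximal.ne_top ‹_›) (m.eq_top_of_isUnit_mem h isUnit_one), fun _ => Subsingleton.elim _ _⟩

/-- The residue field at `m` in degree zero. -/
noncomputable abbrev kM (m : Ideal A) : Dual.D A := Dual.inD A (A ⧸ m)

lemma smul_kM_eq_zero {c : A} (hc : c ∈ m) (j : ℤ) : c • 𝟙 ((kM m)⟦j⟧) = 0 := by
  have h : (c • 𝟙 (ModuleCat.of A (A ⧸ m))) = 0 := ModuleCat.hom_ext (LinearMap.ext fun x => by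
    obtain ⟨x, rfl⟩ := Ideal.Quotient.mk_surjective x
    show c • Ideal.Quotient.mk m x = 0
    rw [Algebra.smul_def]
    exact Ideal.Quotient.eq_zero_iff_mem.2 (m.mul_mem_right _ hc))
  have h1 := congrArg (S0 A).map h
  rw [Functor.map_smul, CategoryTheory.Functor.map_id, Functor.map_zero] at h1
  have h2 := congrArg (fun f => f⟦j⟧') h1
  simp only [Functor.map_smul, CategoryTheory.Functor.map_id, Functor.map_zero] at h2
  exact h2

lemma subsingleton_hom_of_smul_zero [m.IsMaximal] {X : Dual.D A} {j : ℤ} {a : A} (ha : a ∉ m)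
    (h : ∀ φ : X ⟶ (kM m)⟦j⟧, a • φ = 0) : Subsingleton (X ⟶ (kM m)⟦j⟧) := by
  refine subsingleton_of_forall_eq 0 fun φ => ?_
  obtain ⟨b, i, hi, hbi⟩ := Ideal.IsMaximal.exists_inv ‹m.IsMaximal› ha
  have h1 : i • φ = 0 := by
    have e := congrArg (fun f => φ ≫ f) (smul_kM_eq_zero hi j)
    simp only [Linear.comp_smul, comp_zero] at e
    erw [Category.comp_id] at e
    exact e
  calc φ = (b * a + i) • φ := by rw [hbi, one_smul]
    _ = 0 := by rw [add_smul, mul_smul, h, smul_zero, h1, add_zero]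

lemma subsingleton_E_of_killed [m.IsMaximal] {M : Type u} [AddCommGroup M] [Module A M] (h : Killed m M) (j : ℤ) :
    Subsingleton (E (kM m) M j) := by
  obtain ⟨a, ha, h⟩ := h
  exact subsingleton_hom_of_smul_zero ha fun φ => smul_eq_zero_of_kills _ a h j φ

lemma subsingleton_hom_of_killed [m.IsMaximal] (X : Dual.D A) (a b : ℤ) [X.IsGE a] [X.IsLE b]
    (h : ∀ q, a ≤ q → q ≤ b → Killed m (Dual.HD A X q)) (j : ℤ) : Subsingleton (X ⟶ (kM m)⟦j⟧) :=
  vanish' X a b j fun q h₁ h₂ => subsingleton_E_of_killed (h q h₁ h₂) _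

lemma killed_of_hom_residue [hm : m.IsMaximal] (M : Type u) [AddCommGroup M] [Module A M] [Module.Finite A M]
    (h : ∀ f : M →ₗ[A] A ⧸ m, f = 0) : Killed m M := by
  rcases eq_top_or_exists_le_coatom (m • (⊤ : Submodule A M)) with ht | ⟨N, hN, hle⟩
  · obtain ⟨r, hr, hr'⟩ := Submodule.exists_sub_one_mem_and_smul_eq_zero_of_fg_of_le_smul m (⊤ : Submodule A M)
      Module.Finite.fg_top ht.ge
    refine ⟨r, fun hrm => hm.ne_top ((m.eq_top_iff_one).2 ?_), fun x => hr' x trivial⟩
    simpa using m.sub_mem hrm hr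
  · exfalso
    haveI : IsSimpleModule A (M ⧸ N) := isSimpleModule_iff_isCoatom.2 hN
    obtain ⟨m', hm', ⟨e⟩⟩ := isSimpleModule_iff_quot_maximal.1 ‹IsSimpleModule A (M ⧸ N)›
    have hmm : m ≤ m' := fun r hr => by
      obtain ⟨y, hy⟩ := N.mkQ_surjective (e.symm 1)
      have h0 : r • e.symm 1 = 0 := by
        rw [← hy, ← map_smul]
        exact (Submodule.Quotient.mk_eq_zero N).2 (hle (Submodule.smul_mem_smul hr trivial))
      rw [← map_smul, LinearEquiv.map_eq_zero_iff, Algebra.smul_def, mul_one] at h0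
      exact Ideal.Quotient.eq_zero_iff_mem.1 h0
    obtain rfl := hm.eq_of_le hm'.ne_top hmm
    obtain ⟨x, hx⟩ := N.mkQ_surjective (e.symm 1)
    have := LinearMap.congr_fun (h (e.toLinearMap ∘ₗ N.mkQ)) x
    simp only [LinearMap.comp_apply, hx, LinearEquiv.coe_coe, LinearEquiv.apply_symm_apply,
      LinearMap.zero_apply] at this
    exact hm.ne_top ((m.eq_top_iff_one).2 (Ideal.Quotient.eq_zero_iff_mem.1 this))

variable [hm : m.IsMaximal]

lemma killed_of_subsingleton_E (M : Type u) [AddCommGroup M] [Module A M] [Module.Finite A M]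
    (h : Subsingleton (E (kM m) M 0)) : Killed m M :=
  killed_of_hom_residue M fun f => by
    by_contra hf
    exact toE_ne_zero hf (Subsingleton.elim _ _)

variable (X : Dual.D A) (b : ℤ) [X.IsLE b]
include b

lemma killed_trunc_ge (c : ℤ) (hk : ∀ q, c < q → Killed m (Dual.HD A X q)) (j : ℤ) :
    Subsingleton (((ts A).truncGE (c + 1)).obj X ⟶ (kM m)⟦j⟧) := by
  haveI : (((ts A).truncGE (c + 1)).obj X).IsGE (c + 1) := inferInstance
  haveI : (((ts A).truncGE (c + 1)).obj X).IsLE b := inferInstance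
  exact subsingleton_hom_of_killed _ (c + 1) b (fun q h₁ _ => (hk q (by omega)).congr (hTruncGE X (c + 1) q h₁)) j

lemma bijective_pre_trunc (c : ℤ) (hk : ∀ q, c < q → Killed m (Dual.HD A X q)) (j : ℤ) :
    Function.Bijective (pre (kM m) (((ts A).truncLTι (c + 1)).app X) j) := by
  refine ⟨?_, surjective_pre_truncLT X (c + 1) j (killed_trunc_ge X b c hk _)⟩
  rw [injective_iff_map_eq_zero]
  intro φ hφ
  haveI := killed_trunc_ge X b c hk j
  obtain ⟨ψ, rfl⟩ := (exact_trunc X (c + 1) j φ).1 hφ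
  rw [Subsingleton.elim ψ 0, map_zero]

lemma killed_top (c : ℤ) [Module.Finite A (Dual.HD A X c)] (hk : ∀ q, c < q → Killed m (Dual.HD A X q))
    (h : Subsingleton (X ⟶ (kM m)⟦-c⟧)) : Killed m (Dual.HD A X c) := by
  let Y := ((ts A).truncLT (c + 1)).obj X
  haveI : Y.IsLE c := (ts A).isLE_truncLT_obj _ _ _ (by omega)
  haveI : Subsingleton (Y ⟶ (kM m)⟦-c⟧) :=
    haveI : Subsingleton ((𝟭 (Dual.D A)).obj X ⟶ (kM m)⟦-c⟧) := h
    (bijective_pre_trunc X b c hk (-c)).2.subsingleton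
  haveI : Subsingleton ((𝟭 (Dual.D A)).obj Y ⟶ (kM m)⟦-c⟧) := ‹_›
  haveI : Subsingleton (((ts A).truncGE c).obj Y ⟶ (kM m)⟦-c⟧) := by
    refine (injective_pre_truncGE (W := kM m) Y c (-c) ?_).subsingleton
    haveI : (((ts A).truncLT c).obj Y).IsLE (c - 1) := (ts A).isLE_truncLT_obj _ _ _ (by omega)
    haveI : ((kM m)⟦-c - 1⟧).IsGE (c + 1) := (ts A).isGE_shift (kM m) 0 (-c - 1) (c + 1) (by omega)
    exact subsingleton_of_forall_eq 0 fun φ => (ts A).zero φ (c - 1) (c + 1) (by omega)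
  let Z := ((ts A).truncGE c).obj Y
  haveI : Z.IsLE c := inferInstance
  haveI : Z.IsGE c := inferInstance
  obtain ⟨e⟩ := exists_single_iso Z c
  haveI := (homCongr (kM m) e (-c)).symm.injective.subsingleton
  haveI hE := (singleHom (kM m) (ModuleCat.of A (Dual.HD A Z c)) c (-c) 0 (by omega)).symm.injective.subsingleton
  let eH : Dual.HD A X c ≃ₗ[A] Dual.HD A Z c :=
    (hTruncLT X (c + 1) c (by omega)).symm ≪≫ₗ hTruncGE Y c c le_rfl
  haveI : Module.Finite A (Dual.HD A Z c) := Module.Finite.equiv eH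
  exact (killed_of_subsingleton_E _ hE).congr eH.symm

lemma killed_above (hfin : ∀ q, Module.Finite A (Dual.HD A X q)) (c : ℤ)
    (h : ∀ j : ℤ, j < -c → Subsingleton (X ⟶ (kM m)⟦j⟧)) : ∀ q, c < q → Killed m (Dual.HD A X q) := by
  suffices H : ∀ (n : ℕ) (q : ℤ), b - n < q → c < q → Killed m (Dual.HD A X q) from
    fun q hq => H (b - q + 1).toNat q (by omega) hq
  intro n
  induction n with
  | zero =>
    intro q hq _
    haveI := ModuleCat.subsingleton_of_isZero (isZero_of_isLE X b q (by omega))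
    exact killed_of_subsingleton _
  | succ n ih =>
    intro q hq hcq
    haveI := hfin q
    exact killed_top X b q (fun q' hq' => ih q' (by omega) (by omega)) (h _ (by omega))

lemma killed_all (hfin : ∀ q, Module.Finite A (Dual.HD A X q))
    (h : ∀ j : ℤ, Subsingleton (X ⟶ (kM m)⟦j⟧)) (q : ℤ) : Killed m (Dual.HD A X q) :=
  killed_above X b hfin (q - 1) (fun j _ => h j) q (by omega)

variable [IsNoetherianRing A]

/-- An object with one-dimensional maps to the residue field, in degree zero only, is `A` near `m`. -/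
theorem local_structure (hfin : ∀ q, Module.Finite A (Dual.HD A X q))
    (hvan : ∀ j : ℤ, j ≠ 0 → Subsingleton (X ⟶ (kM m)⟦j⟧))
    (hone : Nonempty ((X ⟶ (kM m)⟦(0 : ℤ)⟧) ≃ₗ[A] A ⧸ m)) (a₀ : ℤ) [X.IsGE a₀] :
    (∀ q : ℤ, q ≠ 0 → Killed m (Dual.HD A X q)) ∧
      ∃ (g : A →ₗ[A] Dual.HD A X 0) (a : A), a ∉ m ∧ (∀ r, g r = 0 → a • r = 0) ∧
        ∀ y : Dual.HD A X 0, ∃ r, g r = a • y := by
  have hk : ∀ q, 0 < q → Killed m (Dual.HD A X q) := killed_above X b hfin 0 fun j hj => hvan j (by omega)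
  let G := ((ts A).truncLT (0 + 1)).obj X
  haveI hG : G.IsLE 0 := (ts A).isLE_truncLT_obj _ _ _ (by omega)
  haveI : G.IsGE a₀ := inferInstance
  have hbb := bijective_pre_trunc X b 0 hk (m := m)
  obtain ⟨e1⟩ := hone
  haveI hsimp : IsSimpleModule A (A ⧸ m) :=
    isSimpleModule_iff_quot_maximal.2 ⟨m, hm, ⟨LinearEquiv.refl A _⟩⟩
  haveI : IsSimpleModule A ((𝟭 (Dual.D A)).obj X ⟶ (kM m)⟦(0 : ℤ)⟧) := IsSimpleModule.congr e1
  haveI hsG : IsSimpleModule A (G ⟶ (kM m)⟦(0 : ℤ)⟧) :=
    IsSimpleModule.congr (LinearEquiv.ofBijective _ (hbb 0)).symm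
  haveI : IsSimpleModule A ((𝟭 (ModuleCat.{u} A)).obj (ModuleCat.of A (A ⧸ m))) := hsimp
  haveI : IsSimpleModule A (E (kM m) A 0) :=
    IsSimpleModule.congr (eSelf (kM m) 0 ≪≫ₗ ((singleFunctorCompHomologyFunctorIso (ModuleCat.{u} A) 0).app
      (ModuleCat.of A (A ⧸ m))).toLinearEquiv)
  have hvG : ∀ j : ℤ, j ≠ 0 → Subsingleton (G ⟶ (kM m)⟦j⟧) := fun j hj =>
    haveI : Subsingleton ((𝟭 (Dual.D A)).obj X ⟶ (kM m)⟦j⟧) := hvan j hj
    (hbb j).2.subsingleton
  have hfG : ∀ q, Module.Finite A (Dual.HD A G q) := fun q => by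
    rcases lt_or_ge q (0 + 1) with hq | hq
    · haveI := hfin q
      exact Module.Finite.equiv (hTruncLT X (0 + 1) q hq).symm
    · haveI := ModuleCat.subsingleton_of_isZero (isZero_of_isLE G 0 q (by omega))
      exact inferInstanceAs (Module.Finite A ((homologyFunctor (ModuleCat.{u} A) q).obj G))
  let T := ((ts A).truncGE 0).obj G
  haveI : T.IsLE 0 := inferInstance
  haveI : T.IsGE 0 := inferInstance
  obtain ⟨eT⟩ := exists_single_iso T 0
  let H := Dual.HD A T 0
  haveI : Module.Finite A H := haveI := hfG 0; Module.Finite.equiv (hTruncGE G 0 0 le_rfl)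
  obtain ⟨g, hg⟩ : ∃ g : H →ₗ[A] A ⧸ m, g ≠ 0 := by
    by_contra! hc
    haveI : Subsingleton (((ts A).truncGE 0).obj G ⟶ (kM m)⟦(0 : ℤ)⟧) :=
      subsingleton_hom_of_killed _ 0 0 (fun q h₁ h₂ => by
        obtain rfl : q = 0 := le_antisymm h₂ h₁
        exact killed_of_hom_residue H hc) 0
    haveI : Subsingleton ((𝟭 (Dual.D A)).obj G ⟶ (kM m)⟦(0 : ℤ)⟧) := by
      haveI : (((ts A).truncLT 0).obj G).IsLE (-1) := (ts A).isLE_truncLT_obj _ _ _ (by omega)
      haveI : ((kM m)⟦(0 : ℤ)⟧).IsGE 0 := (ts A).isGE_shift (kM m) 0 0 0 (by omega)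
      refine subsingleton_of_forall_eq 0 fun φ => ?_
      obtain ⟨ψ, rfl⟩ := (exact_trunc G 0 0 φ).1
        ((ts A).zero (pre (kM m) (((ts A).truncLTι 0).app G) 0 φ) (-1) 0 (by omega))
      rw [Subsingleton.elim ψ 0, map_zero]
    exact IsSimpleModule.nontrivial A (G ⟶ (kM m)⟦(0 : ℤ)⟧) |> not_nontrivial_iff_subsingleton.2 ‹_›
  obtain ⟨x, hx⟩ : ∃ x, g x ≠ 0 := by
    by_contra! hc
    exact hg (LinearMap.ext hc)
  let a : Dual.inD A A ⟶ T := (S0 A).map (ModuleCat.ofHom (LinearMap.toSpanSingleton A H x)) ≫ eT.hom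
  haveI : (((ts A).truncLT 0).obj G).IsLE (-1) := (ts A).isLE_truncLT_obj _ _ _ (by omega)
  haveI : Subsingleton (Dual.inD A A ⟶ (((ts A).truncLT 0).obj G)⟦(1 : ℤ)⟧) :=
    haveI : Subsingleton (Dual.HD A (((ts A).truncLT 0).obj G) 1) :=
      (DRingLib.isLE_iff_HD _ (-1)).1 inferInstance 1 (by omega)
    (eSelf (((ts A).truncLT 0).obj G) 1).injective.subsingleton
  obtain ⟨φ, hφ⟩ : ∃ φ : Dual.inD A A ⟶ G, a = φ ≫ ((ts A).truncGEπ 0).app G :=
    Triangle.coyoneda_exact₃ _ ((ts A).triangleLTGE_distinguished 0 G) a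
      (Subsingleton.elim (α := Dual.inD A A ⟶ (((ts A).truncLT 0).obj G)⟦(1 : ℤ)⟧) _ _)
  have hne : pre (kM m) φ 0 ≠ 0 := fun h0 => by
    have h1 := LinearMap.congr_fun h0 (((ts A).truncGEπ 0).app G ≫ eT.inv ≫ toE g)
    change φ ≫ ((ts A).truncGEπ 0).app G ≫ eT.inv ≫ toE g = 0 at h1
    rw [← reassoc_of% hφ] at h1
    refine toE_ne_zero (f := g ∘ₗ LinearMap.toSpanSingleton A H x) (fun hh => hx ?_) ?_
    · simpa using LinearMap.congr_fun hh 1
    · rw [← h1]
      simp only [a, toE, ModuleCat.ofHom_comp, Functor.map_comp, Category.assoc, Iso.hom_inv_id_assoc]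
  have hbij := LinearMap.bijective_of_ne_zero hne
  obtain ⟨C, g', d, hT⟩ := distinguished_cocone_triangle φ
  have hex₃ : ∀ q : ℤ, Function.Exact
      ((homologyFunctor (ModuleCat.{u} A) q).map g').hom
      (HomologySequence.δ (Triangle.mk φ g' d) q (q + 1) rfl).hom := fun q => by
    have hex := HomologySequence.exact₃ _ hT q (q + 1) rfl
    rwa [ShortComplex.ShortExact.moduleCat_exact_iff_function_exact] at hex
  haveI hC0 : C.IsLE 0 := (DRingLib.isLE_iff_HD C 0).2 fun q hq => by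
    haveI : Subsingleton (Dual.HD A G q) := (DRingLib.isLE_iff_HD G 0).1 hG q hq
    haveI : Subsingleton (Dual.HD A (Dual.inD A A) (q + 1)) := hd_single_subsingleton A (q + 1) (by omega)
    refine subsingleton_of_forall_eq 0 fun z => ?_
    obtain ⟨w, rfl⟩ := (hex₃ q z).1 (Subsingleton.elim (α := Dual.HD A (Dual.inD A A) (q + 1)) _ _)
    exact (congrArg _ (Subsingleton.elim (α := Dual.HD A G q) w 0)).trans (map_zero _)
  have hCfin : ∀ q, Module.Finite A (Dual.HD A C q) := fun q => by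
    haveI : Module.Finite A ((homologyFunctor (ModuleCat.{u} A) q).obj (Triangle.mk φ g' d).obj₂) := hfG q
    haveI : Module.Finite A ((homologyFunctor (ModuleCat.{u} A) (q + 1)).obj (Triangle.mk φ g' d).obj₁) := by
      rcases eq_or_ne (q + 1) 0 with h0 | h0
      · rw [h0]
        haveI : Module.Finite A ((𝟭 (ModuleCat.{u} A)).obj (ModuleCat.of A A)) := Module.Finite.self A
        exact Module.Finite.equiv ((singleFunctorCompHomologyFunctorIso (ModuleCat.{u} A) 0).app
          (ModuleCat.of A A)).toLinearEquiv.symm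
      · haveI := hd_single_subsingleton (A := A) A (q + 1) h0
        exact inferInstanceAs (Module.Finite A (Dual.HD A (Dual.inD A A) (q + 1)))
    haveI : IsNoetherian A ((homologyFunctor (ModuleCat.{u} A) (q + 1)).obj (Triangle.mk φ g' d).obj₁) :=
      isNoetherian_of_isNoetherianRing_of_finite A _
    exact finite_of_exact _ _ (hex₃ q)
  have hC := killed_all C 0 hCfin (m := m) fun j => subsingleton_of_forall_eq 0 fun ξ => by
    have h1 : pre (kM m) g' j ξ = 0 := by
      rcases eq_or_ne j 0 with rfl | hj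
      · refine hbij.1 ?_
        rw [map_zero]
        exact (exact_pre (W := kM m) _ hT 0).apply_apply_eq_zero ξ
      · haveI := hvG j hj
        exact Subsingleton.elim _ _
    obtain ⟨η, rfl⟩ := (exact_delta_pre (W := kM m) _ hT (j - 1) j (by omega) ξ).1 h1
    rcases eq_or_ne (j - 1) 0 with hj | hj
    · have hs : ∀ i : ℤ, i = 0 → Function.Surjective (pre (kM m) φ i) := by
        rintro i rfl
        exact hbij.2
      obtain ⟨ζ, rfl⟩ : ∃ ζ, pre (kM m) φ (j - 1) ζ = η := hs _ hj η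
      exact (exact_pre_delta (W := kM m) _ hT (j - 1) j (by omega)).apply_apply_eq_zero ζ
    · haveI : Subsingleton (Dual.inD A A ⟶ (kM m)⟦j - 1⟧) :=
        haveI := hd_single_subsingleton (A := A) (A ⧸ m) (j - 1) hj
        (eSelf (kM m) (j - 1)).injective.subsingleton
      exact (congrArg _ (Subsingleton.elim (α := Dual.inD A A ⟶ (kM m)⟦j - 1⟧) η 0)).trans (map_zero _)
  have hex₂ : ∀ q : ℤ, Function.Exact ((homologyFunctor (ModuleCat.{u} A) q).map φ).hom
      ((homologyFunctor (ModuleCat.{u} A) q).map g').hom := fun q => by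
    have hex := HomologySequence.exact₂ _ hT q
    rwa [ShortComplex.ShortExact.moduleCat_exact_iff_function_exact] at hex
  refine ⟨fun q hq => ?_, ?_⟩
  · rcases lt_or_gt_of_ne hq with hneg | hpos
    · haveI : Subsingleton (Dual.HD A (Dual.inD A A) q) := hd_single_subsingleton A q hq
      obtain ⟨c, hc, hc'⟩ := hC q
      refine Killed.congr ⟨c, hc, fun y => ?_⟩ (hTruncLT X (0 + 1) q (by omega))
      obtain ⟨w, hw⟩ := (hex₂ q (c • y)).1 (by
        rw [map_smul]
        exact hc' _)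
      rw [← hw]
      exact (congrArg _ (Subsingleton.elim (α := Dual.HD A (Dual.inD A A) q) w 0)).trans (map_zero _)
    · exact hk q hpos
  · obtain ⟨c₀, hc₀, hc₀'⟩ := hC 0
    obtain ⟨c₁, hc₁, hc₁'⟩ := hC (-1)
    have hex₁ : Function.Exact (HomologySequence.δ (Triangle.mk φ g' d) (-1) 0 (by omega)).hom
        ((homologyFunctor (ModuleCat.{u} A) 0).map φ).hom := by
      have hex := HomologySequence.exact₁ _ hT (-1) 0 (by omega)
      rwa [ShortComplex.ShortExact.moduleCat_exact_iff_function_exact] at hex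
    let u₀ : Dual.HD A (Dual.inD A A) 0 ≃ₗ[A] A :=
      ((singleFunctorCompHomologyFunctorIso (ModuleCat.{u} A) 0).app (ModuleCat.of A A)).toLinearEquiv
    let v₀ := hTruncLT X (0 + 1) 0 (by omega)
    refine ⟨v₀.toLinearMap ∘ₗ ((homologyFunctor (ModuleCat.{u} A) 0).map φ).hom ∘ₗ u₀.symm.toLinearMap,
      c₁ * c₀, fun h => (Ideal.IsPrime.mem_or_mem hm.isPrime h).elim hc₁ hc₀, fun r hr => ?_, fun y => ?_⟩
    · obtain ⟨w, hw⟩ := (hex₁ (u₀.symm r)).1 (v₀.map_eq_zero_iff.1 hr)
      refine u₀.symm.injective ?_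
      rw [map_smul, map_zero, ← hw, mul_comm, mul_smul]
      have h' := ((map_smul (HomologySequence.δ (Triangle.mk φ g' d) (-1) 0 (by omega)).hom c₁ w).symm).trans
        ((congrArg _ (hc₁' w)).trans (map_zero _))
      exact (congrArg (fun t : Dual.HD A (Dual.inD A A) 0 => c₀ • t) h').trans (smul_zero _)
    · obtain ⟨w, hw⟩ := (hex₂ 0 (c₀ • v₀.symm y)).1 (by
        rw [map_smul]
        exact hc₀' _)
      refine ⟨c₁ • u₀ w, ?_⟩
      show v₀ (((homologyFunctor (ModuleCat.{u} A) 0).map φ).hom (u₀.symm (c₁ • u₀ w))) = _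
      rw [map_smul, u₀.symm_apply_apply, map_smul, hw, map_smul, map_smul, v₀.apply_symm_apply, mul_smul]


end Groth.Agent.DualLib
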