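import Groth.Agent.SubAvoid14.IdealMul
import Groth.Agent.SubAvoid14.IdealMulSec
import Groth.Agent.SubAvoid14.ArtinRees
import Groth.Agent.S17641
import Groth.Agent.DQCoh.HocolimPerf
import Groth.Agent.DQCoh.PerfectHom
import Groth.Agent.Dual22Lib.GammaApps

/-! Maps out of the Deligne system into supported objects die. -/

set_option autoImplicit false
set_option backward.isDefEq.respectTransparency false
set_option backward.defeqAttrib.useBackward true
set_option linter.style.haveILetI false
set_option linter.unusedSectionVars false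

universe u

open CategoryTheory CategoryTheory.Limits CategoryTheory.Pretriangulated AlgebraicGeometry
open Groth.Agent.SubAvoid14

attribute [local instance] HasDerivedCategory.standard

namespace Groth.Agent.DualLib.DeligneHom

variable {U X : Scheme.{u}} (j : U ⟶ X) [IsOpenImmersion j] (I : X.IdealSheafData)

local notation "St" => DerSch.stalkFunctor X

/-- Transition maps `I^m F → I^n F`. -/
theorem exists_tr (F : X.Modules) [Coh.IsQCoh F] {n m : ℕ} (h : n ≤ m) :
    ∃ t : (Dual3.idealMul (I ^ m)).obj F ⟶ (Dual3.idealMul (I ^ n)).obj F,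
      t ≫ Dual3.idealMulι (I ^ n) F = Dual3.idealMulι (I ^ m) F :=
  exists_le_of_range_le _ _ fun V hV x hx => by
    refine (mem_range_idealMulι_iff (I ^ n) F hV x).2 ?_
    have h1 := (mem_range_idealMulι_iff (I ^ m) F hV x).1 hx
    rw [Scheme.IdealSheafData.ideal_pow, Pi.pow_apply] at h1 ⊢
    exact Submodule.smul_mono_left (Ideal.pow_le_pow_right h) h1

/-- Transition maps of Deligne systems. -/
theorem exists_trC (F : CochainComplex X.Modules ℤ) (hF : ∀ q, Coh.IsCoh (F.X q)) {n m : ℕ} (h : n ≤ m) :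
    ∃ t : (Dual3.deligne I m).obj F ⟶ (Dual3.deligne I n).obj F,
      t ≫ Dual3.deligneι I n F = Dual3.deligneι I m F := by
  choose t ht using fun q => haveI := (hF q).1; exists_tr I (F.X q) h
  refine ⟨{ f := t, comm' := fun p q _ => ?_ }, HomologicalComplex.hom_ext _ _ fun q => ht q⟩
  rw [← cancel_mono (Dual3.idealMulι (I ^ n) (F.X q)), Category.assoc, Category.assoc, ht q]
  erw [Dual3.idealMul_map_ι]
  rw [← Category.assoc, ht p]
  exact (Dual3.idealMul_map_ι (I ^ m) (F.d p q)).symm

instance mono_deligneι (F : CochainComplex X.Modules ℤ) (n : ℕ) : Mono (Dual3.deligneι I n F) := by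
  haveI : ∀ q, Mono ((Dual3.deligneι I n F).f q) := fun q => Dual3.mono_idealMulι _ _
  exact HomologicalComplex.mono_of_mono_f _ inferInstance

variable (hI : I.supportSetᶜ = Set.range j)

include hI

/-- The degree zero case. -/
theorem kill0 [IsNoetherian X] {F N : X.Modules} (hF : Coh.IsCoh F) (hN : Coh.IsQCoh N)
    (hz : IsZero ((Scheme.Modules.restrictFunctor j).obj N)) (n : ℕ)
    (h : (Dual3.idealMul (I ^ n)).obj F ⟶ N) :
    ∃ m, n ≤ m ∧ ∀ t : (Dual3.idealMul (I ^ m)).obj F ⟶ (Dual3.idealMul (I ^ n)).obj F,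
      t ≫ Dual3.idealMulι (I ^ n) F = Dual3.idealMulι (I ^ m) F → t ≫ h = 0 := by
  haveI := hF.1
  haveI := hN
  haveI := isQCoh_idealMul (I ^ n) F
  let a := kernel.ι h ≫ Dual3.idealMulι (I ^ n) F
  haveI : Mono a := mono_comp _ _
  have hQ : Coh.IsCoh (cokernel a) := Coherent.isCoh_cokernel a (Coherent.isQCoh_kernel h) hF
  obtain ⟨r, hr⟩ := exists_killed_pow I hQ (support_cokernel_subset a fun z hz' v => by
    have hzn : z ∉ ((I ^ n).support : Set X) := fun hc => hz' (by
      obtain ⟨W, hW, hzW, -⟩ := TopologicalSpace.Opens.isBasis_iff_nbhd.mp X.isBasis_affineOpens (TopologicalSpace.Opens.mem_top z)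
      show z ∈ I.supportSet
      rw [Scheme.IdealSheafData.mem_supportSet_iff_of_mem (U := ⟨W, hW⟩) hzW]
      have h1 : z ∈ (I ^ n).supportSet := hc
      rw [Scheme.IdealSheafData.mem_supportSet_iff_of_mem (U := ⟨W, hW⟩) hzW, Scheme.mem_zeroLocus_iff] at h1
      rw [Scheme.mem_zeroLocus_iff]
      intro f hf hzf
      rcases Nat.eq_zero_or_pos n with hn | hn
      · refine h1 1 (by subst hn; simp) ?_
        rw [Scheme.basicOpen_of_isUnit _ isUnit_one]
        exact hzW
      · refine h1 (f ^ n) (by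
          rw [Scheme.IdealSheafData.ideal_pow, Pi.pow_apply]
          exact Ideal.pow_mem_pow hf n) ?_
        rw [X.basicOpen_pow f hn]
        exact hzf)
    obtain ⟨w, rfl⟩ := (bijective_stalk_idealMulι (I ^ n) F hzn).2 v
    have hr : z ∈ Set.range j.base := hI ▸ hz'
    obtain ⟨u, rfl⟩ := hr
    haveI : Subsingleton ((DerSch.stalkFunctor U u).obj ((Scheme.Modules.restrictFunctor j).obj N)) :=
      ModuleCat.subsingleton_of_isZero ((DerSch.stalkFunctor U u).map_isZero hz)
    haveI : Subsingleton ((DerSch.stalkFunctor X (j.base u)).obj N) :=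
      DCat.SuppOpen.subsingleton_stalk_of_restrict j N u ‹_›
    obtain ⟨y, rfl⟩ := ((ShortComplex.ShortExact.moduleCat_exact_iff_function_exact _).1
      ((ShortComplex.exact_kernel h).map (DerSch.stalkFunctor X (j.base u))) w).1 (Subsingleton.elim (α := (DerSch.stalkFunctor X (j.base u)).obj N) _ _)
    exact ⟨y, (Coherent.stalk_comp_apply (kernel.ι h) (Dual3.idealMulι (I ^ n) F) y).symm⟩)
  refine ⟨max n (r + 1), le_max_left _ _, fun t ht => ?_⟩
  obtain ⟨b, hb⟩ := exists_lift_idealMul (I ^ max n (r + 1)) a (killedByIdeal_mono (fun W => by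
    rw [Scheme.IdealSheafData.ideal_pow, Scheme.IdealSheafData.ideal_pow, Pi.pow_apply, Pi.pow_apply]
    exact Ideal.pow_le_pow_right (le_max_right _ _)) hr)
  have e : t = b ≫ kernel.ι h := by
    rw [← cancel_mono (Dual3.idealMulι (I ^ n) F), ht, Category.assoc]
    exact hb.symm
  rw [e, Category.assoc, kernel.condition, comp_zero]

omit hI in
/-- A supported quasi-coherent module embeds into a supported quasi-coherent injective. -/
theorem exists_supported_injective [IsNoetherian X] {N : X.Modules} (hN : Coh.IsQCoh N)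
    (hz : IsZero ((Scheme.Modules.restrictFunctor j).obj N)) :
    ∃ S : ShortComplex X.Modules, S.ShortExact ∧ S.X₁ = N ∧ Injective S.X₂ ∧ Coh.IsQCoh S.X₂ ∧
      IsZero ((Scheme.Modules.restrictFunctor j).obj S.X₂) ∧ Coh.IsQCoh S.X₃ ∧
      IsZero ((Scheme.Modules.restrictFunctor j).obj S.X₃) := by
  obtain ⟨J, e, he, hJq, hJi⟩ := InjMod14.exists_qcoh_injective N hN
  haveI := he; haveI := hJq; haveI := hJi; haveI := hN
  let R := Scheme.Modules.restrictFunctor j
  haveI : R.IsLeftAdjoint := (Scheme.Modules.restrictAdjunction j).isLeftAdjoint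
  haveI : R.IsRightAdjoint := (DCat.JShriek.shriekAdj j).isRightAdjoint
  haveI := S17641.result j J hJq
  let adj := Scheme.Modules.restrictAdjunction j
  let η := adj.unit.app J
  have hl : e ≫ η = 0 := (adj.unit.naturality e).trans
    (((Scheme.Modules.pushforward j).map_isZero hz).eq_of_tgt (adj.unit.app N) 0 ▸ zero_comp)
  let e' : N ⟶ kernel η := kernel.lift η e hl
  haveI : Mono e' := mono_of_mono_fac (kernel.lift_ι η e hl)
  haveI : QuasiCompact j := inferInstance
  haveI : Coh.IsQCoh (R.obj J) := inferInstanceAs (R.obj J).IsQuasicoherent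
  haveI : Coh.IsQCoh ((R ⋙ Scheme.Modules.pushforward j).obj J) := Coherent.isQCoh_push j (R.obj J)
  haveI : Coh.IsQCoh ((𝟭 X.Modules).obj J) := hJq
  haveI hK : Coh.IsQCoh (kernel η) := Coherent.isQCoh_kernel η
  have hK0 : IsZero (R.obj (kernel η)) := by
    haveI : IsIso (R.map η) := by
      haveI : IsIso (adj.counit.app (R.obj J)) := inferInstance
      exact IsIso.of_isIso_fac_right (adj.left_triangle_components J)
    rw [IsZero.iff_id_eq_zero, ← cancel_mono (R.map (kernel.ι η)), ← cancel_mono (R.map η)]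
    simp only [Category.id_comp, zero_comp]
    rw [← R.map_comp, kernel.condition, R.map_zero]
  refine ⟨ShortComplex.mk e' (cokernel.π e') (cokernel.condition e'), ?_, rfl,
    (inferInstance : Injective ((DCoh.gammaZ j).obj J)), hK, hK0, Coherent.isQCoh_cokernel e', ?_⟩
  · exact { exact := ShortComplex.exact_of_g_is_cokernel _ (cokernelIsCokernel e'), mono_f := ‹_›, epi_g := inferInstance }
  · rw [IsZero.iff_id_eq_zero, ← cancel_epi (R.map (cokernel.π e'))]
    exact hK0.eq_of_src _ _

/-- Maps into one supported sheaf. -/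
theorem kill_single [IsNoetherian X] (F : CochainComplex X.Modules ℤ) (lo hi : ℤ) (hF : DCoh.VanishesOutside F lo hi)
    (hFc : ∀ q, Coh.IsCoh (F.X q)) (k : ℕ) : ∀ (p : ℤ), hi < p + k → ∀ (N : X.Modules), Coh.IsQCoh N →
    IsZero ((Scheme.Modules.restrictFunctor j).obj N) →
    ∀ (n : ℕ) (h : DCoh.toD X ((Dual3.deligne I n).obj F) ⟶ (DerivedCategory.singleFunctor X.Modules p).obj N),
    ∃ m, n ≤ m ∧ ∀ t, t ≫ Dual3.deligneι I n F = Dual3.deligneι I m F → DerivedCategory.Q.map t ≫ h = 0 := by
  induction k with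
  | zero =>
    intro p hp N _ _ n h
    haveI : ((Dual3.deligne I n).obj F).IsStrictlyLE hi := by
      rw [CochainComplex.isStrictlyLE_iff]
      intro i hi'
      exact (Dual3.idealMul (I ^ n)).map_isZero (hF i (Or.inr hi'))
    haveI : (DCoh.toD X ((Dual3.deligne I n).obj F)).IsLE hi :=
      (DerivedCategory.isLE_Q_obj_iff _ _).2 inferInstance
    refine ⟨n, le_rfl, fun t _ => ?_⟩
    rw [DerivedCategory.TStructure.t.zero h hi p (by omega), comp_zero]
  | succ k ih =>
    intro p hp N hN hz n h
    obtain ⟨S, hS, hA, hJi, hJq, hJ0, hCq, hC0⟩ := exists_supported_injective j hN hz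
    subst hA
    let J := S.X₂
    let C := S.X₃
    let f := S.f
    let g := S.g
    haveI := hJi
    let sp := HomologicalComplex.single X.Modules (ComplexShape.up ℤ) p
    have hSp := HomologicalComplex.shortExact_of_degreewise_shortExact (S.map sp) fun q => by
      by_cases hq : q = p
      · subst hq
        exact ShortComplex.shortExact_of_iso (ShortComplex.isoMk (HomologicalComplex.singleObjXSelf (ComplexShape.up ℤ) _ _).symm
          (HomologicalComplex.singleObjXSelf (ComplexShape.up ℤ) _ _).symm (HomologicalComplex.singleObjXSelf (ComplexShape.up ℤ) _ _).symm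
          (by simp only [ShortComplex.map_f, sp, Functor.mapIso_hom, Iso.symm_hom, HomologicalComplex.single_map_f_self, HomologicalComplex.eval_map]
              exact Iso.inv_hom_id_assoc _ _)
          (by simp only [ShortComplex.map_g, sp, Functor.mapIso_hom, Iso.symm_hom, HomologicalComplex.single_map_f_self, HomologicalComplex.eval_map]
              exact Iso.inv_hom_id_assoc _ _)) hS
      · exact { exact := ShortComplex.exact_of_isZero_X₂ _ (HomologicalComplex.isZero_single_obj_X (ComplexShape.up ℤ) _ _ _ hq)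
                mono_f := ⟨fun a b _ => (HomologicalComplex.isZero_single_obj_X (ComplexShape.up ℤ) _ _ _ hq).eq_of_tgt a b⟩
                epi_g := ⟨fun a b _ => (HomologicalComplex.isZero_single_obj_X (ComplexShape.up ℤ) _ _ _ hq).eq_of_src a b⟩ }
    have hT := DerivedCategory.triangleOfSES_distinguished hSp
    -- the map into the injective
    let h' : DCoh.toD X ((Dual3.deligne I n).obj F) ⟶ DerivedCategory.Q.obj (sp.obj J) :=
      h ≫ DerivedCategory.Q.map (sp.map f)
    haveI : CochainComplex.IsStrictlyGE (sp.obj J) p := inferInstance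
    haveI : ∀ q, Injective ((sp.obj J).X q) := fun q => by
      by_cases hq : q = p
      · subst hq
        exact Injective.of_iso (HomologicalComplex.singleObjXSelf (ComplexShape.up ℤ) _ _).symm hJi
      · exact (HomologicalComplex.isZero_single_obj_X (ComplexShape.up ℤ) _ _ _ hq).injective
    haveI := CochainComplex.isKInjective_of_injective (sp.obj J) p
    obtain ⟨φ', hφ'⟩ := (CochainComplex.IsKInjective.Qh_map_bijective _ (sp.obj J)).2
      ((DerivedCategory.quotientCompQhIso X.Modules).hom.app _ ≫ h' ≫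
        (DerivedCategory.quotientCompQhIso X.Modules).inv.app _)
    obtain ⟨φ, rfl⟩ := (HomotopyCategory.quotient X.Modules (ComplexShape.up ℤ)).map_surjective φ'
    have hφ : DerivedCategory.Q.map φ = h' := by
      have e := (DerivedCategory.quotientCompQhIso X.Modules).hom.naturality φ
      simp only [Functor.comp_map] at e
      rw [← cancel_epi ((DerivedCategory.quotientCompQhIso X.Modules).hom.app _), ← e, hφ']
      simp
    obtain ⟨m₁, hm₁, hk₁⟩ := kill0 j I hI (hFc p) hJq hJ0 n
      (φ.f p ≫ (HomologicalComplex.singleObjXSelf _ p J).hom)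
    obtain ⟨t₁, ht₁⟩ := exists_trC I F hFc hm₁
    have h0 : (DerivedCategory.Q.map t₁ ≫ h) ≫ DerivedCategory.Q.map (sp.map f) = 0 := by
      rw [Category.assoc]
      show DerivedCategory.Q.map t₁ ≫ h' = 0
      rw [← hφ, ← Functor.map_comp]
      have : t₁ ≫ φ = 0 := by
        refine HomologicalComplex.hom_ext _ _ fun q => ?_
        by_cases hq : q = p
        · subst hq
          rw [← cancel_mono (HomologicalComplex.singleObjXSelf _ q J).hom, HomologicalComplex.comp_f, Category.assoc,
            hk₁ _ (HomologicalComplex.congr_hom ht₁ q), HomologicalComplex.zero_f, zero_comp]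
        · exact (HomologicalComplex.isZero_single_obj_X (ComplexShape.up ℤ) _ _ _ hq).eq_of_tgt _ _
      rw [this, Functor.map_zero]
    obtain ⟨w, hw⟩ := Triangle.coyoneda_exact₂ _ (inv_rot_of_distTriang _ hT) (DerivedCategory.Q.map t₁ ≫ h) h0
    let e : (DerivedCategory.Q.obj (sp.obj C))⟦(-1 : ℤ)⟧ ≅ (DerivedCategory.singleFunctor X.Modules (p + 1)).obj C :=
      ((DerivedCategory.singleFunctors X.Modules).shiftIso (-1 : ℤ) (p + 1) p (by omega)).app C
    obtain ⟨m₂, hm₂, hk₂⟩ := ih (p + 1) (by push_cast at hp ⊢; omega) C hCq hC0 m₁ (w ≫ e.hom)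
    obtain ⟨t₂, ht₂⟩ := exists_trC I F hFc hm₂
    refine ⟨m₂, hm₁.trans hm₂, fun t ht => ?_⟩
    have et : t = t₂ ≫ t₁ := by rw [← cancel_mono (Dual3.deligneι I n F), ht, Category.assoc, ht₁, ht₂]
    have hw0 : DerivedCategory.Q.map t₂ ≫ w = 0 := by
      rw [← cancel_mono e.hom, Category.assoc, hk₂ t₂ ht₂, zero_comp]
    rw [et, Functor.map_comp, Category.assoc, hw, reassoc_of% hw0, zero_comp]

/-- Maps into a supported object. -/
theorem kill_supported [IsNoetherian X] (F : CochainComplex X.Modules ℤ) (lo hi : ℤ)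
    (hF : DCoh.VanishesOutside F lo hi) (hFc : ∀ q, Coh.IsCoh (F.X q)) (k : ℕ) : ∀ (M : DCoh.D X) (c : ℤ),
    M.IsGE c → hi < c + k → DCoh.IsQCohD M → (∀ i, IsZero ((Scheme.Modules.restrictFunctor j).obj (DCoh.HD M i))) →
    ∀ (n : ℕ) (h : DCoh.toD X ((Dual3.deligne I n).obj F) ⟶ M),
    ∃ m, n ≤ m ∧ ∀ t, t ≫ Dual3.deligneι I n F = Dual3.deligneι I m F → DerivedCategory.Q.map t ≫ h = 0 := by
  induction k with
  | zero =>
    intro M c hc hp _ _ n h
    haveI := hc
    haveI : ((Dual3.deligne I n).obj F).IsStrictlyLE hi := by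
      rw [CochainComplex.isStrictlyLE_iff]
      intro i hi'
      exact (Dual3.idealMul (I ^ n)).map_isZero (hF i (Or.inr hi'))
    haveI : (DCoh.toD X ((Dual3.deligne I n).obj F)).IsLE hi :=
      (DerivedCategory.isLE_Q_obj_iff _ _).2 inferInstance
    refine ⟨n, le_rfl, fun t _ => ?_⟩
    rw [DerivedCategory.TStructure.t.zero h hi c (by omega), comp_zero]
  | succ k ih =>
    intro M c hc hp hq h0 n h
    haveI := hc
    let T := (DerivedCategory.TStructure.t (C := X.Modules))
    have hT := T.triangleLTGE_distinguished (c + 1) M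
    let A := (T.truncLT (c + 1)).obj M
    let B := (T.truncGE (c + 1)).obj M
    haveI hB : B.IsGE (c + 1) := T.isGE_truncGE_obj ..
    haveI hA : A.IsLE c := T.isLE_truncLT_obj M (c + 1) c (by omega)
    haveI hA' : A.IsGE c := by
      haveI : (B⟦(-1 : ℤ)⟧).IsGE (c + 2) := T.isGE_shift B (c + 1) (-1) (c + 2) (by omega)
      exact T.isGE₂ _ (inv_rot_of_distTriang _ hT) c (T.isGE_of_ge (B⟦(-1 : ℤ)⟧) c (c + 2) (by omega)) hc
    obtain ⟨N, ⟨eN⟩⟩ := DerivedCategory.exists_iso_singleFunctor_obj_of_isGE_of_isLE A c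
    have hBi : ∀ i, c + 1 ≤ i → IsIso ((DerivedCategory.homologyFunctor X.Modules i).map ((T.truncGEπ (c + 1)).app M)) :=
      fun i hi' => DQCoh.PerfApprox.isIso_homology_truncGEπ M (c + 1) i hi'
    have hBq : DCoh.IsQCohD B := fun i => by
      obtain hi' | hi' := lt_or_ge i (c + 1)
      · exact Coherent.isQCoh_of_isZero (DerivedCategory.isZero_of_isGE B (c + 1) i hi')
      · haveI := hBi i hi'
        exact Coherent.isQCoh_of_iso (asIso ((DerivedCategory.homologyFunctor X.Modules i).map ((T.truncGEπ (c + 1)).app M))) (h := hq i)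
    have hB0 : ∀ i, IsZero ((Scheme.Modules.restrictFunctor j).obj (DCoh.HD B i)) := fun i => by
      obtain hi' | hi' := lt_or_ge i (c + 1)
      · exact (Scheme.Modules.restrictFunctor j).map_isZero (DerivedCategory.isZero_of_isGE B (c + 1) i hi')
      · haveI := hBi i hi'
        exact (h0 i).of_iso ((Scheme.Modules.restrictFunctor j).mapIso
          (asIso ((DerivedCategory.homologyFunctor X.Modules i).map ((T.truncGEπ (c + 1)).app M))).symm)
    haveI : Mono ((DerivedCategory.homologyFunctor X.Modules c).map ((T.truncLTι (c + 1)).app M)) :=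
      DCat.mono_homology_truncLTι M (c + 1) c
    haveI : Epi ((DerivedCategory.homologyFunctor X.Modules c).map ((T.truncLTι (c + 1)).app M)) :=
      (DerivedCategory.HomologySequence.epi_homologyMap_mor₁_iff _ hT c).2
        ((DerivedCategory.isZero_of_isGE B (c + 1) c (by omega)).eq_of_tgt _ _)
    haveI := isIso_of_mono_of_epi ((DerivedCategory.homologyFunctor X.Modules c).map ((T.truncLTι (c + 1)).app M))
    let eH : DCoh.HD M c ≅ N :=
      (asIso ((DerivedCategory.homologyFunctor X.Modules c).map ((T.truncLTι (c + 1)).app M))).symm ≪≫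
        (DerivedCategory.homologyFunctor X.Modules c).mapIso eN ≪≫
        (DerivedCategory.singleFunctorCompHomologyFunctorIso X.Modules c).app N
    obtain ⟨m₁, hm₁, hk₁⟩ := ih B (c + 1) hB (by push_cast at hp ⊢; omega) hBq hB0 n (h ≫ (T.truncGEπ (c + 1)).app M)
    obtain ⟨t₁, ht₁⟩ := exists_trC I F hFc hm₁
    obtain ⟨w, hw⟩ := Triangle.coyoneda_exact₂ _ hT (DerivedCategory.Q.map t₁ ≫ h)
      ((Category.assoc _ _ _).trans (hk₁ t₁ ht₁))
    obtain ⟨m₂, hm₂, hk₂⟩ := kill_single j I hI F lo hi hF hFc (k + 1) c hp N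
      (Coherent.isQCoh_of_iso eH (h := hq c)) ((h0 c).of_iso ((Scheme.Modules.restrictFunctor j).mapIso eH.symm))
      m₁ (w ≫ eN.hom)
    obtain ⟨t₂, ht₂⟩ := exists_trC I F hFc hm₂
    refine ⟨m₂, hm₁.trans hm₂, fun t ht => ?_⟩
    have et : t = t₂ ≫ t₁ := by rw [← cancel_mono (Dual3.deligneι I n F), ht, Category.assoc, ht₁, ht₂]
    have hw0 : DerivedCategory.Q.map t₂ ≫ w = 0 := by
      rw [← cancel_mono eN.hom, Category.assoc, hk₂ t₂ ht₂, zero_comp]
    rw [et, Functor.map_comp, Category.assoc, hw, reassoc_of% hw0, zero_comp]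

end Groth.Agent.DualLib.DeligneHom
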