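import Groth.Agent.DualLib.Matlis
import Groth.Agent.DualLib.Depth
import Groth.Agent.Matlis6.Completion
import Groth.Agent.LocCoh.Local
import Mathlib.RingTheory.Artinian.Module

/-! The injective hull of the residue field as the direct limit of `Hom_{D(A)}(A/mⁿ, ω)`. -/

set_option autoImplicit false
set_option backward.isDefEq.respectTransparency false
set_option backward.defeqAttrib.useBackward true
set_option linter.style.haveILetI false

universe u

open CategoryTheory CategoryTheory.Limits CategoryTheory.Pretriangulated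

attribute [local instance] HasDerivedCategory.standard

namespace Groth.Agent.DualLib

variable (A : Type u) [CommRing A] [IsLocalRing A]

/-- `A/mⁿ`. -/
abbrev N (n : ℕ) : Type u := A ⧸ IsLocalRing.maximalIdeal A ^ n

/-- `A/mᵏ → A/mⁿ`. -/
noncomputable abbrev Nmap {n k : ℕ} (h : n ≤ k) : N A k →ₗ[A] N A n :=
  Submodule.mapQ _ _ LinearMap.id (Ideal.pow_le_pow_right h)

/-- The elements killed by `mⁿ`. -/
def killed (E₀ : Type u) [AddCommGroup E₀] [Module A E₀] (n : ℕ) : Submodule A E₀ where
  carrier := {e | ∀ a ∈ IsLocalRing.maximalIdeal A ^ n, a • e = 0}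
  zero_mem' _ _ := smul_zero _
  add_mem' {x y} hx hy a ha := by rw [smul_add, hx a ha, hy a ha, add_zero]
  smul_mem' c x hx a ha := by rw [smul_comm, hx a ha, smul_zero]

variable {A}
variable [IsNoetherianRing A] {ω : Dual.D A} (hω : Dual.IsDualizing A ω) (hn : Dual.IsNormalized A ω)
variable {E₀ : Type u} [AddCommGroup E₀] [Module A E₀]

lemma isFiniteLength_N (n : ℕ) : IsFiniteLength A (N A n) :=
  Matlis6.isFiniteLength_quotient_pow (m := IsLocalRing.maximalIdeal A) n

include hω hn

omit hω in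
lemma injective_emap_Nmap {n k : ℕ} (h : n ≤ k) : Function.Injective (emap ω (Nmap A h) 0) := by
  have hs : Function.Surjective (Nmap A h) := fun y => by
    obtain ⟨a, rfl⟩ := Submodule.Quotient.mk_surjective _ y
    exact ⟨Submodule.Quotient.mk a, rfl⟩
  haveI : Module.Finite A (LinearMap.ker (Nmap A h)) := Module.Finite.of_fg (IsNoetherian.noetherian _)
  refine injective_emap (W := ω) (Submodule.injective_subtype _) hs (LinearMap.exact_subtype_ker_map _) 0 ?_
  exact subsingleton_of_ne hn _ ((Module.support_subset_of_injective _ (Submodule.injective_subtype _)).trans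
    (support_subset_of_isFiniteLength (isFiniteLength_N k))) _ (by omega)

lemma exists_equiv_killed {f₀ : IsLocalRing.ResidueField A →ₗ[A] E₀} (hf : InjHull.IsInjectiveHull f₀) (n : ℕ) :
    ∃ σ : E ω (N A n) 0 →ₗ[A] E₀, Function.Injective σ ∧ LinearMap.range σ = killed A E₀ n ∧
      IsArtinian A (killed A E₀ n) := by
  obtain ⟨e⟩ := exists_matlis_equiv hω hn hf (N A n) (isFiniteLength_N n)
  let ev : (N A n →ₗ[A] E₀) →ₗ[A] E₀ := LinearMap.applyₗ (Submodule.Quotient.mk 1)
  have hev : Function.Injective ev := fun g g' h =>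
    Submodule.linearMap_qext _ (LinearMap.ext_ring h)
  have hr : LinearMap.range ev = killed A E₀ n := by
    ext x
    constructor
    · rintro ⟨g, rfl⟩ a ha
      show a • g (Submodule.Quotient.mk 1) = 0
      rw [← map_smul, ← Submodule.Quotient.mk_smul, smul_eq_mul, mul_one,
        (Submodule.Quotient.mk_eq_zero _).2 ha, map_zero]
    · intro hx
      exact ⟨Submodule.liftQ _ (LinearMap.toSpanSingleton A E₀ x) hx, one_smul A x⟩
  refine ⟨ev ∘ₗ e.toLinearMap, hev.comp e.injective, by rw [LinearMap.range_comp, LinearEquiv.range,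
    Submodule.map_top, hr], ?_⟩
  rw [← hr]
  have hE := Matlis6.of_isInjectiveHull_residueField hf
  have hne : Module.length A (N A n →ₗ[A] E₀) ≠ ⊤ := by
    rw [hE.length_dual (isFiniteLength_N n) (n := n) (fun a ha x => by
      obtain ⟨b, rfl⟩ := Submodule.Quotient.mk_surjective _ x
      rw [← Submodule.Quotient.mk_smul, Submodule.Quotient.mk_eq_zero]
      exact Ideal.mul_mem_right _ _ ha)]
    exact Module.length_ne_top_iff.2 (isFiniteLength_N n)
  haveI : IsArtinian A (N A n →ₗ[A] E₀) :=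
    (isFiniteLength_iff_isNoetherian_isArtinian.1 (Module.length_ne_top_iff.1 hne)).2
  exact isArtinian_range ev

omit hω hn [IsNoetherianRing A] in
lemma killed_endo_bijective {n : ℕ} [IsArtinian A (killed A E₀ n)] {X : Type*} [AddCommGroup X] [Module A X]
    (σ τ : X →ₗ[A] E₀) (hσ : Function.Injective σ) (hσr : LinearMap.range σ = killed A E₀ n)
    (hτ : Function.Injective τ) (hτr : LinearMap.range τ ≤ killed A E₀ n) : LinearMap.range τ = killed A E₀ n := by
  let e : X ≃ₗ[A] killed A E₀ n := (LinearEquiv.ofInjective σ hσ).trans (LinearEquiv.ofEq _ _ hσr)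
  let φ : killed A E₀ n →ₗ[A] killed A E₀ n :=
    LinearMap.codRestrict _ (τ ∘ₗ e.symm.toLinearMap) fun x => hτr ⟨_, rfl⟩
  have hb := IsArtinian.bijective_of_injective_endomorphism φ fun a b hab =>
    e.symm.injective (hτ (congrArg Subtype.val hab))
  refine le_antisymm hτr fun x hx => ?_
  obtain ⟨y, hy⟩ := hb.2 ⟨x, hx⟩
  exact ⟨e.symm y, congrArg Subtype.val hy⟩

/-- A compatible system of isomorphisms `Hom(A/mⁿ, ω) ≅ E₀[mⁿ]`. -/
theorem exists_dualSystem {f₀ : IsLocalRing.ResidueField A →ₗ[A] E₀} (hf : InjHull.IsInjectiveHull f₀) :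
    ∃ ρ : ∀ n, E ω (N A n) 0 →ₗ[A] E₀, (∀ n, Function.Injective (ρ n)) ∧
      (∀ n, LinearMap.range (ρ n) = killed A E₀ n) ∧
      ∀ {n k : ℕ} (h : n ≤ k), ρ k ∘ₗ emap ω (Nmap A h) 0 = ρ n := by
  let P (n : ℕ) := {r : E ω (N A n) 0 →ₗ[A] E₀ // Function.Injective r ∧ LinearMap.range r = killed A E₀ n}
  have step : ∀ n (r : P n), ∃ r' : P (n + 1), r'.1 ∘ₗ emap ω (Nmap A n.le_succ) 0 = r.1 := by
    intro n r
    obtain ⟨σ, hσ, hσr, hart⟩ := exists_equiv_killed hω hn hf (n + 1)
    let j := emap ω (Nmap A n.le_succ) 0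
    have hj := injective_emap_Nmap hn (n.le_succ)
    have hleN : ∀ z, σ (j z) ∈ killed A E₀ n := fun z a ha => by
      rw [← map_smul, ← map_smul, smul_eq_zero_of_kills ω a (fun x => ?_) 0 z, map_zero, map_zero]
      obtain ⟨b, rfl⟩ := Submodule.Quotient.mk_surjective _ x
      rw [← Submodule.Quotient.mk_smul, Submodule.Quotient.mk_eq_zero]
      exact Ideal.mul_mem_right _ _ ha
    have hartn : IsArtinian A (killed A E₀ n) := (exists_equiv_killed hω hn hf n).choose_spec.2.2
    have hjr : LinearMap.range (σ ∘ₗ j) = killed A E₀ n :=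
      killed_endo_bijective r.1 (σ ∘ₗ j) r.2.1 r.2.2 (hσ.comp hj) (by rintro _ ⟨z, rfl⟩; exact hleN z)
    rcases Nat.eq_zero_or_pos n with rfl | hpos
    · refine ⟨⟨σ, hσ, hσr⟩, LinearMap.ext fun z => ?_⟩
      haveI : Subsingleton (N A 0) := Submodule.Quotient.subsingleton_iff.2 (by rw [pow_zero]; exact Ideal.one_eq_top)
      haveI := subsingleton_of_subsingleton ω 0 (M := N A 0)
      rw [Subsingleton.elim z 0, map_zero, map_zero]
    · obtain ⟨γ, hγ⟩ := (Module.Baer.of_injective hf.isInjective).extension_property (σ ∘ₗ j) (hσ.comp hj) r.1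
      have hγi : Function.Injective γ := by
        rw [← LinearMap.ker_eq_bot]
        by_contra hne
        obtain ⟨y, ⟨hy1, hy2⟩, hy0⟩ := (Submodule.ne_bot_iff _).1 (hf.essential _ hne)
        obtain ⟨x, rfl⟩ := hy2
        have hmem : f₀ x ∈ killed A E₀ n := fun a ha => by
          rw [← map_smul]
          obtain ⟨b, rfl⟩ := Submodule.Quotient.mk_surjective _ x
          refine (congrArg f₀ ?_).trans (map_zero f₀)
          exact (Submodule.Quotient.mk_smul _ a b).symm.trans ((Submodule.Quotient.mk_eq_zero _).2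
            (Ideal.mul_mem_right b _ (Ideal.pow_le_self hpos.ne' ha) : a • b ∈ _))
        rw [← hjr] at hmem
        obtain ⟨z, hz⟩ := hmem
        have h0 : r.1 z = 0 := by
          rw [← LinearMap.congr_fun hγ z, LinearMap.comp_apply, hz]
          exact hy1
        rw [(injective_iff_map_eq_zero _).1 r.2.1 z h0, map_zero] at hz
        exact hy0 hz.symm
      refine ⟨⟨γ ∘ₗ σ, hγi.comp hσ, killed_endo_bijective σ (γ ∘ₗ σ) hσ hσr (hγi.comp hσ) ?_⟩, hγ⟩
      rintro _ ⟨z, rfl⟩ a ha
      rw [← map_smul, smul_eq_zero_of_kills ω a (fun x => ?_) 0 z, map_zero]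
      obtain ⟨b, rfl⟩ := Submodule.Quotient.mk_surjective _ x
      rw [← Submodule.Quotient.mk_smul, Submodule.Quotient.mk_eq_zero]
      exact Ideal.mul_mem_right _ _ ha
  choose next hnext using step
  obtain ⟨σ₀, hσ₀, hσ₀r, -⟩ := exists_equiv_killed hω hn hf 0
  let R : ∀ n, P n := fun n => Nat.rec (motive := P) ⟨σ₀, hσ₀, hσ₀r⟩ next n
  refine ⟨fun n => (R n).1, fun n => (R n).2.1, fun n => (R n).2.2, fun {n k} h => ?_⟩
  induction h with
  | refl =>
    rw [show Nmap A (le_refl n) = LinearMap.id from Submodule.linearMap_qext _ (LinearMap.ext fun _ => rfl),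
      emap_id, LinearMap.comp_id]
  | @step m hm ih =>
    rw [show Nmap A (Nat.le.step hm) = Nmap A hm ∘ₗ Nmap A m.le_succ from
        Submodule.linearMap_qext _ (LinearMap.ext fun _ => rfl),
      emap_comp, ← LinearMap.comp_assoc]
    show ((next m (R m)).1 ∘ₗ _) ∘ₗ _ = _
    rw [hnext, ih]

end Groth.Agent.DualLib
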