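import Groth.Agent.DualLib.FieldFunctional
import Groth.Agent.Dual22Lib.CohAdj
import Groth.Agent.Dual22Lib.ScalarD
import Groth.Agent.Dual22Lib.PerfGen
import Groth.Agent.SerreDual.ExtLocFree
import Groth.Agent.SerreDual.Exist
import Groth.Agent.DQCoh.BettiRank
import Groth.Agent.DQCoh.Push
import Groth.Agent.DCat.PullPush
import Groth.Agent.FlatBC14.Main
import Groth.Agent.Coherent.CohBC.PushStructure
import Groth.Agent.Coherent.ProperFinite

/-!
# The dualizing module of a proper scheme over a field is coherent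
-/

set_option autoImplicit false
set_option backward.isDefEq.respectTransparency false
set_option backward.defeqAttrib.useBackward true
set_option linter.style.haveILetI false

universe u

open CategoryTheory CategoryTheory.Limits CategoryTheory.Abelian DerivedCategory AlgebraicGeometry Opposite
open Groth.Agent.Coherent Groth.Agent.DCat

attribute [local instance] HasDerivedCategory.standard

namespace Groth.Agent.DualLib.DualCoh

variable {k : Type u} [Field k] {X : Scheme.{u}} [X.Over (Spec (CommRingCat.of k))]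

variable (k) in
/-- `O` of the base. -/
noncomputable abbrev PS : DCoh.D (Spec (CommRingCat.of k)) :=
  (DQCoh.sec (Spec (CommRingCat.of k))).pt.obj ⊤

/-- The structure map is over the base. -/
theorem isOver_str : (X ↘ Spec (CommRingCat.of k)).IsOver (Spec (CommRingCat.of k)) :=
  ⟨(congrArg (_ ≫ ·) (Spec.map_id _)).trans (Category.comp_id _)⟩

/-- Pullback of `j_! O` from the base. -/
theorem nonempty_pullFree {Y : Scheme.{u}} (f : X ⟶ Y) :
    Nonempty ((Scheme.Modules.pullback f).obj ((freeModOn Y).obj ⊤) ≅ (freeModOn X).obj ⊤) := by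
  let adj := Scheme.Modules.pullbackPushforwardAdjunction f
  let E₁ : ∀ M : X.Modules, ((Scheme.Modules.pullback f).obj ((freeModOn Y).obj ⊤) ⟶ M) ≃ Γ(M, ⊤) := fun M =>
    (adj.homEquiv _ M).trans (freeModOnEquiv ⊤ ((Scheme.Modules.pushforward f).obj M))
  let E₂ : ∀ M : X.Modules, ((freeModOn X).obj ⊤ ⟶ M) ≃ Γ(M, ⊤) := freeModOnEquiv ⊤
  have h₁ : ∀ {M N : X.Modules} (g : (Scheme.Modules.pullback f).obj ((freeModOn Y).obj ⊤) ⟶ M) (φ : M ⟶ N),
      E₁ N (g ≫ φ) = φ.app ⊤ (E₁ M g) := fun g φ => by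
    simp only [E₁, Equiv.trans_apply, Adjunction.homEquiv_naturality_right]
    exact freeModOnEquiv_comp ⊤ _ _
  have h₂ : ∀ {M N : X.Modules} (g : (freeModOn X).obj ⊤ ⟶ M) (φ : M ⟶ N),
      E₂ N (g ≫ φ) = φ.app ⊤ (E₂ M g) := fun g φ => freeModOnEquiv_comp ⊤ g φ
  exact ⟨{ hom := (E₁ _).symm (E₂ _ (𝟙 _))
           inv := (E₂ _).symm (E₁ _ (𝟙 _))
           hom_inv_id := (E₁ _).injective (by
             rw [h₁, Equiv.apply_symm_apply, ← h₂, Category.id_comp, Equiv.apply_symm_apply])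
           inv_hom_id := (E₂ _).injective (by
             rw [h₂, Equiv.apply_symm_apply, ← h₁, Category.id_comp, Equiv.apply_symm_apply]) }⟩

/-- The pullback of `O` is `O`, derived. -/
theorem nonempty_lpullTop (f : X ⟶ Spec (CommRingCat.of k)) [DCoh.HasLpull f] :
    Nonempty ((DCoh.Lpull f).obj (PS k) ≅ (singleFunctor X.Modules 0).obj ((freeModOn X).obj ⊤)) := by
  have h : FlatMod.IsFinLocFree ((freeModOn (Spec (CommRingCat.of k))).obj ⊤) :=
    PerfTensor.isFinLocFree_of_iso (DQCoh.topIso (CommRingCat.of k) ≪≫ tildeSelf).symm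
      (Coherent.CohBC.isFinLocFree_structureModule _)
  obtain ⟨e⟩ := DQCoh.nonempty_Lpull_inD f h
  obtain ⟨e'⟩ := nonempty_pullFree (Y := Spec (CommRingCat.of k)) f
  exact ⟨e ≪≫ (singleFunctor X.Modules 0).mapIso e'⟩

variable [DCoh.HasRpush (X ↘ Spec (CommRingCat.of k))]

variable (k) in
/-- `Rf_*(M[n])`. -/
noncomputable abbrev gS (M : X.Modules) (n : ℕ) : DCoh.D (Spec (CommRingCat.of k)) :=
  (DCoh.Rpush (X ↘ Spec (CommRingCat.of k))).obj (((singleFunctor X.Modules 0).obj M)⟦(n : ℤ)⟧)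

theorem additive_Rpush : (DCoh.Rpush (X ↘ Spec (CommRingCat.of k))).Additive := by
  obtain ⟨_, _⟩ := exists_commShift_Rpush (X ↘ Spec (CommRingCat.of k))
  infer_instance

theorem map_smul_Rpush {K L : DCoh.D X} (a : k) (y : K ⟶ L) :
    (DCoh.Rpush (X ↘ Spec (CommRingCat.of k))).map (a • y) =
      a • (DCoh.Rpush (X ↘ Spec (CommRingCat.of k))).map y := by
  haveI := isOver_str (k := k) (X := X)
  rw [← Category.comp_id y, ← Linear.comp_smul, Functor.map_comp, Dual22Lib.ScalarD.Rpush_map_smul_id,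
    Linear.comp_smul]
  erw [Category.comp_id, Category.comp_id]

/-- The transposition `Hom(O_X, K) → Hom(O, Rf_* K)`, linearly. -/
theorem exists_transpose : ∃ u : PS k ⟶ (DCoh.Rpush (X ↘ Spec (CommRingCat.of k))).obj
      ((singleFunctor X.Modules 0).obj ((freeModOn X).obj ⊤)),
    ∀ K : DCoh.D X, Function.Bijective
      fun y : (singleFunctor X.Modules 0).obj ((freeModOn X).obj ⊤) ⟶ K =>
        u ≫ (DCoh.Rpush (X ↘ Spec (CommRingCat.of k))).map y := by
  let f := X ↘ Spec (CommRingCat.of k)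
  haveI := hasLpull f
  obtain ⟨adj⟩ := nonempty_pullPushAdj f
  obtain ⟨c⟩ := nonempty_lpullTop (k := k) f
  refine ⟨adj.homEquiv _ _ c.hom, fun K => ?_⟩
  have e : (fun y => adj.homEquiv _ _ c.hom ≫ (DCoh.Rpush f).map y) =
      (adj.homEquiv (PS k) K) ∘ fun y => c.hom ≫ y := by
    funext y
    exact (adj.homEquiv_naturality_right c.hom y).symm
  exact e ▸ (adj.homEquiv _ _).bijective.comp c.symm.homFromEquiv.bijective

/-- Maps `O ⟶ Rf_*(M[n])` as cohomology. -/
theorem exists_eLin : ∃ e : ∀ (M : X.Modules) (n : ℕ), (PS k ⟶ gS k M n) ≃ₗ[k] Coh.HH X M n,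
    ∀ (M N : X.Modules) (g : M ⟶ N) (n : ℕ) (x : PS k ⟶ gS k M n),
      e N n (x ≫ (DCoh.Rpush (X ↘ Spec (CommRingCat.of k))).map (((singleFunctor X.Modules 0).map g)⟦(n : ℤ)⟧')) =
        Sheaf.H.map ((SheafOfModules.toSheaf X.ringCatSheaf).map g) n (e M n x) := by
  obtain ⟨u, hu⟩ := exists_transpose (k := k) (X := X)
  haveI := additive_Rpush (k := k) (X := X)
  let R := DCoh.Rpush (X ↘ Spec (CommRingCat.of k))
  let τ : ∀ (M : X.Modules) (n : ℕ), ((singleFunctor X.Modules 0).obj ((freeModOn X).obj ⊤) ⟶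
      ((singleFunctor X.Modules 0).obj M)⟦(n : ℤ)⟧) ≃ₗ[k] (PS k ⟶ gS k M n) := fun M n =>
    LinearEquiv.ofBijective
      { toFun := fun y => u ≫ R.map y
        map_add' := fun y z => by rw [Functor.map_add, Preadditive.comp_add]
        map_smul' := fun a y => by
          rw [map_smul_Rpush, Linear.comp_smul]
          rfl } (hu _)
  let H : ∀ (M : X.Modules) (n : ℕ), ((singleFunctor X.Modules 0).obj ((freeModOn X).obj ⊤) ⟶
      ((singleFunctor X.Modules 0).obj M)⟦(n : ℤ)⟧) ≃ₗ[k] Coh.HH X M n := fun M n =>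
    (Ext.homLinearEquiv (R := k)).symm.trans (SerreDual.extHHLin k M n)
  refine ⟨fun M n => (τ M n).symm.trans (H M n), fun M N g n x => ?_⟩
  obtain ⟨y, rfl⟩ := (τ M n).surjective x
  have hy : τ M n y ≫ R.map (((singleFunctor X.Modules 0).map g)⟦(n : ℤ)⟧') =
      τ N n (y ≫ ((singleFunctor X.Modules 0).map g)⟦(n : ℤ)⟧') := by
    show (u ≫ R.map y) ≫ _ = u ≫ R.map _
    rw [Functor.map_comp, Category.assoc]
  rw [hy]
  simp only [LinearEquiv.trans_apply, LinearEquiv.symm_apply_apply]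
  obtain ⟨α, rfl⟩ := (Ext.homLinearEquiv (R := k) (X := (freeModOn X).obj ⊤) (Y := M) (n := n)).surjective y
  have hα : (Ext.homLinearEquiv (R := k)) (α.comp (Ext.mk₀ g) (add_zero n)) =
      (Ext.homLinearEquiv (R := k) α) ≫ ((singleFunctor X.Modules 0).map g)⟦(n : ℤ)⟧' := by
    show (α.comp (Ext.mk₀ g) (add_zero n)).hom = α.hom ≫ _
    rw [Ext.comp_hom, Ext.mk₀_hom, ShiftedHom.comp_mk₀]
  simp only [H, LinearEquiv.trans_apply]
  rw [← hα, LinearEquiv.symm_apply_apply, LinearEquiv.symm_apply_apply]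
  exact SerreDual.extHH_natural g n α

variable [IsProper (X ↘ Spec (CommRingCat.of k))]

theorem isQCohD_gS (M : X.Modules) [Coh.IsQCoh M] (n : ℕ) : DCoh.IsQCohD (gS k M n) := by
  haveI := EulerLib.isNoetherian_of_proper (k := k) (X := X)
  exact DQCoh.isQCohD_Rpush _ _ (DQCoh.isQCohD_shift (FlatBC14.isQCohD_inD M) _)

theorem isLE_gS_of_le {d : ℕ} (_hd : topologicalKrullDim X ≤ d) (M : X.Modules) [Coh.IsQCoh M] {n : ℕ}
    (_hn : d ≤ n) (hv : ∀ j' : ℕ, Subsingleton (Coh.HH X M (n + j'))) : (gS k M n).IsLE (-1) := by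
  haveI := EulerLib.isNoetherian_of_proper (k := k) (X := X)
  haveI : X.IsSeparated := EulerLib.isSeparated_of_proper (X := X) k
  obtain ⟨e, -⟩ := exists_eLin (k := k) (X := X)
  obtain ⟨_, _⟩ := exists_commShift_Rpush (X ↘ Spec (CommRingCat.of k))
  refine (DerivedCategory.isLE_iff _ _).2 fun j hj => ?_
  obtain ⟨j', rfl⟩ := Int.eq_ofNat_of_zero_le (show 0 ≤ j by omega)
  refine Dual22Lib.PerfGen.isZero_HD_of_pt_top (isQCohD_gS M n) (j' : ℤ) fun φ => ?_
  let w : (gS k M n)⟦(j' : ℤ)⟧ ≅ gS k M (n + j') :=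
    ((DCoh.Rpush (X ↘ Spec (CommRingCat.of k))).commShiftIso (j' : ℤ)).symm.app _ ≪≫
      (DCoh.Rpush _).mapIso ((shiftFunctorAdd' (DCoh.D X) (n : ℤ) (j' : ℤ) ((n + j' : ℕ) : ℤ) (by omega)).symm.app _)
  haveI := hv j'
  haveI : Subsingleton (PS k ⟶ gS k M (n + j')) := (e M (n + j')).toEquiv.subsingleton
  have h0 : ((shiftFunctorCompIsoId (DCoh.D (Spec (CommRingCat.of k))) (-(j' : ℤ)) (j' : ℤ) (by omega)).inv.app (PS k) ≫
      φ⟦(j' : ℤ)⟧') ≫ w.hom = 0 :=
    Subsingleton.elim (α := PS k ⟶ gS k M (n + j')) _ _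
  rw [Preadditive.IsIso.comp_right_eq_zero, Preadditive.IsIso.comp_left_eq_zero] at h0
  exact (shiftFunctor _ (j' : ℤ)).map_eq_zero_iff.1 h0

theorem isLE_gS {d : ℕ} (hd : topologicalKrullDim X ≤ d) (M : X.Modules) [Coh.IsQCoh M] {n : ℕ} (hn : d < n) :
    (gS k M n).IsLE (-1) := by
  haveI := EulerLib.isNoetherian_of_proper (k := k) (X := X)
  haveI : X.IsSeparated := EulerLib.isSeparated_of_proper (X := X) k
  exact isLE_gS_of_le hd M hn.le fun j' => EulerLib.subsingleton_HH_of_dim M hd (by omega)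

/-- Maps out of a module in degree zero into degrees `≥ 0` are seen by `H⁰`. -/
theorem eq_zero_of_single_of_isGE {X : Scheme.{u}} {M : X.Modules} {Y : DCoh.D X} [Y.IsGE 0]
    (g : (singleFunctor X.Modules 0).obj M ⟶ Y) (h : (homologyFunctor X.Modules 0).map g = 0) : g = 0 := by
  let t₀ := DerivedCategory.TStructure.t (C := X.Modules)
  haveI : (t₀.truncLT 1 |>.obj Y).IsLE 0 := t₀.isLE_truncLT_obj _ _ _ (by omega)
  haveI : (t₀.truncLT 1 |>.obj Y).IsGE 0 := inferInstance
  obtain ⟨g', hg'⟩ := Pretriangulated.Triangle.coyoneda_exact₂ _ (t₀.triangleLTGE_distinguished 1 Y) g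
    (t₀.zero _ 0 1 (by omega))
  dsimp at g' hg'
  haveI := mono_homology_truncLTι Y 1 0
  have h' : (homologyFunctor X.Modules 0).map g' = 0 := by
    rw [← cancel_mono ((homologyFunctor X.Modules 0).map ((t₀.truncLTι 1).app Y)), zero_comp, ← Functor.map_comp,
      ← hg', h]
  rw [hg', eq_zero_of_homology_map_eq_zero g' 0 h', zero_comp]
/-- `O` of the base is nonzero. -/
theorem not_isZero_PS (k : Type u) [Field k] : ¬ IsZero (PS k) := fun h => by
  have h1 : IsZero ((freeModOn (Spec (CommRingCat.of k))).obj ⊤) :=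
    ((homologyFunctor _ 0).map_isZero h).of_iso ((singleFunctorCompHomologyFunctorIso _ 0).app _).symm
  have h2 : IsZero (ModuleCat.of (CommRingCat.of k) k) :=
    haveI : (moduleSpecΓFunctor (R := CommRingCat.of k)).Additive := Adjunction.right_adjoint_additive tilde.adjunction
    ((moduleSpecΓFunctor (R := CommRingCat.of k)).map_isZero (h1.of_iso (DQCoh.topIso (CommRingCat.of k)).symm)).of_iso
      (tilde.toTildeΓNatIso.app _)
  exact one_ne_zero (α := k) ((ModuleCat.subsingleton_of_isZero h2).elim _ _)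


/-- Scalars act faithfully on `O`. -/
theorem eq_zero_of_smul_id {k : Type u} [Field k] {c : k} (h : c • 𝟙 (PS k) = 0) : c = 0 := by
  by_contra hc
  have h0 : 𝟙 (PS k) = 0 := by rw [← one_smul k (𝟙 (PS k)), ← inv_mul_cancel₀ hc, mul_smul, h, smul_zero]
  haveI : Nonempty (Spec (CommRingCat.of k) : Scheme.{u}) := inferInstance
  exact not_isZero_PS k ((IsZero.iff_id_eq_zero _).2 h0)
variable (k X)

/-- The representing object is in degrees `≥ -d`. -/
theorem isGE_rep {d : ℕ} (hd : topologicalKrullDim X ≤ d) {A : DCoh.D X}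
    (hA : Dual22Lib.RepLib.RepObj (X ↘ Spec (CommRingCat.of k)) (PS k) A) : A.IsGE (-(d : ℤ)) := by
  haveI := EulerLib.isNoetherian_of_proper (k := k) (X := X)
  haveI : X.IsSeparated := EulerLib.isSeparated_of_proper (X := X) k
  haveI : (PS k).IsGE 0 := (inferInstance :
    ((singleFunctor (Spec (CommRingCat.of k)).Modules 0).obj ((freeModOn _).obj ⊤)).IsGE 0)
  obtain ⟨hAq, ε, hε⟩ := hA.out
  obtain ⟨c, hc⟩ := Dual22Lib.RepLib.exists_isGE 0 hA
  haveI := hc
  refine (DerivedCategory.isGE_iff _ _).2 fun i hi => ?_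
  suffices h : ∀ (m : ℕ) (i : ℤ), i < -(d : ℤ) → i < c + m → IsZero (DCoh.HD A i) from
    h (i - c).toNat.succ i hi (by omega)
  intro m
  induction m with
  | zero => exact fun i _ h => isZero_of_isGE A c i (by omega)
  | succ m ih =>
    intro i hi him
    by_cases hlt : i < c + m
    · exact ih i hi hlt
    haveI : A.IsGE i := (DerivedCategory.isGE_iff _ _).2 fun j hj => ih j (by omega) (by omega)
    obtain ⟨n, hn⟩ : ∃ n : ℕ, (n : ℤ) = -i := ⟨(-i).toNat, by omega⟩
    let t₀ := DerivedCategory.TStructure.t (C := X.Modules)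
    let τA := (t₀.truncLT (i + 1)).obj A
    haveI : τA.IsLE i := t₀.isLE_truncLT_obj _ _ _ (by omega)
    haveI : τA.IsGE i := inferInstance
    have hiso : IsIso ((homologyFunctor X.Modules i).map ((t₀.truncLTι (i + 1)).app A)) := by
      haveI := mono_homology_truncLTι A (i + 1) i
      haveI : Epi ((homologyFunctor X.Modules i).map ((t₀.truncLTι (i + 1)).app A)) :=
        (HomologySequence.epi_homologyMap_mor₁_iff _ (t₀.triangleLTGE_distinguished (i + 1) A) i).2
          ((isZero_of_isGE (t₀.truncGE (i + 1) |>.obj A) (i + 1) i (by omega)).eq_of_tgt _ _)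
      exact isIso_of_mono_of_epi _
    obtain ⟨F, ⟨eF⟩⟩ := exists_iso_singleFunctor_obj_of_isGE_of_isLE τA i
    haveI : Coh.IsQCoh F := isQCoh_of_iso ((asIso ((homologyFunctor X.Modules i).map ((t₀.truncLTι (i + 1)).app A))).symm ≪≫
      (homologyFunctor X.Modules i).mapIso eF ≪≫ (singleFunctorCompHomologyFunctorIso X.Modules i).app F) (h := hAq i)
    haveI : (gS k F n).IsLE (-1) := isLE_gS hd F (by omega)
    let s : ((singleFunctor X.Modules 0).obj F)⟦(n : ℤ)⟧ ≅ τA :=
      ((singleFunctors X.Modules).shiftIso (n : ℤ) i 0 (by omega)).app F ≪≫ eF.symm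
    have h0 : s.hom ≫ (t₀.truncLTι (i + 1)).app A = 0 := by
      refine (hε _ (DQCoh.isQCohD_shift (FlatBC14.isQCohD_inD F) _)).1 ?_
      exact (DerivedCategory.TStructure.t.zero (X := gS k F n) (Y := PS k) _ (-1) 0 (by omega)).trans
        (DerivedCategory.TStructure.t.zero (X := gS k F n) (Y := PS k) _ (-1) 0 (by omega)).symm
    rw [Preadditive.IsIso.comp_left_eq_zero] at h0
    rw [h0, Functor.map_zero] at hiso
    haveI := hiso
    exact (IsZero.iff_id_eq_zero _).2 ((cancel_epi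
      (0 : (homologyFunctor X.Modules i).obj τA ⟶ DCoh.HD A i)).1 (by simp))

/-- `O` of the base is coherent. -/
theorem isCohD_PS : DCoh.IsCohD (PS k) := fun i => by
  haveI : (PS k).IsGE 0 := (inferInstance :
    ((singleFunctor (Spec (CommRingCat.of k)).Modules 0).obj ((freeModOn _).obj ⊤)).IsGE 0)
  haveI : (PS k).IsLE 0 := (inferInstance :
    ((singleFunctor (Spec (CommRingCat.of k)).Modules 0).obj ((freeModOn _).obj ⊤)).IsLE 0)
  by_cases hi : i = 0
  · subst hi
    exact Coherent.isCoh_iso (((singleFunctorCompHomologyFunctorIso _ 0).app ((freeModOn _).obj ⊤)).symm)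
      (Coherent.isCoh_iso (DQCoh.topIso (CommRingCat.of k) ≪≫ tildeSelf).symm
        (Coherent.isCoh_structureModule _))
  · rcases lt_or_gt_of_ne hi with h | h
    · exact (DQCoh.coh_ops _).1 _ (isZero_of_isGE (PS k) 0 i h)
    · exact (DQCoh.coh_ops _).1 _ (isZero_of_isLE (PS k) 0 i h)

/-- The representing object is coherent. -/
theorem isCohD_rep {A : DCoh.D X} (hA : Dual22Lib.RepLib.RepObj (X ↘ Spec (CommRingCat.of k)) (PS k) A) :
    DCoh.IsCohD A := by
  haveI : (PS k).IsGE 0 := (inferInstance :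
    ((singleFunctor (Spec (CommRingCat.of k)).Modules 0).obj ((freeModOn _).obj ⊤)).IsGE 0)
  exact Dual22Lib.CohAdj.isCohD_of_rep (X ↘ Spec (CommRingCat.of k)) hA 0 (isCohD_PS k)

/-- The dualizing module is a submodule of `H^{-d}` of the representing object. -/
theorem exists_mono_of_rep {d : ℕ} (hd : topologicalKrullDim X ≤ d) {A : DCoh.D X}
    (hA : Dual22Lib.RepLib.RepObj (X ↘ Spec (CommRingCat.of k)) (PS k) A) {ω : X.Modules} [Coh.IsQCoh ω]
    (t : Coh.HH X ω d →ₗ[k] k) (hrep : ∀ F : X.Modules, Coh.IsQCoh F → SerreDual.Rep t F) :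
    ∃ θ : ω ⟶ DCoh.HD (A⟦(-(d : ℤ))⟧) 0, Mono θ := by
  haveI := EulerLib.isNoetherian_of_proper (k := k) (X := X)
  haveI : X.IsSeparated := EulerLib.isSeparated_of_proper (X := X) k
  let f := X ↘ Spec (CommRingCat.of k)
  haveI hAGE := isGE_rep k X hd hA
  have hAc := isCohD_rep k X hA
  obtain ⟨hAq, ε, hε⟩ := hA.out
  obtain ⟨e, he⟩ := exists_eLin (k := k) (X := X)
  -- the comparison map into `H^{-d}`
  haveI := AffSchLib.preservesFiniteLimits_tilde (CommRingCat.of k)
  obtain ⟨φ₀, hφ₀⟩ := FieldFun.exists_functional (gS k ω d) (isQCohD_gS ω d) (t ∘ₗ (e ω d).toLinearMap)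
  obtain ⟨η, hη⟩ := (hε _ (DQCoh.isQCohD_shift (FlatBC14.isQCohD_inD ω) _)).2 φ₀
  let A₀ := A⟦(-(d : ℤ))⟧
  haveI : A₀.IsGE 0 := DerivedCategory.TStructure.t.isGE_shift A (-(d : ℤ)) (-(d : ℤ)) 0 (by omega)
  let η₀ : (singleFunctor X.Modules 0).obj ω ⟶ A₀ :=
    (shiftFunctorCompIsoId (DCoh.D X) (d : ℤ) (-(d : ℤ)) (by omega)).inv.app _ ≫ η⟦(-(d : ℤ))⟧'
  let θ : ω ⟶ DCoh.HD A₀ 0 :=
    (singleFunctorCompHomologyFunctorIso X.Modules 0).inv.app ω ≫ (homologyFunctor X.Modules 0).map η₀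
  haveI : Mono θ := by
    haveI : Coh.IsQCoh (DCoh.HD A₀ 0) := ((Dual22Lib.FinHom.isCohD_shift hAc (-(d : ℤ))) 0).1
    haveI : Coh.IsQCoh (kernel θ) := isQCoh_kernel θ
    refine Preadditive.mono_of_isZero_kernel θ ?_
    refine IsZero.of_mono_eq_zero (kernel.ι θ) ?_
    have key : ∀ (K : X.Modules) (q : K ⟶ ω), q ≫ θ = 0 →
        ((singleFunctor X.Modules 0).map q)⟦(d : ℤ)⟧' ≫ η = 0 := fun K q hq => by
      have h1 : (singleFunctor X.Modules 0).map q ≫ η₀ = 0 := by
        refine eq_zero_of_single_of_isGE _ ?_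
        rw [← cancel_epi ((singleFunctorCompHomologyFunctorIso X.Modules 0).inv.app K), comp_zero,
          Functor.map_comp]
        have hn := (singleFunctorCompHomologyFunctorIso X.Modules 0).inv.naturality q
        dsimp at hn
        rw [← Category.assoc, ← hn, Category.assoc]
        exact hq
      have h2 : ((singleFunctor X.Modules 0).map q)⟦(d : ℤ)⟧' ≫ η = 0 := by
        apply (shiftFunctor (DCoh.D X) (-(d : ℤ))).map_injective
        rw [Functor.map_comp, Functor.map_zero,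
          ← cancel_epi ((shiftFunctorCompIsoId (DCoh.D X) (d : ℤ) (-(d : ℤ)) (by omega)).inv.app _), comp_zero]
        have hn := (shiftFunctorCompIsoId (DCoh.D X) (d : ℤ) (-(d : ℤ)) (by omega)).inv.naturality
          ((singleFunctor X.Modules 0).map q)
        dsimp at hn
        rw [← Category.assoc, ← hn, Category.assoc]
        exact h1
      exact h2
    have h2 := key _ _ (kernel.condition θ)
    refine (hrep _ inferInstance).1 ?_
    rw [map_zero]
    refine LinearMap.ext fun z => ?_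
    obtain ⟨x, rfl⟩ := (e _ d).surjective z
    rw [SerreDual.theta_apply, LinearMap.zero_apply]
    rw [← he _ _ (kernel.ι θ) d x]
    have h3 := hφ₀ (x ≫ (DCoh.Rpush f).map (((singleFunctor X.Modules 0).map (kernel.ι θ))⟦(d : ℤ)⟧'))
    rw [← hη, Category.assoc, ← Functor.map_comp_assoc, h2, Functor.map_zero, zero_comp, comp_zero] at h3
    exact eq_zero_of_smul_id (k := k) h3.symm
  exact ⟨θ, this⟩

/-- The dualizing module of a proper scheme over a field is coherent. -/
theorem exists_coherent_dualizing {d : ℕ} (hd : topologicalKrullDim X ≤ d) :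
    ∃ (ω : X.Modules) (t : Coh.HH X ω d →ₗ[k] k), Coh.IsCoh ω ∧
      ∀ F : X.Modules, Coh.IsQCoh F → SerreDual.Rep t F := by
  haveI := EulerLib.isNoetherian_of_proper (k := k) (X := X)
  obtain ⟨ω, t, hω, hrep⟩ := SerreDual.exists_dualizing k X hd
  refine ⟨ω, t, ?_, hrep⟩
  haveI := hω
  obtain ⟨A, hA⟩ := Dual22Lib.RepLib.exists_repObj (X ↘ Spec (CommRingCat.of k)) (PS k)
  obtain ⟨θ, hθ⟩ := exists_mono_of_rep k X hd hA t hrep
  exact Coherent.isCoh_of_mono θ ((Dual22Lib.FinHom.isCohD_shift (isCohD_rep k X hA) (-(d : ℤ))) 0) hω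

/-- Nonzero `H^{-d}` gives nonzero top cohomology. -/
theorem not_subsingleton_of_rep {d : ℕ} (hd : topologicalKrullDim X ≤ d) {A : DCoh.D X}
    (hA : Dual22Lib.RepLib.RepObj (X ↘ Spec (CommRingCat.of k)) (PS k) A)
    (h : ¬ IsZero (DCoh.HD (A⟦(-(d : ℤ))⟧) 0)) :
    ¬ Subsingleton (Coh.HH X (DCoh.HD (A⟦(-(d : ℤ))⟧) 0) d) := by
  intro hsub
  refine h ?_
  haveI := EulerLib.isNoetherian_of_proper (k := k) (X := X)
  haveI : X.IsSeparated := EulerLib.isSeparated_of_proper (X := X) k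
  haveI hAGE := isGE_rep k X hd hA
  let A₀ := A⟦(-(d : ℤ))⟧
  haveI : A₀.IsGE 0 := DerivedCategory.TStructure.t.isGE_shift A (-(d : ℤ)) (-(d : ℤ)) 0 (by omega)
  obtain ⟨hAq, ε, hε⟩ := hA.out
  let W := DCoh.HD A₀ 0
  haveI hWq : Coh.IsQCoh W := (DQCoh.isQCohD_shift hAq (-(d : ℤ))) 0
  let t₀ := DerivedCategory.TStructure.t (C := X.Modules)
  haveI : (t₀.truncLT 1 |>.obj A₀).IsLE 0 := t₀.isLE_truncLT_obj _ _ _ (by omega)
  haveI : (t₀.truncLT 1 |>.obj A₀).IsGE 0 := inferInstance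
  haveI hι : IsIso ((homologyFunctor X.Modules 0).map ((t₀.truncLTι 1).app A₀)) := by
    haveI := mono_homology_truncLTι A₀ 1 0
    haveI : Epi ((homologyFunctor X.Modules 0).map ((t₀.truncLTι 1).app A₀)) :=
      (HomologySequence.epi_homologyMap_mor₁_iff _ (t₀.triangleLTGE_distinguished 1 A₀) 0).2
        ((isZero_of_isGE (t₀.truncGE 1 |>.obj A₀) 1 0 (by omega)).eq_of_tgt _ _)
    exact isIso_of_mono_of_epi _
  obtain ⟨M, ⟨eM⟩⟩ := exists_iso_singleFunctor_obj_of_isGE_of_isLE (t₀.truncLT 1 |>.obj A₀) 0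
  let w : M ≅ W := ((singleFunctorCompHomologyFunctorIso X.Modules 0).app M).symm ≪≫
    (homologyFunctor X.Modules 0).mapIso eM.symm ≪≫ asIso ((homologyFunctor X.Modules 0).map ((t₀.truncLTι 1).app A₀))
  haveI : Coh.IsQCoh M := Coherent.isQCoh_of_iso w.symm
  haveI : Subsingleton (Coh.HH X M d) := by
    refine ⟨fun a b => (SerreDual.hmapIso k w d).injective (Subsingleton.elim _ _)⟩
  obtain ⟨e, -⟩ := exists_eLin (k := k) (X := X)
  obtain ⟨_, _⟩ := exists_commShift_Rpush (X ↘ Spec (CommRingCat.of k))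
  haveI : (gS k M d).IsLE (-1) := by
    refine isLE_gS_of_le hd M le_rfl fun j' => ?_
    rcases Nat.eq_zero_or_pos j' with rfl | hj'
    · exact (inferInstance : Subsingleton (Coh.HH X M d))
    · exact EulerLib.subsingleton_HH_of_dim M hd (by omega)
  haveI : (PS k).IsGE 0 := (inferInstance :
    ((singleFunctor (Spec (CommRingCat.of k)).Modules 0).obj ((freeModOn _).obj ⊤)).IsGE 0)
  let η₀ : (singleFunctor X.Modules 0).obj M ⟶ A₀ := eM.inv ≫ (t₀.truncLTι 1).app A₀
  let η : ((singleFunctor X.Modules 0).obj M)⟦(d : ℤ)⟧ ⟶ A :=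
    η₀⟦(d : ℤ)⟧' ≫ (shiftFunctorCompIsoId (DCoh.D X) (-(d : ℤ)) (d : ℤ) (by omega)).hom.app A
  have hη : η = 0 := (hε _ (DQCoh.isQCohD_shift (FlatBC14.isQCohD_inD M) _)).1
    ((DerivedCategory.TStructure.t.zero (X := gS k M d) (Y := PS k) _ (-1) 0 (by omega)).trans
      (DerivedCategory.TStructure.t.zero (X := gS k M d) (Y := PS k) _ (-1) 0 (by omega)).symm)
  rw [Preadditive.IsIso.comp_right_eq_zero] at hη
  have h0 : η₀ = 0 := (shiftFunctor (DCoh.D X) (d : ℤ)).map_eq_zero_iff.1 hη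
  rw [Preadditive.IsIso.comp_left_eq_zero] at h0
  rw [h0, Functor.map_zero] at hι
  haveI := hι
  exact (IsZero.iff_id_eq_zero _).2 ((cancel_epi
    (0 : (homologyFunctor X.Modules 0).obj (t₀.truncLT 1 |>.obj A₀) ⟶ W)).1 (by simp))

end Groth.Agent.DualLib.DualCoh
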