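import Groth.Agent.DualLib.ShriekValue
import Groth.Agent.DCat.RHomCxProj
import Mathlib.Algebra.Homology.HomotopyCategory.HomComplexSingle

/-! The right adjoint of restriction through a K-projective resolution. -/

set_option autoImplicit false
set_option backward.isDefEq.respectTransparency false
set_option backward.defeqAttrib.useBackward true
set_option linter.style.haveILetI false

universe u

open CategoryTheory CategoryTheory.Limits HomologicalComplex CochainComplex CochainComplex.HomComplex

attribute [local instance] HasDerivedCategory.standard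

namespace Groth.Agent.DualLib.Shriek

variable {A B : Type u} [CommRing A] [CommRing B]

/-- `Hom•(-, I)` preserves quasi-isomorphisms for K-injective `I`. -/
theorem quasiIso_homPre {P P' I : DRing.Cx A} [I.IsKInjective] (s : P ⟶ P') [QuasiIso s] :
    QuasiIso (DCat.homPre s I) := by
  rw [quasiIso_iff]
  intro n
  let q := HomotopyCategory.quotient (ModuleCat.{u} A) (ComplexShape.up ℤ)
  haveI : IsIso (DerivedCategory.Qh.map (q.map s)) :=
    (NatIso.isIso_map_iff (DerivedCategory.quotientCompQhIso (ModuleCat.{u} A)) s).2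
      (inferInstanceAs (IsIso (DerivedCategory.Q.map s)))
  refine DCat.quasiIsoAt_of_elements _ (n - 1) n (n + 1) (by simp) (by simp) ?_ ?_
  · intro (z : Cochain P I n) hz
    let zc : Cocycle P I n := Cocycle.mk z (n + 1) rfl hz
    obtain ⟨β, hβ⟩ := (IsKInjective.Qh_map_bijective (q.obj P') (I⟦n⟧)).2
      (inv (DerivedCategory.Qh.map (q.map s)) ≫
        DerivedCategory.Qh.map (CohomologyClass.toHom (CohomologyClass.mk zc)))
    obtain ⟨w, hw⟩ := (CohomologyClass.toHom_bijective P' I n).2 β
    obtain ⟨w, rfl⟩ := w.mk_surjective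
    refine ⟨w.1, w.δ_eq_zero (n + 1), ?_⟩
    have e : CohomologyClass.toHom (CohomologyClass.mk (w.precomp s)) =
        CohomologyClass.toHom (CohomologyClass.mk zc) := by
      apply (IsKInjective.Qh_map_bijective (q.obj P) (I⟦n⟧)).1
      rw [CohomologyClass.toHom_mk (w.precomp s), Cocycle.equivHomShift_symm_precomp, Functor.map_comp,
        ← CohomologyClass.toHom_mk w, hw]
      change DerivedCategory.Qh.map (q.map s ≫ β) = _
      rw [Functor.map_comp, hβ, IsIso.hom_inv_id_assoc]
    have e' := (CohomologyClass.toHom_bijective P I n).1 e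
    rw [← sub_eq_zero, ← CohomologyClass.mk_sub, CohomologyClass.mk_eq_zero_iff,
      mem_coboundaries_iff _ (n - 1) (by omega)] at e'
    obtain ⟨y, hy⟩ := e'
    refine ⟨y, ?_⟩
    have he := DCat.homPre_apply s I n w.1
    exact (congrArg (fun x : Cochain P I n => x - z) he).trans hy.symm
  · intro (w : Cochain P' I n) hw ⟨(y : Cochain P I (n - 1)), hy⟩
    let wc : Cocycle P' I n := Cocycle.mk w (n + 1) rfl hw
    have hy' : ((DCat.homPre s I).f n w : Cochain P I n) = δ (n - 1) n y := hy
    rw [DCat.homPre_apply] at hy'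
    have h0 : CohomologyClass.toHom (CohomologyClass.mk (wc.precomp s)) = 0 := by
      rw [CohomologyClass.toHom_mk_eq_zero_iff, mem_coboundaries_iff _ (n - 1) (by omega)]
      exact ⟨y, hy'.symm⟩
    rw [CohomologyClass.toHom_mk, Cocycle.equivHomShift_symm_precomp, Functor.map_comp] at h0
    have h1 : CohomologyClass.toHom (CohomologyClass.mk wc) = 0 := by
      apply (IsKInjective.Qh_map_bijective (q.obj P') (I⟦n⟧)).1
      have h2 := congrArg DerivedCategory.Qh.map h0
      rw [Functor.map_comp, Functor.map_zero] at h2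
      rw [Functor.map_zero, CohomologyClass.toHom_mk]
      rwa [← cancel_epi (DerivedCategory.Qh.map (q.map s)), comp_zero]
    rw [CohomologyClass.toHom_mk_eq_zero_iff, mem_coboundaries_iff _ (n - 1) (by omega)] at h1
    exact h1

variable (φ : A →+* B)

/-- Maps out of a module into a complex as cochains from the single complex. -/
noncomputable def fromSingleLin (I : DRing.Cx A) (i : ℤ) :
    ((DRing.restrictCx φ).obj ((coCx φ).obj I)).X i ≃ₗ[A]
      Cochain ((singleFunctor (ModuleCat.{u} A) 0).obj ((ModuleCat.restrictScalars φ).obj (ModuleCat.of B B))) I i where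
  toFun f := Cochain.fromSingleMk (ModuleCat.ofHom f) (zero_add i)
  invFun z := (Cochain.fromSingleEquiv (zero_add i) z).hom
  left_inv f := by
    show ((Cochain.fromSingleEquiv (zero_add i)) ((Cochain.fromSingleEquiv (zero_add i)).symm (ModuleCat.ofHom f))).hom = f
    rw [AddEquiv.apply_symm_apply]
    rfl
  right_inv z := (Cochain.fromSingleEquiv (zero_add i)).symm_apply_apply z
  map_add' f g := by
    refine (Cochain.fromSingleEquiv (zero_add i)).injective ?_
    simp [Cochain.fromSingleEquiv]
    rfl
  map_smul' a f := by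
    refine Cochain.ext _ _ fun p q h => ?_
    rw [RingHom.id_apply, Cochain.smul_v]
    by_cases hp : p = 0
    · subst hp
      obtain rfl : q = i := by omega
      rw [Cochain.fromSingleMk_v, Cochain.fromSingleMk_v]
      refine ModuleCat.hom_ext (LinearMap.ext fun y => ?_)
      let y' : (ModuleCat.restrictScalars φ).obj (ModuleCat.of B B) :=
        (singleObjXSelf (ComplexShape.up ℤ) 0 ((ModuleCat.restrictScalars φ).obj (ModuleCat.of B B))).hom.hom y
      let f' : (ModuleCat.restrictScalars φ).obj (ModuleCat.of B B) →ₗ[A] I.X q := f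
      refine Eq.trans ?_ (map_smul f' a y')
      exact congrArg f' (mul_comm (show B from y') (φ a))
    · rw [Cochain.fromSingleMk_v_eq_zero _ _ _ _ _ hp, Cochain.fromSingleMk_v_eq_zero _ _ _ _ _ hp, smul_zero]

/-- `Hom•` from the single complex. -/
noncomputable def coCxIso (I : DRing.Cx A) :
    (DRing.restrictCx φ).obj ((coCx φ).obj I) ≅
      DRing.homCx ((singleFunctor (ModuleCat.{u} A) 0).obj ((ModuleCat.restrictScalars φ).obj (ModuleCat.of B B))) I :=
  HomologicalComplex.Hom.isoOfComponents (fun i => (fromSingleLin φ I i).toModuleIso) fun i j hij => by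
    refine ModuleCat.hom_ext (LinearMap.ext fun f => ?_)
    show δ i j (Cochain.fromSingleMk (ModuleCat.ofHom f) (zero_add i)) =
      Cochain.fromSingleMk (ModuleCat.ofHom _) (zero_add j)
    rw [Cochain.δ_fromSingleMk _ _ j j (zero_add j)]
    rfl

variable {φ} {R : Dual.D A ⥤ Dual.D B} (adj : DRing.restrictD φ ⊣ R)

include adj in
/-- The restriction of `R` on a complex through a K-projective resolution of `B`. -/
theorem nonempty_restrict_value {F : DRing.Cx A} [F.IsKProjective]
    (π : F ⟶ (singleFunctor (ModuleCat.{u} A) 0).obj ((ModuleCat.restrictScalars φ).obj (ModuleCat.of B B))) [QuasiIso π]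
    (M : DRing.Cx A) :
    Nonempty ((DRing.restrictD φ).obj (R.obj (DerivedCategory.Q.obj M)) ≅
      DerivedCategory.Q.obj (DRing.homCx F M)) := by
  obtain ⟨K, j, hK, hj⟩ := DCat.enoughKInj_modules (A := A) M
  haveI := hK
  haveI := hj
  obtain ⟨e⟩ := nonempty_value' adj j
  haveI := quasiIso_homPre (I := K) π
  haveI := DCat.quasiIso_homCxMap (P := F) j
  exact ⟨(DRing.restrictD φ).mapIso e ≪≫
    (ModuleCat.restrictScalars.{u} φ).mapDerivedCategoryFactors.app ((coCx φ).obj K) ≪≫
    DerivedCategory.Q.mapIso (coCxIso φ K) ≪≫ asIso (DerivedCategory.Q.map (DCat.homPre π K)) ≪≫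
    (asIso (DerivedCategory.Q.map (DRing.homCxMap F j))).symm⟩

end Groth.Agent.DualLib.Shriek
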