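import Groth.Agent.DualLib.EndShriek
import Groth.Agent.DualLib.ShriekRes
import Groth.Agent.Dual22Lib.FiniteShriek
import Groth.Agent.FlatMorPerfect.Smooth
import Groth.Agent.AlgzLib.TildeSys

/-! `f^!` for perfect `f`: boundedness and endomorphisms. -/

set_option autoImplicit false
set_option backward.isDefEq.respectTransparency false
set_option backward.defeqAttrib.useBackward true
set_option linter.style.haveILetI false
set_option linter.unusedSectionVars false
set_option synthInstance.maxHeartbeats 100000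

universe u

open CategoryTheory CategoryTheory.Limits DerivedCategory

attribute [local instance] HasDerivedCategory.standard

namespace Groth.Agent.DualLib.EndPerfect

open Groth.Agent Groth.Agent.DualLib Groth.Agent.DualLib.Shriek

/-- Finite modules of finite tor dimension have finite projective dimension. -/
theorem pdLE_of_td {P : Type u} [CommRing P] [IsNoetherianRing P] : ∀ (m : ℕ) (M : Type u) [AddCommGroup M]
    [Module P M] [Module.Finite P M], FlatMorPerfect.TD P m M → CommAlg6.PdLE P M m := by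
  intro m
  induction m with
  | zero =>
    intro M _ _ _ h
    haveI : Module.Flat P M := h.flatDimLE
    haveI : Module.FinitePresentation P M := Module.finitePresentation_of_finite P M
    exact CommAlg6.pdLE_zero_iff.2 Module.Flat.projective_of_finitePresentation
  | succ m ih =>
    intro M _ _ _ h
    obtain ⟨k, f, hf⟩ := Module.Finite.exists_fin' P M
    exact (CommAlg6.pdLE_succ_iff f hf m).2 (ih _ (h.ker (LinearMap.exact_subtype_ker_map f) hf
      (LinearMap.ker f).injective_subtype))

variable {R A : Type u} [CommRing R] [IsNoetherianRing R] [CommRing A] [Algebra R A] {n : ℕ}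
  (ψ : MvPolynomial (Fin n) R →ₐ[R] A) (hψ : Function.Surjective ψ)

include hψ in
/-- A finite resolution of a perfect presentation. -/
theorem exists_res (hp : FlatMorPerfect.RingPerf (algebraMap R A)) :
    ∃ (m : ℕ) (F : DRing.Cx (MvPolynomial (Fin n) R))
      (π : F ⟶ sgl (P := MvPolynomial (Fin n) R) ((ModuleCat.restrictScalars ψ.toRingHom).obj (ModuleCat.of A A))),
      Omega.Res ψ.toRingHom F m π := by
  haveI : Algebra.Smooth R (MvPolynomial (Fin n) R) := ⟨inferInstance, inferInstance⟩
  obtain ⟨-, m, hm⟩ := (FlatMorPerfect.ringPerf_iff _).1 (FlatMorPerfect.ringPerf_of_smooth ψ hp)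
  letI : Algebra (MvPolynomial (Fin n) R) A := ψ.toRingHom.toAlgebra
  haveI : Module.Finite (MvPolynomial (Fin n) R) A :=
    Module.Finite.of_surjective (Algebra.linearMap (MvPolynomial (Fin n) R) A) hψ
  let A' := (ModuleCat.restrictScalars ψ.toRingHom).obj (ModuleCat.of A A)
  haveI : Module.Finite (MvPolynomial (Fin n) R) A' := ‹Module.Finite (MvPolynomial (Fin n) R) A›
  have hpd : CommAlg6.PdLE (MvPolynomial (Fin n) R) A' m := pdLE_of_td m A hm
  obtain ⟨F, π, h1, h2, h3, h4⟩ := exists_resolution m A' hpd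
  exact ⟨m, F, π, ⟨hψ, h2, h1, h3, h4⟩⟩

variable [DRing.HasLBaseChange (algebraMap R (MvPolynomial (Fin n) R))]
  {Rψ : Dual.D (MvPolynomial (Fin n) R) ⥤ Dual.D A} (adj : DRing.restrictD ψ.toRingHom ⊣ Rψ)

include hψ adj in
/-- `End(ω) = A` for perfect presentations. -/
theorem bijective_smul_id (hp : FlatMorPerfect.RingPerf (algebraMap R A)) :
    Function.Bijective (fun a : A => a • 𝟙 (Dual2.shriekVia n Rψ (Dual.inD R R))) ∧
      ∀ i : ℤ, i ≠ 0 → Subsingleton (Dual2.shriekVia n Rψ (Dual.inD R R) ⟶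
        (Dual2.shriekVia n Rψ (Dual.inD R R))⟦i⟧) := by
  obtain ⟨m, F, π, h⟩ := exists_res ψ hψ hp
  obtain ⟨e⟩ := Omega.nonempty_shriekVia_iso_om (A := A) (Rψ := Rψ) (R := R) (n := n)
  refine ⟨Omega.bijective_smul_id_of_iso e.symm (Omega.bijective_smul_id_shift _ _ (Omega.bijective_smul_id h adj)),
    fun i hi => ?_⟩
  haveI := Omega.subsingleton_self_shift h adj i hi
  haveI : Subsingleton ((Omega.om Rψ)⟦(n : ℤ)⟧ ⟶ ((Omega.om Rψ)⟦i⟧)⟦(n : ℤ)⟧) :=
    ((Functor.FullyFaithful.ofFullyFaithful (shiftFunctor (Dual.D A) (n : ℤ))).map_bijective _ _).2.subsingleton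
  exact (Iso.homCongr e ((shiftFunctor (Dual.D A) i).mapIso e ≪≫ shiftComm (Omega.om Rψ) (n : ℤ) i)).injective.subsingleton

include hψ adj in
/-- `f^!` keeps upper bounds up to a constant. -/
theorem exists_bound_above [IsNoetherianRing A] (hp : FlatMorPerfect.RingPerf (algebraMap R A)) (K : Dual.D R) (b : ℤ) [K.IsLE b] :
    ∃ b' : ℤ, ∀ i : ℤ, b' < i → Subsingleton (Dual.HD A (Dual2.shriekVia n Rψ K) i) := by
  let P := MvPolynomial (Fin n) R
  obtain ⟨m, F, π, h⟩ := exists_res ψ hψ hp
  haveI := h.kproj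
  haveI := h.qis
  haveI := preservesFiniteLimits_flat (A := R) (B := P)
  haveI := preservesFiniteColimits_ext (A := R) (B := P)
  obtain ⟨e⟩ := nonempty_LBaseChange_iso (RingHom.flat_algebraMap_iff.2 (inferInstance : Module.Flat R P)) K
  let L := (DRing.LBaseChange (algebraMap R P)).obj K
  haveI : L.IsLE b := by
    refine (isLE_iff _ _).2 fun i hi => ?_
    obtain ⟨η⟩ := DQCoh.nonempty_homology_natIso (ModuleCat.extendScalars.{u, u, u} (algebraMap R P)) i
    exact ((ModuleCat.extendScalars.{u, u, u} (algebraMap R P)).map_isZero (isZero_of_isLE K b i hi)).of_iso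
      ((homologyFunctor _ i).mapIso e ≪≫ η.app K)
  obtain ⟨M, _, ⟨eM⟩⟩ := exists_iso_Q_obj_of_isLE L b
  obtain ⟨v⟩ := nonempty_restrict_value adj π M
  refine ⟨b + m - n, fun i hi => ?_⟩
  have hz : ∀ j : ℤ, b + m < j → Subsingleton (CochainComplex.HomComplex.Cochain F M j) := fun j hj =>
    ⟨fun z w => CochainComplex.HomComplex.Cochain.ext _ _ fun p q hpq => by
      by_cases hp : p < -(m : ℤ)
      · exact (h.van p (Or.inl hp)).eq_of_src _ _
      · exact (CochainComplex.isZero_of_isStrictlyLE M b q (by omega)).eq_of_tgt _ _⟩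
  have h0 : IsZero ((homologyFunctor (ModuleCat.{u} P) ((n : ℤ) + i)).obj (Q.obj (DRing.homCx F M))) := by
    haveI := hz ((n : ℤ) + i) (by omega)
    exact (ShortComplex.exact_iff_isZero_homology _).1 (ShortComplex.exact_of_isZero_X₂ _
      (ModuleCat.isZero_of_subsingleton (ModuleCat.of P (CochainComplex.HomComplex.Cochain F M ((n : ℤ) + i))))) |>.of_iso
      ((homologyFunctorFactors _ _).app (DRing.homCx F M))
  haveI : Subsingleton (Dual.HD A (Rψ.obj L) ((n : ℤ) + i)) := by
    haveI := ModuleCat.subsingleton_of_isZero (h0.of_iso ((homologyFunctor _ _).mapIso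
      ((DRing.restrictD ψ.toRingHom).mapIso (Rψ.mapIso eM) ≪≫ v)))
    exact (DRingLib.hfRestrictIso ψ.toRingHom (Rψ.obj L) ((n : ℤ) + i)).symm.toLinearEquiv.injective.subsingleton
  exact @Function.Injective.subsingleton _ _ _
    (((homologyFunctor (ModuleCat.{u} A) 0).shiftIso (n : ℤ) i ((n : ℤ) + i) rfl).app (Rψ.obj L)).toLinearEquiv.injective ‹_›

end Groth.Agent.DualLib.EndPerfect
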