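import Groth.Agent.DualLib.FlatApps
import Groth.Agent.DualLib.FiniteAdjoint
import Groth.Agent.DualLib.RelExists
import Groth.Agent.DCat.LTensorModule

/-! Dualizing complexes of essentially finite type algebras. -/

set_option autoImplicit false
set_option backward.isDefEq.respectTransparency false
set_option backward.defeqAttrib.useBackward true
set_option linter.style.haveILetI false

universe u

open CategoryTheory CategoryTheory.Limits DerivedCategory

attribute [local instance] HasDerivedCategory.standard

namespace Groth.Agent.DualLib

variable {A : Type u} [CommRing A] [IsNoetherianRing A] {ω : Dual.D A} (hω : Dual.IsDualizing A ω)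
include hω

theorem exists_dualizing_of_finiteType (B : Type u) [CommRing B] [Algebra A B] [Algebra.FiniteType A B] :
    ∃ ω' : Dual.D B, Dual.IsDualizing B ω' := by
  obtain ⟨n, f, hf⟩ := Algebra.FiniteType.iff_quotient_mvPolynomial''.1 (inferInstance : Algebra.FiniteType A B)
  let P := MvPolynomial (Fin n) A
  haveI := DCat.hasLBaseChange (φ := algebraMap A P)
  haveI : Algebra.Smooth A P := ⟨inferInstance, inferInstance⟩
  have hP := isDualizing_LBaseChange_smooth (B := P) hω
  letI : Algebra P B := f.toRingHom.toAlgebra
  haveI : Module.Finite P B := Module.Finite.of_surjective (Algebra.linearMap P B) hf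
  haveI : IsNoetherianRing B := isNoetherianRing_of_surjective P B f.toRingHom hf
  haveI := hasRHomRel (algebraMap P B)
  exact ⟨_, FiniteAdjoint.isDualizing_obj (DTen.relAdj (algebraMap P B)) hP⟩

theorem exists_dualizing_of_essFiniteType (B : Type u) [CommRing B] [Algebra A B] [Algebra.EssFiniteType A B] :
    ∃ ω' : Dual.D B, Dual.IsDualizing B ω' := by
  let S := Algebra.EssFiniteType.subalgebra A B
  haveI : IsNoetherianRing S := Algebra.FiniteType.isNoetherianRing A S
  obtain ⟨ω₁, h₁⟩ := exists_dualizing_of_finiteType hω S
  haveI := DCat.hasLBaseChange (φ := algebraMap S B)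
  exact ⟨_, isDualizing_LBaseChange (Algebra.EssFiniteType.submonoid A B) h₁⟩

end Groth.Agent.DualLib
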