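import Groth.Agent.EGA43.PdFlat.Fibre
import Groth.Agent.CAlgH3.ExtBaseChange
import Groth.Agent.LocCoh.ExtLocalize
import Groth.Agent.FlatMorDevissage.InjMod
import Groth.Agent.FlatMorDevissage.FibreInjective
import Mathlib.Algebra.Algebra.RestrictScalars

/-!
# `Ext` into the ring from the `Ext`s on the fibres

`R` is a flat finitely presented `A`-algebra, `K` a finitely presented `A`-flat `R`-module of
projective dimension `≤ r`.  If on every fibre `Ext^j(K, R)` vanishes below `r`, the same holds over
`R` and `Ext^r` is finitely presented and `A`-flat.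
-/

set_option autoImplicit false
universe u

open CategoryTheory TensorProduct Function
open Groth.Agent.CommAlg6 (PdLE)

namespace Groth.Agent.DualLib.FibreExt

section Pairing

variable {R : Type u} [CommRing R] (C : Type u) [CommRing C] [Algebra R C]
  {X Y K L : Type u} [AddCommGroup X] [Module R X] [AddCommGroup Y] [Module R Y]
  [AddCommGroup K] [Module R K] [AddCommGroup L] [Module R L]

/-- The base change of a map into a dual. -/
noncomputable def bc (u : X →ₗ[R] (K →ₗ[R] R)) : C ⊗[R] X →ₗ[C] (C ⊗[R] K →ₗ[C] C) :=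
  LinearMap.liftBaseChange C
    { toFun := fun x => LinearMap.liftBaseChange C ((Algebra.linearMap R C).comp (u x))
      map_add' := fun x y => by ext k; simp [mul_add]
      map_smul' := fun a x => by ext k; simp [Algebra.smul_def, mul_comm, mul_left_comm] }

@[simp] theorem bc_tmul (u : X →ₗ[R] (K →ₗ[R] R)) (c : C) (x : X) (d : C) (k : K) :
    bc C u (c ⊗ₜ x) (d ⊗ₜ k) = c * (d * algebraMap R C (u x k)) := by
  simp [bc, Algebra.smul_def, mul_comm, mul_left_comm]

theorem bc_comp_left (u : X →ₗ[R] (K →ₗ[R] R)) (f : L →ₗ[R] K) (z : C ⊗[R] X) :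
    bc C (f.lcomp R R ∘ₗ u) z = (bc C u z).comp (f.baseChange C) := by
  induction z using TensorProduct.induction_on with
  | zero => simp
  | add a b ha hb => rw [map_add, map_add, ha, hb]; ext k; simp
  | tmul c x => ext k; simp

theorem bc_comp_right (u : X →ₗ[R] (K →ₗ[R] R)) (w : Y →ₗ[R] X) (z : C ⊗[R] Y) :
    bc C (u ∘ₗ w) z = bc C u (w.baseChange C z) := by
  induction z using TensorProduct.induction_on with
  | zero => simp
  | add a b ha hb => rw [map_add, map_add, map_add, ha, hb]
  | tmul c y => ext k; simp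

theorem bijective_bc_id (n : ℕ) :
    Bijective (bc C (LinearMap.id : ((Fin n → R) →ₗ[R] R) →ₗ[R] (Fin n → R) →ₗ[R] R)) := by
  let T := bc C (LinearMap.id : ((Fin n → R) →ₗ[R] R) →ₗ[R] (Fin n → R) →ₗ[R] R)
  let e : Fin n → (Fin n → R) := fun i => Pi.single i 1
  let back : (C ⊗[R] (Fin n → R) →ₗ[C] C) → C ⊗[R] ((Fin n → R) →ₗ[R] R) := fun φ =>
    ∑ i, φ (1 ⊗ₜ e i) ⊗ₜ (LinearMap.proj i : (Fin n → R) →ₗ[R] R)
  have hback : ∀ φ, T (back φ) = φ := fun φ => by
    refine TensorProduct.AlgebraTensorModule.ext fun d k => ?_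
    have hk : k = ∑ i, k i • e i := by
      funext j
      simp [e, Finset.sum_apply, Pi.single_apply]
    rw [show T (back φ) (d ⊗ₜ k) = ∑ i, φ (1 ⊗ₜ e i) * (d * algebraMap R C (k i)) by
      simp [T, back, LinearMap.sum_apply]]
    conv_rhs => rw [hk, tmul_sum, map_sum]
    refine Finset.sum_congr rfl fun i _ => ?_
    rw [tmul_smul, show d ⊗ₜ[R] e i = d • ((1 : C) ⊗ₜ[R] e i) by simp [smul_tmul'],
      ← algebraMap_smul C (k i), map_smul, map_smul, smul_eq_mul, smul_eq_mul]
    ring
  have hleft : ∀ t, back (T t) = t := fun t => by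
    induction t using TensorProduct.induction_on with
    | zero => simp [back]
    | add a b ha hb =>
      show back (T (a + b)) = a + b
      rw [map_add]
      conv_rhs => rw [← ha, ← hb]
      simp only [back, LinearMap.add_apply, add_tmul, Finset.sum_add_distrib]
    | tmul c g =>
      have hg : g = ∑ i, g (e i) • (LinearMap.proj i : (Fin n → R) →ₗ[R] R) := by
        refine LinearMap.pi_ext' fun j => LinearMap.ext_ring ?_
        simp [e, Pi.single_apply]
      conv_rhs => rw [hg, tmul_sum]
      refine Finset.sum_congr rfl fun i _ => ?_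
      rw [tmul_smul, smul_tmul']
      congr 1
      simp [T, Algebra.smul_def, mul_comm]
  exact ⟨fun a b h => by rw [← hleft a, ← hleft b]; exact congrArg back h, fun φ => ⟨back φ, hback φ⟩⟩

end Pairing

section Split

variable {R : Type u} [CommRing R] {K L : Type u} [AddCommGroup K] [Module R K]
  [AddCommGroup L] [Module R L]

/-- A projective finite submodule is a summand if functionals extend. -/
theorem exists_retraction [Module.Projective R K] [Module.Finite R K] (ι : K →ₗ[R] L)
    (h : ∀ ψ : K →ₗ[R] R, ∃ φ : L →ₗ[R] R, φ.comp ι = ψ) :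
    ∃ r : L →ₗ[R] K, r.comp ι = LinearMap.id := by
  obtain ⟨n, π, hπ⟩ := Module.Finite.exists_fin' R K
  obtain ⟨s, hs⟩ := Module.projective_lifting_property π LinearMap.id hπ
  choose φ hφ using fun i => h ((LinearMap.proj i).comp s)
  refine ⟨π.comp (LinearMap.pi φ), LinearMap.ext fun k => ?_⟩
  rw [LinearMap.comp_apply, LinearMap.comp_apply,
    show LinearMap.pi φ (ι k) = s k from funext fun i => LinearMap.congr_fun (hφ i) k]
  exact LinearMap.congr_fun hs k

end Split

section Global

/-- Over a ring where a finite module has finite projective dimension, vanishing of `Ext^j(K, R)`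
for `j > c` bounds it by `c`. -/
theorem pdLE_of_ext_vanish {R : Type u} [CommRing R] [IsNoetherianRing R] :
    ∀ (c e : ℕ) (K : Type u) [AddCommGroup K] [Module R K] [Module.Finite R K], PdLE R K e →
      (∀ j, c < j → Subsingleton (Abelian.Ext (ModuleCat.of R K) (ModuleCat.of R R) j)) →
      PdLE R K c := by
  intro c
  induction c with
  | zero =>
    intro e
    induction e with
    | zero => intro K _ _ _ h _; exact h
    | succ e ih =>
      intro K _ _ _ h hv
      obtain ⟨n, π, hπ⟩ := Module.Finite.exists_fin' R K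
      have hι := (LinearMap.ker π).injective_subtype
      have hex := LinearMap.exact_subtype_ker_map π
      haveI : Module.Finite R (LinearMap.ker π) := Module.Finite.of_fg (IsNoetherian.noetherian _)
      have h0 : PdLE R (LinearMap.ker π) 0 := ih _ ((CommAlg6.pdLE_succ_iff π hπ e).1 h) fun j hj => by
        obtain ⟨i, rfl⟩ : ∃ i, j = i + 1 := ⟨j - 1, by omega⟩
        exact (LocCoh.subsingleton_ext_succ_iff R hι hπ hex i).1 (hv _ (by omega))
      haveI := CommAlg6.pdLE_zero_iff.1 h0
      obtain ⟨r, hr⟩ := exists_retraction (LinearMap.ker π).subtype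
        ((LocCoh.subsingleton_ext_one_iff R hι hπ hex).1 (hv 1 (by omega)))
      let l : K →ₗ[R] (Fin n → R) := ((LinearMap.ker π).liftQ (LinearMap.id - (LinearMap.ker π).subtype ∘ₗ r)
        (fun y hy => by
          have := LinearMap.congr_fun hr ⟨y, hy⟩
          simp only [LinearMap.comp_apply, Submodule.subtype_apply, LinearMap.id_coe, id_eq] at this
          simp [this])) ∘ₗ (π.quotKerEquivOfSurjective hπ).symm.toLinearMap
      have hl : π ∘ₗ l = LinearMap.id := LinearMap.ext fun k => by
        obtain ⟨y, rfl⟩ := hπ k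
        have h0 : π (r y : Fin n → R) = 0 := (r y).2
        simp [l, h0]
      exact CommAlg6.pdLE_zero_iff.2 (Module.Projective.of_split l π hl)
  | succ c ih =>
    intro e K _ _ _ h hv
    obtain ⟨n, π, hπ⟩ := Module.Finite.exists_fin' R K
    haveI : Module.Finite R (LinearMap.ker π) := Module.Finite.of_fg (IsNoetherian.noetherian _)
    rw [CommAlg6.pdLE_succ_iff π hπ]
    refine ih e _ ((CommAlg6.pdLE_succ_iff π hπ e).1
      (@CategoryTheory.hasProjectiveDimensionLT_of_ge _ _ _ _ (e + 1) (e + 1 + 1) (by omega) h)) fun j hj => ?_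
    obtain ⟨i, rfl⟩ : ∃ i, j = i + 1 := ⟨j - 1, by omega⟩
    exact (LocCoh.subsingleton_ext_succ_iff R (LinearMap.ker π).injective_subtype hπ
      (LinearMap.exact_subtype_ker_map π) i).1 (hv _ (by omega))

end Global

section Good

variable (A R : Type u) [CommRing A] [CommRing R] [Algebra A R]

/-- Finitely presented over `R`, flat over `A`. -/
def Good (T : Type u) [AddCommGroup T] [Module R T] : Prop :=
  Module.FinitePresentation R T ∧ Module.Flat A (RestrictScalars A R T)

variable {A R}

theorem good_of_flat (T : Type u) [AddCommGroup T] [Module R T] [Module A T] [IsScalarTower A R T]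
    [Module.FinitePresentation R T] [Module.Flat A T] : Good A R T :=
  ⟨inferInstance, Module.Flat.of_linearEquiv (M := T)
    { (RestrictScalars.addEquiv A R T) with
      map_smul' := fun a x => by
        show RestrictScalars.addEquiv A R T (a • x) = a • RestrictScalars.addEquiv A R T x
        rw [RestrictScalars.addEquiv_map_smul, algebraMap_smul] }⟩

theorem Good.of_equiv {T T' : Type u} [AddCommGroup T] [Module R T] [AddCommGroup T'] [Module R T']
    (h : Good A R T) (e : T ≃ₗ[R] T') : Good A R T' := by
  haveI := h.1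
  haveI := h.2
  refine ⟨Module.FinitePresentation.of_equiv e, Module.Flat.of_linearEquiv
    (M := RestrictScalars A R T) ?_⟩
  exact
    { ((RestrictScalars.addEquiv A R T').trans e.symm.toAddEquiv).trans
        (RestrictScalars.addEquiv A R T).symm with
      map_smul' := fun a x => by
        simp only [AddEquiv.toFun_eq_coe, AddEquiv.trans_apply, RingHom.id_apply]
        rw [RestrictScalars.addEquiv_map_smul]
        show (RestrictScalars.addEquiv A R T).symm (e.symm _) = _
        rw [map_smul]
        rfl }

end Good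

section Main

variable {A R : Type u} [CommRing A] [CommRing R] [Algebra A R] [Algebra.FinitePresentation A R]
  [Module.Flat A R] (C : PrimeSpectrum A → Type u) [∀ p, CommRing (C p)] [∀ p, Algebra R (C p)]
  [∀ p, Algebra A (C p)] [∀ p, Algebra p.asIdeal.ResidueField (C p)]
  [∀ p, IsScalarTower A R (C p)] [∀ p, IsScalarTower A p.asIdeal.ResidueField (C p)]
  [∀ p, Algebra.IsPushout A p.asIdeal.ResidueField R (C p)]

omit [Algebra.FinitePresentation A R] [Module.Flat A R] in
/-- The cokernel of a universally injective map into a flat module is flat. -/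
theorem flat_coker_of_univInj {X M : Type u} [AddCommGroup X] [Module R X] [Module A X]
    [IsScalarTower A R X] [AddCommGroup M] [Module R M] [Module A M] [IsScalarTower A R M]
    [Module.Flat A M] (v : X →ₗ[R] M) (hv : FlatCA.UnivInj A (v.restrictScalars A)) :
    Module.Flat A (M ⧸ LinearMap.range v) := by
  rw [Module.Flat.iff_rTensor_preserves_injective_linearMap]
  intro P Q _ _ _ _ i hi
  let g : M →ₗ[A] M ⧸ LinearMap.range v := (LinearMap.range v).mkQ.restrictScalars A
  have hg : Surjective g := Submodule.mkQ_surjective _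
  have hex : Exact (v.restrictScalars A) g := LinearMap.exact_map_mkQ_range v
  rw [injective_iff_map_eq_zero]
  intro w hw
  obtain ⟨t, rfl⟩ := LinearMap.lTensor_surjective P hg w
  have h1 : g.lTensor Q (i.rTensor M t) = 0 := by
    rw [← LinearMap.comp_apply, LinearMap.lTensor_comp_rTensor, ← LinearMap.rTensor_comp_lTensor,
      LinearMap.comp_apply, hw]
  obtain ⟨x, hx⟩ := (lTensor_exact Q hex hg _).1 h1
  let π : Q →ₗ[A] Q ⧸ LinearMap.range i := (LinearMap.range i).mkQ
  have h2 : π.rTensor X x = 0 := by
    refine (injective_iff_map_eq_zero _).1 (hv _) _ ?_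
    rw [← LinearMap.comp_apply, LinearMap.lTensor_comp_rTensor, ← LinearMap.rTensor_comp_lTensor,
      LinearMap.comp_apply, hx, ← LinearMap.comp_apply, ← LinearMap.rTensor_comp,
      LinearMap.range_mkQ_comp, LinearMap.rTensor_zero, LinearMap.zero_apply]
  obtain ⟨y, hy⟩ := ((rTensor_exact X (LinearMap.exact_map_mkQ_range i)
    (Submodule.mkQ_surjective _)) x).1 h2
  have h3 : t = (v.restrictScalars A).lTensor P y := by
    refine Module.Flat.rTensor_preserves_injective_linearMap (M := M) i hi ?_
    rw [← hx, ← hy, ← LinearMap.comp_apply, LinearMap.lTensor_comp_rTensor,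
      ← LinearMap.rTensor_comp_lTensor, LinearMap.comp_apply]
  rw [h3, ← LinearMap.comp_apply, ← LinearMap.lTensor_comp, hex.linearMap_comp_eq_zero,
    LinearMap.lTensor_zero, LinearMap.zero_apply]

/-- A map into a flat dual which is injective on all fibres: universally injective. -/
theorem univInj_of_bc {X : Type u} [AddCommGroup X] [Module R X] [Module A X] [IsScalarTower A R X]
    [Module.FinitePresentation R X] [Module.Flat A X] {n : ℕ}
    (v : X →ₗ[R] ((Fin n → R) →ₗ[R] R)) (h : ∀ p, Injective (bc (C p) v)) :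
    Module.Flat A ((Fin n → R) →ₗ[R] R) ∧ FlatCA.UnivInj A (v.restrictScalars A) := by
  haveI : Module.Flat R ((Fin n → R) →ₗ[R] R) :=
    Module.Flat.of_linearEquiv ((Pi.basisFun R (Fin n)).toDualEquiv.symm)
  haveI hflat : Module.Flat A ((Fin n → R) →ₗ[R] R) := Module.Flat.trans A R _
  haveI : IsLocalizedModule (⊥ : Submonoid R) (LinearMap.id : X →ₗ[R] X) :=
    { map_units := fun s => by rw [Submonoid.mem_bot.1 s.2, map_one]; exact isUnit_one
      surj := fun y => ⟨(y, 1), by simp⟩
      exists_of_eq := fun h => ⟨1, by simpa using h⟩ }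
  refine ⟨hflat, FlatMorDevissage.univInj_of_fibres (R := A) (S := R) X (⊥ : Submonoid R)
    (N := X) (φ := LinearMap.id) (v.restrictScalars A) ?_⟩
  intro q hq
  let p : PrimeSpectrum A := ⟨q, hq⟩
  let κ := p.asIdeal.ResidueField
  let Φ := (Algebra.IsPushout.cancelBaseChange A κ R (C p) X).symm
  let Ψ := (Algebra.IsPushout.cancelBaseChange A κ R (C p) ((Fin n → R) →ₗ[R] R)).symm
  have key : ∀ z, bc (C p) v (Φ z) =
      bc (C p) (LinearMap.id : ((Fin n → R) →ₗ[R] R) →ₗ[R] _) (Ψ ((v.restrictScalars A).lTensor κ z)) := by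
    intro z
    induction z using TensorProduct.induction_on with
    | zero => simp
    | add a b ha hb => simp only [map_add, ha, hb]
    | tmul a x => ext k; simp [Φ, Ψ]
  intro a b hab
  apply Φ.injective
  apply h p
  rw [key, key, hab]

section Step

variable {K : Type u} [AddCommGroup K] [Module R K] {n : ℕ} (π : (Fin n → R) →ₗ[R] K)
  {X : Type u} [AddCommGroup X] [Module R X] (u : X →ₗ[R] (K →ₗ[R] R))

/-- The composite into the dual of the cover. -/
abbrev vStep : X →ₗ[R] ((Fin n → R) →ₗ[R] R) := π.lcomp R R ∘ₗ u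

/-- The next map of the recursion. -/
noncomputable def uStep : (((Fin n → R) →ₗ[R] R) ⧸ LinearMap.range (vStep π u)) →ₗ[R]
    (LinearMap.ker π →ₗ[R] R) :=
  (LinearMap.range (vStep π u)).liftQ ((LinearMap.ker π).subtype.lcomp R R) (by
    rintro _ ⟨x, rfl⟩
    ext k
    show u x (π k.1) = 0
    rw [k.2, map_zero])

theorem uStep_mkQ : uStep π u ∘ₗ (LinearMap.range (vStep π u)).mkQ =
    (LinearMap.ker π).subtype.lcomp R R := Submodule.liftQ_mkQ _ _ _

end Step

/-- The main recursion. -/
theorem main : ∀ (r : ℕ) (K : Type u) [AddCommGroup K] [Module R K] [Module A K] [IsScalarTower A R K]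
    [Module.FinitePresentation R K] [Module.Flat A K] (X : Type u) [AddCommGroup X] [Module R X]
    [Module A X] [IsScalarTower A R X] [Module.FinitePresentation R X] [Module.Flat A X]
    (u : X →ₗ[R] (K →ₗ[R] R)), PdLE R K r → (∀ p, Injective (bc (C p) u)) →
    (1 ≤ r → ∀ p, Surjective (bc (C p) u)) →
    (∀ p, ∀ j, 1 ≤ j → j < r → Subsingleton
      (Abelian.Ext (ModuleCat.of (C p) (C p ⊗[R] K)) (ModuleCat.of (C p) (C p)) j)) →
    Injective u ∧ (1 ≤ r → Surjective u) ∧
      (r = 0 → Good A R ((K →ₗ[R] R) ⧸ LinearMap.range u)) ∧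
      (1 ≤ r → Good A R (Abelian.Ext (ModuleCat.of R K) (ModuleCat.of R R) r)) ∧
      (∀ j, 1 ≤ j → j ≠ r → Subsingleton (Abelian.Ext (ModuleCat.of R K) (ModuleCat.of R R) j)) := by
  intro r
  induction r with
  | zero =>
    intro K _ _ _ _ _ _ X _ _ _ _ _ _ u hK hinj _ _
    haveI hP : Module.Projective R K := CommAlg6.pdLE_zero_iff.1 hK
    obtain ⟨n, π, hπ⟩ := Module.Finite.exists_fin' R K
    obtain ⟨s, hs⟩ := Module.projective_lifting_property π LinearMap.id hπ
    have hv : ∀ p, Injective (bc (C p) (vStep π u)) := fun p a b hab => hinj p <| by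
      refine LinearMap.ext fun z => ?_
      obtain ⟨w, rfl⟩ : ∃ w, π.baseChange (C p) w = z := LinearMap.lTensor_surjective (C p) hπ z
      have := LinearMap.congr_fun hab w
      rwa [bc_comp_left, bc_comp_left] at this
    obtain ⟨hflat, hU⟩ := univInj_of_bc C (vStep π u) hv
    have hvinj : Injective (vStep π u) := by
      have h1 := hU A
      intro a b hab
      apply (TensorProduct.lid A X).symm.injective
      apply h1
      simp only [TensorProduct.lid_symm_apply, LinearMap.lTensor_tmul, LinearMap.restrictScalars_apply, hab]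
    have huinj : Injective u := fun a b hab => hvinj (by simp [vStep, hab])
    haveI : Module.Flat A (((Fin n → R) →ₗ[R] R) ⧸ LinearMap.range (vStep π u)) :=
      flat_coker_of_univInj (vStep π u) hU
    haveI : Module.FinitePresentation R ((Fin n → R) →ₗ[R] R) :=
      Module.FinitePresentation.of_equiv (Pi.basisFun R (Fin n)).toDualEquiv
    haveI : Module.FinitePresentation R (((Fin n → R) →ₗ[R] R) ⧸ LinearMap.range (vStep π u)) :=
      Module.finitePresentation_of_surjective _ (Submodule.mkQ_surjective _) (by
        rw [Submodule.ker_mkQ]; exact Module.Finite.iff_fg.1 inferInstance)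
    refine ⟨huinj, by omega, fun _ => ?_, by omega, fun j hj _ => ?_⟩
    · let i : ((K →ₗ[R] R) ⧸ LinearMap.range u) →ₗ[R]
          ((Fin n → R) →ₗ[R] R) ⧸ LinearMap.range (vStep π u) :=
        Submodule.mapQ _ _ (π.lcomp R R) (by rintro _ ⟨x, rfl⟩; exact ⟨x, rfl⟩)
      let q : ((Fin n → R) →ₗ[R] R) ⧸ LinearMap.range (vStep π u) →ₗ[R]
          ((K →ₗ[R] R) ⧸ LinearMap.range u) :=
        Submodule.mapQ _ _ (s.lcomp R R) (by
          rintro _ ⟨x, rfl⟩
          refine ⟨x, LinearMap.ext fun k => ?_⟩
          show u x k = u x (π (s k))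
          rw [← LinearMap.comp_apply π s, hs]
          rfl)
      have hqi : q ∘ₗ i = LinearMap.id := by
        refine LinearMap.ext fun t => ?_
        obtain ⟨g, rfl⟩ := Submodule.Quotient.mk_surjective _ t
        show Submodule.Quotient.mk ((g.comp π).comp s) = Submodule.Quotient.mk g
        rw [LinearMap.comp_assoc, hs, LinearMap.comp_id]
      have hq : Surjective q := fun t => ⟨i t, LinearMap.congr_fun hqi t⟩
      letI : Module A ((K →ₗ[R] R) ⧸ LinearMap.range u) := inferInstance
      haveI : Module.Flat A ((K →ₗ[R] R) ⧸ LinearMap.range u) :=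
        Module.Flat.of_retract (i.restrictScalars A) (q.restrictScalars A)
          (LinearMap.ext fun t => LinearMap.congr_fun hqi t)
      haveI : Module.FinitePresentation R ((K →ₗ[R] R) ⧸ LinearMap.range u) :=
        Module.finitePresentation_of_surjective q hq (by
          have : LinearMap.ker q = LinearMap.range (LinearMap.id - i ∘ₗ q) := by
            ext t
            refine ⟨fun ht => ⟨t, by simp [LinearMap.mem_ker.1 ht]⟩, ?_⟩
            rintro ⟨t, rfl⟩
            simp only [LinearMap.mem_ker, LinearMap.sub_apply, LinearMap.comp_apply, LinearMap.id_coe, id_eq,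
              map_sub]
            rw [← LinearMap.comp_apply q i, hqi]
            simp
          rw [this]
          exact Module.Finite.iff_fg.1 inferInstance)
      exact good_of_flat _
    · haveI : CategoryTheory.Projective (ModuleCat.of R K) :=
        ModuleCat.projective_of_categoryTheory_projective _
      obtain ⟨i, rfl⟩ : ∃ i, j = i + 1 := ⟨j - 1, by omega⟩
      exact subsingleton_of_forall_eq 0 fun x => Abelian.Ext.eq_zero_of_projective x
  | succ r ih =>
    intro K _ _ _ _ _ _ X _ _ _ _ _ _ u hK hinj hsurj hext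
    obtain ⟨n, π, hπ, hfp, hflatker⟩ := EGA43.PdFlat.exists_cover (A := A) (B := R) (M := K)
    let ι := (LinearMap.ker π).subtype
    have hι : Injective ι := (LinearMap.ker π).injective_subtype
    have hex : Exact ι π := LinearMap.exact_subtype_ker_map π
    have hιC : ∀ p, Injective (ι.baseChange (C p)) := fun p =>
      EGA43.PdFlat.injective_baseChange_subtype (A := A) (K := p.asIdeal.ResidueField) π hπ
    have hexC : ∀ p, Exact (ι.baseChange (C p)) (π.baseChange (C p)) := fun p =>
      lTensor_exact (C p) hex hπ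
    have hπC : ∀ p, Surjective (π.baseChange (C p)) := fun p => LinearMap.lTensor_surjective (C p) hπ
    have hv : ∀ p, Injective (bc (C p) (vStep π u)) := fun p a b hab => hinj p <| by
      refine LinearMap.ext fun z => ?_
      obtain ⟨w, rfl⟩ := hπC p z
      have := LinearMap.congr_fun hab w
      rwa [bc_comp_left, bc_comp_left] at this
    obtain ⟨hflat, hU⟩ := univInj_of_bc C (vStep π u) hv
    have hvinj : Injective (vStep π u) := by
      have h1 := hU A
      intro a b hab
      apply (TensorProduct.lid A X).symm.injective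
      apply h1
      simp only [TensorProduct.lid_symm_apply, LinearMap.lTensor_tmul, LinearMap.restrictScalars_apply, hab]
    have huinj : Injective u := fun a b hab => hvinj (by simp [vStep, hab])
    haveI : Module.Flat A (((Fin n → R) →ₗ[R] R) ⧸ LinearMap.range (vStep π u)) :=
      flat_coker_of_univInj (vStep π u) hU
    haveI : Module.FinitePresentation R ((Fin n → R) →ₗ[R] R) :=
      Module.FinitePresentation.of_equiv (Pi.basisFun R (Fin n)).toDualEquiv
    haveI : Module.FinitePresentation R (((Fin n → R) →ₗ[R] R) ⧸ LinearMap.range (vStep π u)) :=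
      Module.finitePresentation_of_surjective _ (Submodule.mkQ_surjective _) (by
        rw [Submodule.ker_mkQ]; exact Module.Finite.iff_fg.1 inferInstance)
    have hmk : ∀ p, Surjective ((LinearMap.range (vStep π u)).mkQ.baseChange (C p)) := fun p =>
      LinearMap.lTensor_surjective (C p) (Submodule.mkQ_surjective _)
    have hu' : ∀ p, ∀ t, bc (C p) (uStep π u) ((LinearMap.range (vStep π u)).mkQ.baseChange (C p) t) =
        (bc (C p) LinearMap.id t).comp (ι.baseChange (C p)) := fun p t => by
      rw [← bc_comp_right, uStep_mkQ, ← bc_comp_left]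
      rfl
    have hinj' : ∀ p, Injective (bc (C p) (uStep π u)) := fun p => by
      rw [injective_iff_map_eq_zero]
      intro w hw
      obtain ⟨t, rfl⟩ := hmk p w
      rw [hu'] at hw
      have hker : LinearMap.ker (π.baseChange (C p)) ≤ LinearMap.ker (bc (C p) LinearMap.id t) := by
        intro z hz
        obtain ⟨k, rfl⟩ := (hexC p z).1 hz
        exact LinearMap.congr_fun hw k
      let g : C p ⊗[R] K →ₗ[C p] C p := (LinearMap.ker (π.baseChange (C p))).liftQ _ hker ∘ₗ
        (LinearMap.quotKerEquivOfSurjective _ (hπC p)).symm.toLinearMap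
      obtain ⟨x, hx⟩ := hsurj (by omega) p g
      have ht : t = (vStep π u).baseChange (C p) x := by
        refine (bijective_bc_id (C p) n).1 ?_
        rw [← bc_comp_right, LinearMap.id_comp, bc_comp_left, hx]
        refine LinearMap.ext fun z => ?_
        simp [g]
      rw [ht, ← LinearMap.comp_apply, ← LinearMap.baseChange_comp, LinearMap.range_mkQ_comp,
        LinearMap.baseChange_zero, LinearMap.zero_apply]
    have hsurj' : 1 ≤ r → ∀ p, Surjective (bc (C p) (uStep π u)) := fun hr p ψ => by
      obtain ⟨φ, hφ⟩ := (LocCoh.subsingleton_ext_one_iff (C p) (hιC p) (hπC p) (hexC p)).1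
        (hext p 1 le_rfl (by omega)) ψ
      obtain ⟨t, rfl⟩ := (bijective_bc_id (C p) n).2 φ
      exact ⟨_, (hu' p t).trans hφ⟩
    have hext' : ∀ p, ∀ j, 1 ≤ j → j < r → Subsingleton
        (Abelian.Ext (ModuleCat.of (C p) (C p ⊗[R] LinearMap.ker π)) (ModuleCat.of (C p) (C p)) j) :=
      fun p j h1 h2 => by
        obtain ⟨i, rfl⟩ : ∃ i, j = i + 1 := ⟨j - 1, by omega⟩
        exact (LocCoh.subsingleton_ext_succ_iff (C p) (hιC p) (hπC p) (hexC p) i).1
          (hext p _ (by omega) (by omega))
    obtain ⟨h1, h2, h3, h4, h5⟩ := ih (LinearMap.ker π) _ (uStep π u)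
      ((CommAlg6.pdLE_succ_iff π hπ r).1 hK) hinj' hsurj' hext'
    have husurj : Surjective u := fun g => by
      have h0 : uStep π u ((LinearMap.range (vStep π u)).mkQ (g.comp π)) = 0 := by
        rw [← LinearMap.comp_apply, uStep_mkQ]
        ext k
        show g (π k.1) = 0
        rw [k.2, map_zero]
      obtain ⟨x, hx⟩ := (Submodule.Quotient.mk_eq_zero _).1 ((injective_iff_map_eq_zero _).1 h1 _ h0)
      refine ⟨x, LinearMap.ext fun k => ?_⟩
      obtain ⟨w, rfl⟩ := hπ k
      exact LinearMap.congr_fun hx w
    obtain ⟨P1, hP1, hP1k⟩ := CAlgH3.exists_ext_one_presentation R hι hπ hex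
    have hrange : LinearMap.range (uStep π u) = LinearMap.range (ι.lcomp R R) := by
      rw [← uStep_mkQ π u, LinearMap.range_comp_of_range_eq_top _ (Submodule.range_mkQ _)]
    refine ⟨huinj, fun _ => husurj, by omega, fun _ => ?_, fun j hj hjr => ?_⟩
    · rcases Nat.eq_zero_or_pos r with hr | hr
      · subst hr
        exact (h3 rfl).of_equiv ((Submodule.quotEquivOfEq _ _ (hrange.trans hP1k.symm)).trans
          (P1.quotKerEquivOfSurjective hP1))
      · obtain ⟨i, rfl⟩ : ∃ i, r = i + 1 := ⟨r - 1, by omega⟩
        exact (h4 hr).of_equiv (CAlgH3.nonempty_ext_succ_equiv R hι hπ hex i).some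
    · match j, hj with
      | 1, _ =>
        refine subsingleton_of_forall_eq 0 fun x => ?_
        obtain ⟨f, rfl⟩ := hP1 x
        refine LinearMap.mem_ker.1 ?_
        rw [hP1k, ← hrange]
        exact h2 (by omega) f
      | i + 2, _ =>
        haveI := h5 (i + 1) (by omega) (by omega)
        exact (CAlgH3.nonempty_ext_succ_equiv R hι hπ hex i).some.symm.toEquiv.subsingleton

end Main

end Groth.Agent.DualLib.FibreExt
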