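import Groth.Prelude.Def_KLin
import Groth.Agent.DQCoh.Tilde
import Groth.Agent.Formal2Lib.SecU

/-!
# Linear forms on `Hom(O, G)` over a field come from maps `G ⟶ O`
-/

set_option autoImplicit false
set_option backward.isDefEq.respectTransparency false
set_option backward.defeqAttrib.useBackward true
set_option linter.style.haveILetI false

universe u

open CategoryTheory CategoryTheory.Limits DerivedCategory AlgebraicGeometry Opposite
open Groth.Agent.DQCoh Groth.Agent.Coherent

attribute [local instance] HasDerivedCategory.standard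

namespace Groth.Agent.DualLib.FieldFun

variable (k : Type u) [Field k]

/-- In the derived category of vector spaces a linear form on `H⁰` extends to the whole object. -/
theorem exists_functional_mod (M : DerivedCategory (ModuleCat.{u} (CommRingCat.of k)))
    (L : (gen (CommRingCat.of k) ⟶ M) →ₗ[k] k) :
    ∃ φ : M ⟶ gen (CommRingCat.of k), ∀ m, m ≫ φ = L m • 𝟙 (gen (CommRingCat.of k)) := by
  let A := ModuleCat.{u} (CommRingCat.of k)
  let R₁ : A := ModuleCat.of (CommRingCat.of k) k
  let P₀ := (CochainComplex.singleFunctor A 0).obj R₁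
  let C := Q.objPreimage M
  let e : Q.obj C ≅ M := Q.objObjPreimageIso M
  let i : gen (CommRingCat.of k) ≅ Q.obj P₀ := (singleFunctorIsoCompQ A 0).app R₁
  haveI : Projective R₁ := ModuleCat.projective_of_free (Module.Basis.singleton PUnit.{1} k)
  let Z := LinearMap.ker (C.d 0 1).hom
  let g₀ : Z → (R₁ ⟶ C.X 0) := fun z => ModuleCat.ofHom (LinearMap.toSpanSingleton k _ (z : C.X 0))
  have hg₀ : ∀ (z : Z) (j : ℤ), (ComplexShape.up ℤ).Rel 0 j → g₀ z ≫ C.d 0 j = 0 := fun z j hj => by
    obtain rfl : j = 1 := by simp at hj; omega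
    refine ModuleCat.hom_ext (LinearMap.ext_ring ?_)
    show (C.d 0 1).hom ((1 : k) • (z : C.X 0)) = 0
    rw [one_smul]; exact z.2
  let g : Z → (P₀ ⟶ C) := fun z => HomologicalComplex.mkHomFromSingle (g₀ z) (hg₀ z)
  have gf : ∀ z, (g z).f 0 = (HomologicalComplex.singleObjXSelf (ComplexShape.up ℤ) 0 R₁).hom ≫ g₀ z := fun z =>
    HomologicalComplex.mkHomFromSingle_f _ _
  let Λ : Z →ₗ[k] k :=
    { toFun := fun z => L (i.hom ≫ Q.map (g z) ≫ e.hom)
      map_add' := fun z w => by
        rw [show g (z + w) = g z + g w from HomologicalComplex.from_single_hom_ext (by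
          rw [HomologicalComplex.add_f_apply, gf, gf, gf, ← Preadditive.comp_add]
          congr 1
          refine ModuleCat.hom_ext (LinearMap.ext_ring ?_)
          show (1 : k) • ((z : C.X 0) + (w : C.X 0)) = (1 : k) • (z : C.X 0) + (1 : k) • (w : C.X 0)
          rw [smul_add]), Functor.map_add, Preadditive.add_comp, Preadditive.comp_add, map_add]
      map_smul' := fun c z => by
        rw [show g (c • z) = c • g z from HomologicalComplex.from_single_hom_ext (by
          rw [HomologicalComplex.smul_f_apply, gf, gf, ← Linear.comp_smul]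
          congr 1
          refine ModuleCat.hom_ext (LinearMap.ext_ring ?_)
          show (1 : k) • (c • (z : C.X 0)) = c • ((1 : k) • (z : C.X 0))
          rw [one_smul, one_smul]), Functor.map_smul, Linear.smul_comp, Linear.comp_smul, map_smul]
        rfl }
  obtain ⟨ℓ, hℓ⟩ := LinearMap.exists_extend Λ
  have hb : ∀ y : C.X (-1), ℓ ((C.d (-1) 0).hom y) = 0 := fun y => by
    have hz : (C.d (-1) 0).hom y ∈ Z := LinearMap.mem_ker.2 (ConcreteCategory.congr_hom (C.d_comp_d (-1) 0 1) y)
    refine (LinearMap.congr_fun hℓ ⟨_, hz⟩).trans ?_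
    show L (i.hom ≫ Q.map (g ⟨_, hz⟩) ≫ e.hom) = 0
    suffices h0 : Q.map (g ⟨_, hz⟩) = 0 by rw [h0, zero_comp, comp_zero, map_zero]
    let u : P₀.X 0 ⟶ C.X (-1) := (HomologicalComplex.singleObjXSelf (ComplexShape.up ℤ) 0 R₁).hom ≫
      ModuleCat.ofHom (LinearMap.toSpanSingleton k _ y)
    have hu : (g ⟨_, hz⟩).f 0 = u ≫ C.d (-1) 0 := by
      rw [gf, Category.assoc]
      congr 1
      refine ModuleCat.hom_ext (LinearMap.ext_ring ?_)
      show (1 : k) • (C.d (-1) 0).hom y = (C.d (-1) 0).hom ((1 : k) • y)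
      rw [one_smul, one_smul]
    have hH : HomologicalComplex.homologyMap (g ⟨_, hz⟩) 0 = 0 := by
      rw [← cancel_epi (P₀.homologyπ 0), HomologicalComplex.homologyπ_naturality, comp_zero]
      rw [show HomologicalComplex.cyclesMap (g ⟨_, hz⟩) 0 = (P₀.iCycles 0 ≫ u) ≫ C.toCycles (-1) 0 by
        rw [← cancel_mono (C.iCycles 0), HomologicalComplex.cyclesMap_i, hu]
        simp only [Category.assoc, HomologicalComplex.toCycles_i]]
      rw [Category.assoc, HomologicalComplex.toCycles_comp_homologyπ, comp_zero]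
    obtain ⟨H⟩ := DCat.ProjHomology.homotopic_zero R₁ C _ hH
    exact (DerivedCategory.Q_map_eq_of_homotopy _ H).trans (Functor.map_zero _ _ _)
  let cz : C ⟶ P₀ := HomologicalComplex.mkHomToSingle (ModuleCat.ofHom (X := C.X 0) (Y := k) ℓ)
    (fun j hj => by
      obtain rfl : j = -1 := by simp at hj; omega
      exact ModuleCat.hom_ext (LinearMap.ext hb))
  have hcz : ∀ z, g z ≫ cz = Λ z • 𝟙 P₀ := fun z => HomologicalComplex.from_single_hom_ext (by
    rw [HomologicalComplex.comp_f, gf, HomologicalComplex.smul_f_apply, HomologicalComplex.id_f,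
      HomologicalComplex.mkHomToSingle_f, Category.assoc]
    rw [← cancel_epi (HomologicalComplex.singleObjXSelf (ComplexShape.up ℤ) 0 R₁).inv,
      ← cancel_mono (HomologicalComplex.singleObjXSelf (ComplexShape.up ℤ) 0 R₁).hom]
    simp only [Category.assoc, Iso.inv_hom_id_assoc, Iso.inv_hom_id, Category.comp_id, Linear.comp_smul,
      Linear.smul_comp, Category.id_comp]
    refine ModuleCat.hom_ext (LinearMap.ext_ring ?_)
    show ℓ ((1 : k) • (z : C.X 0)) = Λ z • (1 : k)
    rw [one_smul, smul_eq_mul, mul_one]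
    exact LinearMap.congr_fun hℓ z)
  refine ⟨e.inv ≫ Q.map cz ≫ i.inv, fun m => ?_⟩
  obtain ⟨z, hz⟩ : ∃ z, i.hom ≫ Q.map (g z) ≫ e.hom = m := by
    obtain ⟨h, hh⟩ := DCat.ProjHomology.exists_homologyMap_eq R₁ C
      ((homologyFunctorFactors A 0).inv.app P₀ ≫ (homologyFunctor A 0).map (i.inv ≫ m ≫ e.inv) ≫
        (homologyFunctorFactors A 0).hom.app C)
    have hcyc : (HomologicalComplex.singleObjXSelf (ComplexShape.up ℤ) 0 R₁).inv ≫ h.f 0 ≫ C.d 0 1 = 0 := by
      rw [h.comm, HomologicalComplex.single_obj_d, zero_comp, comp_zero]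
    let v : C.X 0 := ((HomologicalComplex.singleObjXSelf (ComplexShape.up ℤ) 0 R₁).inv ≫ h.f 0).hom (1 : k)
    have hv : v ∈ Z := LinearMap.mem_ker.2 (ConcreteCategory.congr_hom hcyc (1 : k))
    refine ⟨⟨v, hv⟩, ?_⟩
    have hg : g ⟨v, hv⟩ = h := HomologicalComplex.from_single_hom_ext (by
      rw [gf, ← cancel_epi (HomologicalComplex.singleObjXSelf (ComplexShape.up ℤ) 0 R₁).inv, Iso.inv_hom_id_assoc]
      refine ModuleCat.hom_ext (LinearMap.ext_ring ?_)
      show (1 : k) • v = v
      rw [one_smul])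
    rw [hg]
    have : Q.map h = i.inv ≫ m ≫ e.inv := by
      apply (DCat.ProjHomology.bijective_map_Q R₁ C).1
      show (homologyFunctor A 0).map (Q.map h) = _
      have hn := (homologyFunctorFactors A 0).hom.naturality h
      dsimp at hn
      refine (cancel_mono ((homologyFunctorFactors A 0).app C).hom).1 (hn.trans ?_)
      refine (congrArg (((homologyFunctorFactors A 0).hom.app P₀) ≫ ·) hh).trans ?_
      exact ((homologyFunctorFactors A 0).app P₀).hom_inv_id_assoc _
    rw [this]
    simp only [Category.assoc, Iso.inv_hom_id, Category.comp_id, Iso.hom_inv_id_assoc]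
  rw [← hz]
  simp only [Category.assoc, Iso.hom_inv_id_assoc]
  rw [← Functor.map_comp_assoc, hcz, Functor.map_smul, CategoryTheory.Functor.map_id, Linear.smul_comp,
    Category.id_comp, Linear.comp_smul, Iso.hom_inv_id]
  rfl

variable {k}

/-- Over `Spec k` itself `a` acts through `ΓSpecIso`. -/
theorem toGlobal_self (a : k) :
    Coh.toGlobal (Spec (CommRingCat.of k) ↘ Spec (CommRingCat.of k)) a = Formal2Lib.SecU.φ0 (CommRingCat.of k) a := by
  show (Spec (CommRingCat.of k) ↘ Spec (CommRingCat.of k)).appTop.hom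
    ((Scheme.ΓSpecIso (CommRingCat.of k)).inv.hom a) = _
  rw [show (Spec (CommRingCat.of k) ↘ Spec (CommRingCat.of k)) = 𝟙 _ from Spec.map_id _, Scheme.Hom.id_appTop]
  rfl

/-- `M ↦ M~` is linear on scalars. -/
theorem tilde_map_smul_id (M : ModuleCat.{u} (CommRingCat.of k)) (a : k) :
    (tilde.functor (CommRingCat.of k)).map (a • 𝟙 M) = a • 𝟙 ((tilde.functor (CommRingCat.of k)).obj M) := by
  refine Eq.trans ?_ ((Formal2Lib.SecU.map_smul_id M a).trans ?_)
  · rfl
  · rw [KLin.smul_id]
    exact congrArg (Formal.smulModΓ _) (toGlobal_self a).symm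

variable [PreservesFiniteLimits (tilde.functor (CommRingCat.of k))]

/-- The derived tilde is linear on scalars. -/
theorem tildeD_map_smul_id (M : DerivedCategory (ModuleCat.{u} (CommRingCat.of k))) (a : k) :
    (DCoh.tildeD (CommRingCat.of k)).map (a • 𝟙 M) = a • 𝟙 ((DCoh.tildeD (CommRingCat.of k)).obj M) := by
  let C := DerivedCategory.Q.objPreimage M
  let e : DerivedCategory.Q.obj C ≅ M := DerivedCategory.Q.objObjPreimageIso M
  haveI : (tilde.functor (CommRingCat.of k)).Additive := Functor.additive_of_preserves_binary_products _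
  haveI : PreservesFiniteColimits (tilde.functor (CommRingCat.of k)) :=
    haveI := (tilde.adjunction (R := CommRingCat.of k)).leftAdjoint_preservesColimits
    inferInstance
  let η := (tilde.functor (CommRingCat.of k)).mapDerivedCategoryFactors
  have h1 : a • 𝟙 M = e.inv ≫ DerivedCategory.Q.map (a • 𝟙 C) ≫ e.hom := by
    rw [Functor.map_smul, CategoryTheory.Functor.map_id, Linear.smul_comp, Linear.comp_smul, Category.id_comp,
      Iso.inv_hom_id]
  have h2 : (DCoh.tildeD (CommRingCat.of k)).map (DerivedCategory.Q.map (a • 𝟙 C)) =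
      a • 𝟙 ((DCoh.tildeD (CommRingCat.of k)).obj (DerivedCategory.Q.obj C)) := by
    have hn := η.hom.naturality (a • 𝟙 C)
    dsimp at hn
    rw [← cancel_mono (η.app C).hom, Iso.app_hom, hn, Linear.smul_comp, Category.id_comp]
    rw [show ((tilde.functor (CommRingCat.of k)).mapHomologicalComplex (ComplexShape.up ℤ)).map (a • 𝟙 C) = a • 𝟙 _ from
      HomologicalComplex.hom_ext _ _ fun n => tilde_map_smul_id (C.X n) a, Functor.map_smul,
      CategoryTheory.Functor.map_id, Linear.comp_smul, Category.comp_id]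
  rw [h1, Functor.map_comp, Functor.map_comp, h2, Linear.smul_comp, Linear.comp_smul, Category.id_comp,
    ← Functor.map_comp, Iso.inv_hom_id, CategoryTheory.Functor.map_id]

/-- A linear form on `Hom(O, G)` over a field comes from a map `G ⟶ O`. -/
theorem exists_functional (G : DCoh.D (Spec (CommRingCat.of k))) (hG : DCoh.IsQCohD G)
    (L : ((sec (Spec (CommRingCat.of k))).pt.obj ⊤ ⟶ G) →ₗ[k] k) :
    ∃ φ : G ⟶ (sec (Spec (CommRingCat.of k))).pt.obj ⊤, ∀ x, x ≫ φ = L x • 𝟙 _ := by
  obtain ⟨hfull, hfaith, hess⟩ := tildeD_main (CommRingCat.of k)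
  obtain ⟨M, ⟨e⟩⟩ := (hess G).1 hG
  let T := DCoh.tildeD (CommRingCat.of k)
  let γ := genIso (CommRingCat.of k)
  have hsmul : ∀ {A B : DerivedCategory (ModuleCat.{u} (CommRingCat.of k))} (c : k) (m : A ⟶ B),
      T.map (c • m) = c • T.map m := fun c m => by
    rw [← Category.comp_id m, ← Linear.comp_smul, Functor.map_comp, tildeD_map_smul_id, Linear.comp_smul]
    erw [Category.comp_id, Category.comp_id]
  let L' : (gen (CommRingCat.of k) ⟶ M) →ₗ[k] k :=
    { toFun := fun m => L (γ.inv ≫ T.map m ≫ e.hom)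
      map_add' := fun m n => by rw [Functor.map_add, Preadditive.add_comp, Preadditive.comp_add, map_add]
      map_smul' := fun c m => by
        rw [hsmul, Linear.smul_comp, Linear.comp_smul, map_smul]
        rfl }
  obtain ⟨φ, hφ⟩ := exists_functional_mod k M L'
  refine ⟨e.inv ≫ T.map φ ≫ γ.hom, fun x => ?_⟩
  obtain ⟨m, hm⟩ := T.map_surjective (γ.hom ≫ x ≫ e.inv)
  have hx : γ.inv ≫ T.map m ≫ e.hom = x := by
    rw [hm, Category.assoc, Category.assoc, Iso.inv_hom_id, Category.comp_id, Iso.inv_hom_id_assoc]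
  rw [← hx]
  simp only [Category.assoc, Iso.hom_inv_id_assoc]
  rw [← Functor.map_comp_assoc, hφ, hsmul, CategoryTheory.Functor.map_id, Linear.smul_comp, Linear.comp_smul]
  simp only [Category.id_comp, Iso.inv_hom_id]
  rfl

end Groth.Agent.DualLib.FieldFun
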