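import Groth.Prelude.Def_Wider
import Groth.Agent.DualLib.DualSystem

/-! Linear self-equivalences of the category of finite length modules over a Noetherian local ring. -/

set_option autoImplicit false
set_option linter.style.haveILetI false

universe u

open CategoryTheory

namespace Groth.Agent.DualLib.FinLenId

open Groth.Agent Groth.Agent.DualLib

variable {A : Type u} [CommRing A] [IsLocalRing A] [IsNoetherianRing A]

variable (A) in
/-- The object `A/m^(n+1)`. -/
noncomputable def Q (n : ℕ) : Dual.FinLen A :=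
  ⟨ModuleCat.of A (N A (n + 1)), isFiniteLength_N (n + 1)⟩

/-- The class of one. -/
noncomputable def one (n : ℕ) : (Q A n).obj := Submodule.Quotient.mk (1 : A)

lemma eq_smul_one {n : ℕ} (z : (Q A n).obj) : ∃ a : A, z = a • one n := by
  obtain ⟨a, rfl⟩ := Submodule.Quotient.mk_surjective _ z
  exact ⟨a, congrArg Submodule.Quotient.mk (mul_one a).symm⟩

lemma smul_one_eq_zero {n : ℕ} {a : A} : a • one n = (0 : (Q A n).obj) ↔ a ∈ IsLocalRing.maximalIdeal A ^ (n + 1) := by
  exact (show (a • (Submodule.Quotient.mk (1 : A) : N A (n + 1)) = 0) ↔ a ∈ IsLocalRing.maximalIdeal A ^ (n + 1) by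
    rw [← Submodule.Quotient.mk_smul, smul_eq_mul, mul_one, Submodule.Quotient.mk_eq_zero])

lemma hom_ext {n : ℕ} {M : Dual.FinLen A} {f g : Q A n ⟶ M} (h : f.hom (one n) = g.hom (one n)) : f = g := by
  apply ObjectProperty.hom_ext
  apply ModuleCat.hom_ext
  refine LinearMap.ext fun z => ?_
  obtain ⟨a, rfl⟩ := eq_smul_one z
  show f.hom.hom (a • one n) = g.hom.hom (a • one n)
  rw [map_smul, map_smul]
  exact congrArg (a • ·) h

lemma exists_hom {n : ℕ} {M : Dual.FinLen A} (x : M.obj)
    (hx : ∀ a ∈ IsLocalRing.maximalIdeal A ^ (n + 1), a • x = 0) :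
    ∃ f : Q A n ⟶ M, f.hom (one n) = x :=
  ⟨ObjectProperty.homMk (ModuleCat.ofHom (Submodule.liftQ _ (LinearMap.toSpanSingleton A M.obj x) hx)),
    (Submodule.liftQ_apply _ _ _).trans (one_smul A x)⟩

lemma killed_one {n : ℕ} : ∀ a ∈ IsLocalRing.maximalIdeal A ^ (n + 1), a • one n = (0 : (Q A n).obj) :=
  fun _ ha => smul_one_eq_zero.2 ha

lemma smul_app (F : Dual.FinLen A ≌ Dual.FinLen A) [F.functor.Additive] [F.functor.Linear A] {M M' : Dual.FinLen A}
    (a : A) (f : M ⟶ M') (y : (F.functor.obj M).obj) :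
    (F.functor.map (a • f)).hom y = a • (F.functor.map f).hom y := by
  rw [Functor.map_smul]
  rfl

variable (F : Dual.FinLen A ≌ Dual.FinLen A) [F.functor.Additive] [F.functor.Linear A]

/-- A scalar killing `M` kills `F M`. -/
lemma smul_eq_zero_of_killed {M : Dual.FinLen A} {a : A} (h : ∀ x : M.obj, a • x = 0) (y : (F.functor.obj M).obj) :
    a • y = 0 := by
  have h0 : a • 𝟙 M = 0 := by
    apply ObjectProperty.hom_ext
    apply ModuleCat.hom_ext
    exact LinearMap.ext h
  have h1 := smul_app F a (𝟙 M) y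
  rw [h0, Functor.map_zero, CategoryTheory.Functor.map_id] at h1
  exact h1.symm

lemma killed_obj (n : ℕ) (y : (F.functor.obj (Q A n)).obj) :
    ∀ a ∈ IsLocalRing.maximalIdeal A ^ (n + 1), a • y = 0 := fun a ha => by
  refine smul_eq_zero_of_killed F (fun z => ?_) y
  obtain ⟨b, rfl⟩ := eq_smul_one z
  rw [smul_comm, smul_one_eq_zero.2 ha, smul_zero]

/-- The projection `A/m^(k+1) → A/m^(n+1)`. -/
lemma exists_proj {n k : ℕ} (h : n ≤ k) : ∃ t : Q A k ⟶ Q A n, t.hom (one k) = one n :=
  exists_hom _ fun a ha => smul_one_eq_zero.2 (Ideal.pow_le_pow_right (by omega) ha)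

/-- The maps `F(A/m^(n+1)) → F(A/m)` coming from the projection detect generators. -/
lemma span_eq_top {n : ℕ} {t : Q A n ⟶ Q A 0} (ht : t.hom (one n) = one 0) (x : (F.functor.obj (Q A n)).obj)
    (hx : (F.functor.map t).hom x ≠ 0) : Submodule.span A {x} = ⊤ := by
  by_contra hne
  set m := IsLocalRing.maximalIdeal A
  have hm : ∀ a ∈ m, ∀ y : (F.functor.obj (Q A 0)).obj, a • y = 0 := fun a ha y =>
    killed_obj F 0 y a (by rwa [zero_add, pow_one])
  have hfin : Module.Finite A (F.functor.obj (Q A n)).obj := by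
    haveI : IsNoetherian A (F.functor.obj (Q A n)).obj :=
      (isFiniteLength_iff_isNoetherian_isArtinian.1 (F.functor.obj (Q A n)).property).1
    infer_instance
  let p : Submodule A (F.functor.obj (Q A n)).obj := Submodule.span A {x} ⊔ m • ⊤
  have hp : p ≠ ⊤ := fun hp => hne (top_le_iff.1
    (Submodule.le_of_le_smul_of_le_jacobson_bot hfin.fg_top (IsLocalRing.maximalIdeal_le_jacobson _) hp.ge))
  haveI : Nontrivial ((F.functor.obj (Q A n)).obj ⧸ p) := Submodule.Quotient.nontrivial_iff.2 hp
  obtain ⟨q, hq⟩ := IsCoatomic.eq_top_or_exists_le_coatom (⊥ : Submodule A ((F.functor.obj (Q A n)).obj ⧸ p))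
    |>.resolve_left bot_ne_top
  haveI : IsSimpleModule A (((F.functor.obj (Q A n)).obj ⧸ p) ⧸ q) := isSimpleModule_iff_isCoatom.2 hq.1
  obtain ⟨I, hI, ⟨e⟩⟩ := isSimpleModule_iff_quot_maximal.1 ‹IsSimpleModule A (((F.functor.obj (Q A n)).obj ⧸ p) ⧸ q)›
  obtain rfl : I = m := IsLocalRing.eq_maximalIdeal hI
  let e0 : (A ⧸ m) ≃ₗ[A] (Q A 0).obj :=
    Submodule.quotEquivOfEq m (m ^ (0 + 1)) (by rw [zero_add, pow_one])
  let l : (F.functor.obj (Q A n)).obj →ₗ[A] (Q A 0).obj := e0.toLinearMap ∘ₗ e.toLinearMap ∘ₗ q.mkQ ∘ₗ p.mkQ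
  have hls : Function.Surjective l :=
    e0.surjective.comp (e.surjective.comp ((q.mkQ_surjective).comp p.mkQ_surjective))
  have hlx : l x = 0 := by
    have : p.mkQ x = 0 := (Submodule.Quotient.mk_eq_zero p).2
      (Submodule.mem_sup_left (Submodule.mem_span_singleton_self x))
    show e0 (e (q.mkQ (p.mkQ x))) = 0
    rw [this, map_zero, map_zero, map_zero]
  -- `F(A/m)` is simple, so `F t` is a nonzero multiple of `l`
  obtain ⟨z, hz⟩ : ∃ z : (F.functor.obj (Q A 0)).obj, z ≠ 0 := ⟨_, hx⟩
  obtain ⟨j, hj⟩ := exists_hom (n := 0) z fun a ha => killed_obj F 0 z a ha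
  let g : F.functor.obj (Q A n) ⟶ F.functor.obj (Q A 0) := ObjectProperty.homMk (ModuleCat.ofHom l) ≫ j
  obtain ⟨g', hg'⟩ := F.functor.map_surjective g
  obtain ⟨c, hc⟩ := eq_smul_one (g'.hom (one n))
  have hg'' : g' = c • t := hom_ext (by
    rw [hc]
    show _ = c • t.hom (one n)
    rw [ht])
  obtain ⟨y, hy⟩ := hls (one 0)
  have hgy : g.hom y = z := by
    show j.hom (l y) = z
    rw [hy, hj]
  have hgx : g.hom x = 0 := by
    show j.hom (l x) = 0
    rw [hlx]
    exact map_zero j.hom.hom
  rw [← hg', hg'', smul_app] at hgy hgx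
  by_cases hcm : c ∈ m
  · exact hz (hgy.symm.trans (hm c hcm _))
  · obtain ⟨u, rfl⟩ := not_not.1 fun hu => hcm ((IsLocalRing.mem_maximalIdeal c).2 hu)
    exact hx (u.isUnit.smul_eq_zero.1 hgx)

lemma exists_ne_zero {n : ℕ} {t : Q A n ⟶ Q A 0} (ht : t.hom (one n) = one 0) :
    ∃ x : (F.functor.obj (Q A n)).obj, (F.functor.map t).hom x ≠ 0 := by
  by_contra h
  push Not at h
  have h0 : t = 0 := F.functor.map_injective (by
    rw [Functor.map_zero]
    apply ObjectProperty.hom_ext
    apply ModuleCat.hom_ext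
    exact LinearMap.ext h)
  rw [h0] at ht
  have h1 : (1 : A) • one 0 = (0 : (Q A 0).obj) := by rw [one_smul]; exact ht.symm
  rw [smul_one_eq_zero, zero_add, pow_one] at h1
  exact (IsLocalRing.maximalIdeal.isMaximal A).ne_top ((Ideal.eq_top_iff_one _).2 h1)

/-- Compatible generators of the `F(A/m^(n+1))`. -/
theorem exists_generators : ∃ x : ∀ n, (F.functor.obj (Q A n)).obj,
    (∀ n, Submodule.span A {x n} = ⊤) ∧
      ∀ {n k : ℕ} (t : Q A k ⟶ Q A n), n ≤ k → t.hom (one k) = one n → (F.functor.map t).hom (x k) = x n := by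
  choose t ht using fun n => exists_proj (A := A) (Nat.zero_le n)
  choose s hs using fun n => exists_proj (A := A) (Nat.le_succ n)
  have hst : ∀ n, s n ≫ t n = t (n + 1) := fun n => hom_ext (by
    show (t n).hom ((s n).hom (one (n + 1))) = _
    rw [hs, ht, ht])
  have step : ∀ n (x : (F.functor.obj (Q A n)).obj), (F.functor.map (t n)).hom x ≠ 0 →
      ∃ y : (F.functor.obj (Q A (n + 1))).obj, (F.functor.map (t (n + 1))).hom y ≠ 0 ∧ (F.functor.map (s n)).hom y = x := by
    intro n x hx
    obtain ⟨y, hy⟩ := exists_ne_zero F (ht (n + 1))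
    rw [← hst, Functor.map_comp] at hy
    have hy' : (F.functor.map (t n)).hom ((F.functor.map (s n)).hom y) ≠ 0 := hy
    have hmem : x ∈ Submodule.span A {(F.functor.map (s n)).hom y} := by rw [span_eq_top F (ht n) _ hy']; trivial
    obtain ⟨a, ha⟩ := Submodule.mem_span_singleton.1 hmem
    have hay : (F.functor.map (s n)).hom (a • y) = x := (map_smul (F.functor.map (s n)).hom.hom a y).trans ha
    refine ⟨a • y, ?_, hay⟩
    rw [← hst, Functor.map_comp]
    show (F.functor.map (t n)).hom ((F.functor.map (s n)).hom (a • y)) ≠ 0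
    rw [hay]; exact hx
  choose! nx hnx hnx' using step
  obtain ⟨x0, hx0⟩ := exists_ne_zero F (ht 0)
  let x : ∀ n, { y : (F.functor.obj (Q A n)).obj // (F.functor.map (t n)).hom y ≠ 0 } := fun n =>
    Nat.rec ⟨x0, hx0⟩ (fun n p => ⟨nx n p.1, hnx n p.1 p.2⟩) n
  refine ⟨fun n => (x n).1, fun n => span_eq_top F (ht n) _ (x n).2, ?_⟩
  intro n k
  induction k with
  | zero =>
    intro u hu hu1
    obtain rfl : n = 0 := Nat.le_zero.1 hu
    rw [show u = 𝟙 _ from hom_ext (by rw [hu1]; rfl), CategoryTheory.Functor.map_id]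
    rfl
  | succ k ih =>
    intro u hu hu1
    rcases Nat.lt_or_eq_of_le hu with h | h
    · obtain ⟨u', hu'⟩ := exists_proj (A := A) (Nat.lt_succ_iff.1 h)
      rw [show u = s k ≫ u' from hom_ext (by
        show u.hom (one (k + 1)) = u'.hom ((s k).hom (one (k + 1)))
        rw [hu1, hs, hu']), Functor.map_comp]
      show (F.functor.map u').hom ((F.functor.map (s k)).hom (nx k (x k).1)) = (x n).1
      rw [hnx' k (x k).1 (x k).2]
      exact ih u' (Nat.lt_succ_iff.1 h) hu'
    · subst h
      rw [show u = 𝟙 _ from hom_ext (by rw [hu1]; rfl), CategoryTheory.Functor.map_id]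
      rfl

lemma exists_killing (M : Dual.FinLen A) :
    ∃ n : ℕ, ∀ a ∈ IsLocalRing.maximalIdeal A ^ (n + 1), ∀ x : M.obj, a • x = 0 := by
  obtain ⟨hN, hA⟩ := isFiniteLength_iff_isNoetherian_isArtinian.1 M.property
  let f : ℕ →o (Submodule A M.obj)ᵒᵈ :=
    ⟨fun n => OrderDual.toDual (IsLocalRing.maximalIdeal A ^ n • ⊤), fun a b h =>
      Submodule.smul_mono_left (Ideal.pow_le_pow_right h)⟩
  obtain ⟨n, hn⟩ := IsArtinian.monotone_stabilizes f
  have h1 : IsLocalRing.maximalIdeal A ^ n • (⊤ : Submodule A M.obj) = IsLocalRing.maximalIdeal A ^ (n + 1) • ⊤ :=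
    congrArg OrderDual.ofDual (hn (n + 1) (Nat.le_succ n))
  have h0 : IsLocalRing.maximalIdeal A ^ n • (⊤ : Submodule A M.obj) = ⊥ := by
    refine Submodule.eq_bot_of_le_smul_of_le_jacobson_bot (IsLocalRing.maximalIdeal A) _ (IsNoetherian.noetherian _) ?_
      (IsLocalRing.maximalIdeal_le_jacobson _)
    rw [← Submodule.mul_smul, ← pow_succ']
    exact h1.le
  refine ⟨n, fun a ha x => ?_⟩
  have := Submodule.smul_mem_smul (Ideal.pow_le_pow_right (Nat.le_succ n) ha) (Submodule.mem_top (x := x) (R := A))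
  rwa [h0, Submodule.mem_bot] at this

/-- A linear self-equivalence of finite length modules is naturally isomorphic to the identity. -/
theorem nonempty_iso_id : Nonempty (F.functor ≅ 𝟭 (Dual.FinLen A)) := by
  obtain ⟨x, hgen, hcomp⟩ := exists_generators F
  choose N hN using fun M => exists_killing (A := A) M
  choose φ hφ using fun (M : Dual.FinLen A) (z : M.obj) => exists_hom (n := N M) z fun a ha => hN M a ha z
  have hval : ∀ (M : Dual.FinLen A) (n : ℕ) (f : Q A n ⟶ M),
      (F.functor.map f).hom (x n) = (F.functor.map (φ M (f.hom (one n)))).hom (x (N M)) := by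
    intro M n f
    obtain ⟨t₁, ht₁⟩ := exists_proj (A := A) (le_max_left n (N M))
    obtain ⟨t₂, ht₂⟩ := exists_proj (A := A) (le_max_right n (N M))
    have he : t₁ ≫ f = t₂ ≫ φ M (f.hom (one n)) := hom_ext (by
      show f.hom (t₁.hom _) = (φ M _).hom (t₂.hom _)
      rw [ht₁, ht₂, hφ])
    conv_lhs => rw [← hcomp t₁ (le_max_left _ _) ht₁]
    rw [← hcomp t₂ (le_max_right _ _) ht₂]
    show (F.functor.map t₁ ≫ F.functor.map f).hom (x _) = (F.functor.map t₂ ≫ F.functor.map _).hom (x _)
    rw [← Functor.map_comp, ← Functor.map_comp, he]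
  let η : ∀ M : Dual.FinLen A, M.obj →ₗ[A] (F.functor.obj M).obj := fun M =>
    { toFun := fun z => (F.functor.map (φ M z)).hom (x (N M))
      map_add' := fun z w => by
        rw [show φ M (z + w) = φ M z + φ M w from hom_ext (by
          show _ = (φ M z).hom (one (N M)) + (φ M w).hom (one (N M))
          rw [hφ, hφ, hφ]), Functor.map_add]
        rfl
      map_smul' := fun a z => by
        rw [show φ M (a • z) = a • φ M z from hom_ext (by
          show _ = a • (φ M z).hom (one (N M))
          rw [hφ, hφ]), smul_app]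
        rfl }
  have hb : ∀ M, Function.Bijective (η M) := fun M => by
    refine ⟨(injective_iff_map_eq_zero _).2 fun z hz => ?_, fun y => ?_⟩
    · have h0 : φ M z = 0 := F.functor.map_injective (by
        rw [Functor.map_zero]
        apply ObjectProperty.hom_ext
        apply ModuleCat.hom_ext
        refine LinearMap.ext fun w => ?_
        obtain ⟨a, rfl⟩ := Submodule.mem_span_singleton.1 (show w ∈ Submodule.span A {x (N M)} by rw [hgen]; trivial)
        show (F.functor.map (φ M z)).hom.hom (a • x (N M)) = 0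
        rw [map_smul]
        exact (congrArg (a • ·) hz).trans (smul_zero a))
      rw [← hφ M z, h0]
      rfl
    · let p : (Q A (N M)).obj →ₗ[A] (F.functor.obj (Q A (N M))).obj :=
        Submodule.liftQ _ (LinearMap.toSpanSingleton A _ (x (N M))) fun a ha => killed_obj F (N M) _ a ha
      have hp1 : p (one (N M)) = x (N M) := one_smul A _
      have hp : Function.Bijective p := by
        refine ⟨(injective_iff_map_eq_zero _).2 fun w hw => ?_, fun w => ?_⟩
        · obtain ⟨a, rfl⟩ := eq_smul_one w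
          rw [map_smul, hp1] at hw
          have h1 : a • 𝟙 (Q A (N M)) = 0 := F.functor.map_injective (by
            rw [Functor.map_zero, Functor.map_smul, CategoryTheory.Functor.map_id]
            apply ObjectProperty.hom_ext
            apply ModuleCat.hom_ext
            refine LinearMap.ext fun v => ?_
            obtain ⟨b, rfl⟩ := Submodule.mem_span_singleton.1 (show v ∈ Submodule.span A {x (N M)} by rw [hgen]; trivial)
            show a • b • x (N M) = 0
            rw [smul_comm, hw, smul_zero])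
          exact congrArg (fun f : Q A (N M) ⟶ Q A (N M) => f.hom (one (N M))) h1
        · obtain ⟨a, rfl⟩ := Submodule.mem_span_singleton.1 (show w ∈ Submodule.span A {x (N M)} by rw [hgen]; trivial)
          exact ⟨a • one (N M), (map_smul p a _).trans (congrArg (a • ·) hp1)⟩
      obtain ⟨f, hf⟩ := exists_hom (n := N M) y fun a ha => smul_eq_zero_of_killed F (hN M a ha) y
      let ψ : F.functor.obj (Q A (N M)) ⟶ F.functor.obj M :=
        ObjectProperty.homMk (ModuleCat.ofHom (LinearEquiv.ofBijective p hp).symm.toLinearMap) ≫ f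
      obtain ⟨g, hg⟩ := F.functor.map_surjective ψ
      refine ⟨g.hom (one (N M)), ?_⟩
      show (F.functor.map (φ M _)).hom (x (N M)) = y
      rw [← hval M (N M) g, hg]
      show f.hom ((LinearEquiv.ofBijective p hp).symm (x (N M))) = y
      rw [show (LinearEquiv.ofBijective p hp).symm (x (N M)) = one (N M) from
        (LinearEquiv.ofBijective p hp).injective ((LinearEquiv.apply_symm_apply _ _).trans hp1.symm)]
      exact hf
  refine ⟨(NatIso.ofComponents
    (fun M => ObjectProperty.isoMk _ (LinearEquiv.ofBijective (η M) (hb M)).toModuleIso) ?_).symm⟩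
  intro M M' f
  apply ObjectProperty.hom_ext
  apply ModuleCat.hom_ext
  refine LinearMap.ext fun z => ?_
  show (F.functor.map (φ M' (f.hom z))).hom (x (N M')) = (F.functor.map f).hom ((F.functor.map (φ M z)).hom (x (N M)))
  have := hval M' (N M) (φ M z ≫ f)
  rw [show (φ M z ≫ f).hom (one (N M)) = f.hom z from congrArg f.hom (hφ M z)] at this
  rw [← this, Functor.map_comp]
  rfl

end Groth.Agent.DualLib.FinLenId
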