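import Groth.Agent.DualLib.LocSupport

/-! Pointwise dualizing complexes on rings of finite dimension are dualizing. -/

set_option autoImplicit false
set_option backward.isDefEq.respectTransparency false
set_option backward.defeqAttrib.useBackward true
set_option linter.style.haveILetI false

universe u

open CategoryTheory CategoryTheory.Limits CategoryTheory.Pretriangulated DerivedCategory

attribute [local instance] HasDerivedCategory.standard

namespace Groth.Agent.DualLib

variable {A : Type u} [CommRing A] [IsNoetherianRing A]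

theorem isDualizing_of_pointwise (hdim : ringKrullDim A < ⊤) {R : Dual.D A}
    (hfin : ∀ i, Module.Finite A (Dual.HD A R i)) {a : ℤ} (hge : R.IsGE a)
    (hloc : ∀ p : PrimeSpectrum A,
      Dual.IsDualizing (Localization.AtPrime p.asIdeal) ((extD (algebraMap A (Localization.AtPrime p.asIdeal))).obj R)) :
    Dual.IsDualizing A R := by
  classical
  obtain ⟨D, hD⟩ : ∃ D : ℕ, ringKrullDim A ≤ (D : WithBot ℕ∞) := by
    generalize ringKrullDim A = x at hdim
    induction x using WithBot.recBotCoe with
    | bot => exact ⟨0, bot_le⟩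
    | coe x =>
      induction x using ENat.recTopCoe with
      | top => exact absurd hdim (lt_irrefl _)
      | coe n => exact ⟨n, le_rfl⟩
  have hfinmin : {q : PrimeSpectrum A | q.asIdeal ∈ minimalPrimes A}.Finite :=
    Set.Finite.of_finite_image (f := PrimeSpectrum.asIdeal)
      ((minimalPrimes.finite_of_isNoetherianRing A).subset (by rintro _ ⟨q, hq, rfl⟩; exact hq))
      (fun x _ y _ h => PrimeSpectrum.ext h)
  let c : PrimeSpectrum A → ℤ := fun q =>
    if h : ∃ i, q ∈ Module.support A (E R (A ⧸ q.asIdeal) i) then h.choose else 0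
  obtain ⟨K, hK⟩ := (hfinmin.image c).bddAbove
  have hbound : ∀ (m : Ideal A) [m.IsMaximal] (Q : PrimeSpectrum (Localization.AtPrime m)),
      deg (hloc ⟨m, ‹m.IsMaximal›.isPrime⟩) Q ≤ K + D := by
    intro m hm Q
    let B := Localization.AtPrime m
    let W := (extD (algebraMap A B)).obj R
    have hW : Dual.IsDualizing B W := hloc ⟨m, hm.isPrime⟩
    obtain ⟨q₀, hq₀, hle⟩ := Ideal.exists_minimalPrimes_le (J := Q.asIdeal) (bot_le : (⊥ : Ideal B) ≤ _)
    let P : PrimeSpectrum B := ⟨q₀, hq₀.1.1⟩
    let q := PrimeSpectrum.comap (algebraMap A B) P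
    have hq : q.asIdeal ∈ minimalPrimes A := by
      refine ⟨⟨q.2, bot_le⟩, fun r hr hrq => ?_⟩
      haveI := hr.1
      obtain ⟨r', hr', hr'e⟩ := CommAlg6.exists_under_eq m r
        (le_trans hrq (haveI := P.2; CommAlg6.under_le m P.asIdeal))
      have hle' : r' ≤ P.asIdeal := by
        rw [← IsLocalization.map_under m.primeCompl B r', ← IsLocalization.map_under m.primeCompl B P.asIdeal, hr'e]
        exact Ideal.map_mono hrq
      have : P.asIdeal ≤ r' := hq₀.2 ⟨hr', bot_le⟩ hle'
      rw [← hr'e]
      exact Ideal.comap_mono this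
    have hiff : ∀ i, q ∈ Module.support A (E R (A ⧸ q.asIdeal) i) ↔ i = deg hW P := fun i =>
      mem_support_iff_eq_deg (B := B) m.primeCompl hW (Iso.refl W) hge P i inferInstance
    have hex : ∃ i, q ∈ Module.support A (E R (A ⧸ q.asIdeal) i) := ⟨_, (hiff _).2 rfl⟩
    have hc : c q = deg hW P := by
      have := (hiff _).1 hex.choose_spec
      simp only [c, dif_pos hex]
      exact this
    have h1 : deg hW P ≤ K := hc ▸ hK ⟨q, hq, rfl⟩
    obtain ⟨s, -, -, hs⟩ := exists_series_deg hW (show P ≤ Q from hle)
    let t : LTSeries (PrimeSpectrum A) := LTSeries.map s (fun x => PrimeSpectrum.comap (algebraMap A B) x)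
      (fun x y hxy => by
        rw [← PrimeSpectrum.asIdeal_lt_asIdeal]
        exact under_lt_under (show x.asIdeal < y.asIdeal from hxy))
    have h2 : ((s.length : ℕ∞) : WithBot ℕ∞) ≤ (D : WithBot ℕ∞) :=
      (Order.LTSeries.length_le_krullDim t).trans hD
    have h3 : s.length ≤ D := by exact_mod_cast h2
    show deg hW Q ≤ K + D
    omega
  have hvan : ∀ (M : Type u) [AddCommGroup M] [Module A M] [Module.Finite A M] (i : ℤ),
      (i < a ∨ K + D < i) → Subsingleton (E R M i) := by
    intro M _ _ _ i hi
    rcases hi with hi | hi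
    · haveI : (R⟦i⟧).IsGE (a - i) := (ts A).isGE_shift R a i (a - i) (by omega)
      exact subsingleton_of_forall_eq 0 fun φ => (ts A).zero φ 0 (a - i) (by omega)
    · refine subsingleton_of_forall_eq 0 fun θ => (Submodule.mem_bot A).1
        (mem_of_forall_maximal (⊥ : Submodule A (E R M i)) θ fun m hm => ?_)
      let B := Localization.AtPrime m
      have hW : Dual.IsDualizing B ((extD (algebraMap A B)).obj R) := hloc ⟨m, hm.isPrime⟩
      haveI : Module.Finite B ((ModuleCat.extendScalars.{u, u, u} (algebraMap A B)).obj (ModuleCat.of A M)) :=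
        finite_ext (B := B) M
      have hsub : Subsingleton (E ((extD (algebraMap A B)).obj R)
          ((ModuleCat.extendScalars.{u, u, u} (algebraMap A B)).obj (ModuleCat.of A M)) i) := by
        refine (Module.support_eq_empty_iff (R := B)).1 (Set.eq_empty_iff_forall_notMem.2 fun Q hQ => ?_)
        obtain ⟨d, n, -, -, -, hr, -, -⟩ := local_degrees hW _ Q (mem_support_of_mem_support_E hW _ hQ)
        have h1 := (hr i hQ).2
        have h2 : deg hW Q ≤ K + D := hbound m Q
        omega
      obtain ⟨s, hs, h0⟩ := (subsingleton_E_iff (B := B) m.primeCompl M hge i).1 hsub θ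
      exact ⟨s, hs, h0⟩
  have hinj := ((S6965.result A R a (K + D)).out 0 2).2 fun I i hi => hvan (A ⧸ I) i hi
  exact isDualizing_of_local hfin (isSmall_of_injAmp hinj hfin) hinj fun m hm => hloc ⟨m, hm.isPrime⟩

end Groth.Agent.DualLib
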