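import Groth.Agent.DualLib.FlatDualizing
import Groth.Agent.DualLib.PointwiseDualizing
import Groth.Agent.AlgSpLib.SmoothRegular
import Groth.Agent.CAlgH3.RegularLocal
import Groth.Agent.CommAlg6.FibreLocal
import Groth.Agent.LocCoh.Gorenstein

/-! Flat base change of dualizing complexes with regular fibres. -/

set_option autoImplicit false
set_option backward.isDefEq.respectTransparency false
set_option backward.defeqAttrib.useBackward true
set_option linter.style.haveILetI false

universe u

open CategoryTheory CategoryTheory.Limits CategoryTheory.Pretriangulated DerivedCategory IsLocalRing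
open scoped TensorProduct

attribute [local instance] HasDerivedCategory.standard

namespace Groth.Agent.DualLib

/-- Extension of scalars along a composite. -/
theorem nonempty_extD_comp {A B C : Type u} [CommRing A] [CommRing B] [CommRing C] (φ : A →+* B) (ψ : B →+* C)
    (χ : A →+* C) (h : ψ.comp φ = χ) [PreservesFiniteLimits (ModuleCat.extendScalars.{u, u, u} φ)]
    [PreservesFiniteColimits (ModuleCat.extendScalars.{u, u, u} φ)]
    [PreservesFiniteLimits (ModuleCat.extendScalars.{u, u, u} ψ)]
    [PreservesFiniteColimits (ModuleCat.extendScalars.{u, u, u} ψ)]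
    [PreservesFiniteLimits (ModuleCat.extendScalars.{u, u, u} χ)]
    [PreservesFiniteColimits (ModuleCat.extendScalars.{u, u, u} χ)] (X : Dual.D A) :
    Nonempty ((extD ψ).obj ((extD φ).obj X) ≅ (extD χ).obj X) := by
  subst h
  let F := ModuleCat.extendScalars.{u, u, u} φ
  let G := ModuleCat.extendScalars.{u, u, u} ψ
  let H := ModuleCat.extendScalars.{u, u, u} (ψ.comp φ)
  let K := Q.objPreimage X
  let c := ComplexShape.up ℤ
  let e : (G.mapHomologicalComplex c).obj ((F.mapHomologicalComplex c).obj K) ≅ (H.mapHomologicalComplex c).obj K :=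
    HomologicalComplex.Hom.isoOfComponents (fun n => ((ModuleCat.extendScalarsComp φ ψ).app (K.X n)).symm)
      fun i j _ => ((ModuleCat.extendScalarsComp φ ψ).inv.naturality (K.d i j)).symm
  exact ⟨(extD ψ).mapIso ((extD φ).mapIso (Q.objObjPreimageIso X).symm ≪≫ F.mapDerivedCategoryFactors.app K) ≪≫
    G.mapDerivedCategoryFactors.app _ ≪≫ Q.mapIso e ≪≫ (H.mapDerivedCategoryFactors.app K).symm ≪≫
    (extD (ψ.comp φ)).mapIso (Q.objObjPreimageIso X)⟩

/-- A regular quotient which is dual to itself makes the residue field dual to itself. -/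
theorem exists_isDualIn_residue {C : Type u} [CommRing C] [IsLocalRing C] [IsNoetherianRing C] {W : Dual.D C} :
    ∀ (n : ℕ) (J : Ideal C), IsRegularLocalRing (C ⧸ J) → ringKrullDim (C ⧸ J) = n →
      ∀ d : ℤ, IsDualIn W (C ⧸ J) d → ∃ d', IsDualIn W (ResidueField C) d' := by
  intro n
  induction n with
  | zero =>
    intro J hr hd d h
    haveI := hr
    haveI : IsDomain (C ⧸ J) := CAlgH3.isDomain_of_isRegularLocalRing _
    haveI : Ring.KrullDimLE 0 (C ⧸ J) := Ring.krullDimLE_iff.2 hd.le
    have hJ : J = maximalIdeal C :=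
      IsLocalRing.eq_maximalIdeal (Ideal.Quotient.maximal_of_isField _ Ring.KrullDimLE.isField_of_isDomain)
    exact ⟨d, h.of_equiv (Submodule.quotEquivOfEq _ _ hJ)⟩
  | succ n ih =>
    intro J hr hd d h
    haveI := hr
    haveI : IsDomain (C ⧸ J) := CAlgH3.isDomain_of_isRegularLocalRing _
    obtain ⟨y, hym, hy⟩ : ∃ y ∈ maximalIdeal (C ⧸ J), y ∉ maximalIdeal (C ⧸ J) ^ 2 := by
      by_contra! hc
      have hz : maximalIdeal (C ⧸ J) = ⊥ :=
        Submodule.eq_bot_of_le_smul_of_le_jacobson_bot (maximalIdeal (C ⧸ J)) _ (IsNoetherian.noetherian _)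
          (fun z hz => by rw [smul_eq_mul, ← pow_two]; exact hc z hz) (maximalIdeal_le_jacobson ⊥)
      have h0 : ringKrullDim (C ⧸ J) = 0 :=
        ringKrullDim_eq_zero_of_isField (IsLocalRing.isField_iff_maximalIdeal_eq.2 hz)
      rw [h0] at hd
      exact absurd hd (by norm_cast)
    obtain ⟨x, rfl⟩ := Ideal.Quotient.mk_surjective y
    have hne : (Ideal.Quotient.mk J x) ≠ 0 := fun h0 => hy (h0 ▸ zero_mem _)
    let f := x • (LinearMap.id : (C ⧸ J) →ₗ[C] (C ⧸ J))
    have hinj : Function.Injective f := by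
      rw [injective_iff_map_eq_zero]
      intro z hz
      obtain ⟨z, rfl⟩ := Ideal.Quotient.mk_surjective z
      have h0 : Ideal.Quotient.mk J x * Ideal.Quotient.mk J z = 0 := by
        rw [← map_mul]; exact hz
      exact (mul_eq_zero.1 h0).resolve_left hne
    let J' := J ⊔ Ideal.span {x}
    have hmap : (Ideal.span {Ideal.Quotient.mk J x} : Ideal (C ⧸ J)) = (Ideal.span {x}).map (Ideal.Quotient.mk J) := by
      rw [Ideal.map_span, Set.image_singleton]
    let eR : ((C ⧸ J) ⧸ (Ideal.span {Ideal.Quotient.mk J x})) ≃+* C ⧸ J' :=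
      (Ideal.quotEquivOfEq hmap).trans (DoubleQuot.quotQuotEquivQuotSup J (Ideal.span {x}))
    haveI hr' : IsRegularLocalRing (C ⧸ J') := by
      haveI : IsRegularLocalRing ((C ⧸ J) ⧸ (Ideal.span {Ideal.Quotient.mk J x})) := by
        refine AlgSpLib.SmoothRegular.isRegularLocalRing_quotient _ (fun ht => ?_) fun z hz hz2 => ?_
        · exact (maximalIdeal.isMaximal (C ⧸ J)).ne_top (top_unique (ht ▸ by simpa using hym))
        · obtain ⟨c, rfl⟩ := Ideal.mem_span_singleton.1 hz
          rw [mul_comm (maximalIdeal (C ⧸ J))]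
          refine Ideal.mul_mem_mul (Ideal.mem_span_singleton_self _) ?_
          by_contra hc
          rw [IsLocalRing.notMem_maximalIdeal] at hc
          exact hy (by simpa [hc] using (Ideal.mul_unit_mem_iff_mem (maximalIdeal (C ⧸ J) ^ 2) hc).1 hz2)
      exact IsRegularLocalRing.of_ringEquiv eR
    have hd' : ringKrullDim (C ⧸ J') = n := by
      have h1 := ringKrullDim_quotient_span_singleton_succ_eq_ringKrullDim
        (R := C ⧸ J) (fun a b hab => mul_left_cancel₀ hne hab) hym
      rw [ringKrullDim_eq_of_ringEquiv eR, hd] at h1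
      obtain ⟨m, hm⟩ := Groth.Agent.LocCoh.exists_dim_eq (R := C ⧸ J')
      rw [hm] at h1 ⊢
      exact_mod_cast (Nat.succ_injective (show m + 1 = n + 1 by exact_mod_cast h1))
    have hrange : LinearMap.range f = Submodule.map J.mkQ J' := by
      refine le_antisymm ?_ ?_
      · rintro _ ⟨z, rfl⟩
        obtain ⟨z, rfl⟩ := Ideal.Quotient.mk_surjective z
        exact ⟨x * z, Submodule.mem_sup_right (Ideal.mem_span_singleton.2 ⟨z, rfl⟩), rfl⟩
      · rintro _ ⟨w, hw, rfl⟩
        obtain ⟨j, hj, w', hw', rfl⟩ := Submodule.mem_sup.1 hw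
        obtain ⟨c, rfl⟩ := Ideal.mem_span_singleton.1 hw'
        refine ⟨Ideal.Quotient.mk J c, ?_⟩
        show Ideal.Quotient.mk J (x * c) = Ideal.Quotient.mk J (j + x * c)
        rw [map_add, Ideal.Quotient.eq_zero_iff_mem.2 hj, zero_add]
    exact ih J' hr' hd' (d + 1) ((h.quotient hinj).of_equiv
      (Submodule.quotEquivOfEq _ _ hrange ≪≫ₗ Submodule.quotientQuotientEquivQuotient J J' le_sup_left))

variable {A B : Type u} [CommRing A] [CommRing B] [Algebra A B] [IsNoetherianRing A] [IsNoetherianRing B]
  [Module.Flat A B] [PreservesFiniteLimits (ModuleCat.extendScalars.{u, u, u} (algebraMap A B))]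
  [PreservesFiniteColimits (ModuleCat.extendScalars.{u, u, u} (algebraMap A B))]

omit [IsNoetherianRing B] in
/-- Finite dimension and dualizing at the maximal ideals suffice. -/
theorem isDualizing_of_maximal {C : Type u} [CommRing C] [IsNoetherianRing C] (hdim : ringKrullDim C < ⊤)
    {R : Dual.D C} (hfin : ∀ i, Module.Finite C (Dual.HD C R i)) {a : ℤ} (hge : R.IsGE a)
    (hloc : ∀ (m : Ideal C) [m.IsMaximal],
      Dual.IsDualizing (Localization.AtPrime m) ((extD (algebraMap C (Localization.AtPrime m))).obj R)) :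
    Dual.IsDualizing C R := by
  refine isDualizing_of_pointwise hdim hfin hge fun p => ?_
  obtain ⟨m, hm, hle⟩ := Ideal.exists_le_maximal p.asIdeal p.2.ne_top
  let Cm := Localization.AtPrime m
  let Cp := Localization.AtPrime p.asIdeal
  have hsub : m.primeCompl ≤ p.asIdeal.primeCompl := fun x hx h => hx (hle h)
  letI : Algebra Cm Cp := IsLocalization.localizationAlgebraOfSubmonoidLe Cm Cp _ _ hsub
  haveI : IsScalarTower C Cm Cp := IsLocalization.localization_isScalarTower_of_submonoid_le Cm Cp _ _ hsub
  haveI : IsLocalization (p.asIdeal.primeCompl.map (algebraMap C Cm)) Cp :=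
    IsLocalization.isLocalization_of_submonoid_le Cm Cp _ _ hsub
  haveI : IsNoetherianRing Cm := IsLocalization.isNoetherianRing m.primeCompl Cm inferInstance
  haveI : Module.Flat Cm Cp := IsLocalization.flat Cp (p.asIdeal.primeCompl.map (algebraMap C Cm))
  haveI := preservesFiniteLimits_flat (A := Cm) (B := Cp)
  haveI := preservesFiniteColimits_ext (A := Cm) (B := Cp)
  obtain ⟨e⟩ := nonempty_extD_comp (algebraMap C Cm) (algebraMap Cm Cp) (algebraMap C Cp)
    (IsScalarTower.algebraMap_eq C Cm Cp).symm R
  exact isDualizing_of_iso e (isDualizing_extD (p.asIdeal.primeCompl.map (algebraMap C Cm)) (hloc m))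

/-- The fibre condition on a local ring of `B`. -/
def FibreOK (A : Type u) [CommRing A] {B : Type u} [CommRing B] [Algebra A B] (P : Ideal B) [P.IsPrime] : Prop :=
  ∀ (W : Dual.D (Localization.AtPrime P)) (a : ℤ), W.IsGE a →
    IsDualIn W (Localization.AtPrime P ⧸ (P.under A).map (algebraMap A (Localization.AtPrime P))) 0 →
      ∃ d, IsDualIn W (ResidueField (Localization.AtPrime P)) d

/-- At one maximal ideal. -/
theorem isDualizing_extD_atPrime {ω : Dual.D A} (hω : Dual.IsDualizing A ω) (P : Ideal B) [P.IsPrime]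
    (hP : FibreOK A P) :
    Dual.IsDualizing (Localization.AtPrime P)
      ((extD (algebraMap B (Localization.AtPrime P))).obj ((extD (algebraMap A B)).obj ω)) := by
  let p := P.under A
  haveI : P.LiesOver p := ⟨rfl⟩
  letI := Localization.AtPrime.algebraOfLiesOver p P
  let Ap := Localization.AtPrime p
  let BP := Localization.AtPrime P
  haveI : IsNoetherianRing Ap := IsLocalization.isNoetherianRing p.primeCompl Ap inferInstance
  haveI : IsNoetherianRing BP := IsLocalization.isNoetherianRing P.primeCompl BP inferInstance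
  haveI : Module.Flat Ap BP := inferInstance
  haveI := preservesFiniteLimits_flat (A := Ap) (B := BP)
  haveI := preservesFiniteColimits_ext (A := Ap) (B := BP)
  haveI : Module.Flat A BP := Module.Flat.trans A B BP
  haveI := preservesFiniteLimits_flat (A := A) (B := BP)
  haveI := preservesFiniteColimits_ext (A := A) (B := BP)
  have hωp : Dual.IsDualizing Ap ((extD (algebraMap A Ap)).obj ω) := isDualizing_extD p.primeCompl hω
  obtain ⟨c, hc⟩ := exists_normalized hωp
  have hd := isDualizing_shift hωp c
  have hF := isDualIn_fibre (B := BP) hd hc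
  have hmap : (maximalIdeal Ap).map (algebraMap Ap BP) = p.map (algebraMap A BP) := by
    rw [← Localization.AtPrime.map_eq_maximalIdeal, Ideal.map_map, ← IsScalarTower.algebraMap_eq]
  obtain ⟨a, b, hge, -⟩ := exists_bound hd
  obtain ⟨d, hd'⟩ := hP _ a (FlatHom.isGE_G (B := BP) _ a) (hF.of_equiv (Submodule.quotEquivOfEq _ _ hmap))
  have h1 := isDualizing_shift (isDualizing_extD_of_isDualIn hd hd') (-c)
  obtain ⟨e1⟩ := nonempty_extD_comp (algebraMap A Ap) (algebraMap Ap BP) (algebraMap A BP)
    (IsScalarTower.algebraMap_eq A Ap BP).symm ω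
  obtain ⟨e2⟩ := nonempty_extD_comp (algebraMap A B) (algebraMap B BP) (algebraMap A BP)
    (IsScalarTower.algebraMap_eq A B BP).symm ω
  exact isDualizing_of_iso
    ((((extD (algebraMap Ap BP)).commShiftIso (-c)).app (((extD (algebraMap A Ap)).obj ω)⟦c⟧)).symm ≪≫
      (extD (algebraMap Ap BP)).mapIso ((shiftEquiv (Dual.D Ap) c).unitIso.app _).symm ≪≫ e1 ≪≫ e2.symm) h1

/-- Flat base change with good closed fibres. -/
theorem isDualizing_extD_of_fibres (hdim : ringKrullDim B < ⊤) {ω : Dual.D A} (hω : Dual.IsDualizing A ω)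
    (hP : ∀ (P : Ideal B) [P.IsMaximal], FibreOK A P) :
    Dual.IsDualizing B ((extD (algebraMap A B)).obj ω) := by
  obtain ⟨a, b, hge, -⟩ := exists_bound hω
  exact isDualizing_of_maximal hdim (fun i => @finite_HD_extD _ _ _ _ _ _ _ ω i (hω.finite_cohomology i))
    (FlatHom.isGE_G (B := B) ω a) fun m hm => isDualizing_extD_atPrime hω m (hP m)

omit [IsNoetherianRing A] [Module.Flat A B] [PreservesFiniteLimits (ModuleCat.extendScalars.{u, u, u} (algebraMap A B))]
  [PreservesFiniteColimits (ModuleCat.extendScalars.{u, u, u} (algebraMap A B))] in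
/-- Regular fibres are good. -/
theorem fibreOK_of_regular (P : Ideal B) [P.IsPrime]
    (h : IsRegularLocalRing (Localization.AtPrime P ⧸ (P.under A).map (algebraMap A (Localization.AtPrime P)))) :
    FibreOK A P := fun W _ _ hW => by
  haveI := h
  haveI : IsNoetherianRing (Localization.AtPrime P) := IsLocalization.isNoetherianRing P.primeCompl _ inferInstance
  obtain ⟨n, hn⟩ := Groth.Agent.LocCoh.exists_dim_eq
    (R := Localization.AtPrime P ⧸ (P.under A).map (algebraMap A (Localization.AtPrime P)))
  exact exists_isDualIn_residue n _ h hn 0 hW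

omit [IsNoetherianRing A] [Module.Flat A B] [PreservesFiniteLimits (ModuleCat.extendScalars.{u, u, u} (algebraMap A B))]
  [PreservesFiniteColimits (ModuleCat.extendScalars.{u, u, u} (algebraMap A B))] in
/-- Regular fibre rings give good fibres. -/
theorem fibreOK_of_isRegularRing (h : ∀ (p : Ideal A) [p.IsPrime], IsRegularRing (p.Fiber B))
    (P : Ideal B) [P.IsPrime] : FibreOK A P := by
  refine fibreOK_of_regular P ?_
  obtain ⟨Q, hQ, ⟨e⟩⟩ := CommAlg6.exists_fiber_prime (A := A) P
  haveI := h (P.comap (algebraMap A B))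
  haveI hloc : IsRegularLocalRing (Localization.AtPrime Q) := inferInstance
  haveI : IsRegularLocalRing (EGA4.FibLocRing A B P) :=
    IsRegularLocalRing.of_ringEquiv (R := Localization.AtPrime Q) e
  exact IsRegularLocalRing.of_ringEquiv (RingEquiv.refl (EGA4.FibLocRing A B P))

end Groth.Agent.DualLib
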