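import Groth.Agent.DualLib.LocHom
import Mathlib.RingTheory.TensorProduct.Basic
import Mathlib.RingTheory.Flat.Basic

/-! `Hom` of a finite module into a bounded below object commutes with flat base change. -/

set_option autoImplicit false
set_option backward.isDefEq.respectTransparency false
set_option backward.defeqAttrib.useBackward true
set_option linter.style.haveILetI false

universe u

open CategoryTheory CategoryTheory.Limits CategoryTheory.Pretriangulated DerivedCategory
open scoped TensorProduct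

attribute [local instance] HasDerivedCategory.standard

namespace Groth.Agent.DualLib.FlatHom

variable {A B : Type u} [CommRing A] [CommRing B] [Algebra A B]
  [PreservesFiniteLimits (ModuleCat.extendScalars.{u, u, u} (algebraMap A B))]
  [PreservesFiniteColimits (ModuleCat.extendScalars.{u, u, u} (algebraMap A B))]

variable (B) in
/-- Flat base change on derived categories. -/
noncomputable abbrev G : Dual.D A ⥤ Dual.D B := extD (algebraMap A B)

noncomputable local instance moduleHom (P Q : Dual.D B) : Module A (P ⟶ Q) := Module.compHom _ (algebraMap A B)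

local instance towerHom (P Q : Dual.D B) : IsScalarTower A B (P ⟶ Q) :=
  IsScalarTower.of_algebraMap_smul fun _ _ => rfl

/-- Base change is semilinear. -/
lemma map_smul' {X Y : Dual.D A} (a : A) (f : X ⟶ Y) : (G B).map (a • f) = algebraMap A B a • (G B).map f := by
  apply ((adjD (algebraMap A B)).homEquiv X ((G B).obj Y)).injective
  have e : ∀ h : (G B).obj X ⟶ (G B).obj Y, (adjD (algebraMap A B)).homEquiv X ((G B).obj Y) h =
      (adjD (algebraMap A B)).unit.app X ≫ (DRing.restrictD (algebraMap A B)).map h :=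
    fun h => Adjunction.homEquiv_unit _ _ _ _
  have nat : ∀ h : X ⟶ Y, (adjD (algebraMap A B)).unit.app X ≫ (DRing.restrictD (algebraMap A B)).map ((G B).map h) =
      h ≫ (adjD (algebraMap A B)).unit.app Y := fun h => ((adjD (algebraMap A B)).unit.naturality h).symm
  rw [e, e, restrictD_map_smul, nat, Linear.comp_smul, nat, Linear.smul_comp]

/-- The comparison map. -/
noncomputable def θ (X Y : Dual.D A) : B ⊗[A] (X ⟶ Y) →ₗ[B] ((G B).obj X ⟶ (G B).obj Y) :=
  LinearMap.liftBaseChange B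
    { toFun := fun f => (G B).map f
      map_add' := fun _ _ => Functor.map_add _
      map_smul' := fun a f => map_smul' a f }

lemma θ_tmul (X Y : Dual.D A) (b : B) (f : X ⟶ Y) : θ (B := B) X Y (b ⊗ₜ f) = b • (G B).map f := rfl

/-- Precomposition, base changed. -/
noncomputable abbrev bc {X X' : Dual.D A} (g : X' ⟶ X) (Y : Dual.D A) : B ⊗[A] (X ⟶ Y) →ₗ[B] B ⊗[A] (X' ⟶ Y) :=
  (Linear.leftComp A Y g).baseChange B

lemma θ_bc {X X' : Dual.D A} (g : X' ⟶ X) (Y : Dual.D A) (x : B ⊗[A] (X ⟶ Y)) :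
    θ (B := B) X' Y (bc g Y x) = (G B).map g ≫ θ (B := B) X Y x := by
  induction x using TensorProduct.induction_on with
  | zero => simp
  | tmul b f =>
    rw [LinearMap.baseChange_tmul, θ_tmul, θ_tmul, Linear.comp_smul, ← Functor.map_comp]
    rfl
  | add x y hx hy => rw [map_add, map_add, hx, hy, map_add, Preadditive.comp_add]

/-- Transport of bijectivity. -/
lemma bijective_transport {X Y X' Y' : Dual.D A} (σ : (X ⟶ Y) ≃ₗ[A] (X' ⟶ Y'))
    (τ : ((G B).obj X ⟶ (G B).obj Y) ≃ₗ[B] ((G B).obj X' ⟶ (G B).obj Y'))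
    (h : ∀ f, τ ((G B).map f) = (G B).map (σ f)) (hb : Function.Bijective (θ (B := B) X Y)) :
    Function.Bijective (θ (B := B) X' Y') := by
  have e : ∀ x, θ (B := B) X' Y' (σ.toLinearMap.lTensor B x) = τ (θ (B := B) X Y x) := fun x => by
    induction x using TensorProduct.induction_on with
    | zero => simp
    | tmul b f => rw [LinearMap.lTensor_tmul, θ_tmul, θ_tmul, map_smul, h]; rfl
    | add x y hx hy => rw [map_add, map_add, hx, hy, map_add, map_add]
  have e' : θ (B := B) X' Y' = (τ ∘ θ (B := B) X Y) ∘ (σ.lTensor B).symm := funext fun z => by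
    show θ (B := B) X' Y' z = τ (θ (B := B) X Y ((σ.lTensor B).symm z))
    rw [← e]
    exact congrArg _ ((σ.lTensor B).apply_symm_apply z).symm
  rw [e']
  exact (τ.bijective.comp hb).comp (σ.lTensor B).symm.bijective

lemma bijective_of_iso {X Y X' Y' : Dual.D A} (e : X ≅ X') (e' : Y ≅ Y')
    (hb : Function.Bijective (θ (B := B) X Y)) : Function.Bijective (θ (B := B) X' Y') :=
  bijective_transport (Linear.homCongr A e e') (Linear.homCongr B ((G B).mapIso e) ((G B).mapIso e'))
    (fun f => by simp [Linear.homCongr_apply]) hb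

/-- The shift on homs, as a linear equivalence. -/
noncomputable def shiftHom {C : Type u} [CommRing C] (n : ℤ) (X Y : Dual.D C) :
    (X ⟶ Y) ≃ₗ[C] (X⟦n⟧ ⟶ Y⟦n⟧) :=
  LinearEquiv.ofBijective ((shiftFunctor (Dual.D C) n).mapLinearMap C)
    ((Functor.FullyFaithful.ofFullyFaithful (shiftFunctor (Dual.D C) n)).map_bijective X Y)

lemma bijective_shift (n : ℤ) {X Y : Dual.D A} (hb : Function.Bijective (θ (B := B) X Y)) :
    Function.Bijective (θ (B := B) (X⟦n⟧) (Y⟦n⟧)) := by
  refine bijective_transport (shiftHom n X Y)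
    (shiftHom n _ _ ≪≫ₗ Linear.homCongr B (((G B).commShiftIso n).app X).symm (((G B).commShiftIso n).app Y).symm)
    (fun f => ?_) hb
  show Linear.homCongr B _ _ (((G B).map f)⟦n⟧') = (G B).map (f⟦n⟧')
  rw [Linear.homCongr_apply]
  simp only [Iso.symm_inv, Iso.symm_hom, Iso.app_hom, Iso.app_inv, Category.assoc]
  exact (NatIso.naturality_2 ((G B).commShiftIso n) f)

section Triangle

variable [Module.Flat A B] {T : Triangle (Dual.D A)} (hT : T ∈ distTriang _) (Y : Dual.D A)
include hT

lemma exact_bc : Function.Exact (bc (B := B) T.mor₂ Y) (bc (B := B) T.mor₁ Y) := by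
  rw [bc, bc, LinearMap.baseChange_eq_ltensor, LinearMap.baseChange_eq_ltensor]
  refine Module.Flat.lTensor_exact _ fun f => ⟨fun hf => ?_, ?_⟩
  · obtain ⟨h, hh⟩ := Triangle.yoneda_exact₂ T hT f hf
    exact ⟨h, hh.symm⟩
  · rintro ⟨h, rfl⟩
    show T.mor₁ ≫ T.mor₂ ≫ h = 0
    rw [comp_distTriang_mor_zero₁₂_assoc T hT, zero_comp]

omit [Module.Flat A B] in
lemma exists_lift (z : (G B).obj T.obj₂ ⟶ (G B).obj Y) (hz : (G B).map T.mor₁ ≫ z = 0) :
    ∃ w, z = (G B).map T.mor₂ ≫ w :=
  Triangle.yoneda_exact₂ ((G B).mapTriangle.obj T) ((G B).map_distinguished T hT) z hz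

/-- Four lemma. -/
lemma injective_third (h₂ : Function.Injective (θ (B := B) T.obj₂ Y))
    (h₁ : Function.Injective (θ (B := B) (T.obj₁⟦(1 : ℤ)⟧) Y))
    (h₂' : Function.Surjective (θ (B := B) (T.obj₂⟦(1 : ℤ)⟧) Y)) :
    Function.Injective (θ (B := B) T.obj₃ Y) := by
  rw [injective_iff_map_eq_zero]
  intro x hx
  have h' := rot_of_distTriang T hT
  have h'' := rot_of_distTriang _ h'
  obtain ⟨y, rfl⟩ : ∃ y, bc (B := B) T.mor₃ Y y = x := by
    refine (exact_bc h' Y x).1 (h₂ ?_)
    rw [map_zero]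
    exact (θ_bc (B := B) T.mor₂ Y x).trans ((congrArg _ hx).trans comp_zero)
  rw [θ_bc] at hx
  obtain ⟨w, hw⟩ := exists_lift h'' Y (θ (B := B) _ Y y) hx
  obtain ⟨z, rfl⟩ := h₂' w
  have hy : y = bc (B := B) T.rotate.rotate.mor₂ Y z := h₁ (hw.trans (θ_bc _ _ _).symm)
  rw [hy]
  exact (exact_bc h'' Y).apply_apply_eq_zero z

/-- Four lemma. -/
lemma surjective_third (h₂ : Function.Surjective (θ (B := B) T.obj₂ Y))
    (h₁' : Function.Surjective (θ (B := B) (T.obj₁⟦(1 : ℤ)⟧) Y))
    (h₁ : Function.Injective (θ (B := B) T.obj₁ Y)) :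
    Function.Surjective (θ (B := B) T.obj₃ Y) := by
  intro y
  obtain ⟨x₂, hx₂⟩ := h₂ ((G B).map T.mor₂ ≫ y)
  obtain ⟨x₃, rfl⟩ : ∃ x₃, bc (B := B) T.mor₂ Y x₃ = x₂ := (exact_bc hT Y x₂).1 (h₁ (by
    rw [map_zero, θ_bc, hx₂, ← Category.assoc, ← Functor.map_comp, comp_distTriang_mor_zero₁₂ T hT,
      Functor.map_zero, zero_comp]))
  obtain ⟨w, hw⟩ := exists_lift (rot_of_distTriang T hT) Y (y - θ (B := B) T.obj₃ Y x₃) (by
    show (G B).map T.mor₂ ≫ _ = 0
    rw [Preadditive.comp_sub, ← hx₂, θ_bc, sub_self])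
  obtain ⟨z, rfl⟩ := h₁' w
  refine ⟨x₃ + bc (B := B) T.mor₃ Y z, ?_⟩
  rw [map_add, θ_bc]
  exact (eq_add_of_sub_eq' hw).symm

end Triangle

/-- The objects on which the comparison is bijective against everything. -/
def Good (B : Type u) [CommRing B] [Algebra A B]
    [PreservesFiniteLimits (ModuleCat.extendScalars.{u, u, u} (algebraMap A B))]
    [PreservesFiniteColimits (ModuleCat.extendScalars.{u, u, u} (algebraMap A B))] (X : Dual.D A) : Prop :=
  ∀ Y : Dual.D A, Function.Bijective (θ (B := B) X Y)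

lemma Good.shift {X : Dual.D A} (h : Good B X) (n : ℤ) : Good B (X⟦n⟧) := fun Y =>
  bijective_of_iso (Iso.refl _) ((shiftEquiv (Dual.D A) n).counitIso.app Y) (bijective_shift n (h (Y⟦-n⟧)))

lemma good_third [Module.Flat A B] {T : Triangle (Dual.D A)} (hT : T ∈ distTriang _) (h₁ : Good B T.obj₁)
    (h₂ : Good B T.obj₂) : Good B T.obj₃ := fun Y =>
  ⟨injective_third hT Y (h₂ Y).1 (h₁.shift 1 Y).1 (h₂.shift 1 Y).2,
    surjective_third hT Y (h₂ Y).2 (h₁.shift 1 Y).2 (h₁ Y).1⟩

lemma good_of_isZero {X : Dual.D A} (hX : IsZero X) : Good B X := fun Y => by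
  haveI : Subsingleton (X ⟶ Y) := ⟨fun f g => hX.eq_of_src f g⟩
  haveI : Subsingleton ((G B).obj X ⟶ (G B).obj Y) := ⟨fun f g => ((G B).map_isZero hX).eq_of_src f g⟩
  haveI : Subsingleton (B ⊗[A] (X ⟶ Y)) := subsingleton_of_forall_eq 0 fun z => by
    induction z using TensorProduct.induction_on with
    | zero => rfl
    | tmul b f => rw [Subsingleton.elim f 0, TensorProduct.tmul_zero]
    | add x y hx hy => rw [hx, hy, add_zero]
  exact ⟨Function.injective_of_subsingleton _, fun y => ⟨0, Subsingleton.elim _ _⟩⟩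

/-- Cohomology commutes with the exact functor, naturally. -/
noncomputable def hNat (i : ℤ) :
    G B ⋙ homologyFunctor (ModuleCat.{u} B) i ≅
      homologyFunctor (ModuleCat.{u} A) i ⋙ ModuleCat.extendScalars.{u, u, u} (algebraMap A B) :=
  let F := ModuleCat.extendScalars.{u, u, u} (algebraMap A B)
  let e : DerivedCategory.Q ⋙ G B ⋙ homologyFunctor (ModuleCat.{u} B) i ≅
      DerivedCategory.Q ⋙ homologyFunctor (ModuleCat.{u} A) i ⋙ F :=
    (Functor.associator _ _ _).symm ≪≫ Functor.isoWhiskerRight F.mapDerivedCategoryFactors _ ≪≫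
      Functor.associator _ _ _ ≪≫ Functor.isoWhiskerLeft _ (homologyFunctorFactors (ModuleCat.{u} B) i) ≪≫
      ((NatIso.ofComponents (fun K => (K.sc i).mapHomologyIso F)
        (fun {K L} f => ShortComplex.mapHomologyIso_hom_naturality
          ((HomologicalComplex.shortComplexFunctor (ModuleCat.{u} A) (ComplexShape.up ℤ) i).map f) F)) :
        F.mapHomologicalComplex (ComplexShape.up ℤ) ⋙ HomologicalComplex.homologyFunctor (ModuleCat.{u} B) (ComplexShape.up ℤ) i ≅
          HomologicalComplex.homologyFunctor (ModuleCat.{u} A) (ComplexShape.up ℤ) i ⋙ F) ≪≫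
      Functor.isoWhiskerRight (homologyFunctorFactors (ModuleCat.{u} A) i).symm F ≪≫ Functor.associator _ _ _
  letI : Localization.Lifting DerivedCategory.Q (HomologicalComplex.quasiIso (ModuleCat.{u} A) (ComplexShape.up ℤ))
      (DerivedCategory.Q ⋙ G B ⋙ homologyFunctor (ModuleCat.{u} B) i) (G B ⋙ homologyFunctor (ModuleCat.{u} B) i) :=
    ⟨Iso.refl _⟩
  letI : Localization.Lifting DerivedCategory.Q (HomologicalComplex.quasiIso (ModuleCat.{u} A) (ComplexShape.up ℤ))
      (DerivedCategory.Q ⋙ homologyFunctor (ModuleCat.{u} A) i ⋙ F) (homologyFunctor (ModuleCat.{u} A) i ⋙ F) :=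
    ⟨Iso.refl _⟩
  Localization.liftNatIso DerivedCategory.Q (HomologicalComplex.quasiIso (ModuleCat.{u} A) (ComplexShape.up ℤ))
    _ _ _ _ e

/-- Evaluation at a free generator of `H^0`. -/
lemma bijective_eval {C : Type u} [CommRing C] (P : ModuleCat.{u} C) [Projective P] {X : Dual.D C}
    (e : (singleFunctor (ModuleCat.{u} C) 0).obj P ≅ X) (t : C ≃ₗ[C] (homologyFunctor (ModuleCat.{u} C) 0).obj X)
    (Z : Dual.D C) : Function.Bijective fun f : X ⟶ Z => ((homologyFunctor (ModuleCat.{u} C) 0).map f).hom (t 1) := by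
  let H := homologyFunctor (ModuleCat.{u} C) 0
  let p := (singleFunctorCompHomologyFunctorIso (ModuleCat.{u} C) 0).app P ≪≫ Iso.refl P
  let q : H.obj X ≅ P := H.mapIso e.symm ≪≫ p
  have h1 : Function.Bijective fun f : X ⟶ Z => q.hom ≫ DCat.ProjHomology.toH (e.hom ≫ f) := by
    have h := (Iso.homCongr q.symm (Iso.refl (H.obj Z))).bijective.comp
      ((DCat.ProjHomology.bijective_toH P Z).comp (Iso.homCongr e.symm (Iso.refl Z)).bijective)
    convert h using 1
    funext f
    simp
  have h2 : (fun f : X ⟶ Z => q.hom ≫ DCat.ProjHomology.toH (e.hom ≫ f)) = fun f : X ⟶ Z => H.map f := funext fun f => by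
    simp [q, p, H, DCat.ProjHomology.toH]
  rw [h2] at h1
  have h3 : Function.Bijective fun φ : H.obj X ⟶ H.obj Z => φ.hom (t 1) := by
    refine ⟨fun φ ψ hh => ModuleCat.hom_ext ?_, fun y => ⟨ModuleCat.ofHom
      (LinearMap.toSpanSingleton C _ y ∘ₗ t.symm.toLinearMap), by
        show t.symm (t 1) • y = y
        rw [t.symm_apply_apply, one_smul]⟩⟩
    refine LinearMap.ext fun z => ?_
    rw [← t.apply_symm_apply z, show t.symm z = t.symm z • (1 : C) by simp, map_smul, map_smul, map_smul]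
    exact congrArg _ hh
  exact h3.comp h1

omit [PreservesFiniteLimits (ModuleCat.extendScalars.{u, u, u} (algebraMap A B))]
  [PreservesFiniteColimits (ModuleCat.extendScalars.{u, u, u} (algebraMap A B))] in
/-- Extension of scalars is the tensor product, naturally. -/
lemma exists_extPack : ∃ w : ∀ M : ModuleCat.{u} A, B ⊗[A] M ≃ₗ[B]
      (ModuleCat.extendScalars.{u, u, u} (algebraMap A B)).obj M,
    ∀ {M N : ModuleCat.{u} A} (g : M ⟶ N) (b : B) (m : M),
      ((ModuleCat.extendScalars.{u, u, u} (algebraMap A B)).map g).hom (w M (b ⊗ₜ m)) = w N (b ⊗ₜ g.hom m) := by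
  have key : ∀ (φ : A →+* B) (i' : Algebra A B), φ.toAlgebra = i' →
      (letI := i'; ∃ w : ∀ M : ModuleCat.{u} A, B ⊗[A] M ≃ₗ[B] (ModuleCat.extendScalars.{u, u, u} φ).obj M,
        ∀ {M N : ModuleCat.{u} A} (g : M ⟶ N) (b : B) (m : M),
          ((ModuleCat.extendScalars.{u, u, u} φ).map g).hom (w M (b ⊗ₜ m)) = w N (b ⊗ₜ g.hom m)) := by
    rintro φ _ rfl
    letI := φ.toAlgebra
    exact ⟨fun M => LinearEquiv.refl B _, fun _ _ _ => rfl⟩
  exact key (algebraMap A B) inferInstance (Algebra.algebra_ext _ _ fun _ => rfl)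

/-- The free module of rank one. -/
theorem good_self : Good B (Dual.inD A A) := fun Y => by
  let F := ModuleCat.extendScalars.{u, u, u} (algebraMap A B)
  let H := homologyFunctor (ModuleCat.{u} A) 0
  let pA := (singleFunctorCompHomologyFunctorIso (ModuleCat.{u} A) 0).app (ModuleCat.of A A)
  let tA : A ≃ₗ[A] H.obj (Dual.inD A A) := pA.toLinearEquiv.symm
  obtain ⟨w₀, hw₀⟩ := exists_extPack (A := A) (B := B)
  haveI : Projective (ModuleCat.of A A) := ModuleCat.projective_of_categoryTheory_projective _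
  haveI : Projective (F.obj (ModuleCat.of A A)) :=
    (ModuleCat.extendRestrictScalarsAdj.{u, u, u} (algebraMap A B)).map_projective _ inferInstance
  let Φ : ∀ Z : Dual.D A, (homologyFunctor (ModuleCat.{u} B) 0).obj ((G B).obj Z) ≅ F.obj (H.obj Z) :=
    fun Z => (hNat (B := B) 0).app Z
  let tB : B ≃ₗ[B] (homologyFunctor (ModuleCat.{u} B) 0).obj ((G B).obj (Dual.inD A A)) :=
    (TensorProduct.AlgebraTensorModule.rid A B B).symm ≪≫ₗ LinearEquiv.baseChange A B _ _ tA ≪≫ₗ w₀ _ ≪≫ₗ
      (Φ (Dual.inD A A)).toLinearEquiv.symm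
  have htB : tB 1 = (Φ (Dual.inD A A)).inv.hom (w₀ (H.obj (Dual.inD A A)) (1 ⊗ₜ tA 1)) := by
    simp [tB]
    rfl
  have hb := bijective_eval (F.obj (ModuleCat.of A A)) ((F.mapDerivedCategorySingleFunctor 0).app _).symm tB
    ((G B).obj Y)
  let w := w₀ (H.obj Y)
  have hA := bijective_eval (ModuleCat.of A A) (Iso.refl (Dual.inD A A)) tA Y
  let σ : (Dual.inD A A ⟶ Y) ≃ₗ[A] H.obj Y := LinearEquiv.ofBijective
    { toFun := fun f => (H.map f).hom (tA 1)
      map_add' := fun f g => by rw [Functor.map_add]; rfl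
      map_smul' := fun a f => by
        rw [show a • f = f ≫ (a • 𝟙 Y) by simp, Functor.map_comp, DCat.DC.homologyFunctor_map_smul_id]
        rfl } hA
  let ev : ((G B).obj (Dual.inD A A) ⟶ (G B).obj Y) ≃ₗ[B] (homologyFunctor (ModuleCat.{u} B) 0).obj ((G B).obj Y) :=
    LinearEquiv.ofBijective
      { toFun := fun f => ((homologyFunctor (ModuleCat.{u} B) 0).map f).hom (tB 1)
        map_add' := fun f g => by rw [Functor.map_add]; rfl
        map_smul' := fun a f => by
          rw [show a • f = f ≫ (a • 𝟙 _) by simp, Functor.map_comp, DCat.DC.homologyFunctor_map_smul_id]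
          rfl } hb
  have key : ∀ x, (Φ Y).hom.hom (ev (θ (B := B) _ Y x)) = w (σ.toLinearMap.lTensor B x) := fun x => by
    induction x using TensorProduct.induction_on with
    | zero => simp
    | tmul b f =>
      rw [θ_tmul, map_smul, map_smul, LinearMap.lTensor_tmul,
        show b ⊗ₜ[A] (σ.toLinearMap f) = b • ((1 : B) ⊗ₜ[A] (σ f)) by
          rw [TensorProduct.smul_tmul', smul_eq_mul, mul_one]; rfl, map_smul]
      refine congrArg (b • ·) ?_
      show (Φ Y).hom.hom (((homologyFunctor (ModuleCat.{u} B) 0).map ((G B).map f)).hom (tB 1)) = _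
      have n := (hNat (B := B) 0).hom.naturality f
      dsimp at n
      rw [htB]
      refine (LinearMap.congr_fun (congrArg ModuleCat.Hom.hom n) _).trans ?_
      show ((F.map (H.map f)).hom ((Φ (Dual.inD A A)).hom.hom ((Φ (Dual.inD A A)).inv.hom _))) = _
      rw [show (Φ (Dual.inD A A)).hom.hom ((Φ (Dual.inD A A)).inv.hom _) = w₀ _ (1 ⊗ₜ tA 1) from
        (Φ (Dual.inD A A)).toLinearEquiv.apply_symm_apply _]
      exact hw₀ _ _ _
    | add x y hx hy => simp only [map_add, hx, hy]
  have e : θ (B := B) (Dual.inD A A) Y =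
      (ev.symm ∘ (Φ Y).toLinearEquiv.symm) ∘ (w ∘ σ.lTensor B) := funext fun x => by
    show _ = ev.symm ((Φ Y).toLinearEquiv.symm (w (σ.toLinearMap.lTensor B x)))
    rw [← key]
    exact ((congrArg ev.symm ((Φ Y).toLinearEquiv.symm_apply_apply _)).trans (ev.symm_apply_apply _)).symm
  rw [e]
  exact (ev.symm.bijective.comp (Φ Y).toLinearEquiv.symm.bijective).comp (w.bijective.comp (σ.lTensor B).bijective)

variable [Module.Flat A B]

omit [Module.Flat A B] in
/-- The split triangle of a free module. -/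
lemma exists_triangle_pi (k : ℕ) : ∃ T : Triangle (Dual.D A), T ∈ distTriang (Dual.D A) ∧
    Nonempty (T.obj₁ ≅ Dual.inD A A) ∧ Nonempty (T.obj₂ ≅ Dual.inD A (Fin (k + 1) → A)) ∧
    Nonempty (T.obj₃ ≅ Dual.inD A (Fin k → A)) := by
  let f : A →ₗ[A] (Fin (k + 1) → A) := LinearMap.single A (fun _ => A) 0
  let g : (Fin (k + 1) → A) →ₗ[A] (Fin k → A) := LinearMap.funLeft A A Fin.succ
  have hfg : Function.Exact f g := fun v => by
    constructor
    · intro hv
      refine ⟨v 0, funext fun j => ?_⟩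
      refine Fin.cases ?_ (fun j => ?_) j
      · simp [f]
      · have := congrFun hv j
        simp [g, LinearMap.funLeft_apply] at this
        simp [f, this]
    · rintro ⟨a, rfl⟩
      funext j
      simp [f, g, LinearMap.funLeft_apply]
  exact ⟨_, (shortExact (f := f) (g := g) (Pi.single_injective (M := fun _ => A) 0)
    (LinearMap.funLeft_surjective_of_injective A A _ (Fin.succ_injective k)) hfg).singleTriangle_distinguished,
    ⟨Iso.refl _⟩, ⟨Iso.refl _⟩, ⟨Iso.refl _⟩⟩

lemma Good.of_iso {X X' : Dual.D A} (h : Good B X) (e : X ≅ X') : Good B X' := fun Y =>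
  bijective_of_iso e (Iso.refl Y) (h Y)

/-- Finite free modules. -/
theorem good_pi (k : ℕ) : Good B (Dual.inD A (Fin k → A)) := by
  induction k with
  | zero =>
    refine good_of_isZero ((S0 A).map_isZero (X := ModuleCat.of A (Fin 0 → A)) ?_)
    exact ModuleCat.isZero_of_subsingleton _
  | succ k ih =>
    obtain ⟨T, hT, ⟨e₁⟩, ⟨e₂⟩, ⟨e₃⟩⟩ := exists_triangle_pi (A := A) k
    have h3 : Good B T.invRotate.obj₁ := (ih.of_iso e₃.symm).shift (-1)
    have h1 : Good B T.invRotate.obj₂ := (good_self (A := A)).of_iso e₁.symm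
    exact Good.of_iso (good_third (inv_rot_of_distTriang _ hT) h3 h1) e₂

lemma isGE_G (Y : Dual.D A) (a : ℤ) [Y.IsGE a] : ((G B).obj Y).IsGE a :=
  (DRingLib.isGE_iff_HD _ a).2 fun q hq => ModuleCat.subsingleton_of_isZero
    (IsZero.of_iso ((ModuleCat.extendScalars.{u, u, u} (algebraMap A B)).map_isZero (isZero_of_isGE Y a q hq))
      ((hNat (B := B) q).app Y))

lemma isLE_G (Y : Dual.D A) (a : ℤ) [Y.IsLE a] : ((G B).obj Y).IsLE a :=
  (DRingLib.isLE_iff_HD _ a).2 fun q hq => ModuleCat.subsingleton_of_isZero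
    (IsZero.of_iso ((ModuleCat.extendScalars.{u, u, u} (algebraMap A B)).map_isZero (isZero_of_isLE Y a q hq))
      ((hNat (B := B) q).app Y))

variable [IsNoetherianRing A]

/-- The comparison is bijective on finite modules into bounded below objects. -/
theorem bijective_of_isGE : ∀ (n : ℕ) (M : Type u) [AddCommGroup M] [Module A M] [Module.Finite A M] (Y : Dual.D A),
    Y.IsGE (1 - n) → Function.Bijective (θ (B := B) (Dual.inD A M) Y) := by
  intro n
  induction n with
  | zero =>
    intro M _ _ _ Y hY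
    haveI : Y.IsGE 1 := by simpa using hY
    haveI : Subsingleton (Dual.inD A M ⟶ Y) := subsingleton_of_forall_eq 0 fun f => (ts A).zero f 0 1 (by omega)
    haveI := isGE_G (B := B) Y 1
    haveI := isLE_G (B := B) (Dual.inD A M) 0
    haveI : Subsingleton ((G B).obj (Dual.inD A M) ⟶ (G B).obj Y) :=
      subsingleton_of_forall_eq 0 fun f => (ts B).zero f 0 1 (by omega)
    refine ⟨(injective_iff_map_eq_zero _).2 fun z _ => ?_, fun y => ⟨0, Subsingleton.elim _ _⟩⟩
    induction z using TensorProduct.induction_on with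
    | zero => rfl
    | tmul b f => rw [Subsingleton.elim f 0, TensorProduct.tmul_zero]
    | add x y hx hy => rw [hx (Subsingleton.elim _ _), hy (Subsingleton.elim _ _), add_zero]
  | succ n ih =>
    intro M _ _ _ Y hY
    have step : ∀ (N : Type u) [AddCommGroup N] [Module A N] [Module.Finite A N],
        Function.Injective (θ (B := B) (Dual.inD A N) Y) ∧
          ((∀ (K : Type u) [AddCommGroup K] [Module A K] [Module.Finite A K],
            Function.Injective (θ (B := B) (Dual.inD A K) Y)) → Function.Surjective (θ (B := B) (Dual.inD A N) Y)) := by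
      intro N _ _ _
      obtain ⟨k, g, hg⟩ := Module.Finite.exists_fin' A N
      haveI : Module.Finite A (LinearMap.ker g) := Module.Finite.of_fg (IsNoetherian.noetherian _)
      have hT := (shortExact (Submodule.injective_subtype (LinearMap.ker g)) hg
        (LinearMap.exact_subtype_ker_map g)).singleTriangle_distinguished
      have hK : Function.Bijective (θ (B := B) ((Dual.inD A (LinearMap.ker g))⟦(1 : ℤ)⟧) Y) := by
        haveI : (Y⟦(-1 : ℤ)⟧).IsGE (1 - n) :=
          (ts A).isGE_shift Y (1 - ((n + 1 : ℕ) : ℤ)) (-1) (1 - n) (by push_cast; omega)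
        exact bijective_of_iso (Iso.refl _) ((shiftEquiv (Dual.D A) (1 : ℤ)).counitIso.app Y)
          (bijective_shift 1 (ih (LinearMap.ker g) (Y⟦(-1 : ℤ)⟧) inferInstance))
      exact ⟨injective_third hT Y (good_pi k Y).1 hK.1 ((good_pi k).shift 1 Y).2,
        fun h => surjective_third hT Y (good_pi k Y).2 hK.2 (h (LinearMap.ker g))⟩
    exact ⟨(step M).1, (step M).2 fun K _ _ _ => (step K).1⟩

/-- Flat base change of `Hom` from a finite module. -/
theorem nonempty_flatHom (M : Type u) [AddCommGroup M] [Module A M] [Module.Finite A M] (Y : Dual.D A) (a : ℤ)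
    [Y.IsGE a] : Nonempty (B ⊗[A] (Dual.inD A M ⟶ Y) ≃ₗ[B]
      (Dual.inD B ((ModuleCat.extendScalars.{u, u, u} (algebraMap A B)).obj (ModuleCat.of A M)) ⟶ (G B).obj Y)) := by
  haveI : Y.IsGE (1 - ((1 - a).toNat : ℤ)) := (ts A).isGE_of_ge Y _ a (by omega)
  exact ⟨LinearEquiv.ofBijective _ (bijective_of_isGE (1 - a).toNat M Y inferInstance) ≪≫ₗ
    Linear.homCongr B (extSingle M) (Iso.refl _)⟩

/-- Flat base change of `Hom(M, Y⟦i⟧)`. -/
theorem nonempty_flat_E (M : Type u) [AddCommGroup M] [Module A M] [Module.Finite A M] (Y : Dual.D A) (a : ℤ)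
    [Y.IsGE a] (i : ℤ) : Nonempty (B ⊗[A] E Y M i ≃ₗ[B]
      E ((G B).obj Y) ((ModuleCat.extendScalars.{u, u, u} (algebraMap A B)).obj (ModuleCat.of A M)) i) := by
  haveI : (Y⟦i⟧).IsGE (a - i) := (ts A).isGE_shift Y a i (a - i) (by omega)
  obtain ⟨e⟩ := nonempty_flatHom (B := B) M (Y⟦i⟧) (a - i)
  exact ⟨e ≪≫ₗ Linear.homCongr B (Iso.refl _) (((G B).commShiftIso i).app Y)⟩

end Groth.Agent.DualLib.FlatHom
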