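import Groth.Agent.DualLib.GorRing
import Groth.Agent.CAlgH.CIFibre

/-! Gorenstein fibres of a composition with a regular map. -/

set_option autoImplicit false
set_option backward.isDefEq.respectTransparency false
set_option linter.style.haveILetI false

universe u

open IsLocalRing TensorProduct
open Groth.Agent.CAlgH

namespace Groth.Agent.DualLib.GorRing

open GorFlat

attribute [local instance] Groth.Agent.CommAlg6.isLocalRing_fibLocRing

local notation "Gor" => _root_.LocCoh.IsGorensteinLocalRing
local notation "GorR" => _root_.LocCoh.IsGorensteinRing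

theorem gor_fibLocRing_comp (A B C : Type u) [CommRing A] [CommRing B] [CommRing C] [IsNoetherianRing B]
    [IsNoetherianRing C] [Algebra A B] [Algebra B C] [Algebra A C] [IsScalarTower A B C] [Module.Flat B C]
    (hAB : ∀ (q : Ideal A) [q.IsPrime], GorR (q.Fiber B)) (hBC : CAlg.IsRegularHom B C)
    (Q : Ideal C) [Q.IsPrime] : Gor (EGA4.FibLocRing A C Q) := by
  let q' := Q.comap (algebraMap B C)
  haveI : Q.LiesOver q' := ⟨rfl⟩
  have hq : q'.comap (algebraMap A B) = Q.comap (algebraMap A C) := by
    rw [Ideal.comap_comap, ← IsScalarTower.algebraMap_eq]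
  letI := Localization.AtPrime.algebraOfLiesOver q' Q
  let B' := Localization.AtPrime q'
  let C' := Localization.AtPrime Q
  haveI : IsNoetherianRing B' := IsLocalization.isNoetherianRing q'.primeCompl _ inferInstance
  haveI : IsNoetherianRing C' := IsLocalization.isNoetherianRing Q.primeCompl _ inferInstance
  haveI : IsLocalHom (algebraMap B' C') :=
    Localization.isLocalHom_localRingHom q' Q (algebraMap B C) Ideal.LiesOver.over
  have hmB : (maximalIdeal B').map (algebraMap B' C') = q'.map (algebraMap B C') := by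
    rw [← Localization.AtPrime.map_eq_maximalIdeal, Ideal.map_map, ← IsScalarTower.algebraMap_eq]
  obtain ⟨P', _, ⟨e₂⟩⟩ := CommAlg6.exists_fiber_prime (A := B) Q
  haveI : IsRegularRing ((Q.comap (algebraMap B C)).Fiber C) :=
    isRegularRing_field_tensor hBC (Q.comap (algebraMap B C)).ResidueField
  have hfib : Gor (C' ⧸ (maximalIdeal B').map (algebraMap B' C')) :=
    haveI : IsRegularLocalRing (Localization.AtPrime P') := IsRegularRing.isRegularLocalRing_localization P'
    (gor_congr (R := Localization.AtPrime P') (e₂.trans (Ideal.quotEquivOfEq hmB.symm))).1 (gor_of_isRegularLocalRing _)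
  obtain ⟨P1, _, ⟨e₁⟩⟩ := CommAlg6.exists_fiber_prime (A := A) q'
  let I : Ideal B' := (q'.comap (algebraMap A B)).map (algebraMap A B')
  have hbase : Gor (B' ⧸ I) := (gor_congr e₁).1 ((hAB _).isGorensteinLocalRing_localization P1)
  have hIle : I ≤ maximalIdeal B' := IsLocalRing.le_maximalIdeal
    (Ideal.Quotient.nontrivial_iff.1 (inferInstance : Nontrivial (EGA4.FibLocRing A B q')))
  have hIC : I.map (algebraMap B' C') = (Q.comap (algebraMap A C)).map (algebraMap A C') := by
    rw [Ideal.map_map, hq]
    congr 1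
    rw [IsScalarTower.algebraMap_eq A B B', ← RingHom.comp_assoc, ← IsScalarTower.algebraMap_eq,
      IsScalarTower.algebraMap_eq A C C', IsScalarTower.algebraMap_eq A B C, ← RingHom.comp_assoc,
      ← IsScalarTower.algebraMap_eq B C C']
  have hICle : I.map (algebraMap B' C') ≤ maximalIdeal C' :=
    (Ideal.map_mono hIle).trans (IsLocalRing.map_maximalIdeal_le _)
  haveI := isLocalRing_quot hIle
  haveI := isLocalRing_quot hICle
  haveI : Module.Flat (B' ⧸ I) (C' ⧸ I.map (algebraMap B' C')) := CommAlg6.flat_quotient_map (B := C') I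
  haveI : IsLocalHom (algebraMap (B' ⧸ I) (C' ⧸ I.map (algebraMap B' C'))) := ⟨fun a => Quotient.inductionOn' a fun a ha => by
    change IsUnit ((Ideal.Quotient.mk (I.map (algebraMap B' C'))) (algebraMap B' C' a)) at ha
    exact ((isUnit_map_iff (algebraMap B' C') a).1 (isUnit_of_mk hICle ha)).map (Ideal.Quotient.mk I)⟩
  have hm : maximalIdeal (B' ⧸ I) = (maximalIdeal B').map (Ideal.Quotient.mk I) :=
    (IsLocalRing.map_maximalIdeal_of_surjective _ Ideal.Quotient.mk_surjective).symm
  have hID : (maximalIdeal (B' ⧸ I)).map (algebraMap (B' ⧸ I) (C' ⧸ I.map (algebraMap B' C'))) =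
      ((maximalIdeal B').map (algebraMap B' C')).map (Ideal.Quotient.mk _) := by
    rw [hm]
    refine (Ideal.map_map _ _).trans (Eq.trans ?_ (Ideal.map_map _ _).symm)
    congr 1
  exact (gor_congr (Ideal.quotEquivOfEq hIC)).1 ((gor_flat_iff (A := B' ⧸ I)).2 ⟨hbase,
    (gor_congr ((Ideal.quotEquivOfEq hID).trans (DoubleQuot.quotQuotEquivQuotOfLE (Ideal.map_mono hIle)))).2 hfib⟩)

theorem gorenstein_fibres_comp (A B C : Type u) [CommRing A] [CommRing B] [CommRing C] [IsNoetherianRing B]
    [IsNoetherianRing C] [Algebra A B] [Algebra B C] [Algebra A C] [IsScalarTower A B C] [Module.Flat B C]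
    (hAB : ∀ (q : Ideal A) [q.IsPrime], GorR (q.Fiber B)) (hBC : CAlg.IsRegularHom B C)
    (q : Ideal A) [q.IsPrime] : GorR (q.Fiber C) := by
  haveI : IsNoetherianRing (q.Fiber C) := by
    haveI := Algebra.EssFiniteType.isNoetherianRing C (C ⊗[A] q.ResidueField)
    exact isNoetherianRing_of_ringEquiv _ (Algebra.TensorProduct.comm A C q.ResidueField).toRingEquiv
  refine { isGorensteinLocalRing_localization := fun P _ => ?_ }
  obtain ⟨-, ⟨e⟩⟩ := CommAlg6.fiber_localization_equiv q P
  exact (gor_congr e).2 (gor_fibLocRing_comp A B C hAB hBC _)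

end Groth.Agent.DualLib.GorRing
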