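import Groth.Agent.LocCoh.GorensteinCriteria
import Groth.Agent.SegreDim.GorEquiv
import Groth.Agent.Disc12.GorensteinFibre
import Groth.Agent.EGA41Lib.FlatRegular
import Groth.Agent.EGA41Lib.FlatRegularSeq
import Groth.Agent.CommAlg6.FlatEquidim
import Groth.Agent.S2604

/-! The Gorenstein property along flat local homomorphisms. -/

set_option autoImplicit false
set_option backward.isDefEq.respectTransparency false

set_option linter.style.haveILetI false

universe u

open IsLocalRing RingTheory.Sequence TensorProduct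

namespace Groth.Agent.DualLib.GorFlat

local notation "Gor" => _root_.LocCoh.IsGorensteinLocalRing

lemma gor_congr {R S : Type u} [CommRing R] [CommRing S] (e : R ≃+* S) : Gor R ↔ Gor S :=
  ⟨fun h => @SegreDim.gorensteinLocal_of_ringEquiv R S _ _ e h,
    fun h => @SegreDim.gorensteinLocal_of_ringEquiv S R _ _ e.symm h⟩

lemma isLocalRing_quot {R : Type u} [CommRing R] [IsLocalRing R] {I : Ideal R} (hI : I ≤ maximalIdeal R) :
    IsLocalRing (R ⧸ I) :=
  haveI : Nontrivial (R ⧸ I) := Ideal.Quotient.nontrivial_iff.2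
    (ne_top_of_le_ne_top (maximalIdeal.isMaximal R).ne_top hI)
  .of_surjective' _ Ideal.Quotient.mk_surjective

lemma isUnit_of_mk {R : Type u} [CommRing R] [IsLocalRing R] {I : Ideal R} (hI : I ≤ maximalIdeal R) {r : R}
    (h : IsUnit (Ideal.Quotient.mk I r)) : IsUnit r := by
  obtain ⟨y, hy⟩ := h.exists_right_inv
  obtain ⟨y, rfl⟩ := Ideal.Quotient.mk_surjective y
  by_contra hr
  rw [← map_mul, ← map_one (Ideal.Quotient.mk I), Ideal.Quotient.eq] at hy
  refine (maximalIdeal.isMaximal R).ne_top ((Ideal.eq_top_iff_one _).2 ?_)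
  have h1 : r * y ∈ maximalIdeal R := Ideal.mul_mem_right _ _ hr
  have := sub_mem h1 (hI hy)
  rwa [sub_sub_cancel] at this

/-- Gorenstein passes up and down modulo regular sequences. -/
theorem gor_quot_iff {R : Type u} [CommRing R] [IsLocalRing R] [IsNoetherianRing R] :
    ∀ rs : List R, (∀ r ∈ rs, r ∈ maximalIdeal R) → IsWeaklyRegular R rs → (Gor R ↔ Gor (R ⧸ Ideal.ofList rs)) := by
  intro rs
  induction rs using List.reverseRecOn with
  | nil =>
    intro _ _
    exact gor_congr (((Ideal.quotEquivOfEq (Ideal.ofList_nil (R := R))).trans (RingEquiv.quotientBot R)).symm)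
  | append_singleton rs r ih =>
    intro hmem hreg
    rw [isWeaklyRegular_append_iff, isWeaklyRegular_singleton_iff] at hreg
    have hmem' : ∀ x ∈ rs, x ∈ maximalIdeal R := fun x hx => hmem x (List.mem_append_left _ hx)
    haveI := isLocalRing_quot (Ideal.span_le.2 hmem' : Ideal.ofList rs ≤ maximalIdeal R)
    let mk := Ideal.Quotient.mk (Ideal.ofList rs)
    have hr : mk r ∈ maximalIdeal (R ⧸ Ideal.ofList rs) := fun hu =>
      hmem r (by simp) (isUnit_of_mk (Ideal.span_le.2 hmem' : Ideal.ofList rs ≤ maximalIdeal R) hu)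
    have hreg' : IsSMulRegular (R ⧸ Ideal.ofList rs) (mk r) :=
      (EGA41Lib.isSMulRegular_self_quot_iff _ _).1 hreg.2
    rw [ih hmem' hreg.1, LocCoh.gorenstein_quotient_iff hr hreg']
    refine gor_congr (((Ideal.quotEquivOfEq ?_).trans (DoubleQuot.quotQuotEquivQuotSup (Ideal.ofList rs) (Ideal.span {r}))).trans
      (Ideal.quotEquivOfEq ?_))
    · rw [Ideal.map_span, Set.image_singleton]
    · rw [Ideal.ofList_append, Ideal.ofList_singleton]

/-- A quotient by an ideal with radical the maximal ideal is Artinian. -/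
lemma isArtinianRing_quot {R : Type u} [CommRing R] [IsLocalRing R] [IsNoetherianRing R] {I : Ideal R}
    (hI : maximalIdeal R ≤ I.radical) : IsArtinianRing (R ⧸ I) := by
  rw [isArtinianRing_iff_krullDimLE_zero]
  refine Ring.krullDimLE_zero_iff.2 fun P hP => ?_
  haveI := hP
  have h1 : I.radical ≤ P.comap (Ideal.Quotient.mk I) :=
    (Ideal.IsPrime.radical (Ideal.IsPrime.comap (Ideal.Quotient.mk I))).le.trans' (Ideal.radical_mono fun x hx => by
      rw [Ideal.mem_comap, Ideal.Quotient.eq_zero_iff_mem.2 hx]; exact P.zero_mem)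
  haveI : (P.comap (Ideal.Quotient.mk I)).IsMaximal := by
    rw [← (maximalIdeal.isMaximal R).eq_of_le (Ideal.IsPrime.comap (Ideal.Quotient.mk I)).ne_top (hI.trans h1)]
    exact maximalIdeal.isMaximal R
  rw [← Ideal.map_comap_of_surjective _ Ideal.Quotient.mk_surjective P]
  exact (Ideal.map_eq_top_or_isMaximal_of_surjective _ Ideal.Quotient.mk_surjective inferInstance).resolve_left
    (by rw [Ideal.map_comap_of_surjective _ Ideal.Quotient.mk_surjective P]; exact hP.ne_top)

section artinian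

variable {C : Type u} [CommRing C] [IsLocalRing C] [IsArtinianRing C]

lemma exists_socle (I : Ideal C) (hI : I ≠ ⊤) : ∃ f : C, f ∉ I ∧ ∀ a ∈ maximalIdeal C, a * f ∈ I := by
  classical
  obtain ⟨N, hN⟩ := IsArtinianRing.isNilpotent_jacobson_bot (R := C)
  rw [IsLocalRing.jacobson_eq_maximalIdeal ⊥ bot_ne_top] at hN
  have hex : ∃ k, maximalIdeal C ^ k ≤ I := ⟨N, hN.le.trans bot_le⟩
  have h0 : Nat.find hex ≠ 0 := fun h => hI (top_le_iff.1 (by
    have := Nat.find_spec hex; rwa [h, pow_zero, Ideal.one_eq_top] at this))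
  obtain ⟨f, hf, hfI⟩ := SetLike.not_le_iff_exists.1 (Nat.find_min hex (Nat.sub_lt (Nat.pos_of_ne_zero h0) one_pos))
  refine ⟨f, hfI, fun a ha => Nat.find_spec hex ?_⟩
  rw [show Nat.find hex = (Nat.find hex - 1) + 1 by omega, pow_succ']
  exact Ideal.mul_mem_mul ha hf

end artinian

lemma isSocleLine_quot_iff {C : Type u} [CommRing C] [IsLocalRing C] (I : Ideal C) (hI : I ≤ maximalIdeal C)
    [IsLocalRing (C ⧸ I)] :
    LocCoh.IsSocleLine (⊥ : Ideal (C ⧸ I)) ↔ LocCoh.IsSocleLine I := by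
  have hm : ∀ a : C, Ideal.Quotient.mk I a ∈ maximalIdeal (C ⧸ I) ↔ a ∈ maximalIdeal C := fun a =>
    not_congr ⟨isUnit_of_mk hI, fun h => h.map _⟩
  constructor
  · rintro ⟨e, he, hme, hz⟩
    obtain ⟨e, rfl⟩ := Ideal.Quotient.mk_surjective e
    refine ⟨e, fun h => he (Ideal.Quotient.eq_zero_iff_mem.2 h), fun a ha => ?_, fun z h => ?_⟩
    · have h0 := hme _ ((hm a).2 ha)
      rwa [← map_mul, Submodule.mem_bot, Ideal.Quotient.eq_zero_iff_mem] at h0
    · have h0 : Ideal.Quotient.mk I z ∈ (⊥ : Ideal (C ⧸ I)) ⊔ Ideal.span {Ideal.Quotient.mk I e} := hz _ fun a ha => by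
        obtain ⟨a, rfl⟩ := Ideal.Quotient.mk_surjective a
        rw [← map_mul, Submodule.mem_bot, Ideal.Quotient.eq_zero_iff_mem]
        exact h a ((hm a).1 ha)
      rw [bot_sup_eq, ← Set.image_singleton, ← Ideal.map_span, ← Ideal.mem_comap,
        Ideal.comap_map_of_surjective _ Ideal.Quotient.mk_surjective] at h0
      rw [sup_comm]
      convert h0 using 2
      exact Ideal.mk_ker.symm
  · rintro ⟨e, he, hme, hz⟩
    refine ⟨Ideal.Quotient.mk I e, fun h => he (Ideal.Quotient.eq_zero_iff_mem.1 h), fun a ha => ?_, fun z h => ?_⟩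
    · obtain ⟨a, rfl⟩ := Ideal.Quotient.mk_surjective a
      rw [← map_mul, Submodule.mem_bot, Ideal.Quotient.eq_zero_iff_mem]
      exact hme a ((hm a).1 ha)
    · obtain ⟨z, rfl⟩ := Ideal.Quotient.mk_surjective z
      obtain ⟨i, hi, s, hs, rfl⟩ := Submodule.mem_sup.1 (hz z fun a ha => by
        have h0 := h _ ((hm a).2 ha)
        rwa [← map_mul, Submodule.mem_bot, Ideal.Quotient.eq_zero_iff_mem] at h0)
      rw [map_add, Ideal.Quotient.eq_zero_iff_mem.2 hi, zero_add]
      refine Submodule.mem_sup_right ?_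
      rw [← Set.image_singleton, ← Ideal.map_span]
      exact Ideal.mem_map_of_mem _ hs

section flat

variable {A B : Type u} [CommRing A] [CommRing B] [Algebra A B] [Module.Flat A B]

/-- Flatness: the annihilator commutes with base change. -/
lemma mem_map_ker {M : Type u} [AddCommGroup M] [Module A M] (g : A →ₗ[A] M) (z : B)
    (h : z ⊗ₜ[A] g 1 = 0) : z ∈ Ideal.map (algebraMap A B) (LinearMap.ker g) := by
  have hex := Module.Flat.lTensor_exact B (LinearMap.exact_subtype_ker_map g)
  obtain ⟨t, ht⟩ := (hex (z ⊗ₜ[A] (1 : A))).1 (by rw [LinearMap.lTensor_tmul]; exact h)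
  have h1 : z = TensorProduct.rid A B ((LinearMap.ker g).subtype.lTensor B t) := by
    rw [ht, TensorProduct.rid_tmul, one_smul]
  rw [h1]
  clear ht h1
  induction t with
  | zero => simp
  | add a b ha hb => rw [map_add, map_add]; exact add_mem ha hb
  | tmul b k =>
    rw [LinearMap.lTensor_tmul, TensorProduct.rid_tmul, Algebra.smul_def]
    exact Ideal.mul_mem_right _ _ (Ideal.mem_map_of_mem _ k.2)

/-- The elements killed by the ideal `s`. -/
lemma mem_map_colon {n : ℕ} (s : Fin n → A) (z : B) (h : ∀ i, algebraMap A B (s i) * z = 0) :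
    z ∈ Ideal.map (algebraMap A B) (LinearMap.ker (LinearMap.pi fun i => LinearMap.mul A A (s i))) := by
  classical
  refine mem_map_ker _ z ?_
  rw [show (LinearMap.pi fun i => LinearMap.mul A A (s i)) 1 = ∑ i, s i • (Pi.single i (1 : A)) from
    funext fun j => by simp [Pi.single_apply]]
  rw [TensorProduct.tmul_sum]
  refine Finset.sum_eq_zero fun i _ => ?_
  rw [← TensorProduct.smul_tmul, Algebra.smul_def, h i, TensorProduct.zero_tmul]

variable [IsLocalRing A] [IsLocalRing B] [IsLocalHom (algebraMap A B)]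

lemma mem_mB_of_mul_eq_zero {e : A} (he : e ≠ 0) {c : B} (h : algebraMap A B e * c = 0) :
    c ∈ (maximalIdeal A).map (algebraMap A B) := by
  refine Ideal.map_mono ?_ (mem_map_colon (fun _ : Fin 1 => e) c fun _ => h)
  intro x hx
  rw [LinearMap.mem_ker] at hx
  by_contra hxu
  obtain ⟨w, rfl⟩ := IsLocalRing.notMem_maximalIdeal.1 hxu
  have h0 := congrFun hx 0
  simp at h0
  exact he h0

omit [IsLocalHom (algebraMap A B)] [IsLocalRing B] in
lemma mem_socle_map [IsNoetherianRing A] (z : B) (h : ∀ a ∈ maximalIdeal A, algebraMap A B a * z = 0) :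
    z ∈ (Ideal.span {x : A | ∀ a ∈ maximalIdeal A, a * x = 0}).map (algebraMap A B) := by
  obtain ⟨n, s, hs⟩ := Submodule.fg_iff_exists_fin_generating_family.1 (IsNoetherian.noetherian (maximalIdeal A))
  refine Ideal.map_mono ?_ (mem_map_colon s z fun i => h _ (hs ▸ Submodule.subset_span ⟨i, rfl⟩))
  intro x hx
  refine Ideal.subset_span fun a ha => ?_
  rw [← hs] at ha
  induction ha using Submodule.span_induction with
  | mem a ha => obtain ⟨i, rfl⟩ := ha; simpa using congrFun hx i
  | zero => simp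
  | add a b _ _ ha hb => rw [add_mul, ha, hb, add_zero]
  | smul c a _ ha => rw [smul_eq_mul, mul_assoc, ha, mul_zero]

variable [IsArtinianRing A] [IsArtinianRing B]

/-- The Artinian case: socle lines along a flat local homomorphism. -/
theorem isSocleLine_flat_iff : LocCoh.IsSocleLine (⊥ : Ideal B) ↔
    (LocCoh.IsSocleLine (⊥ : Ideal A) ∧ LocCoh.IsSocleLine ((maximalIdeal A).map (algebraMap A B))) := by
  set I := (maximalIdeal A).map (algebraMap A B)
  have hI : I ≤ maximalIdeal B := IsLocalRing.map_maximalIdeal_le (algebraMap A B)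
  have hIkill : ∀ (e : A), (∀ a ∈ maximalIdeal A, a * e = 0) → ∀ c ∈ I, algebraMap A B e * c = 0 := by
    intro e he c hc
    induction hc using Submodule.span_induction with
    | mem c hc => obtain ⟨a, ha, rfl⟩ := hc; rw [← map_mul, mul_comm, he a ha, map_zero]
    | zero => simp
    | add a b _ _ ha hb => rw [mul_add, ha, hb, add_zero]
    | smul r a _ ha => rw [smul_eq_mul, mul_left_comm, ha, mul_zero]
  constructor
  · rintro ⟨g, hg0, hgm, hgz⟩
    rw [Submodule.mem_bot] at hg0
    obtain ⟨e, he0, hem⟩ := exists_socle (⊥ : Ideal A) bot_ne_top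
    simp only [Submodule.mem_bot] at he0 hem
    obtain ⟨f, hfI, hfm⟩ := exists_socle I (ne_top_of_le_ne_top (maximalIdeal.isMaximal B).ne_top hI)
    have hef : ∀ x : A, (∀ a ∈ maximalIdeal A, a * x = 0) → ∀ w : B, (∀ a ∈ maximalIdeal B, a * w ∈ I) →
        ∃ c, algebraMap A B x * w = c * g := by
      intro x hx w hw
      have h0 : algebraMap A B x * w ∈ (⊥ : Ideal B) ⊔ Ideal.span {g} := hgz _ fun a ha => by
        rw [Submodule.mem_bot, mul_left_comm]
        exact hIkill x hx _ (hw a ha)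
      rw [bot_sup_eq, Ideal.mem_span_singleton'] at h0
      obtain ⟨c, hc⟩ := h0
      exact ⟨c, hc.symm⟩
    obtain ⟨c0, hc0⟩ := hef e hem f hfm
    obtain ⟨v, rfl⟩ : IsUnit c0 := by
      by_contra hu
      have h1 := hgm c0 hu
      rw [Submodule.mem_bot] at h1
      exact hfI (mem_mB_of_mul_eq_zero he0 (hc0.trans h1))
    have hgef : g = (↑v⁻¹ : B) * (algebraMap A B e * f) := by rw [hc0, Units.inv_mul_cancel_left]
    refine ⟨⟨e, by simpa using he0, fun a ha => by simpa using hem a ha, fun x hx => ?_⟩,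
      ⟨f, hfI, hfm, fun w hw => ?_⟩⟩
    · simp only [Submodule.mem_bot] at hx
      rw [bot_sup_eq]
      by_contra hxe
      obtain ⟨c, hc⟩ := hef x hx f hfm
      refine hfI (Ideal.map_mono ?_ (mem_map_ker (g := (Ideal.span {e}).mkQ ∘ₗ LinearMap.mul A A x) f ?_))
      · intro y hy
        by_contra hyu
        obtain ⟨u, rfl⟩ := IsLocalRing.notMem_maximalIdeal.1 hyu
        rw [LinearMap.mem_ker, LinearMap.comp_apply, Submodule.mkQ_apply, Submodule.Quotient.mk_eq_zero,
          LinearMap.mul_apply'] at hy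
        exact hxe (by simpa using Ideal.mul_mem_right (↑u⁻¹ : A) _ hy)
      · rw [LinearMap.comp_apply, Submodule.mkQ_apply, LinearMap.mul_apply', mul_one,
          show (Submodule.Quotient.mk x : A ⧸ Ideal.span {e}) = x • Submodule.Quotient.mk 1 by
            rw [← Submodule.Quotient.mk_smul, smul_eq_mul, mul_one],
          ← TensorProduct.smul_tmul, Algebra.smul_def, hc, hgef,
          show c * ((↑v⁻¹ : B) * (algebraMap A B e * f)) = e • (c * ↑v⁻¹ * f) by rw [Algebra.smul_def]; ring,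
          TensorProduct.smul_tmul, ← Submodule.Quotient.mk_smul, smul_eq_mul, mul_one,
          (Submodule.Quotient.mk_eq_zero _).2 (Ideal.mem_span_singleton_self e), TensorProduct.tmul_zero]
    · obtain ⟨c, hc⟩ := hef e hem w hw
      refine Submodule.mem_sup.2 ⟨w - c * ↑v⁻¹ * f, mem_mB_of_mul_eq_zero he0 ?_, c * ↑v⁻¹ * f,
        Ideal.mul_mem_left _ _ (Ideal.mem_span_singleton_self f), sub_add_cancel _ _⟩
      rw [mul_sub, hc, hgef]; ring
  · rintro ⟨⟨e, he0, hem, hez⟩, ⟨f, hfI, hfm, hfz⟩⟩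
    simp only [Submodule.mem_bot] at he0 hem hez
    refine ⟨algebraMap A B e * f, fun h => hfI (mem_mB_of_mul_eq_zero he0 h), fun a ha => ?_, fun z hz => ?_⟩
    · rw [Submodule.mem_bot, mul_left_comm]
      exact hIkill e hem _ (hfm a ha)
    · simp only [Submodule.mem_bot] at hz
      have h1 : z ∈ (Ideal.span {e}).map (algebraMap A B) := by
        refine Ideal.map_mono ?_ (mem_socle_map z fun a ha => hz _ (hI (Ideal.mem_map_of_mem _ ha)))
        refine Ideal.span_le.2 fun x hx => ?_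
        have := hez x hx
        rwa [bot_sup_eq] at this
      rw [Ideal.map_span, Set.image_singleton, Ideal.mem_span_singleton'] at h1
      obtain ⟨w, rfl⟩ := h1
      obtain ⟨i, hi, s, hs, rfl⟩ := Submodule.mem_sup.1 (hfz w fun a ha => mem_mB_of_mul_eq_zero he0 (by
        rw [← hz a ha]; ring))
      obtain ⟨r, rfl⟩ := Ideal.mem_span_singleton'.1 hs
      rw [bot_sup_eq, Ideal.mem_span_singleton']
      exact ⟨r, by rw [add_mul, mul_comm i, hIkill e hem i hi]; ring⟩

/-- The Artinian case. -/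
theorem gor_flat_artinian : Gor B ↔ (Gor A ∧ Gor (B ⧸ (maximalIdeal A).map (algebraMap A B))) := by
  haveI := isLocalRing_quot (IsLocalRing.map_maximalIdeal_le (algebraMap A B))
  rw [Disc12.gorenstein_iff_isSocleLine (C := B), Disc12.gorenstein_iff_isSocleLine (C := A),
    Disc12.gorenstein_iff_isSocleLine (C := B ⧸ (maximalIdeal A).map (algebraMap A B)),
    isSocleLine_flat_iff (A := A) (B := B), isSocleLine_quot_iff _ (IsLocalRing.map_maximalIdeal_le (algebraMap A B))]

end flat

section main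

variable {A B : Type u} [CommRing A] [IsLocalRing A] [IsNoetherianRing A] [CommRing B] [IsLocalRing B]
  [IsNoetherianRing B] [Algebra A B] [IsLocalHom (algebraMap A B)] [Module.Flat A B]

theorem gor_flat_of_systems {xs : List A} {ys : List B} (hxm : ∀ x ∈ xs, x ∈ maximalIdeal A)
    (hx : IsWeaklyRegular A xs) (hxr : maximalIdeal A ≤ (Ideal.ofList xs).radical)
    (hym : ∀ y ∈ ys, y ∈ maximalIdeal B)
    (hy : IsWeaklyRegular (B ⧸ (maximalIdeal A).map (algebraMap A B)) ys)
    (hyr : maximalIdeal B ≤ (Ideal.ofList ys ⊔ (maximalIdeal A).map (algebraMap A B)).radical) :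
    Gor B ↔ (Gor A ∧ Gor (B ⧸ (maximalIdeal A).map (algebraMap A B))) := by
  set I := (maximalIdeal A).map (algebraMap A B) with hI
  set J := Ideal.ofList ys with hJ
  set X := Ideal.ofList xs with hX
  have hIle : I ≤ maximalIdeal B := IsLocalRing.map_maximalIdeal_le (algebraMap A B)
  have hJle : J ≤ maximalIdeal B := Ideal.span_le.2 hym
  have hXle : X ≤ maximalIdeal A := Ideal.span_le.2 hxm
  have hy0 : IsWeaklyRegular (B ⧸ (I • (⊤ : Submodule B B))) ys :=
    ((Submodule.quotEquivOfEq _ _ (by rw [smul_eq_mul, Ideal.mul_top])).isWeaklyRegular_congr ys).2 hy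
  obtain ⟨hyB, hflat⟩ := EGA41Lib.isWeaklyRegular_and_flat_of_fibre (A := A) ys hy0
  haveI hD : Module.Flat A (B ⧸ J) := by
    haveI := hflat ys.length le_rfl
    rw [List.take_length] at this
    exact Module.Flat.of_linearEquiv
      ((Submodule.quotEquivOfEq J (J • (⊤ : Submodule B B)) (by rw [smul_eq_mul, Ideal.mul_top])).restrictScalars A)
  haveI := isLocalRing_quot hJle
  haveI : IsLocalHom (algebraMap A (B ⧸ J)) := ⟨fun a ha => by
    rw [IsScalarTower.algebraMap_apply A B (B ⧸ J)] at ha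
    exact (isUnit_map_iff (algebraMap A B) a).1 (isUnit_of_mk hJle ha)⟩
  have hxD : IsWeaklyRegular (B ⧸ J) (xs.map (algebraMap A (B ⧸ J))) :=
    (isWeaklyRegular_map_algebraMap_iff (B ⧸ J) (B ⧸ J) xs).2 (EGA41Lib.isWeaklyRegular_of_flat _ hx)
  have hxmD : ∀ x ∈ xs.map (algebraMap A (B ⧸ J)), x ∈ maximalIdeal (B ⧸ J) := by
    intro x hx'
    obtain ⟨a, ha, rfl⟩ := List.mem_map.1 hx'
    exact fun h => hxm a ha ((isUnit_map_iff (algebraMap A (B ⧸ J)) a).1 h)
  rw [gor_quot_iff ys hym hyB, gor_quot_iff _ hxmD hxD, gor_quot_iff xs hxm hx]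
  set XD := X.map (algebraMap A (B ⧸ J))
  rw [gor_congr (Ideal.quotEquivOfEq (show Ideal.ofList (xs.map (algebraMap A (B ⧸ J))) = XD from
    (Ideal.map_ofList _ _).symm))]
  have hXD : XD ≤ maximalIdeal (B ⧸ J) :=
    (Ideal.map_mono hXle).trans (IsLocalRing.map_maximalIdeal_le (algebraMap A (B ⧸ J)))
  haveI := isLocalRing_quot hXle
  haveI := isLocalRing_quot hXD
  haveI : IsArtinianRing (A ⧸ X) := isArtinianRing_quot hxr
  haveI : IsArtinianRing ((B ⧸ J) ⧸ XD) := isArtinianRing_quot (by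
    intro z hz
    obtain ⟨b, rfl⟩ := Ideal.Quotient.mk_surjective z
    have hb : b ∈ maximalIdeal B := fun h => hz (h.map (Ideal.Quotient.mk J))
    have h1 : J ⊔ I ≤ (J ⊔ X.map (algebraMap A B)).radical := sup_le (le_sup_left.trans Ideal.le_radical)
      ((Ideal.map_mono hxr).trans ((Ideal.map_radical_le _).trans (Ideal.radical_mono le_sup_right)))
    obtain ⟨n, hn⟩ : b ∈ (J ⊔ X.map (algebraMap A B)).radical :=
      (Ideal.radical_le_radical_iff.2 h1) (hyr hb)
    refine ⟨n, ?_⟩
    obtain ⟨j, hj, x, hx', hjx⟩ := Submodule.mem_sup.1 hn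
    rw [← map_pow, ← hjx, map_add, Ideal.Quotient.eq_zero_iff_mem.2 hj, zero_add]
    rw [show XD = (X.map (algebraMap A B)).map (Ideal.Quotient.mk J) from
      (Ideal.map_map (algebraMap A B) (Ideal.Quotient.mk J)).symm]
    exact Ideal.mem_map_of_mem _ hx')
  haveI : Module.Flat (A ⧸ X) ((B ⧸ J) ⧸ XD) := CommAlg6.flat_quotient_map (B := B ⧸ J) X
  have hlhom : IsLocalHom (algebraMap (A ⧸ X) ((B ⧸ J) ⧸ XD)) := ⟨fun a => Quotient.inductionOn' a fun a ha => by
    change IsUnit ((Ideal.Quotient.mk XD) (algebraMap A (B ⧸ J) a)) at ha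
    exact ((isUnit_map_iff (algebraMap A (B ⧸ J)) a).1
      (isUnit_of_mk hXD ha)).map (Ideal.Quotient.mk X)⟩
  rw [gor_flat_artinian (A := A ⧸ X) (B := (B ⧸ J) ⧸ XD)]
  refine and_congr_right' ?_
  have hm : maximalIdeal (A ⧸ X) = (maximalIdeal A).map (Ideal.Quotient.mk X) :=
    (IsLocalRing.map_maximalIdeal_of_surjective _ Ideal.Quotient.mk_surjective).symm
  have hID : ((maximalIdeal (A ⧸ X)).map (algebraMap (A ⧸ X) ((B ⧸ J) ⧸ XD))) =
      (I.map (Ideal.Quotient.mk J)).map (Ideal.Quotient.mk XD) := by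
    rw [hm, Ideal.map_map, hI, Ideal.map_map, Ideal.map_map]
    rfl
  have hXI : XD ≤ I.map (Ideal.Quotient.mk J) := by
    rw [hI, Ideal.map_map]
    exact Ideal.map_mono hXle
  haveI := isLocalRing_quot hIle
  rw [gor_congr ((Ideal.quotEquivOfEq hID).trans ((DoubleQuot.quotQuotEquivQuotOfLE hXI).trans
    ((DoubleQuot.quotQuotEquivQuotSup J I).trans ((Ideal.quotEquivOfEq (sup_comm J I)).trans
      (DoubleQuot.quotQuotEquivQuotSup I J).symm))))]
  have hymF : ∀ y ∈ ys.map (Ideal.Quotient.mk I), y ∈ maximalIdeal (B ⧸ I) := by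
    intro y hy'
    obtain ⟨b, hb, rfl⟩ := List.mem_map.1 hy'
    exact fun h => hym b hb (isUnit_of_mk hIle h)
  rw [gor_quot_iff _ hymF ((isWeaklyRegular_map_algebraMap_iff (B ⧸ I) (B ⧸ I) ys).2 hy)]
  exact gor_congr (Ideal.quotEquivOfEq (Ideal.map_ofList _ _))

lemma exists_system {B : Type u} [CommRing B] [IsLocalRing B] [IsNoetherianRing B]
    [_root_.LocCoh.IsCohenMacaulayLocalRing B] :
    ∃ ys : List B, (∀ y ∈ ys, y ∈ maximalIdeal B) ∧ IsWeaklyRegular B ys ∧
      maximalIdeal B ≤ (Ideal.ofList ys).radical := by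
  obtain ⟨n, hn⟩ := LocCoh.exists_dim_eq (R := B)
  obtain ⟨ys, -, hmem, hreg, hrad⟩ := LocCoh.exists_parameters_in_pow (R := B) hn 1
  exact ⟨ys, fun y hy => by simpa using hmem y hy, hreg.toIsWeaklyRegular, hrad⟩

lemma isCohenMacaulay_of_module (F : Type u) [CommRing F] [IsLocalRing F] [IsNoetherianRing F] (M : Type u)
    [AddCommGroup M] [Module F M] (e : M ≃ₗ[F] F) (h : _root_.LocCoh.IsCohenMacaulayModule F M) :
    _root_.LocCoh.IsCohenMacaulayLocalRing F := by
  refine @_root_.LocCoh.IsCohenMacaulayLocalRing.mk F _ inferInstance inferInstance ?_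
  rw [← Module.supportDim_eq_of_equiv e, ← CAlgH3.depth_congr e]
  exact h

/-- **Gorenstein along flat local homomorphisms.** -/
theorem gor_flat_iff : Gor B ↔ (Gor A ∧ Gor (B ⧸ (maximalIdeal A).map (algebraMap A B))) := by
  set I := (maximalIdeal A).map (algebraMap A B) with hI
  haveI : IsLocalRing (B ⧸ I) := isLocalRing_quot (IsLocalRing.map_maximalIdeal_le (algebraMap A B))
  suffices key : _root_.LocCoh.IsCohenMacaulayLocalRing A → _root_.LocCoh.IsCohenMacaulayLocalRing (B ⧸ I) →
      (Gor B ↔ (Gor A ∧ Gor (B ⧸ I))) by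
    constructor
    · intro hB
      haveI := hB
      haveI hBcm := LocCoh.isCohenMacaulayLocalRing_of_gorenstein (R := B)
      have hmod : _root_.LocCoh.IsCohenMacaulayModule B (B ⊗[A] A) := by
        unfold _root_.LocCoh.IsCohenMacaulayModule
        rw [Module.supportDim_eq_of_equiv (AlgebraTensorModule.rid A B B),
          CAlgH3.depth_congr (AlgebraTensorModule.rid A B B)]
        exact hBcm.supportDim_eq_depth
      obtain ⟨h1, h2⟩ := (Groth.Agent.S2604.result A B A B).1 hmod
      let e : EGA4.FibMod A B B ≃ₗ[B ⧸ I] (B ⧸ I) :=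
        LinearEquiv.extendScalarsOfSurjective (S := B ⧸ I) Ideal.Quotient.mk_surjective
          (Submodule.quotEquivOfEq _ _ (by rw [smul_eq_mul, Ideal.mul_top]))
      exact (key (isCohenMacaulay_of_module A A (LinearEquiv.refl A A) h1)
        (isCohenMacaulay_of_module (B ⧸ I) _ e h2)).1 hB
    · rintro ⟨hA, hF⟩
      exact (key (@LocCoh.isCohenMacaulayLocalRing_of_gorenstein A _ hA)
        (@LocCoh.isCohenMacaulayLocalRing_of_gorenstein (B ⧸ I) _ hF)).2 ⟨hA, hF⟩
  intro hA hF
  obtain ⟨xs, hxm, hx, hxr⟩ := exists_system (B := A)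
  obtain ⟨ys', hym, hy, hyr⟩ := exists_system (B := B ⧸ I)
  obtain ⟨ys, rfl⟩ : ∃ ys : List B, ys.map (Ideal.Quotient.mk I) = ys' :=
    ⟨ys'.map (Function.surjInv Ideal.Quotient.mk_surjective), by
      rw [List.map_map]; exact (List.map_congr_left fun y _ => Function.surjInv_eq _ y).trans (List.map_id _)⟩
  refine gor_flat_of_systems hxm hx hxr (fun y hy' h => hym _ (List.mem_map_of_mem hy') (h.map _))
    ((isWeaklyRegular_map_algebraMap_iff (B ⧸ I) (B ⧸ I) ys).1 hy) ?_
  intro b hb
  obtain ⟨n, hn⟩ := hyr (show Ideal.Quotient.mk I b ∈ maximalIdeal (B ⧸ I) from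
    fun h => hb (isUnit_of_mk (IsLocalRing.map_maximalIdeal_le (algebraMap A B)) h))
  refine ⟨n, ?_⟩
  rw [← map_pow, ← Ideal.map_ofList, ← Ideal.mem_comap,
    Ideal.comap_map_of_surjective _ Ideal.Quotient.mk_surjective] at hn
  convert hn using 2
  exact Ideal.mk_ker.symm

end main

end Groth.Agent.DualLib.GorFlat
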