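import Groth.Agent.DualLib.DualizingCoherent

/-!
# Maps into the dualizing module: zero when the top cohomology of the source vanishes
-/

set_option autoImplicit false
set_option backward.isDefEq.respectTransparency false
set_option backward.defeqAttrib.useBackward true
set_option linter.style.haveILetI false

universe u

open CategoryTheory CategoryTheory.Limits CategoryTheory.Abelian DerivedCategory AlgebraicGeometry Opposite
open Groth.Agent.Coherent Groth.Agent.DCat

attribute [local instance] HasDerivedCategory.standard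

namespace Groth.Agent.DualLib.DualCoh

variable {k : Type u} [Field k] {X : Scheme.{u}} [X.Over (Spec (CommRingCat.of k))]
variable [IsProper (X ↘ Spec (CommRingCat.of k))]

/-- `O` of `Spec k` in degree zero is `PS k`. -/
theorem nonempty_iso_PS (k : Type u) [Field k] :
    Nonempty (DCoh.inD (Spec (CommRingCat.of k)) (Coh.structureModule (Spec (CommRingCat.of k))) ≅ PS k) :=
  ⟨(singleFunctor (Spec (CommRingCat.of k)).Modules 0).mapIso (DQCoh.topIso (CommRingCat.of k) ≪≫ tildeSelf).symm⟩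

/-- The value of a right adjoint at `O` represents. -/
theorem repObj_of_adj (f : X ⟶ Spec (CommRingCat.of k)) (hfX : f = X ↘ Spec (CommRingCat.of k)) [DCoh.HasRpush f]
    (h : ∀ K : DCoh.D X, DCoh.IsQCohD K → DCoh.IsQCohD ((DCoh.Rpush f).obj K))
    (a : DCoh.DQCoh (Spec (CommRingCat.of k)) ⥤ DCoh.DQCoh X)
    (adj : (ObjectProperty.lift DCoh.IsQCohD (ObjectProperty.ι DCoh.IsQCohD ⋙ DCoh.Rpush f)
      (fun K => h K.obj K.property)) ⊣ a) (O : DCoh.DQCoh (Spec (CommRingCat.of k)))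
    (hO : Nonempty (O.obj ≅ DCoh.inD (Spec (CommRingCat.of k)) (Coh.structureModule (Spec (CommRingCat.of k))))) :
    Dual22Lib.RepLib.RepObj (X ↘ Spec (CommRingCat.of k)) (PS k) (a.obj O).obj := by
  obtain ⟨e⟩ := hO
  obtain ⟨e'⟩ := nonempty_iso_PS k
  exact ((⟨fun {_} => ⟨(a.obj O).property, (adj.counit.app O).hom,
    fun L hL => Dual22Lib.SupportAdj.rep_counit f h a adj O L hL⟩⟩ :
      Dual22Lib.RepLib.RepObj f O.obj (a.obj O).obj).ofIsoTarget (e ≪≫ e')).congr hfX

/-- Maps into `H^{-d}` of the representing object vanish on modules without top cohomology. -/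
theorem eq_zero_of_hom_rep {d : ℕ} (hd : topologicalKrullDim X ≤ d) {A : DCoh.D X}
    (hA : Dual22Lib.RepLib.RepObj (X ↘ Spec (CommRingCat.of k)) (PS k) A) (M : X.Modules) [Coh.IsQCoh M]
    (hM : Subsingleton (Coh.HH X M d)) (g : M ⟶ DCoh.HD (A⟦(-(d : ℤ))⟧) 0) : g = 0 := by
  haveI := EulerLib.isNoetherian_of_proper (k := k) (X := X)
  haveI : X.IsSeparated := EulerLib.isSeparated_of_proper (X := X) k
  haveI := DCat.hasRpush (X ↘ Spec (CommRingCat.of k))
  haveI hAGE := isGE_rep k X hd hA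
  let A₀ := A⟦(-(d : ℤ))⟧
  haveI : A₀.IsGE 0 := DerivedCategory.TStructure.t.isGE_shift A (-(d : ℤ)) (-(d : ℤ)) 0 (by omega)
  obtain ⟨hAq, ε, hε⟩ := hA.out
  let W := DCoh.HD A₀ 0
  let t₀ := DerivedCategory.TStructure.t (C := X.Modules)
  haveI : (t₀.truncLT 1 |>.obj A₀).IsLE 0 := t₀.isLE_truncLT_obj _ _ _ (by omega)
  haveI : (t₀.truncLT 1 |>.obj A₀).IsGE 0 := inferInstance
  haveI hι : IsIso ((homologyFunctor X.Modules 0).map ((t₀.truncLTι 1).app A₀)) := by
    haveI := mono_homology_truncLTι A₀ 1 0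
    haveI : Epi ((homologyFunctor X.Modules 0).map ((t₀.truncLTι 1).app A₀)) :=
      (HomologySequence.epi_homologyMap_mor₁_iff _ (t₀.triangleLTGE_distinguished 1 A₀) 0).2
        ((isZero_of_isGE (t₀.truncGE 1 |>.obj A₀) 1 0 (by omega)).eq_of_tgt _ _)
    exact isIso_of_mono_of_epi _
  obtain ⟨M', ⟨eM⟩⟩ := exists_iso_singleFunctor_obj_of_isGE_of_isLE (t₀.truncLT 1 |>.obj A₀) 0
  let w : M' ≅ W := ((singleFunctorCompHomologyFunctorIso X.Modules 0).app M').symm ≪≫
    (homologyFunctor X.Modules 0).mapIso eM.symm ≪≫ asIso ((homologyFunctor X.Modules 0).map ((t₀.truncLTι 1).app A₀))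
  obtain ⟨e, -⟩ := exists_eLin (k := k) (X := X)
  obtain ⟨_, _⟩ := exists_commShift_Rpush (X ↘ Spec (CommRingCat.of k))
  haveI : (gS k M d).IsLE (-1) := by
    refine isLE_gS_of_le hd M le_rfl fun j' => ?_
    rcases Nat.eq_zero_or_pos j' with rfl | hj'
    · exact hM
    · exact EulerLib.subsingleton_HH_of_dim M hd (by omega)
  haveI : (PS k).IsGE 0 := (inferInstance :
    ((singleFunctor (Spec (CommRingCat.of k)).Modules 0).obj ((freeModOn _).obj ⊤)).IsGE 0)
  let η₀ : (singleFunctor X.Modules 0).obj M ⟶ A₀ :=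
    (singleFunctor X.Modules 0).map (g ≫ w.inv) ≫ eM.inv ≫ (t₀.truncLTι 1).app A₀
  let η : ((singleFunctor X.Modules 0).obj M)⟦(d : ℤ)⟧ ⟶ A :=
    η₀⟦(d : ℤ)⟧' ≫ (shiftFunctorCompIsoId (DCoh.D X) (-(d : ℤ)) (d : ℤ) (by omega)).hom.app A
  have hη : η = 0 := (hε _ (DQCoh.isQCohD_shift (FlatBC14.isQCohD_inD M) _)).1
    ((DerivedCategory.TStructure.t.zero (X := gS k M d) (Y := PS k) _ (-1) 0 (by omega)).trans
      (DerivedCategory.TStructure.t.zero (X := gS k M d) (Y := PS k) _ (-1) 0 (by omega)).symm)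
  rw [Preadditive.IsIso.comp_right_eq_zero] at hη
  have h0 : η₀ = 0 := (shiftFunctor (DCoh.D X) (d : ℤ)).map_eq_zero_iff.1 hη
  have hgen : ∀ q : M ⟶ M', (singleFunctorCompHomologyFunctorIso X.Modules 0).inv.app M ≫
      (homologyFunctor X.Modules 0).map ((singleFunctor X.Modules 0).map q ≫ eM.inv ≫ (t₀.truncLTι 1).app A₀) =
      q ≫ w.hom := fun q => by
    have hn := (singleFunctorCompHomologyFunctorIso X.Modules 0).inv.naturality q
    dsimp at hn
    rw [Functor.map_comp, ← Category.assoc, ← hn, Functor.map_comp]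
    simp [w, Category.assoc]
  have h1 : (singleFunctorCompHomologyFunctorIso X.Modules 0).inv.app M ≫
      (homologyFunctor X.Modules 0).map η₀ = (g ≫ w.inv) ≫ w.hom := hgen _
  rw [h0, Functor.map_zero, comp_zero, Category.assoc, Iso.inv_hom_id, Category.comp_id] at h1
  exact h1.symm

end Groth.Agent.DualLib.DualCoh
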