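import Groth.Agent.DualLib.DualizingCoherent
import Groth.Agent.EGA43.DimFormula.LocalDimJacobson
import Groth.Agent.EGA43.RectDepthJacobson
import Groth.Agent.Coherent.Existence.SysKernel
import Groth.Agent.Coherent.SchemeCoh
import Groth.Agent.QCohLoc.Basic
import Groth.Agent.H8Lim.AffineProper
import Groth.Agent.FlatMorAdm.Nagata
import Groth.Agent.TopDim.Basic
import Groth.Agent.SerreDual.Exist

/-!
# Vanishing of top cohomology of non-proper schemes (Lichtenbaum)
-/

set_option autoImplicit false
set_option backward.isDefEq.respectTransparency false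
set_option linter.style.haveILetI false

universe u

open CategoryTheory CategoryTheory.Limits AlgebraicGeometry Opposite TopologicalSpace
open Groth.Agent.Coherent Groth.Agent.PicLib

namespace Groth.Agent.DualLib.Lichtenbaum

/-- On schemes of finite type over a field the closure of a point has the dimension of its trace on
any open containing the point. -/
theorem dim_inter_closure {k : Type u} [Field k] {Z : Scheme.{u}} (p : Z ⟶ Spec (CommRingCat.of k))
    [LocallyOfFiniteType p] {a : Z} (U : Z.Opens) (haU : a ∈ U) :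
    topologicalKrullDim ↥((U : Set Z) ∩ closure ({a} : Set Z)) =
      topologicalKrullDim ↥(closure ({a} : Set Z)) := by
  haveI : Subsingleton ↥(Spec (CommRingCat.of k)) := inferInstanceAs (Subsingleton (PrimeSpectrum k))
  refine EGA43.DimFormula.dim_open_inter_closure_lft
    (EGA43.RectDepth.isUniversallyCatenary_stalk fun s => ?_) (fun S' _ s hs _ => ?_) p U haU
  · exact IsRegularLocalRing.of_ringEquiv (StructureSheaf.stalkIso k s).toRingEquiv
  · rw [show {t | t ∈ S' ∧ t ⤳ s} = S' from Set.ext fun t =>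
      ⟨fun ht => ht.1, fun ht => ⟨ht, specializes_of_eq (Subsingleton.elim t s)⟩⟩]

/-- A closed set of dimension at least `d` contains a point whose closure has dimension at least `d`. -/
theorem exists_closure_dim_ge {T : Type u} [TopologicalSpace T] [QuasiSober T] {Z : Set T} (hZ : IsClosed Z)
    {d : ℕ} (h : ¬ topologicalKrullDim Z < (d : WithBot ℕ∞)) :
    ∃ η ∈ Z, (d : WithBot ℕ∞) ≤ topologicalKrullDim ↥(closure ({η} : Set T)) := by
  obtain ⟨l, hl⟩ := Order.le_krullDim_iff.1 (not_lt.1 h)
  have hS : IsIrreducible (Subtype.val '' (l.last : Set Z)) :=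
    l.last.isIrreducible.image _ continuous_subtype_val.continuousOn
  have hSc : IsClosed (Subtype.val '' (l.last : Set Z)) :=
    hZ.isClosedEmbedding_subtypeVal.isClosedMap _ l.last.isClosed
  obtain ⟨η, hη⟩ := QuasiSober.sober hS hSc
  have hηZ : η ∈ Z := by
    obtain ⟨w, -, hw⟩ := hη.mem
    exact hw ▸ w.2
  refine ⟨η, hηZ, ?_⟩
  rw [hη.def, ← hl]
  refine (TopDim.le_dim_of_subset l _ le_rfl).trans (le_of_eq ?_)
  exact (Topology.IsEmbedding.subtypeVal.homeomorphImage (l.last : Set Z)).isHomeomorph.topologicalKrullDim_eq _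

section Main

variable {X : Scheme.{u}} {U : Scheme.{u}} (j : U ⟶ X) [IsOpenImmersion j] [IsAffineHom j]

/-- `f_* F` has no nonzero map to a coherent module at a point specializing to the boundary. -/
theorem germ_app_eq_zero [IsLocallyNoetherian X] {ω : X.Modules} (hω : Coh.IsCoh ω) (F : U.Modules)
    (φ : (Coh.push j).obj F ⟶ ω) {η z : X} (hηz : η ⤳ z) (hz : z ∉ j.opensRange) {V : X.Opens}
    (hV : IsAffineOpen V) (hzV : z ∈ V) (m : Γ((Coh.push j).obj F, V)) :
    ω.presheaf.germ V η (hηz.mem_open V.isOpen hzV) (φ.app V m) = 0 := by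
  classical
  let s : Set Γ(X, V) := {a | X.basicOpen a ≤ j.opensRange}
  let J : Ideal Γ(X, V) := Ideal.span s
  have hW : IsAffineOpen (j ⁻¹ᵁ V) := hV.preimage j
  have hspan : Ideal.span ((j.app V).hom '' s) = ⊤ := by
    refine hW.self_le_iSup_basicOpen_iff.1 fun x hx => ?_
    obtain ⟨a, hle, hxa⟩ := hV.exists_basicOpen_le (V := V ⊓ j.opensRange) ⟨j x, hx, x, rfl⟩ hx
    refine Opens.mem_iSup.2 ⟨⟨_, a, hle.trans inf_le_right, rfl⟩, ?_⟩
    show x ∈ U.basicOpen ((j.app V).hom a)
    rw [← Scheme.preimage_basicOpen]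
    exact hxa
  have hJM : ∀ y : Γ((Coh.push j).obj F, V), y ∈ J • (⊤ : Submodule Γ(X, V) Γ((Coh.push j).obj F, V)) := by
    suffices h : ∀ b ∈ Ideal.span ((j.app V).hom '' s), ∀ y : Γ(F, j ⁻¹ᵁ V),
        (show Γ((Coh.push j).obj F, V) from b • y) ∈ J • (⊤ : Submodule Γ(X, V) Γ((Coh.push j).obj F, V)) by
      intro y
      have := h 1 (hspan ▸ trivial) y
      rwa [one_smul] at this
    intro b hb
    induction hb using Submodule.span_induction with
    | mem b hb =>
      obtain ⟨a, ha, rfl⟩ := hb
      intro y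
      exact Submodule.smul_mem_smul (Ideal.subset_span ha) trivial
    | zero => intro y; rw [zero_smul]; exact zero_mem _
    | add b b' _ _ hb hb' => intro y; rw [add_smul]; exact add_mem (hb y) (hb' y)
    | smul c b _ hb =>
      intro y
      rw [smul_eq_mul, mul_comm, mul_smul]
      exact hb (c • y)
  let N := Γ(ω, V)
  haveI : Module.Finite Γ(X, V) N := ((isCoh_iff_finite_sections ω).1 hω).2 V hV
  haveI : IsNoetherianRing Γ(X, V) := IsLocallyNoetherian.component_noetherian ⟨V, hV⟩
  have hpow : ∀ n : ℕ, ∀ y, φ.app V y ∈ (J ^ n • ⊤ : Submodule Γ(X, V) N) := by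
    intro n
    induction n with
    | zero => intro y; simp
    | succ n ih =>
      intro y
      rw [pow_succ', Submodule.mul_smul]
      refine Submodule.smul_induction_on (p := fun y => φ.app V y ∈ J • (J ^ n • ⊤ : Submodule Γ(X, V) N))
        (hJM y) (fun a ha y' _ => ?_) fun y₁ y₂ h₁ h₂ => ?_
      · rw [Scheme.Modules.Hom.app_smul]
        exact Submodule.smul_mem_smul ha (ih y')
      · rw [map_add]
        exact add_mem h₁ h₂
  obtain ⟨⟨r, hr⟩, hrm⟩ := (Ideal.mem_iInf_smul_pow_eq_bot_iff (I := J) (φ.app V m)).1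
    ((Submodule.mem_iInf _).2 fun n => hpow n m)
  have hzr : z ∉ X.basicOpen r := by
    have h : ∀ a ∈ J, z ∉ X.basicOpen a := by
      intro a ha
      induction ha using Submodule.span_induction with
      | mem a ha => exact fun h => hz (ha h)
      | zero =>
        intro h
        rw [Scheme.basicOpen_zero] at h
        exact h
      | add a b _ _ ha hb =>
        intro h
        rw [Scheme.mem_basicOpen _ _ _ hzV] at h ha hb
        rw [map_add] at h
        rcases IsLocalRing.isUnit_or_isUnit_of_isUnit_add h with h | h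
        exacts [ha h, hb h]
      | smul c a _ ha =>
        intro h
        rw [smul_eq_mul, Scheme.basicOpen_mul] at h
        exact ha h.2
    exact h r hr
  have hzr' : z ∈ X.basicOpen (1 - r) := by
    rw [Scheme.mem_basicOpen _ _ _ hzV] at hzr ⊢
    rw [map_sub, map_one]
    exact (IsLocalRing.isUnit_or_isUnit_one_sub_self _).resolve_left hzr
  have hu := (Scheme.mem_basicOpen _ _ _ (hηz.mem_open V.isOpen hzV)).1 (hηz.mem_open (X.basicOpen (1 - r)).isOpen hzr')
  refine hu.smul_eq_zero.1 ?_
  rw [← QCohLoc.germ_smul', sub_smul, one_smul, hrm, sub_self, map_zero]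

variable {k : Type u} [Field k] [X.Over (Spec (CommRingCat.of k))] [IsProper (X ↘ Spec (CommRingCat.of k))]

include k j in
/-- Lichtenbaum: the top cohomology of an open of a proper scheme vanishes when every point with closure
of top dimension specializes to the boundary. -/
theorem subsingleton_HH_top {d : ℕ} (hd : topologicalKrullDim X ≤ d)
    (hb : ∀ η : X, (d : WithBot ℕ∞) ≤ topologicalKrullDim ↥(closure ({η} : Set X)) →
      ∃ z, η ⤳ z ∧ z ∉ j.opensRange)
    (F : U.Modules) [Coh.IsQCoh F] : Subsingleton (Coh.HH U F d) := by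
  haveI := EulerLib.isNoetherian_of_proper (k := k) (X := X)
  haveI : X.IsSeparated := EulerLib.isSeparated_of_proper (X := X) k
  haveI := DCat.hasRpush (X ↘ Spec (CommRingCat.of k))
  obtain ⟨ω, t, hω, hrep⟩ := DualCoh.exists_coherent_dualizing k X hd
  haveI : Coh.IsQCoh ω := hω.1
  haveI : Coh.IsQCoh ((Coh.push j).obj F) := isQCoh_push j F
  refine (HHAffinePushEquiv j F d).toEquiv.subsingleton_congr.2 (subsingleton_of_forall_eq 0 fun x => ?_)
  refine (Module.forall_dual_apply_eq_zero_iff k x).1 fun ψ => ?_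
  obtain ⟨φ, rfl⟩ := (hrep _ inferInstance).2 ψ
  suffices hφ : φ = 0 by rw [hφ, map_zero, LinearMap.zero_apply]
  let G := Abelian.image φ
  have hGq : Coh.IsQCoh G := isQCoh_image φ
  haveI := hGq
  have hGc : Coh.IsCoh G := isCoh_of_mono (Abelian.image.ι φ) hω hGq
  have hcl : IsClosed (CohB1.support G) := isClosed_support G (locallyFinGen_of_isFT G hGc.2)
  have hdim : topologicalKrullDim ↥(CohB1.support G) < (d : WithBot ℕ∞) := by
    by_contra hlt
    obtain ⟨η, hηG, hη⟩ := exists_closure_dim_ge hcl hlt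
    refine hηG ?_
    obtain ⟨z, hηz, hzU⟩ := hb η hη
    obtain ⟨V, hV, hzV, -⟩ := exists_isAffineOpen_mem_and_subset (x := z) (U := (⊤ : X.Opens)) trivial
    have hηV : η ∈ V := hηz.mem_open V.isOpen hzV
    refine subsingleton_of_forall_eq 0 fun a => ?_
    obtain ⟨f, g, hηf, hg⟩ := QCohLoc.exists_smul_stalk_eq_germ G hV hηV a
    suffices h0 : G.presheaf.germ V η hηV g = 0 by
      rw [h0] at hg
      exact ((Scheme.mem_basicOpen _ _ _ hηV).1 hηf).smul_eq_zero.1 hg
    obtain ⟨m, hm⟩ := Coherent.Existence.app_surjective_of_epi (Abelian.factorThruImage φ) hV g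
    have h1 : ω.presheaf.germ V η hηV ((Abelian.image.ι φ).app V g) = 0 := by
      rw [← hm]
      refine Eq.trans ?_ (germ_app_eq_zero j hω F φ hηz hzU hV hzV m)
      exact congrArg (ω.presheaf.germ V η hηV)
        (ConcreteCategory.congr_hom (congrArg (fun q => Scheme.Modules.Hom.app q V) (Abelian.image.fac φ)) m)
    obtain ⟨W, hηW, i₁, i₂, e⟩ := TopCat.Presheaf.germ_eq ω.presheaf (U := V) (V := V) η hηV hηV
      ((Abelian.image.ι φ).app V g) 0 (h1.trans (map_zero _).symm)
    have e' : resM G (leOfHom i₁) g = 0 := by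
      refine app_injective_of_mono (Abelian.image.ι φ) W ?_
      rw [map_zero, app_resM]
      exact e.trans (map_zero _)
    rw [← TopCat.Presheaf.germ_res_apply _ i₁ η hηW g]
    exact (congrArg (G.presheaf.germ W η hηW) e').trans (map_zero _)
  haveI := EulerLib.subsingleton_HH_of_support ⟨_, hcl⟩ G hGq subset_rfl d hdim
  have hι : Abelian.image.ι φ = 0 := (hrep G hGq).1 (by
    rw [map_zero]
    refine LinearMap.ext fun y => ?_
    rw [SerreDual.theta_apply, Subsingleton.elim y 0]
    simp)
  rw [← Abelian.image.fac φ, hι, comp_zero]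

end Main

/-- Lichtenbaum's theorem, vanishing direction. -/
theorem subsingleton_HH_of_no_proper {k : Type u} [Field k] {U : Scheme.{u}} (f : U ⟶ Spec (CommRingCat.of k))
    [IsSeparated f] [LocallyOfFiniteType f] [QuasiCompact f] {d : ℕ} (hd : topologicalKrullDim U ≤ d)
    (hp : ∀ (Z : Scheme.{u}) (i : Z ⟶ U) [IsClosedImmersion i] [IrreducibleSpace Z],
      topologicalKrullDim Z = d → ¬ IsProper (i ≫ f))
    (F : U.Modules) [Coh.IsQCoh F] : Subsingleton (Coh.HH U F d) := by
  obtain ⟨X₁, j₁, p₁, hj₁, hqc, hp₁, e₁⟩ := FlatMorAdm.compactifiable f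
  haveI := hj₁; haveI := hqc; haveI := hp₁
  haveI : IsLocallyNoetherian X₁ := LocallyOfFiniteType.isLocallyNoetherian p₁
  haveI : CompactSpace X₁ := QuasiCompact.compactSpace_of_compactSpace p₁
  obtain ⟨X₂, j₂, b, hj₂a, hb, e₂⟩ := H8Lim.exists_isAffineHom_into_proper j₁
  haveI := hj₂a; haveI := hb
  haveI : IsImmersion j₂ := by
    have : IsImmersion (j₂ ≫ b) := e₂ ▸ inferInstance
    exact IsImmersion.of_comp j₂ b
  let j := j₂.toImage
  haveI : IsOpenImmersion j := inferInstanceAs (IsOpenImmersion j₂.toImage)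
  haveI : IsAffineHom j := by
    have : IsAffineHom (j₂.toImage ≫ j₂.imageι) := by rw [Scheme.Hom.toImage_imageι]; infer_instance
    exact IsAffineHom.of_comp j₂.toImage j₂.imageι
  let p := j₂.imageι ≫ b ≫ p₁
  haveI : IsProper p := inferInstance
  letI : j₂.image.Over (Spec (CommRingCat.of k)) := ⟨p⟩
  haveI : IsProper (j₂.image ↘ Spec (CommRingCat.of k)) := ‹IsProper p›
  have hjp : j ≫ p = f := by
    show j₂.toImage ≫ j₂.imageι ≫ b ≫ p₁ = f
    rw [Scheme.Hom.toImage_imageι_assoc, reassoc_of% e₂, e₁]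
  have hdense : DenseRange j := (inferInstance : IsDominant j₂.toImage).denseRange
  have hdimU : ∀ η : j₂.image, η ∈ j.opensRange →
      topologicalKrullDim ↥(closure ({η} : Set j₂.image)) ≤ d := fun η hη => by
    rw [← dim_inter_closure p j.opensRange hη]
    refine ((Topology.IsEmbedding.inclusion Set.inter_subset_left).isInducing.topologicalKrullDim_le).trans ?_
    exact (le_of_eq (EGA43.DimFormula.topologicalKrullDim_eq_of_range j j.isOpenEmbedding.isEmbedding _ rfl)).trans hd
  have hdim : topologicalKrullDim j₂.image ≤ (d : WithBot ℕ∞) := by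
    refine TopDim.dim_le_iff.2 fun l => ?_
    obtain ⟨C, hC, hle⟩ := exists_mem_irreducibleComponents_subset_of_isIrreducible _ l.last.isIrreducible
    refine (TopDim.le_dim_of_subset l C hle).trans ?_
    obtain ⟨η, hη⟩ := QuasiSober.sober hC.1 (isClosed_of_mem_irreducibleComponents C hC)
    rw [← hη.def]
    refine hdimU η ?_
    haveI : IsNoetherian j₂.image := EulerLib.isNoetherian_of_proper (k := k) (X := j₂.image)
    obtain ⟨O, hOne, hO⟩ := exists_open_subset_of_mem_irreducibleComponents hC
    obtain ⟨v, hvO, hvU⟩ := hdense.inter_open_nonempty _ O.isOpen hOne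
    exact (hη.specializes (hO hvO)).mem_open j.opensRange.isOpen hvU
  refine subsingleton_HH_top (k := k) j hdim (fun η hη => ?_) F
  by_contra hne
  simp only [not_exists, not_and, not_not] at hne
  have hsub : closure ({η} : Set j₂.image) ⊆ Set.range j := fun z hz => hne z (specializes_iff_mem_closure.2 hz)
  obtain ⟨W, ι, hι, hW, hrange, hgen⟩ := EGA43.DimFormula.exists_integral_subscheme η
  haveI := hι; haveI := hW
  have hWr : Set.range ι ⊆ Set.range j := hrange.le.trans hsub
  let i : W ⟶ U := IsOpenImmersion.lift j ι hWr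
  have hi : i ≫ j = ι := IsOpenImmersion.lift_fac _ _ _
  haveI : IsClosedImmersion i := by
    have : IsClosedImmersion (i ≫ j) := by rw [hi]; infer_instance
    exact IsClosedImmersion.of_comp i j
  have hWd : topologicalKrullDim W = d := by
    rw [← EGA43.DimFormula.topologicalKrullDim_eq_of_range ι ι.isEmbedding _ hrange]
    exact le_antisymm (hdimU η (hne η specializes_rfl)) hη
  refine hp W i hWd ?_
  rw [← hjp, ← Category.assoc, hi]
  infer_instance
where
  exists_open_subset_of_mem_irreducibleComponents {T : Type u} [TopologicalSpace T] [NoetherianSpace T] {C : Set T}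
      (hC : C ∈ irreducibleComponents T) : ∃ O : Opens T, (O : Set T).Nonempty ∧ (O : Set T) ⊆ C := by
    obtain ⟨O, hO, hne, hOC⟩ := NoetherianSpace.exists_isOpen_nonempty_subset_irreducibleComponent C hC
    exact ⟨⟨O, hO⟩, hne, hOC⟩

end Groth.Agent.DualLib.Lichtenbaum
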