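import Groth.Agent.FlatCx12.AmpFibreCx
import Groth.Agent.FlatCx12.AmpCoverRing
import Groth.Agent.DCat.LTensorModule

/-!
# Complexes over local rings from their closed fibre
-/

set_option autoImplicit false
set_option backward.isDefEq.respectTransparency false
set_option backward.defeqAttrib.useBackward true
set_option linter.style.haveILetI false

universe u

open CategoryTheory CategoryTheory.Limits TensorProduct Function

attribute [local instance] HasDerivedCategory.standard

namespace Groth.Agent.DualLib.LocalFibre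

open Groth.Agent.EGA43.InjFibre

/-- Exactness after tensoring with the residue field gives it for every vector space over it. -/
theorem exactAt_of_residue {R : Type u} [CommRing R] [IsLocalRing R] (P : DRing.Cx R) (i : ℤ)
    (h : (DRing.tensorCx P (ModuleCat.of R (IsLocalRing.ResidueField R))).ExactAt i) (N : ModuleCat.{u} R)
    (hN : IsLocalRing.maximalIdeal R • (⊤ : Submodule R N) = ⊥) : (DRing.tensorCx P N).ExactAt i := by
  rw [FlatCx12.AmpCoverRing.exactAt_iff_exact] at h ⊢
  let k := IsLocalRing.ResidueField R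
  have ht : Module.IsTorsionBySet R N (IsLocalRing.maximalIdeal R : Set R) := fun x r => by
    have := hN.le (Submodule.smul_mem_smul r.2 (Submodule.mem_top (x := x)))
    simpa using this
  letI : Module k N := ht.module
  haveI : IsScalarTower R k N := IsScalarTower.of_algebraMap_smul fun _ _ => rfl
  have h' : Exact ((P.d (i - 1) i).hom.baseChange k) ((P.d i (i + 1)).hom.baseChange k) := by
    rw [LinearMap.baseChange_eq_ltensor, LinearMap.baseChange_eq_ltensor]
    exact h
  exact (Function.Exact.iff_of_ladder_linearEquiv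
    (e₁ := (AlgebraTensorModule.cancelBaseChange R k k N (P.X (i - 1))).restrictScalars R)
    (e₂ := (AlgebraTensorModule.cancelBaseChange R k k N (P.X i)).restrictScalars R)
    (e₃ := (AlgebraTensorModule.cancelBaseChange R k k N (P.X (i + 1))).restrictScalars R)
    (f₁₂ := (((P.d (i - 1) i).hom.baseChange k).lTensor N).restrictScalars R)
    (f₂₃ := (((P.d i (i + 1)).hom.baseChange k).lTensor N).restrictScalars R)
    (g₁₂ := (P.d (i - 1) i).hom.lTensor N) (g₂₃ := (P.d i (i + 1)).hom.lTensor N)
    (LinearMap.ext fun z => by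
      induction z using TensorProduct.induction_on with
      | zero => simp
      | add a b ha hb => simp only [map_add, ha, hb]
      | tmul n w =>
        induction w using TensorProduct.induction_on with
        | zero => simp
        | add a b ha hb => simp only [TensorProduct.tmul_add, map_add, ha, hb]
        | tmul c x => simp)
    (LinearMap.ext fun z => by
      induction z using TensorProduct.induction_on with
      | zero => simp
      | add a b ha hb => simp only [map_add, ha, hb]
      | tmul n w =>
        induction w using TensorProduct.induction_on with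
        | zero => simp
        | add a b ha hb => simp only [TensorProduct.tmul_add, map_add, ha, hb]
        | tmul c x => simp)).2 (Module.Flat.lTensor_exact N h')

/-- The condition of exactness on the fibre, in element form. -/
theorem exists_sub_mem {R L : Type u} [CommRing R] [IsLocalRing R] [CommRing L] (σ : R →+* L) (C : DRing.Cx L) (i : ℤ)
    (h : (DRing.tensorCx ((DRing.restrictCx σ).obj C) (ModuleCat.of R (IsLocalRing.ResidueField R))).ExactAt i)
    (x : C.X i) (hx : (C.d i (i + 1)).hom x ∈ (IsLocalRing.maximalIdeal R).map σ • (⊤ : Submodule L (C.X (i + 1)))) :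
    ∃ n, x - (C.d (i - 1) i).hom n ∈ (IsLocalRing.maximalIdeal R).map σ • (⊤ : Submodule L (C.X i)) := by
  let m := IsLocalRing.maximalIdeal R
  let C' := (DRing.restrictCx σ).obj C
  have htr : ∀ (M : ModuleCat.{u} L) (y : M), y ∈ m.map σ • (⊤ : Submodule L M) ↔
      (y : (ModuleCat.restrictScalars σ).obj M) ∈ m • (⊤ : Submodule R ((ModuleCat.restrictScalars σ).obj M)) := by
    intro M y
    letI := σ.toAlgebra
    letI : Module R M := Module.compHom M σ
    haveI : IsScalarTower R L M := IsScalarTower.of_algebraMap_smul fun _ _ => rfl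
    exact mem_map_smul_top_iff m y
  rw [HomologicalComplex.exactAt_iff' (i := i - 1) (j := i) (k := i + 1) _ (by simp) (by simp),
    ShortComplex.ShortExact.moduleCat_exact_iff_function_exact] at h
  let x' : C'.X i := x
  have hx' : (C'.d i (i + 1)).hom x' ⊗ₜ[R] (1 : R ⧸ m) = 0 :=
    (tmul_one_quotient_eq_zero_iff m _).2 ((htr _ _).1 hx)
  obtain ⟨z, hz⟩ := (h (x' ⊗ₜ[R] (1 : R ⧸ m))).1 hx'
  obtain ⟨n, rfl⟩ : ∃ n : C'.X (i - 1), n ⊗ₜ[R] (1 : R ⧸ m) = z := by
    obtain ⟨n, hn⟩ := TensorProduct.mk_surjective R (C'.X (i - 1)) (R ⧸ m) Ideal.Quotient.mk_surjective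
      (TensorProduct.comm R _ _ z)
    exact ⟨n, (TensorProduct.comm R _ _).injective hn⟩
  refine ⟨n, (htr _ _).2 ((tmul_one_quotient_eq_zero_iff m (N := C'.X i) _).1 ?_)⟩
  show (x' - (C'.d (i - 1) i).hom n) ⊗ₜ[R] (1 : R ⧸ m) = 0
  rw [TensorProduct.sub_tmul, sub_eq_zero]
  exact hz.symm

/-- A bounded above complex of finite free modules that is exact above `b` modulo an ideal in the radical is exact
above `b`. -/
theorem exactAt_above {L : Type u} [CommRing L] (I : Ideal L) (hI : I ≤ Ideal.jacobson ⊥) (C : DRing.Cx L)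
    (hC : DRing.TermwiseFiniteFree C) {b c : ℤ} (hc : DRing.VanishesAbove C c)
    (h : ∀ i, b < i → ∀ x, (C.d i (i + 1)).hom x ∈ I • (⊤ : Submodule L (C.X (i + 1))) →
      ∃ n, x - (C.d (i - 1) i).hom n ∈ I • (⊤ : Submodule L (C.X i))) :
    ∀ i, b < i → C.ExactAt i := by
  suffices key : ∀ (k : ℕ) (i : ℤ), b < i → c + 1 ≤ i + k →
      Module.Projective L (LinearMap.ker (C.d i (i + 1)).hom) ∧
        LinearMap.ker (C.d i (i + 1)).hom = LinearMap.range (C.d (i - 1) i).hom by
    intro i hi
    rw [HomologicalComplex.exactAt_iff' (i := i - 1) (j := i) (k := i + 1) _ (by simp) (by simp),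
      ShortComplex.ShortExact.moduleCat_exact_iff_function_exact]
    exact LinearMap.exact_iff.2 (key (c + 1 - i).toNat i hi (by omega)).2
  intro k
  induction k with
  | zero =>
    intro i _ hi
    haveI := ModuleCat.subsingleton_of_isZero (hc i (by omega))
    exact ⟨inferInstance, Subsingleton.elim _ _⟩
  | succ k ih =>
    intro i hb hi
    obtain ⟨hp, he⟩ := ih (i + 1) (by omega) (by omega)
    haveI := (hC i).1
    haveI := (hC i).2
    rw [show i + 1 - 1 = i by omega] at he
    let Z := LinearMap.ker (C.d i (i + 1)).hom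
    let d' : C.X i →ₗ[L] LinearMap.ker (C.d (i + 1) (i + 1 + 1)).hom :=
      (C.d i (i + 1)).hom.codRestrict _ fun x => by rw [he]; exact LinearMap.mem_range_self _ _
    have hd' : Surjective d' := fun y => by
      obtain ⟨x, hx⟩ := he.le y.2
      exact ⟨x, Subtype.ext hx⟩
    obtain ⟨s, hs⟩ := Module.projective_lifting_property d' LinearMap.id hd'
    let r : C.X i →ₗ[L] Z := (LinearMap.id - s ∘ₗ d').codRestrict _ fun x => by
      have h1 : d' (s (d' x)) = d' x := LinearMap.congr_fun hs (d' x)
      have h2 : (C.d i (i + 1)).hom (s (d' x)) = (C.d i (i + 1)).hom x := congrArg Subtype.val h1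
      show (C.d i (i + 1)).hom (x - s (d' x)) = 0
      rw [map_sub, h2, sub_self]
    have hr : r ∘ₗ Z.subtype = LinearMap.id := by
      refine LinearMap.ext fun z => Subtype.ext ?_
      have h1 : d' (z : C.X i) = 0 := Subtype.ext z.2
      show (z : C.X i) - s (d' z) = z
      rw [h1, map_zero, sub_zero]
    refine ⟨Module.Projective.of_split Z.subtype r hr, ?_⟩
    haveI : Module.Finite L Z := Module.Finite.of_surjective r fun z => ⟨z, LinearMap.congr_fun hr z⟩
    refine le_antisymm ?_ (LinearMap.range_le_ker_iff.2 (congrArg ModuleCat.Hom.hom (C.d_comp_d (i - 1) i (i + 1))))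
    refine Submodule.le_of_le_smul_of_le_jacobson_bot (Module.Finite.iff_fg.1 inferInstance) hI fun z hz => ?_
    have hz0 : (C.d i (i + 1)).hom z = 0 := hz
    obtain ⟨n, hn⟩ := h i hb z (by rw [hz0]; exact zero_mem _)
    refine Submodule.mem_sup.2 ⟨(C.d (i - 1) i).hom n, LinearMap.mem_range_self _ _, z - (C.d (i - 1) i).hom n, ?_,
      add_sub_cancel _ _⟩
    have hy : z - (C.d (i - 1) i).hom n ∈ Z := Z.sub_mem hz
      (LinearMap.range_le_ker_iff.2 (congrArg ModuleCat.Hom.hom (C.d_comp_d (i - 1) i (i + 1))) (LinearMap.mem_range_self _ _))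
    have h2 := Submodule.mem_map_of_mem (f := Z.subtype ∘ₗ r) hn
    rw [Submodule.map_smul''] at h2
    have h3 : (Z.subtype ∘ₗ r) (z - (C.d (i - 1) i).hom n) = z - (C.d (i - 1) i).hom n :=
      congrArg Subtype.val (LinearMap.congr_fun hr ⟨_, hy⟩)
    rw [h3] at h2
    refine Submodule.smul_mono le_rfl ?_ h2
    rintro _ ⟨x, -, rfl⟩
    exact (r x).2

end Groth.Agent.DualLib.LocalFibre
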