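import Groth.Agent.DualLib.DualizingCoherent
import Groth.Agent.Dual22Lib.RepLib
import Groth.Agent.DCat.SuppOpen
import Groth.Agent.DQCoh.PscFinite
import Groth.Agent.DQCoh.AffineKProj17
import Groth.Agent.EulerLib.Degree

/-!
# `H^{-d}` of the representing object at generic points
-/

set_option autoImplicit false
set_option backward.isDefEq.respectTransparency false
set_option backward.defeqAttrib.useBackward true
set_option linter.style.haveILetI false

universe u

open CategoryTheory CategoryTheory.Limits DerivedCategory AlgebraicGeometry Opposite TopologicalSpace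
open Groth.Agent.Coherent Groth.Agent.DCat Groth.Agent.PicLib

attribute [local instance] HasDerivedCategory.standard

namespace Groth.Agent.DualLib.Nonvanish

/-- A map injective on sections is injective on stalks. -/
theorem nontrivial_stalk_of_mono {X : Scheme.{u}} {M N : X.Modules} (θ : M ⟶ N) [Mono θ] {x : X}
    (h : Nontrivial (M.presheaf.stalk x)) : Nontrivial (N.presheaf.stalk x) := by
  by_contra hN
  rw [not_nontrivial_iff_subsingleton] at hN
  refine not_subsingleton_iff_nontrivial.2 h (subsingleton_of_forall_eq 0 fun a => ?_)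
  obtain ⟨V, hxV, g, rfl⟩ := M.presheaf.exists_germ_eq a
  obtain ⟨W, hxW, i₁, i₂, e⟩ := TopCat.Presheaf.germ_eq N.presheaf (U := V) (V := V) x hxV hxV
    (θ.app V g) 0 (Subsingleton.elim _ _)
  have e' : resM M (leOfHom i₁) g = 0 := by
    refine app_injective_of_mono θ W ?_
    rw [map_zero, app_resM]
    exact e.trans (map_zero _)
  rw [← TopCat.Presheaf.germ_res_apply _ i₁ x hxW g]
  exact (congrArg (M.presheaf.germ W x hxW) e').trans (map_zero _)

section Generic

variable (k : Type u) [Field k] (X : Scheme.{u}) [X.Over (Spec (CommRingCat.of k))]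
  [IsProper (X ↘ Spec (CommRingCat.of k))]

/-- Nonvanishing top cohomology makes `H^{-d}` of the representing object nonzero at the generic point. -/
theorem nontrivial_stalk_rep [IsIntegral X] {d : ℕ} (hd : topologicalKrullDim X ≤ d) (F : X.Modules) [Coh.IsQCoh F]
    (hF : ¬ Subsingleton (Coh.HH X F d)) [DCoh.HasRpush (X ↘ Spec (CommRingCat.of k))] {A : DCoh.D X}
    (hA : Dual22Lib.RepLib.RepObj (X ↘ Spec (CommRingCat.of k)) (DualCoh.PS k) A) :
    Nontrivial ((DCoh.HD (A⟦(-(d : ℤ))⟧) 0).presheaf.stalk (genericPoint X)) := by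
  haveI := EulerLib.isNoetherian_of_proper (k := k) (X := X)
  haveI : X.IsSeparated := EulerLib.isSeparated_of_proper (X := X) k
  obtain ⟨ω, t, hω, hrep⟩ := DualCoh.exists_coherent_dualizing k X hd
  haveI : Coh.IsQCoh ω := hω.1
  obtain ⟨θ, hθ⟩ := DualCoh.exists_mono_of_rep k X hd hA t hrep
  refine nontrivial_stalk_of_mono θ ?_
  by_contra hη
  have hcl : IsClosed (CohB1.support ω) := isClosed_support ω (locallyFinGen_of_isFT ω hω.2)
  have hlt : topologicalKrullDim ↥(CohB1.support ω) < (d : WithBot ℕ∞) :=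
    EulerLib.dim_lt_of_notMem hcl (Set.subset_univ _) isClosed_univ (genericPoint_closure (X : Type u))
      (fun h => hη (not_subsingleton_iff_nontrivial.1 h)) ((Topology.IsInducing.subtypeVal.topologicalKrullDim_le).trans hd)
  haveI := EulerLib.subsingleton_HH_of_support ⟨_, hcl⟩ ω hω.1 subset_rfl d hlt
  have hid : 𝟙 ω = 0 := (hrep ω hω.1).1 (LinearMap.ext fun y => by
    rw [Subsingleton.elim y 0, map_zero, map_zero])
  have h0 : ∀ φ : F ⟶ ω, φ = 0 := fun φ => by rw [← Category.comp_id φ, hid, comp_zero]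
  refine hF (subsingleton_of_forall_eq 0 fun x => (Module.forall_dual_apply_eq_zero_iff k x).1 fun ψ => ?_)
  obtain ⟨φ, rfl⟩ := (hrep F inferInstance).2 ψ
  rw [h0 φ, map_zero, LinearMap.zero_apply]

end Generic

section Transfer

variable {k : Type u} [Field k] {X X' : Scheme.{u}} [IsNoetherian X]

/-- Restriction of the representing object along a morphism over an open. -/
theorem exists_restrict_rep (f : X ⟶ Spec (CommRingCat.of k)) [IsProper f] (p : X' ⟶ X) [IsProper p]
    {A : DCoh.D X} (hA : Dual22Lib.RepLib.RepObj f (DualCoh.PS k) A) (c : ℤ) [A.IsGE c]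
    {A' : DCoh.D X'} (hA' : Dual22Lib.RepLib.RepObj (p ≫ f) (DualCoh.PS k) A') (V : X.Opens) :
    Dual22Lib.RepLib.RepObj (p ∣_ V) ((DCoh.restrictD V.ι).obj A) ((DCoh.restrictD (p ⁻¹ᵁ V).ι).obj A') := by
  haveI : CompactSpace X' := QuasiCompact.compactSpace_of_compactSpace p
  haveI : QuasiSeparatedSpace X' := quasiSeparatedSpace_of_quasiSeparated p
  obtain ⟨A₁, hA₁⟩ := Dual22Lib.RepLib.exists_repObj p A
  obtain ⟨e⟩ := (hA.comp f hA₁).unique hA'
  exact (hA₁.ofIso e).restrictOpen c hA.mem V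

/-- Birational transfer: over an open where `p` is an isomorphism the representing objects agree. -/
theorem isZero_HD_of_isIso (f : X ⟶ Spec (CommRingCat.of k)) [IsProper f] (p : X' ⟶ X) [IsProper p]
    {A : DCoh.D X} (hA : Dual22Lib.RepLib.RepObj f (DualCoh.PS k) A) (c : ℤ) [A.IsGE c]
    {A' : DCoh.D X'} (hA' : Dual22Lib.RepLib.RepObj (p ≫ f) (DualCoh.PS k) A') (V : X.Opens) [IsIso (p ∣_ V)]
    (i : ℤ) (h : IsZero (DCoh.HD A i)) : IsZero (DCoh.HD ((DCoh.restrictD (p ⁻¹ᵁ V).ι).obj A') i) := by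
  haveI := PullPerf.preservesFiniteLimits_restrict V.ι
  haveI := PullPerf.preservesFiniteLimits_restrict (p ∣_ V)
  obtain ⟨e⟩ := (exists_restrict_rep f p hA c hA' V).unique
    (Dual22Lib.RepLib.repObj_isIso (p ∣_ V) (Dual22Lib.AdjGeom.isQCohD_restrictD V.ι hA.mem))
  refine IsZero.of_iso ?_ ((homologyFunctor _ i).mapIso e ≪≫
    SuppOpen.hdMapIso (Scheme.Modules.restrictFunctor (p ∣_ V)) _ i ≪≫
    (Scheme.Modules.restrictFunctor (p ∣_ V)).mapIso (SuppOpen.hdMapIso (Scheme.Modules.restrictFunctor V.ι) A i))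
  exact (Scheme.Modules.restrictFunctor (p ∣_ V)).map_isZero ((Scheme.Modules.restrictFunctor V.ι).map_isZero h)

/-- Nontrivial stalks give nonzero restrictions. -/
theorem not_isZero_restrict {Y : Scheme.{u}} (M : Y.Modules) (O : Y.Opens) (y : Y) (hy : y ∈ O)
    (h : Nontrivial (M.presheaf.stalk y)) : ¬ IsZero (M.restrict O.ι) := fun hz => by
  have h0 : Subsingleton ((M.restrict O.ι).presheaf.stalk ⟨y, hy⟩) :=
    AddCommGrpCat.subsingleton_of_isZero
      ((Scheme.Modules.toPresheaf _ ⋙ TopCat.Presheaf.stalkFunctor AddCommGrpCat.{u} _).map_isZero hz)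
  exact not_subsingleton_iff_nontrivial.2 h
    ((((Scheme.Modules.restrictStalkNatIso O.ι ⟨y, hy⟩).app M).addCommGroupIsoToAddEquiv.toEquiv.subsingleton_congr).1 h0)

/-- The degree zero cohomology of a shift. -/
noncomputable def hdShift {Y : Scheme.{u}} (K : DCoh.D Y) (n : ℤ) : DCoh.HD (K⟦n⟧) 0 ≅ DCoh.HD K n :=
  ((homologyFunctor Y.Modules 0).shiftIso n 0 n (by omega)).app K

end Transfer

section Finite

variable {V O : Scheme.{u}} (g : V ⟶ O) [IsAffineHom g] [QuasiCompact g] [QuasiSeparated g]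

/-- For affine `g` a nonzero map `g_* N ⟶ H^c(B)` makes `H^c` of the representing object nonzero. -/
theorem not_isZero_of_hom {B : DCoh.D O} {E : DCoh.D V} (hE : Dual22Lib.RepLib.RepObj g B E) (c : ℤ)
    [B.IsGE c] [E.IsGE c] (N : V.Modules) [Coh.IsQCoh N]
    (u : (Coh.push g).obj N ⟶ DCoh.HD B c) (hu : u ≠ 0) : ¬ IsZero (DCoh.HD E c) := by
  intro hz
  haveI := hasRpush g
  obtain ⟨_, _⟩ := exists_commShift_Rpush g
  obtain ⟨hEq, ε, hε⟩ := hE.out
  let t₀ := DerivedCategory.TStructure.t (C := O.Modules)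
  haveI : (t₀.truncLT (c + 1) |>.obj B).IsLE c := t₀.isLE_truncLT_obj _ _ _ (by omega)
  haveI : (t₀.truncLT (c + 1) |>.obj B).IsGE c := inferInstance
  haveI hι : IsIso ((homologyFunctor O.Modules c).map ((t₀.truncLTι (c + 1)).app B)) := by
    haveI := mono_homology_truncLTι B (c + 1) c
    haveI : Epi ((homologyFunctor O.Modules c).map ((t₀.truncLTι (c + 1)).app B)) :=
      (HomologySequence.epi_homologyMap_mor₁_iff _ (t₀.triangleLTGE_distinguished (c + 1) B) c).2
        ((isZero_of_isGE (t₀.truncGE (c + 1) |>.obj B) (c + 1) c (by omega)).eq_of_tgt _ _)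
    exact isIso_of_mono_of_epi _
  obtain ⟨M, ⟨eM⟩⟩ := exists_iso_singleFunctor_obj_of_isGE_of_isLE (t₀.truncLT (c + 1) |>.obj B) c
  let w : M ≅ DCoh.HD B c := ((singleFunctorCompHomologyFunctorIso O.Modules c).app M).symm ≪≫
    (homologyFunctor O.Modules c).mapIso eM.symm ≪≫ asIso ((homologyFunctor O.Modules c).map ((t₀.truncLTι (c + 1)).app B))
  let ψ : (singleFunctor O.Modules c).obj ((Coh.push g).obj N) ⟶ B :=
    (singleFunctor O.Modules c).map (u ≫ w.inv) ≫ eM.inv ≫ (t₀.truncLTι (c + 1)).app B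
  have hψ : ψ ≠ 0 := fun h => hu (by
    have h1 : (homologyFunctor O.Modules c).map ψ = 0 := by rw [h, Functor.map_zero]
    simp only [ψ, Functor.map_comp] at h1
    haveI : IsIso ((homologyFunctor O.Modules c).map eM.inv) := inferInstance
    rw [← Category.assoc, Preadditive.IsIso.comp_right_eq_zero, Preadditive.IsIso.comp_right_eq_zero] at h1
    have h2 : u ≫ w.inv = 0 := by
      have hn := (singleFunctorCompHomologyFunctorIso O.Modules c).hom.naturality (u ≫ w.inv)
      dsimp at hn
      refine (cancel_epi ((singleFunctorCompHomologyFunctorIso O.Modules c).hom.app _)).1 (hn.symm.trans ?_)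
      rw [comp_zero, Functor.map_comp, Functor.map_comp]
      erw [h1]
      exact zero_comp
    rwa [Preadditive.IsIso.comp_right_eq_zero] at h2)
  -- transport to `g_* N`
  obtain ⟨eR⟩ := DQCoh.nonempty_Rpush_inD g N
  let sh := fun (Y : Scheme.{u}) (M : Y.Modules) =>
    ((singleFunctors Y.Modules).shiftIso (-c) c 0 (by omega)).app M
  let iso : (DCoh.Rpush g).obj ((singleFunctor V.Modules c).obj N) ≅
      (singleFunctor O.Modules c).obj ((Coh.push g).obj N) :=
    (DCoh.Rpush g).mapIso (sh V N).symm ≪≫ ((DCoh.Rpush g).commShiftIso (-c)).app _ ≪≫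
      (shiftFunctor (DCoh.D O) (-c)).mapIso eR ≪≫ sh O _
  have hN : DCoh.IsQCohD ((singleFunctor V.Modules c).obj N) :=
    Dual22Lib.RepLib.isQCohD_of_iso (sh V N) (DQCoh.isQCohD_shift (FlatBC14.isQCohD_inD N) _)
  obtain ⟨η, hη⟩ := (hε _ hN).2 (iso.hom ≫ ψ)
  have hη0 : η = 0 := by
    haveI : E.IsGE (c + 1) := (isGE_iff _ _).2 fun i hi => by
      rcases lt_or_eq_of_le (show i ≤ c by omega) with h | h
      · exact isZero_of_isGE E c i h
      · exact h ▸ hz
    exact DerivedCategory.TStructure.t.zero η c (c + 1) (by omega)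
  dsimp only at hη
  rw [hη0, Functor.map_zero, zero_comp] at hη
  rw [eq_comm, Preadditive.IsIso.comp_left_eq_zero] at hη
  exact hψ hη

end Finite

/-- Linear maps of sections give maps of quasi-coherent modules on affine schemes. -/
theorem exists_hom_of_linear {O : Scheme.{u}} [IsAffine O] {M N : O.Modules} (hM : Coh.IsQCoh M) (hN : Coh.IsQCoh N)
    (l : (DQCoh.AffineKProj17.secX O).obj M ⟶ (DQCoh.AffineKProj17.secX O).obj N) (hl : l ≠ 0) : ∃ u : M ⟶ N, u ≠ 0 := by
  haveI := DQCoh.AffineKProj17.isIso_theta O M hM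
  haveI := DQCoh.AffineKProj17.isIso_theta O N hN
  refine ⟨inv ((DQCoh.AffineKProj17.theta O).app M) ≫ (DQCoh.AffineKProj17.tilX O).map l ≫ (DQCoh.AffineKProj17.theta O).app N, fun h => hl ?_⟩
  rw [Preadditive.IsIso.comp_left_eq_zero, Preadditive.IsIso.comp_right_eq_zero] at h
  let ei := DQCoh.AffineKProj17.restrictCompIdIso O.isoSpec.symm
  have h1 : (tilde.functor Γ(O, ⊤)).map l = 0 := by
    have hn := ei.hom.naturality ((tilde.functor Γ(O, ⊤)).map l)
    dsimp at hn
    rw [show (Scheme.Modules.restrictFunctor O.isoSpec.hom).map (tilde.map l) = 0 from h,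
      Functor.map_zero, zero_comp] at hn
    exact (cancel_epi (ei.hom.app _)).1 (hn.symm.trans comp_zero.symm)
  haveI : (moduleSpecΓFunctor (R := Γ(O, ⊤))).Additive := Adjunction.right_adjoint_additive tilde.adjunction
  have hn := (tilde.toTildeΓNatIso (R := Γ(O, ⊤))).hom.naturality l
  dsimp at hn
  rw [show (moduleSpecΓFunctor (R := Γ(O, ⊤))).map (tilde.map l) = 0 from
    (congrArg (moduleSpecΓFunctor (R := Γ(O, ⊤))).map h1).trans (Functor.map_zero _ _ _), comp_zero] at hn
  exact (cancel_mono (tilde.toTildeΓNatIso.app _).hom).1 (hn.trans zero_comp.symm)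

end Groth.Agent.DualLib.Nonvanish
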