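import Groth.Agent.DualLib.Nonvanishing
import Groth.Agent.DualLib.Lichtenbaum
import Groth.Agent.Coherent.Chow
import Groth.Agent.Coherent.ProjSpaceCoh
import Groth.Agent.Coherent.ProjSpaceFinite
import Groth.Agent.CurveLib.ProjLine
import Groth.Agent.DimLib.ProjDim
import Groth.Agent.DimLib.Algebra
import Groth.Agent.AmpleLib.CounitEpi
import Mathlib.RingTheory.NoetherNormalization

/-!
# Top cohomology of proper integral schemes does not vanish
-/

set_option autoImplicit false
set_option backward.isDefEq.respectTransparency false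
set_option linter.style.haveILetI false

universe u

open CategoryTheory CategoryTheory.Limits AlgebraicGeometry Opposite TopologicalSpace
open Groth.Agent.Coherent Groth.Agent.PicLib
open scoped nonZeroDivisors

attribute [local instance] HasDerivedCategory.standard

namespace Groth.Agent.DualLib.Nonvanish

/-- A finite module over a domain with an element without torsion has a nonzero linear form. -/
theorem exists_form_ne_zero {R : Type u} [CommRing R] [IsDomain R] {M : Type u} [AddCommGroup M] [Module R M]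
    [Module.Finite R M] (m : M) (hm : ∀ r : R, r ≠ 0 → r • m ≠ 0) : ∃ ψ : M →ₗ[R] R, ψ m ≠ 0 := by
  classical
  let K := FractionRing R
  let ι := LocalizedModule.mkLinearMap R⁰ M
  let L := LocalizedModule R⁰ M
  have hιm : ι m ≠ 0 := fun h => by
    obtain ⟨c, hc⟩ := IsLocalizedModule.exists_of_eq (S := R⁰) (f := ι) (x₁ := m) (x₂ := 0)
      (h.trans (map_zero ι).symm)
    exact hm c (nonZeroDivisors.ne_zero c.2) (hc.trans (smul_zero _))
  obtain ⟨f, hf⟩ : ∃ f : L →ₗ[K] K, f (ι m) ≠ 0 := by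
    by_contra h
    exact hιm ((Module.forall_dual_apply_eq_zero_iff K (ι m)).1 fun f => not_not.1 fun hf => h ⟨f, hf⟩)
  let F : M →ₗ[R] K := (f.restrictScalars R) ∘ₗ ι
  obtain ⟨s, hs⟩ := Module.Finite.fg_top (R := R) (M := M)
  obtain ⟨b, hb⟩ := IsLocalization.exist_integer_multiples_of_finset R⁰ (s.image F)
  have hrange : ∀ x : M, (b : R) • F x ∈ (Algebra.linearMap R K).range := fun x => by
    have hx : x ∈ Submodule.span R (s : Set M) := hs.ge trivial
    induction hx using Submodule.span_induction with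
    | mem y hy =>
      obtain ⟨r, hr⟩ := hb _ (Finset.mem_image_of_mem F hy)
      exact ⟨r, hr⟩
    | zero => rw [map_zero, smul_zero]; exact zero_mem _
    | add y z _ _ hy hz => rw [map_add, smul_add]; exact add_mem hy hz
    | smul r y _ hy => rw [map_smul, smul_comm]; exact Submodule.smul_mem _ r hy
  let e := LinearEquiv.ofInjective (Algebra.linearMap R K) (IsFractionRing.injective R K)
  refine ⟨e.symm.toLinearMap ∘ₗ ((b : R) • F).codRestrict _ hrange, fun h => hf ?_⟩
  have h1 := e.symm.map_eq_zero_iff.1 h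
  have h2 : (b : R) • F m = 0 := congrArg Subtype.val h1
  exact (smul_eq_zero.1 h2).resolve_left (nonZeroDivisors.ne_zero b.2)

/-- On an integral affine scheme `Spec R` nonzero germs at the generic point give torsion free elements. -/
theorem smul_ne_zero_of_germ {X : Scheme.{u}} [IsIntegral X] (M : X.Modules) {U : X.Opens}
    (hU : genericPoint X ∈ U) (m : Γ(M, U)) (hm : M.presheaf.germ U _ hU m ≠ 0) (r : Γ(X, U)) (hr : r ≠ 0) :
    r • m ≠ 0 := by
  intro h
  refine hm ((IsUnit.smul_eq_zero (?_ : IsUnit (X.presheaf.germ U _ hU r))).1 ?_)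
  · refine isUnit_iff_ne_zero.2 fun h0 => hr ?_
    exact germ_injective_of_isIntegral X _ hU (h0.trans (map_zero _).symm)
  · rw [← QCohLoc.germ_smul', h, map_zero]

/-- A nontrivial generic stalk gives a global element without torsion on an affine scheme. -/
theorem exists_torsionFree {R : CommRingCat.{u}} [IsDomain R] (M : (Spec R).Modules) [Coh.IsQCoh M]
    (h : Nontrivial (M.presheaf.stalk (genericPoint (Spec R)))) :
    ∃ m : moduleSpecΓFunctor.obj M, ∀ r : R, r ≠ 0 → r • m ≠ 0 := by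
  obtain ⟨a, ha⟩ := exists_ne (0 : M.presheaf.stalk (genericPoint (Spec R)))
  obtain ⟨f, m, hf, hfm⟩ := QCohLoc.exists_smul_stalk_eq_germ M (isAffineOpen_top _) (Opens.mem_top _) a
  have hm : M.presheaf.germ ⊤ _ (Opens.mem_top _) m ≠ 0 := fun h0 =>
    ha ((((Scheme.mem_basicOpen _ _ _ (Opens.mem_top _)).1 hf).smul_eq_zero).1 (hfm.trans h0))
  refine ⟨m, fun r hr h0 => ?_⟩
  refine smul_ne_zero_of_germ M (Opens.mem_top _) m hm ((Scheme.ΓSpecIso R).inv r) (fun h1 => hr ?_) ?_
  · have h2 := congrArg (Scheme.ΓSpecIso R).hom h1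
    rwa [Iso.inv_hom_id_apply, map_zero] at h2
  · exact (Scheme.Modules.smul_Spec_def (M := M) (U := ⊤) r m).symm.trans h0

/-- Coherent modules nonzero at the generic point of an affine integral scheme are related by a nonzero map. -/
theorem exists_hom_ne_zero {R : CommRingCat.{u}} [IsDomain R] [IsNoetherianRing R] {M W : (Spec R).Modules}
    (hM : Coh.IsCoh M) [Coh.IsQCoh W] (hMη : Nontrivial (M.presheaf.stalk (genericPoint (Spec R))))
    (hWη : Nontrivial (W.presheaf.stalk (genericPoint (Spec R)))) : ∃ u : M ⟶ W, u ≠ 0 := by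
  haveI := hM.1
  obtain ⟨m, hm⟩ := exists_torsionFree M hMη
  obtain ⟨s, hs⟩ := exists_torsionFree W hWη
  haveI : Module.Finite R (moduleSpecΓFunctor.obj M) := by
    haveI := ((isCoh_iff_finite_sections M).1 hM).2 ⊤ (isAffineOpen_top _)
    obtain ⟨G, hG⟩ := Module.Finite.fg_top (R := Γ(Spec R, ⊤)) (M := Γ(M, ⊤))
    refine ⟨⟨G, eq_top_iff.2 fun x _ => ?_⟩⟩
    have hx : (show Γ(M, ⊤) from x) ∈ Submodule.span Γ(Spec R, ⊤) (G : Set Γ(M, ⊤)) := hG.ge trivial
    suffices key : ∀ y : Γ(M, ⊤), y ∈ Submodule.span Γ(Spec R, ⊤) (G : Set Γ(M, ⊤)) →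
        (show moduleSpecΓFunctor.obj M from y) ∈ Submodule.span R (show Set (moduleSpecΓFunctor.obj M) from (G : Set Γ(M, ⊤))) from
      key x hx
    intro y hy
    induction hy using Submodule.span_induction with
    | mem z hz => exact Submodule.subset_span hz
    | zero => exact zero_mem _
    | add a b _ _ ha hb => exact add_mem ha hb
    | smul c a _ ha =>
      obtain ⟨c, rfl⟩ : ∃ c' : R, (Scheme.ΓSpecIso R).inv c' = c := ⟨_, Iso.hom_inv_id_apply _ _⟩
      have := Submodule.smul_mem _ c ha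
      rwa [show c • (show moduleSpecΓFunctor.obj M from a) = (show moduleSpecΓFunctor.obj M from
        (Scheme.ΓSpecIso R).inv c • a) from Scheme.Modules.smul_Spec_def (M := M) (U := ⊤) c a] at this
  obtain ⟨ψ, hψ⟩ := exists_form_ne_zero m hm
  let l : moduleSpecΓFunctor.obj M ⟶ moduleSpecΓFunctor.obj W :=
    ModuleCat.ofHom (X := (moduleSpecΓFunctor.obj M : ModuleCat R)) (Y := (moduleSpecΓFunctor.obj W : ModuleCat R))
      (LinearMap.toSpanSingleton R (moduleSpecΓFunctor.obj W : ModuleCat R) s ∘ₗ ψ)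
  have hl : l ≠ 0 := fun h => hs (ψ m) hψ (LinearMap.congr_fun (congrArg ModuleCat.Hom.hom h) m)
  haveI : IsIso M.fromTildeΓ := (isQuasicoherent_iff_isIso_fromTildeΓ M).1 inferInstance
  haveI : IsIso W.fromTildeΓ := (isQuasicoherent_iff_isIso_fromTildeΓ W).1 inferInstance
  refine ⟨inv M.fromTildeΓ ≫ tilde.map l ≫ W.fromTildeΓ, fun h => hl ?_⟩
  rw [Preadditive.IsIso.comp_left_eq_zero, Preadditive.IsIso.comp_right_eq_zero] at h
  haveI : (moduleSpecΓFunctor (R := R)).Additive := Adjunction.right_adjoint_additive tilde.adjunction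
  have hn := (tilde.toTildeΓNatIso (R := R)).hom.naturality l
  dsimp at hn
  rw [show (moduleSpecΓFunctor (R := R)).map ((tilde.functor R).map l) = 0 from
    (congrArg (moduleSpecΓFunctor (R := R)).map h).trans (Functor.map_zero _ _ _), comp_zero] at hn
  exact (cancel_mono (tilde.toTildeΓNatIso.app _).hom).1 (hn.trans zero_comp.symm)

/-- The preimage of an open over which a dense open is proper is that open. -/
theorem preimage_eq_of_proper {U U' Y Z : Scheme.{u}} (t : U ⟶ Y) [IsOpenImmersion t] (hd : DenseRange t)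
    (p : Y ⟶ Z) [IsSeparated p] (j : U' ⟶ Z) [IsOpenImmersion j] (r : U ⟶ U') [IsProper r]
    (e : r ≫ j = t ≫ p) : p ⁻¹ᵁ j.opensRange = t.opensRange := by
  have hsub : Set.range t ⊆ ((p ⁻¹ᵁ j.opensRange : Y.Opens) : Set Y) := by
    rintro _ ⟨x, rfl⟩
    exact ⟨r x, by rw [← Scheme.Hom.comp_apply, e, Scheme.Hom.comp_apply]⟩
  let t' : U ⟶ (p ⁻¹ᵁ j.opensRange : Y.Opens) :=
    IsOpenImmersion.lift (p ⁻¹ᵁ j.opensRange).ι t (by rw [Scheme.Opens.range_ι]; exact hsub)
  have ht' : t' ≫ (p ⁻¹ᵁ j.opensRange).ι = t := IsOpenImmersion.lift_fac _ _ _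
  have hfac : t' ≫ (p ∣_ j.opensRange) = r ≫ j.isoOpensRange.hom := by
    rw [← cancel_mono j.opensRange.ι, Category.assoc, morphismRestrict_ι, reassoc_of% ht', Category.assoc,
      Scheme.Hom.isoOpensRange_hom_ι, e]
  haveI : IsProper (t' ≫ (p ∣_ j.opensRange)) := by rw [hfac]; infer_instance
  haveI : IsSeparated (p ∣_ j.opensRange) := inferInstance
  haveI : IsProper t' := IsProper.of_comp t' (p ∣_ j.opensRange)
  refine le_antisymm (fun y hy => ?_) hsub
  have hclosed : IsClosed (Set.range t') := t'.isClosedMap.isClosed_range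
  have hy' : (⟨y, hy⟩ : (p ⁻¹ᵁ j.opensRange : Y.Opens)) ∈ closure (Set.range t') := by
    refine mem_closure_iff.2 fun O hO hyO => ?_
    obtain ⟨O', hO', rfl⟩ := isOpen_induced_iff.1 hO
    obtain ⟨_, ⟨hwO, hwU⟩, ⟨x, rfl⟩⟩ := hd.inter_open_nonempty (O' ∩ (p ⁻¹ᵁ j.opensRange : Y.Opens))
      (hO'.inter (p ⁻¹ᵁ j.opensRange).isOpen) ⟨y, hyO, hy⟩
    refine ⟨t' x, ?_, x, rfl⟩
    show (p ⁻¹ᵁ j.opensRange).ι (t' x) ∈ O'
    rw [← Scheme.Hom.comp_apply, ht']
    exact hwO
  rw [hclosed.closure_eq] at hy'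
  obtain ⟨x, hx⟩ := hy'
  refine ⟨x, ?_⟩
  rw [← ht', Scheme.Hom.comp_apply, hx]
  rfl

/-- Dimension of a nonempty open of an integral scheme of finite type over a field. -/
theorem dim_open_of_integral {k : Type u} [Field k] {Z W : Scheme.{u}} [IsIntegral Z] (p : Z ⟶ Spec (CommRingCat.of k))
    [LocallyOfFiniteType p] (j : W ⟶ Z) [IsOpenImmersion j] [Nonempty W] :
    topologicalKrullDim W = topologicalKrullDim Z := by
  have hη : genericPoint Z ∈ j.opensRange := ((genericPoint_spec Z).mem_open_set_iff j.opensRange.2).2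
    ⟨_, trivial, ⟨Classical.arbitrary W, rfl⟩⟩
  have h := Lichtenbaum.dim_inter_closure p j.opensRange hη
  rw [genericPoint_closure, Set.inter_univ] at h
  rw [← EGA43.DimFormula.topologicalKrullDim_eq_of_range j j.isOpenEmbedding.isEmbedding _ rfl]
  exact h.trans (IsHomeomorph.topologicalKrullDim_eq _ (Homeomorph.Set.univ (Z : Type u)).isHomeomorph)

variable (k : Type u) [Field k]

/-- Top cohomology of a proper integral scheme over a field does not vanish. -/
theorem exists_not_subsingleton_HH (Z : Scheme.{u}) [Z.Over (Spec (CommRingCat.of k))]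
    [IsProper (Z ↘ Spec (CommRingCat.of k))] [IsIntegral Z] {d : ℕ} (hdim : topologicalKrullDim Z = d) :
    ∃ W : Z.Modules, Coh.IsCoh W ∧ ¬ Subsingleton (Coh.HH Z W d) := by
  classical
  haveI := EulerLib.isNoetherian_of_proper (k := k) (X := Z)
  let f := Z ↘ Spec (CommRingCat.of k)
  haveI := DCat.hasRpush f
  obtain ⟨A, hA⟩ := Dual22Lib.RepLib.exists_repObj f (DualCoh.PS k)
  haveI hAGE := DualCoh.isGE_rep k Z hdim.le hA
  have hAc := DualCoh.isCohD_rep k Z hA
  refine ⟨_, (Dual22Lib.FinHom.isCohD_shift hAc (-(d : ℤ))) 0, DualCoh.not_subsingleton_of_rep k Z hdim.le hA fun hz => ?_⟩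
  replace hz : IsZero (DCoh.HD A (-(d : ℤ))) := hz.of_iso (hdShift A (-(d : ℤ))).symm
  -- an affine open and a Noether normalisation
  obtain ⟨V, hV, hηV, -⟩ := exists_isAffineOpen_mem_and_subset (x := genericPoint Z) (U := (⊤ : Z.Opens)) trivial
  let B : CommRingCat.{u} := Γ(Z, V)
  let ι : Spec B ⟶ Z := hV.fromSpec
  haveI : Nonempty (Spec B) := ⟨hV.primeIdealOf ⟨_, hηV⟩⟩
  haveI : IsIntegral (Spec B) := isIntegral_of_isOpenImmersion ι
  haveI : IsDomain B := (affine_isIntegral_iff B).1 inferInstance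
  let φ : CommRingCat.of k ⟶ B := Spec.preimage (ι ≫ f)
  letI : Algebra k B := φ.hom.toAlgebra
  haveI : Algebra.FiniteType k B := by
    refine (HasRingHomProperty.Spec_iff (P := @LocallyOfFiniteType) (φ := φ)).1 ?_
    rw [Spec.map_preimage]
    infer_instance
  obtain ⟨s, g, hginj, hgfin⟩ := exists_finite_inj_algHom_of_fg k B
  have hBdim : ringKrullDim B = (d : WithBot ℕ∞) := by
    rw [← PrimeSpectrum.topologicalKrullDim_eq_ringKrullDim B, ← hdim]
    exact dim_open_of_integral f ι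
  obtain rfl : s = d := by
    letI := g.toRingHom.toAlgebra
    haveI : Module.Finite (MvPolynomial (Fin s) k) B := hgfin
    have h1 := DimLib.ringKrullDim_eq_of_isIntegral (R := MvPolynomial (Fin s) k) (S := B) hginj
    rw [hBdim, MvPolynomial.ringKrullDim_of_isNoetherianRing, ringKrullDim_eq_zero_of_field, zero_add,
      Nat.card_eq_fintype_card, Fintype.card_fin] at h1
    exact_mod_cast h1
  -- the chart of projective space
  let P := CohB1.ProjSpace s k
  let πP := CohB1.ProjSpace.toSpec s k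
  haveI : IsProper πP := Coherent.isProper_projSpace_toSpec s k
  haveI hPi : IsIntegral P := CurveLib.isIntegral_projSpace k s
  haveI : IsLocallyNoetherian P := LocallyOfFiniteType.isLocallyNoetherian πP
  haveI : CompactSpace P := QuasiCompact.compactSpace_of_compactSpace πP
  haveI : IsNoetherian P := { }
  haveI : IsProper (P ↘ Spec (CommRingCat.of k)) := ‹IsProper πP›
  have hPdim : topologicalKrullDim P = (s : WithBot ℕ∞) := DimLib.PN.topologicalKrullDim_projSpace s k
  let A₀ := HomogeneousLocalization.Away (CohB1.polyGrading s k) (MvPolynomial.X 0)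
  let aw : Spec (CommRingCat.of A₀) ⟶ P := Proj.awayι (CohB1.polyGrading s k) (MvPolynomial.X 0)
    (ProjLib.X_mem_polyGrading s k 0) one_pos
  let χ₀ : A₀ →+* MvPolynomial (Fin s) k := Coherent.chartEval s k MvPolynomial.X
  have hχ₀ : Function.Surjective χ₀ := Coherent.chartEval_surjective s k MvPolynomial.X MvPolynomial.adjoin_range_X
  haveI : Nontrivial A₀ := χ₀.domain_nontrivial
  haveI : Nonempty (Spec (CommRingCat.of A₀)) := inferInstanceAs (Nonempty (PrimeSpectrum A₀))
  haveI : IsIntegral (Spec (CommRingCat.of A₀)) := isIntegral_of_isOpenImmersion aw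
  haveI hA₀d : IsDomain A₀ := (affine_isIntegral_iff (CommRingCat.of A₀)).1 inferInstance
  have hχ₀inj : Function.Injective χ₀ := by
    refine (injective_iff_map_eq_zero χ₀).2 fun r hr => not_not.1 fun hr0 => ?_
    have h1 : ringKrullDim A₀ = (s : WithBot ℕ∞) := by
      rw [← PrimeSpectrum.topologicalKrullDim_eq_ringKrullDim A₀, ← hPdim]
      exact dim_open_of_integral πP aw
    have h2 := ringKrullDim_quotient_succ_le_of_nonZeroDivisor (mem_nonZeroDivisors_of_ne_zero hr0)
    have h3 : ringKrullDim (MvPolynomial (Fin s) k) ≤ ringKrullDim (A₀ ⧸ Ideal.span {r}) :=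
      ringKrullDim_le_of_surjective (Ideal.Quotient.lift (Ideal.span {r}) χ₀ fun a ha => by
        obtain ⟨b, rfl⟩ := Ideal.mem_span_singleton.1 ha
        rw [map_mul, hr, zero_mul])
        (Ideal.Quotient.lift_surjective_of_surjective _ _ hχ₀)
    rw [MvPolynomial.ringKrullDim_of_isNoetherianRing, ringKrullDim_eq_zero_of_field, zero_add,
      Nat.card_eq_fintype_card, Fintype.card_fin] at h3
    rw [h1] at h2
    have h4 := (add_le_add_left h3 1).trans h2
    exact absurd (show s + 1 ≤ s by exact_mod_cast h4) (by omega)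
  let χ : A₀ →+* B := g.toRingHom.comp χ₀
  have hχfin : χ.Finite := RingHom.Finite.comp hgfin (RingHom.Finite.of_surjective _ hχ₀)
  let sc : Spec B ⟶ Spec (CommRingCat.of A₀) := Spec.map (CommRingCat.ofHom χ)
  haveI : IsFinite sc := (IsFinite.SpecMap_iff _).2 hχfin
  have hover : sc ≫ aw ≫ πP = ι ≫ f := by
    rw [← Spec.map_preimage (ι ≫ f)]
    rw [show aw ≫ πP = Spec.map (CommRingCat.ofHom (ProjLib.toAway s k (MvPolynomial.X 0))) from
      ProjLib.awayι_toSpec s k (ProjLib.X_mem_polyGrading s k 0) one_pos]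
    rw [← Spec.map_comp]
    refine congrArg Spec.map (CommRingCat.hom_ext (RingHom.ext fun r => ?_))
    show g (χ₀ (ProjLib.toAway s k (MvPolynomial.X 0) r)) = φ.hom r
    rw [show χ₀ (ProjLib.toAway s k (MvPolynomial.X 0) r) = algebraMap k (MvPolynomial (Fin s) k) r from
      Coherent.chartEval_toAway s k MvPolynomial.X r, AlgHom.commutes]
    rfl
  -- the graph closure
  let m : Spec B ⟶ pullback f πP := pullback.lift ι (sc ≫ aw) (by rw [Category.assoc, hover])
  haveI : IsImmersion m := by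
    have : IsImmersion (m ≫ pullback.fst f πP) := by rw [pullback.lift_fst]; infer_instance
    exact IsImmersion.of_comp m (pullback.fst f πP)
  haveI : IsSeparated (pullback.fst f πP) := inferInstance
  haveI : QuasiCompact m := by
    have : QuasiCompact (m ≫ pullback.fst f πP) := by rw [pullback.lift_fst]; infer_instance
    exact QuasiCompact.of_comp m (pullback.fst f πP)
  let Y := m.image
  let t : Spec B ⟶ Y := m.toImage
  haveI : IsOpenImmersion t := inferInstanceAs (IsOpenImmersion m.toImage)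
  have htd : DenseRange t := (inferInstance : IsDominant m.toImage).denseRange
  let p : Y ⟶ Z := m.imageι ≫ pullback.fst f πP
  let q : Y ⟶ P := m.imageι ≫ pullback.snd f πP
  haveI : IsProper (pullback.fst f πP) :=
    MorphismProperty.of_isPullback (P := @IsProper) (IsPullback.of_hasPullback f πP).flip ‹IsProper πP›
  haveI : IsProper (pullback.snd f πP) :=
    MorphismProperty.of_isPullback (P := @IsProper) (IsPullback.of_hasPullback f πP) ‹IsProper f›
  haveI : IsProper p := inferInstance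
  haveI : IsProper q := inferInstance
  have htp : t ≫ p = ι := by
    show m.toImage ≫ m.imageι ≫ pullback.fst f πP = ι
    rw [Scheme.Hom.toImage_imageι_assoc, pullback.lift_fst]
  have htq : t ≫ q = sc ≫ aw := by
    show m.toImage ≫ m.imageι ≫ pullback.snd f πP = sc ≫ aw
    rw [Scheme.Hom.toImage_imageι_assoc, pullback.lift_snd]
  have hpq : p ≫ f = q ≫ πP := by
    show (m.imageι ≫ pullback.fst f πP) ≫ f = (m.imageι ≫ pullback.snd f πP) ≫ πP
    rw [Category.assoc, Category.assoc, pullback.condition]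
  haveI : CompactSpace Y := QuasiCompact.compactSpace_of_compactSpace p
  haveI : QuasiSeparatedSpace Y := quasiSeparatedSpace_of_quasiSeparated p
  obtain ⟨A', hA'⟩ := Dual22Lib.RepLib.exists_repObj (p ≫ f) (DualCoh.PS k)
  -- the side of `Z`
  let V₁ : Z.Opens := ι.opensRange
  haveI : IsIso (p ∣_ V₁) := by
    have hpre : p ⁻¹ᵁ V₁ = t.opensRange := preimage_eq_of_proper t htd p ι (𝟙 _) (by rw [Category.id_comp, htp])
    let t' : Spec B ⟶ (p ⁻¹ᵁ V₁ : Y.Opens) := IsOpenImmersion.lift (p ⁻¹ᵁ V₁).ι t (by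
      rw [Scheme.Opens.range_ι, hpre]; rfl)
    have ht' : t' ≫ (p ⁻¹ᵁ V₁).ι = t := IsOpenImmersion.lift_fac _ _ _
    haveI : IsIso t' := by
      haveI : IsOpenImmersion (t' ≫ (p ⁻¹ᵁ V₁).ι) := by rw [ht']; infer_instance
      haveI : IsOpenImmersion t' := IsOpenImmersion.of_comp t' (p ⁻¹ᵁ V₁).ι
      haveI : Surjective t' := ⟨fun y => by
        obtain ⟨x, hx⟩ : y.1 ∈ Set.range t := hpre.le y.2
        exact ⟨x, Subtype.ext (by rw [← hx, ← ht']; rfl)⟩⟩
      exact isIso_of_isOpenImmersion_of_opensRange_eq_top t' (Opens.ext (Set.range_eq_univ.2 (Surjective.surj (f := t'))))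
    have hfac : t' ≫ (p ∣_ V₁) = ι.isoOpensRange.hom := by
      rw [← cancel_mono V₁.ι, Category.assoc, morphismRestrict_ι, reassoc_of% ht', htp,
        Scheme.Hom.isoOpensRange_hom_ι]
    haveI : IsIso (t' ≫ (p ∣_ V₁)) := by rw [hfac]; infer_instance
    exact IsIso.of_isIso_comp_left t' _
  have hzero : ∀ i ≤ -(s : ℤ), IsZero (DCoh.HD ((DCoh.restrictD (p ⁻¹ᵁ V₁).ι).obj A') i) := fun i hi => by
    refine isZero_HD_of_isIso f p hA (-(s : ℤ)) hA' V₁ i ?_
    rcases lt_or_eq_of_le hi with h | h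
    · exact DerivedCategory.isZero_of_isGE A (-(s : ℤ)) i h
    · exact h ▸ hz
  -- the side of projective space
  haveI := DCat.hasRpush πP
  haveI : DCoh.HasRpush (P ↘ Spec (CommRingCat.of k)) := DCat.hasRpush _
  obtain ⟨AP, hAP⟩ := Dual22Lib.RepLib.exists_repObj πP (DualCoh.PS k)
  haveI : AP.IsGE (-(s : ℤ)) := DualCoh.isGE_rep k P hPdim.le hAP
  haveI : DCoh.HasRpush (P ↘ Spec (CommRingCat.of k)) := DCat.hasRpush _
  haveI : Coh.IsQCoh (Twist.twistProjSpace s k (-((s : ℤ) + 1 + (0 : ℕ)))) := Coherent.isQCoh_twistProjSpace _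
  have hPns : ¬ Subsingleton (Coh.HH P (Twist.twistProjSpace s k (-((s : ℤ) + 1 + (0 : ℕ)))) s) := fun hsub => by
    obtain ⟨e⟩ := Coherent.nonempty_HH_top_twist s k 0
    haveI := hsub
    haveI := e.symm.toEquiv.subsingleton
    exact one_ne_zero (α := MvPolynomial (Fin (s + 1)) k)
      (congrArg Subtype.val (Subsingleton.elim (⟨1, MvPolynomial.isHomogeneous_one _ _⟩ :
        MvPolynomial.homogeneousSubmodule (Fin (s + 1)) k 0) 0))
  have hWP := nontrivial_stalk_rep k P hPdim.le _ hPns hAP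
  let O : P.Opens := aw.opensRange
  have hpre : q ⁻¹ᵁ O = t.opensRange := preimage_eq_of_proper t htd q aw sc htq.symm
  have hpreeq : q ⁻¹ᵁ O = p ⁻¹ᵁ V₁ :=
    hpre.trans (preimage_eq_of_proper t htd p ι (𝟙 _) (by rw [Category.id_comp, htp])).symm
  have hgE : Dual22Lib.RepLib.RepObj (q ∣_ O) ((DCoh.restrictD O.ι).obj AP) ((DCoh.restrictD (q ⁻¹ᵁ O).ι).obj A') :=
    exists_restrict_rep πP q hAP (-(s : ℤ)) (hA'.congr hpq) O
  haveI := Dual22Lib.CohTors.isGE_restrictD O.ι (L := AP) (-(s : ℤ)) ‹AP.IsGE (-(s : ℤ))›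
  haveI : ((DCoh.restrictD (q ⁻¹ᵁ O).ι).obj A').IsGE (-(s : ℤ)) := (DerivedCategory.isGE_iff _ _).2 fun i hi =>
    hpreeq ▸ hzero i hi.le
  haveI : IsAffine (O : Scheme.{u}) := isAffineOpen_opensRange aw
  let eO : Spec (CommRingCat.of A₀) ≅ (O : Scheme.{u}) := aw.isoOpensRange
  let t'' : Spec B ⟶ (q ⁻¹ᵁ O : Y.Opens) := IsOpenImmersion.lift (q ⁻¹ᵁ O).ι t (by
    rw [Scheme.Opens.range_ι, hpre]; rfl)
  have ht'' : t'' ≫ (q ⁻¹ᵁ O).ι = t := IsOpenImmersion.lift_fac _ _ _
  haveI : IsIso t'' := by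
    haveI : IsOpenImmersion (t'' ≫ (q ⁻¹ᵁ O).ι) := by rw [ht'']; infer_instance
    haveI : IsOpenImmersion t'' := IsOpenImmersion.of_comp t'' (q ⁻¹ᵁ O).ι
    haveI : Surjective t'' := ⟨fun y => by
      obtain ⟨x, hx⟩ : y.1 ∈ Set.range t := hpre.le y.2
      exact ⟨x, Subtype.ext (by rw [← hx, ← ht'']; rfl)⟩⟩
    exact isIso_of_isOpenImmersion_of_opensRange_eq_top t'' (Opens.ext (Set.range_eq_univ.2 (Surjective.surj (f := t''))))
  have hfacq : t'' ≫ (q ∣_ O) = sc ≫ eO.hom := by
    rw [← cancel_mono O.ι, Category.assoc, morphismRestrict_ι, reassoc_of% ht'', htq, Category.assoc,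
      Scheme.Hom.isoOpensRange_hom_ι]
  haveI : IsFinite (q ∣_ O) := by
    have : q ∣_ O = inv t'' ≫ sc ≫ eO.hom := by rw [← hfacq, IsIso.inv_hom_id_assoc]
    rw [this]
    infer_instance
  haveI : IsLocallyNoetherian (O : Scheme.{u}) := inferInstance
  haveI : IsLocallyNoetherian ((q ⁻¹ᵁ O : Y.Opens) : Scheme.{u}) := LocallyOfFiniteType.isLocallyNoetherian (q ∣_ O)
  let N := Coh.structureModule ((q ⁻¹ᵁ O : Y.Opens) : Scheme.{u})
  haveI : Coh.IsQCoh N := isQCoh_structureModule
  suffices hu : ∃ u : (Coh.push (q ∣_ O)).obj N ⟶ DCoh.HD ((DCoh.restrictD O.ι).obj AP) (-(s : ℤ)), u ≠ 0 by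
    obtain ⟨u, hu⟩ := hu
    exact not_isZero_of_hom (q ∣_ O) hgE (-(s : ℤ)) N u hu (hpreeq ▸ hzero _ le_rfl)
  haveI := DCat.PullPerf.preservesFiniteLimits_restrict O.ι
  let W := DCoh.HD AP (-(s : ℤ))
  have hW : Nontrivial (W.presheaf.stalk (genericPoint P)) :=
    nontrivial_stalk_of_mono (hdShift AP (-(s : ℤ))).hom hWP
  let R : CommRingCat.{u} := CommRingCat.of A₀
  haveI : IsNoetherianRing R := isNoetherianRing_of_ringEquiv (MvPolynomial (Fin s) k)
    (RingEquiv.ofBijective χ₀ ⟨hχ₀inj, hχ₀⟩).symm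
  let G := Scheme.Modules.restrictFunctor eO.hom
  let M₀ := G.obj ((Coh.push (q ∣_ O)).obj N)
  let W₀ := G.obj (W.restrict O.ι)
  haveI : Coh.IsQCoh W := hAP.mem _
  haveI : Coh.IsQCoh W₀ := (inferInstance : Coh.IsQCoh ((W.restrict O.ι).restrict eO.hom))
  have hNc : Coh.IsCoh ((Coh.push (q ∣_ O)).obj N) := isCoh_push_finite (q ∣_ O) (isCoh_structureModule _)
  have hM₀ : Coh.IsCoh M₀ := AmpleLib.isCoh_restrict eO.hom _ hNc
  let η₀ := genericPoint (Spec R)
  have hηP : eO.hom η₀ ∈ (⊤ : (O : Scheme.{u}).Opens) := trivial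
  have hWη : Nontrivial (W₀.presheaf.stalk η₀) := by
    have h1 : (O.ι (eO.hom η₀) : P) = genericPoint P := by
      rw [← Scheme.Hom.comp_apply, Scheme.Hom.isoOpensRange_hom_ι]
      exact genericPoint_eq_of_isOpenImmersion aw
    have h2 : Nontrivial (W.presheaf.stalk (O.ι (eO.hom η₀))) := h1 ▸ hW
    exact @Equiv.nontrivial _ _ (((Scheme.Modules.restrictStalkNatIso eO.hom η₀).app (W.restrict O.ι)).addCommGroupIsoToAddEquiv.trans
      ((Scheme.Modules.restrictStalkNatIso O.ι (eO.hom η₀)).app W).addCommGroupIsoToAddEquiv).toEquiv h2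
  have hMη : Nontrivial (M₀.presheaf.stalk η₀) := by
    have h2 : Nontrivial (((Coh.push (q ∣_ O)).obj N).presheaf.stalk (eO.hom η₀)) := by
      by_contra hn
      rw [not_nontrivial_iff_subsingleton] at hn
      obtain ⟨W', hηW', i₁, i₂, e⟩ := TopCat.Presheaf.germ_eq ((Coh.push (q ∣_ O)).obj N).presheaf
        (U := (⊤ : (O : Scheme.{u}).Opens)) (V := ⊤) (eO.hom η₀) trivial trivial
        (show Γ((Coh.push (q ∣_ O)).obj N, ⊤) from
          (show Γ(((q ⁻¹ᵁ O : Y.Opens) : Scheme.{u}), ⊤) from (1 : Γ(((q ⁻¹ᵁ O : Y.Opens) : Scheme.{u}), ⊤)))) 0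
        (Subsingleton.elim _ _)
      have hsc : DenseRange sc := by
        refine (PrimeSpectrum.denseRange_comap_iff_ker_le_nilRadical _).2 ?_
        intro a ha
        have hχinj : Function.Injective χ := hginj.comp hχ₀inj
        rw [(injective_iff_map_eq_zero χ).1 hχinj a (RingHom.mem_ker.1 ha)]
        exact zero_mem _
      obtain ⟨w, hw, z, rfl⟩ := hsc.inter_open_nonempty ((eO.hom ⁻¹ᵁ W' : (Spec R).Opens) : Set (Spec R))
        (eO.hom ⁻¹ᵁ W').isOpen ⟨η₀, hηW'⟩
      have hz' : t'' z ∈ (q ∣_ O) ⁻¹ᵁ W' := by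
        show (q ∣_ O) (t'' z) ∈ W'
        rw [← Scheme.Hom.comp_apply, hfacq, Scheme.Hom.comp_apply]
        exact hw
      have e' : (1 : Γ(((q ⁻¹ᵁ O : Y.Opens) : Scheme.{u}), (q ∣_ O) ⁻¹ᵁ W')) = 0 := by
        have e1 := e.trans (map_zero _)
        exact ((map_one (((q ⁻¹ᵁ O : Y.Opens) : Scheme.{u}).presheaf.map
          (homOfLE (fun x hx => trivial : (q ∣_ O) ⁻¹ᵁ W' ≤ ⊤)).op).hom).symm).trans e1
      have h3 := congrArg (((q ⁻¹ᵁ O : Y.Opens) : Scheme.{u}).presheaf.germ _ (t'' z) hz') e'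
      rw [map_one, map_zero] at h3
      exact one_ne_zero h3
    exact @Equiv.nontrivial _ _
      (((Scheme.Modules.restrictStalkNatIso eO.hom η₀).app ((Coh.push (q ∣_ O)).obj N)).addCommGroupIsoToAddEquiv).toEquiv h2
  obtain ⟨u, hu⟩ := exists_hom_ne_zero (R := R) hM₀ hMη hWη
  let ei := DQCoh.AffineKProj17.restrictCompIdIso eO.symm
  let u' : (Coh.push (q ∣_ O)).obj N ⟶ W.restrict O.ι :=
    ei.inv.app _ ≫ (Scheme.Modules.restrictFunctor eO.inv).map u ≫ ei.hom.app _
  refine ⟨u' ≫ (DCat.SuppOpen.hdMapIso (Scheme.Modules.restrictFunctor O.ι) AP (-(s : ℤ))).inv, fun h => hu ?_⟩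
  rw [Preadditive.IsIso.comp_right_eq_zero, Preadditive.IsIso.comp_left_eq_zero,
    Preadditive.IsIso.comp_right_eq_zero] at h
  have hn := (DQCoh.AffineKProj17.restrictCompIdIso eO).hom.naturality u
  dsimp at hn
  rw [h, Functor.map_zero, zero_comp] at hn
  exact (cancel_epi ((DQCoh.AffineKProj17.restrictCompIdIso eO).hom.app _)).1 (hn.symm.trans comp_zero.symm)

end Groth.Agent.DualLib.Nonvanish
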