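import Groth.Agent.DualLib.ShriekAmpMain
import Mathlib.LinearAlgebra.Dual.Lemmas

/-! Maps out of the dual complex of a finite projective complex. -/

set_option autoImplicit false
set_option backward.isDefEq.respectTransparency false
set_option backward.defeqAttrib.useBackward true
set_option linter.style.haveILetI false

universe u

open CategoryTheory CategoryTheory.Limits CochainComplex CochainComplex.HomComplex

attribute [local instance] HasDerivedCategory.standard

namespace Groth.Agent.DualLib.Omega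

open Groth.Agent Groth.Agent.DualLib.Shriek

variable {P : Type u} [CommRing P] (F : DRing.Cx P)

/-- The dual complex. -/
noncomputable abbrev Cdual : DRing.Cx P := DRing.homCx F (sgl (P := P) P)

/-- The degree zero term of a single complex. -/
noncomputable abbrev σ0 (N : Type u) [AddCommGroup N] [Module P N] : (sgl (P := P) N).X 0 ≅ ModuleCat.of P N :=
  HomologicalComplex.singleObjXSelf (ComplexShape.up ℤ) 0 (ModuleCat.of P N)

/-- Evaluation at an element. -/
noncomputable def evC (p k : ℤ) (h : p + k = 0) (x : F.X p) : (Cdual F).X k ⟶ ModuleCat.of P P :=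
  ModuleCat.ofHom (X := (Cdual F).X k)
    ((LinearMap.applyₗ (R := P) x).comp (evSgl F P p k h).toLinearMap)

lemma evC_apply (p k : ℤ) (h : p + k = 0) (x : F.X p) (z : (Cdual F).X k) :
    evC F p k h x z = evSgl F P p k h z x := rfl

lemma evC_add (p k : ℤ) (h : p + k = 0) (x y : F.X p) :
    evC F p k h (x + y) = evC F p k h x + evC F p k h y :=
  ModuleCat.hom_ext (LinearMap.ext fun z => map_add (evSgl F P p k h z) x y)

lemma evC_smul (p k : ℤ) (h : p + k = 0) (a : P) (x : F.X p) : evC F p k h (a • x) = a • evC F p k h x :=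
  ModuleCat.hom_ext (LinearMap.ext fun z => map_smul (evSgl F P p k h z) a x)

/-- Differentials against evaluations. -/
lemma d_evC (p p' k k' : ℤ) (h : p + k = 0) (h' : p' + k' = 0) (hk : k' + 1 = k) (x : F.X p) :
    (Cdual F).d k' k ≫ evC F p k h x = k.negOnePow • evC F p' k' h' ((F.d p p').hom x) := by
  refine ModuleCat.hom_ext (LinearMap.ext fun (z : Cochain F (sgl (P := P) P) k') => ?_)
  obtain ⟨f, rfl⟩ := Cochain.toSingleMk_surjective z p' h'
  show (Cochain.toSingleEquiv h (δ k' k (Cochain.toSingleMk f h'))).hom x = _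
  rw [Cochain.δ_toSingleMk f h' k p h, Units.smul_def, map_zsmul, Cochain.toSingleEquiv_toSingleMk, Units.smul_def]
  show ((k.negOnePow : ℤ) • (F.d p p' ≫ f)).hom x =
    (k.negOnePow : ℤ) • (Cochain.toSingleEquiv h' (Cochain.toSingleMk f h')).hom ((F.d p p').hom x)
  rw [Cochain.toSingleEquiv_toSingleMk]
  simp

variable (hF : DRing.TermwiseFiniteProjective F)

include hF in
/-- Reflexivity. -/
lemma evC_bijective (p k : ℤ) (h : p + k = 0) : Function.Bijective (evC F p k h) := by
  let Q : Type u := F.X p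
  haveI : Module.Finite P Q := (hF p).1
  haveI : Module.Projective P Q := (hF p).2
  let e := evSgl F P p k h
  refine ⟨fun x y hxy => ?_, fun f => ?_⟩
  · refine (Module.evalEquiv P Q).injective (LinearMap.ext fun (φ : Q →ₗ[P] P) => ?_)
    have := congrArg (fun g : (Cdual F).X k ⟶ ModuleCat.of P P => g (e.symm φ)) hxy
    change evSgl F P p k h (e.symm φ) x = evSgl F P p k h (e.symm φ) y at this
    rw [show evSgl F P p k h (e.symm φ) = φ from e.apply_symm_apply φ] at this
    exact this
  · obtain ⟨x, hx⟩ := (Module.evalEquiv P Q).surjective (f.hom.comp e.symm.toLinearMap)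
    refine ⟨x, ModuleCat.hom_ext (LinearMap.ext fun z => ?_)⟩
    have := congrArg (fun g : Module.Dual P (Module.Dual P Q) => g (e z)) hx
    exact this.trans (congrArg f.hom (e.symm_apply_apply z))

include hF in
/-- The dual complex has projective terms. -/
lemma projective_Cdual (k : ℤ) : Module.Projective P ((Cdual F).X k) := by
  haveI := (hF (-k)).2
  haveI : Module.Finite P (F.X (-k)) := (hF (-k)).1
  exact Module.Projective.of_equiv (evSgl F P (-k) k (by omega)).symm

include hF in
lemma isKProjective_Cdual (n : ℕ) (hn : DRing.VanishesOutside F (-(n : ℤ)) 0) : (Cdual F).IsKProjective := by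
  refine DCat.isKProjective_of_vanishesAbove _ (n : ℤ) (fun i hi => ?_) (projective_Cdual F hF)
  haveI : Subsingleton (F.X (-i) →ₗ[P] P) := by
    haveI := ModuleCat.subsingleton_of_isZero (hn (-i) (by omega))
    infer_instance
  haveI : Subsingleton (Cochain F (sgl (P := P) P) i) := (evSgl F P (-i) i (by omega)).injective.subsingleton
  exact ModuleCat.isZero_of_subsingleton (ModuleCat.of P (Cochain F (sgl (P := P) P) i))

variable {F}
variable {M : Type u} [AddCommGroup M] [Module P M] (π : F ⟶ sgl (P := P) M) [QuasiIso π]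

lemma exactAt_of_ne {F : DRing.Cx P} (π : F ⟶ sgl (P := P) M) [QuasiIso π] (i : ℤ) (hi : i ≠ 0) : F.ExactAt i := by
  have h : (sgl (P := P) M).ExactAt i :=
    HomologicalComplex.ExactAt.of_isZero (HomologicalComplex.isZero_single_obj_X _ _ _ _ hi)
  exact (exactAt_iff_of_quasiIsoAt π i).2 h

include hF π in
/-- No maps from the dual complex to shifts of `P`. -/
theorem exactAt_bidual (i : ℤ) (hi : i ≠ 0) :
    (DRing.homCx (Cdual F) (sgl (P := P) P)).ExactAt i := by
  rw [HomologicalComplex.exactAt_iff' _ (i - 1) i (i + 1) (by simp) (by simp), ShortComplex.moduleCat_exact_iff]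
  intro (z : Cochain (Cdual F) _ i) hz
  obtain ⟨f, rfl⟩ := Cochain.toSingleMk_surjective z (-i) (by omega)
  obtain ⟨x, rfl⟩ := (evC_bijective F hF i (-i) (by omega)).2 f
  have h1 : (Cdual F).d (-(i + 1)) (-i) ≫ evC F i (-i) (by omega) x = 0 := by
    have h0 := congrArg (Cochain.toSingleEquiv (show -(i + 1) + (i + 1) = 0 by omega))
      (show δ i (i + 1) (Cochain.toSingleMk (evC F i (-i) (by omega) x) (show -i + i = 0 by omega)) = 0 from hz)
    rw [Cochain.δ_toSingleMk _ _ (i + 1) (-(i + 1)) (by omega), Units.smul_def, map_zsmul,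
      Cochain.toSingleEquiv_toSingleMk, map_zero] at h0
    exact (smul_eq_zero_iff_eq ((i + 1).negOnePow)).1 h0
  rw [d_evC F i (i + 1) (-i) (-(i + 1)) _ (by omega) (by omega) x] at h1
  have h2 : (F.d i (i + 1)).hom x = 0 := by
    refine (evC_bijective F hF (i + 1) (-(i + 1)) (by omega)).1 ?_
    have h3 := (smul_eq_zero_iff_eq _).1 h1
    rw [h3]
    exact (ModuleCat.hom_ext (LinearMap.ext fun z => (map_zero (evSgl F P (i + 1) (-(i + 1)) (by omega) z)).symm))
  have hex := exactAt_of_ne π i hi
  rw [HomologicalComplex.exactAt_iff' _ (i - 1) i (i + 1) (by simp) (by simp), ShortComplex.moduleCat_exact_iff] at hex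
  obtain ⟨y, hy⟩ := hex x h2
  refine ⟨(i.negOnePow * (-(i - 1)).negOnePow : ℤˣ) • (show Cochain (Cdual F) (sgl (P := P) P) (i - 1) from
    Cochain.toSingleMk (evC F (i - 1) (-(i - 1)) (by omega) y) (by omega)), ?_⟩
  show δ (i - 1) i ((i.negOnePow * (-(i - 1)).negOnePow : ℤˣ) •
    (Cochain.toSingleMk (evC F (i - 1) (-(i - 1)) (by omega) y) (show -(i - 1) + (i - 1) = 0 by omega))) = _
  rw [δ_units_smul, Cochain.δ_toSingleMk _ _ i (-i) (by omega),
    d_evC F (i - 1) i (-(i - 1)) (-i) _ (by omega) (by omega) y,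
    show (F.d (i - 1) i).hom y = x from hy]
  refine (Cochain.toSingleEquiv (show -i + i = 0 by omega)).injective ?_
  simp only [Units.smul_def, map_zsmul, Cochain.toSingleEquiv_toSingleMk, smul_smul, ← Units.val_mul]
  rw [show i.negOnePow * (-(i - 1)).negOnePow * i.negOnePow * (-(i - 1)).negOnePow = 1 by
    rw [mul_comm i.negOnePow, mul_assoc (-(i - 1)).negOnePow, Int.units_mul_self, mul_one, Int.units_mul_self],
    Units.val_one, one_smul]

/-- The chain map given by a cycle of degree zero. -/
noncomputable def evHom (x : F.X 0) (hx : (F.d 0 1).hom x = 0) : Cdual F ⟶ sgl (P := P) P :=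
  Cocycle.homOf (Cocycle.toSingleMk (evC F 0 0 rfl x) (add_zero 0) (-1) (by omega) (by
    rw [d_evC F 0 1 0 (-1) rfl (by omega) (by omega) x, hx]
    rw [show evC F 1 (-1) (by omega) 0 = 0 from
      ModuleCat.hom_ext (LinearMap.ext fun z => map_zero (evSgl F P 1 (-1) (by omega) z)), smul_zero]))

lemma evHom_f_zero (x : F.X 0) (hx : (F.d 0 1).hom x = 0) :
    (evHom x hx).f 0 = evC F 0 0 rfl x ≫ (σ0 (P := P) P).inv :=
  Cochain.toSingleMk_v (evC F 0 0 rfl x) (add_zero 0)

lemma hom_to_sgl_ext {K : DRing.Cx P} {N : Type u} [AddCommGroup N] [Module P N] {f g : K ⟶ sgl (P := P) N}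
    (h : f.f 0 = g.f 0) : f = g := by
  refine HomologicalComplex.hom_ext _ _ fun i => ?_
  by_cases hi : i = 0
  · subst hi; exact h
  · exact (HomologicalComplex.isZero_single_obj_X _ _ _ _ hi).eq_of_tgt _ _

lemma evHom_smul (a : P) (x : F.X 0) (hx : (F.d 0 1).hom x = 0) (hx' : (F.d 0 1).hom (a • x) = 0) :
    evHom (a • x) hx' = a • evHom x hx := by
  refine hom_to_sgl_ext ?_
  rw [HomologicalComplex.smul_f_apply, evHom_f_zero, evHom_f_zero, evC_smul, Linear.smul_comp]

include hF in
lemma exists_evHom (f : Cdual F ⟶ sgl (P := P) P) : ∃ (x : F.X 0) (hx : (F.d 0 1).hom x = 0), evHom x hx = f := by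
  let σ := σ0 (P := P) P
  obtain ⟨x, hx⟩ := (evC_bijective F hF 0 0 rfl).2 (f.f 0 ≫ σ.hom)
  have h0 : (Cdual F).d (-1) 0 ≫ evC F 0 0 rfl x = 0 := by
    rw [hx, ← Category.assoc, ← f.comm (-1) 0,
      (HomologicalComplex.isZero_single_obj_X (ComplexShape.up ℤ) 0 (ModuleCat.of P P) (-1) (by omega)).eq_of_tgt (f.f (-1)) 0,
      zero_comp, zero_comp]
  rw [d_evC F 0 1 0 (-1) rfl (by omega) (by omega) x, smul_eq_zero_iff_eq] at h0
  refine ⟨x, (evC_bijective F hF 1 (-1) (by omega)).1 (h0.trans ?_), hom_to_sgl_ext ?_⟩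
  · exact ModuleCat.hom_ext (LinearMap.ext fun z => (map_zero (evSgl F P 1 (-1) (by omega) z)).symm)
  · rw [evHom_f_zero, hx, Category.assoc, σ.hom_inv_id, Category.comp_id]

include hF in
/-- The kernel of evaluation. -/
theorem Q_evHom_eq_iff [(Cdual F).IsKProjective] (x x' : F.X 0) (hx : (F.d 0 1).hom x = 0) (hx' : (F.d 0 1).hom x' = 0) :
    DerivedCategory.Q.map (evHom x hx) = DerivedCategory.Q.map (evHom x' hx') ↔
      ∃ y : F.X (-1), (F.d (-1) 0).hom y = x - x' := by
  constructor
  · intro h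
    let q := HomotopyCategory.quotient (ModuleCat.{u} P) (ComplexShape.up ℤ)
    have hq : q.map (evHom x hx) = q.map (evHom x' hx') := by
      refine (IsKProjective.Qh_map_bijective _ _).1 ?_
      have h1 := (DerivedCategory.quotientCompQhIso (ModuleCat.{u} P)).hom.naturality (evHom x hx)
      have h2 := (DerivedCategory.quotientCompQhIso (ModuleCat.{u} P)).hom.naturality (evHom x' hx')
      rw [h, ← h2] at h1
      exact (cancel_mono _).1 h1
    let H := HomotopyCategory.homotopyOfEq _ _ hq
    have hc := H.comm 0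
    rw [evHom_f_zero, evHom_f_zero, dNext_eq _ (show (ComplexShape.up ℤ).Rel 0 1 by simp),
      prevD_eq _ (show (ComplexShape.up ℤ).Rel (-1) 0 by simp),
      (HomologicalComplex.isZero_single_obj_X (ComplexShape.up ℤ) 0 (ModuleCat.of P P) (-1) (by omega)).eq_of_tgt (H.hom 0 (-1)) 0] at hc
    simp only [zero_comp, add_zero] at hc
    let σ := σ0 (P := P) P
    obtain ⟨y, hy⟩ := (evC_bijective F hF (-1) 1 (by omega)).2 (H.hom 1 0 ≫ σ.hom)
    refine ⟨((0 : ℤ) + 1).negOnePow • y, (evC_bijective F hF 0 0 rfl).1 (ModuleCat.hom_ext (LinearMap.ext fun z => ?_))⟩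
    have h4 := d_evC F (-1) 0 1 0 (by omega) rfl (by omega) y
    rw [hy, ← Category.assoc] at h4
    have hc' := congrArg (fun g : (Cdual F).X 0 ⟶ _ => (g ≫ σ.hom) z) hc
    simp only [Preadditive.add_comp, Category.assoc, σ, Iso.inv_hom_id, Category.comp_id, h4, ModuleCat.hom_add,
      LinearMap.add_apply] at hc'
    rw [evC_apply, evC_apply] at hc'
    show evSgl F P 0 0 rfl z ((F.d (-1) 0).hom (((0 : ℤ) + 1).negOnePow • y)) = evSgl F P 0 0 rfl z (x - x')
    rw [map_sub, hc', add_sub_cancel_right, Units.smul_def, map_zsmul, map_zsmul]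
    simp [Units.smul_def]
    rfl
  · rintro ⟨y, hy⟩
    refine DerivedCategory.Q_map_eq_of_homotopy _ ?_
    refine (Homotopy.equivSubZero.symm ?_)
    let σ := σ0 (P := P) P
    let h' : ∀ i j, (ComplexShape.up ℤ).Rel j i → ((Cdual F).X i ⟶ (sgl (P := P) P).X j) := fun i j _ =>
      if hij : i = 1 ∧ j = 0 then
        ((Cdual F).XIsoOfEq hij.1).hom ≫ ((1 : ℤ).negOnePow • evC F (-1) 1 (by omega) y) ≫ σ.inv ≫
          ((sgl (P := P) P).XIsoOfEq hij.2.symm).hom
      else 0
    refine (Homotopy.ofEq ?_).trans (Homotopy.nullHomotopy' h')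
    refine hom_to_sgl_ext ?_
    have hh : h' 1 0 (by simp) = ((1 : ℤ).negOnePow • evC F (-1) 1 (by omega) y) ≫ σ.inv := by
      simp [h', HomologicalComplex.XIsoOfEq]
    have hh' : ∀ hr, h' 0 (-1) hr = 0 := fun hr => dif_neg (by omega)
    rw [Homotopy.nullHomotopicMap'_f (show (ComplexShape.up ℤ).Rel (-1) 0 by simp) (show (ComplexShape.up ℤ).Rel 0 1 by simp),
      hh, hh' (by simp)]
    simp only [zero_comp, add_zero]
    rw [Linear.units_smul_comp, Linear.comp_units_smul, ← Category.assoc,
      d_evC F (-1) 0 1 0 (by omega) rfl (by omega) y, Linear.units_smul_comp, smul_smul, Int.units_mul_self, one_smul,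
      hy, HomologicalComplex.sub_f_apply, evHom_f_zero, evHom_f_zero, ← Preadditive.sub_comp]
    congr 1
    exact ModuleCat.hom_ext (LinearMap.ext fun z => (map_sub (evSgl F P 0 0 rfl z) x x').symm)

include hF in
/-- Endomorphisms of the dual complex come from endomorphisms. -/
theorem exists_homPre (G : Cdual F ⟶ Cdual F) : ∃ s : F ⟶ F, DCat.homPre s (sgl (P := P) P) = G := by
  have hb : ∀ (p : ℤ) (x : F.X p), ∃ y : F.X p, evC F p (-p) (by omega) y = G.f (-p) ≫ evC F p (-p) (by omega) x :=
    fun p x => (evC_bijective F hF p (-p) (by omega)).2 _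
  choose t ht using hb
  let l : ∀ p, F.X p →ₗ[P] F.X p := fun p =>
    { toFun := t p
      map_add' := fun x y => (evC_bijective F hF p (-p) (by omega)).1 (by
        rw [ht, evC_add, evC_add, ht, ht, Preadditive.comp_add])
      map_smul' := fun a x => (evC_bijective F hF p (-p) (by omega)).1 (by
        rw [RingHom.id_apply, ht, evC_smul, evC_smul, ht, Linear.comp_smul]) }
  refine ⟨{ f := fun p => ModuleCat.ofHom (l p), comm' := ?_ }, ?_⟩
  · intro p p' hpp'
    obtain rfl : p + 1 = p' := hpp'
    refine ModuleCat.hom_ext (LinearMap.ext fun x => ?_)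
    show (F.d p (p + 1)).hom (t p x) = t (p + 1) ((F.d p (p + 1)).hom x)
    refine (evC_bijective F hF (p + 1) (-(p + 1)) (by omega)).1 ?_
    have h1 := d_evC F p (p + 1) (-p) (-(p + 1)) (by omega) (by omega) (by omega) (t p x)
    rw [ht p x, ← Category.assoc, ← G.comm (-(p + 1)) (-p), Category.assoc,
      d_evC F p (p + 1) (-p) (-(p + 1)) (by omega) (by omega) (by omega) x, Linear.comp_units_smul, ← ht] at h1
    exact (smul_left_cancel _ h1).symm
  · refine HomologicalComplex.hom_ext _ _ fun k => ModuleCat.hom_ext (LinearMap.ext fun (z : Cochain F _ k) => ?_)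
    refine (evSgl F P (-k) k (by omega)).injective (LinearMap.ext fun x => ?_)
    have h3 : evC F (-k) k (by omega) (t (-k) x) = G.f k ≫ evC F (-k) k (by omega) x := by
      have gen : ∀ (k' : ℤ) (hk : (-k) + k' = 0), k' = k →
          evC F (-k) k' hk (t (-k) x) = G.f k' ≫ evC F (-k) k' hk x →
          evC F (-k) k (by omega) (t (-k) x) = G.f k ≫ evC F (-k) k (by omega) x := by
        rintro k' hk rfl h; exact h
      exact gen (-(-k)) (by omega) (by omega) (ht (-k) x)
    refine Eq.trans ?_ (congrArg (fun g : (Cdual F).X k ⟶ ModuleCat.of P P => g z) h3)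
    rw [DCat.homPre_apply]
    show ((_ : Cochain F (sgl (P := P) P) k).v (-k) 0 (by omega) ≫ _).hom x = _
    rw [Cochain.zero_cochain_comp_v, Cochain.ofHom_v]
    rfl

end Groth.Agent.DualLib.Omega
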