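import Groth.Agent.DualLib.OmegaDual
import Groth.Agent.DualLib.LocDualizing

/-! Endomorphisms and rigidity of `RHom_P(B, P)[n]`. -/

set_option autoImplicit false
set_option backward.isDefEq.respectTransparency false
set_option backward.defeqAttrib.useBackward true
set_option linter.style.haveILetI false

universe u

open CategoryTheory CategoryTheory.Limits CochainComplex CochainComplex.HomComplex DerivedCategory

attribute [local instance] HasDerivedCategory.standard

namespace Groth.Agent.DualLib.Omega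

open Groth.Agent Groth.Agent.DualLib.Shriek

variable {P B : Type u} [CommRing P] [CommRing B] {φ : P →+* B}
  {F : DRing.Cx P} {n : ℕ}
  {π : F ⟶ sgl (P := P) ((ModuleCat.restrictScalars φ).obj (ModuleCat.of B B))}

/-- The data of a finite resolution. -/
structure Res (φ : P →+* B) (F : DRing.Cx P) (n : ℕ)
    (π : F ⟶ sgl (P := P) ((ModuleCat.restrictScalars φ).obj (ModuleCat.of B B))) : Prop where
  surj : Function.Surjective φ
  qis : QuasiIso π
  kproj : F.IsKProjective
  van : DRing.VanishesOutside F (-(n : ℤ)) 0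
  fp : DRing.TermwiseFiniteProjective F

/-- The value in degree zero. -/
noncomputable def pi0 (π : F ⟶ sgl (P := P) ((ModuleCat.restrictScalars φ).obj (ModuleCat.of B B))) : F.X 0 →ₗ[P]
    (ModuleCat.restrictScalars φ).obj (ModuleCat.of B B) :=
  (π.f 0 ≫ (σ0 (P := P) _).hom).hom

variable (h : Res φ F n π)
include h

lemma eq_zero_one (x : F.X 0) : (F.d 0 1).hom x = 0 := by
  haveI := ModuleCat.subsingleton_of_isZero (h.van 1 (Or.inr (by omega)))
  exact Subsingleton.elim _ _

lemma pi0_surjective : Function.Surjective (pi0 π) := by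
  haveI := h.qis
  intro b
  have hm := (quasiIsoAt_iff' π (-1) 0 1 (by simp) (by simp)).1 (inferInstance : QuasiIsoAt π 0)
  let f := (HomologicalComplex.shortComplexFunctor' (ModuleCat.{u} P) (ComplexShape.up ℤ) (-1) 0 1).map π
  let γ : ShortComplex.LeftHomologyMapData f (F.sc' (-1) 0 1).moduleCatLeftHomologyData
      ((sgl (P := P) ((ModuleCat.restrictScalars φ).obj (ModuleCat.of B B))).sc' (-1) 0 1).moduleCatLeftHomologyData := default
  rw [γ.quasiIso_iff, ConcreteCategory.isIso_iff_bijective] at hm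
  have hz : ((sgl (P := P) ((ModuleCat.restrictScalars φ).obj (ModuleCat.of B B))).d 0 1).hom ((σ0 (P := P) _).inv b) = 0 := by
    haveI := ModuleCat.subsingleton_of_isZero (HomologicalComplex.isZero_single_obj_X (ComplexShape.up ℤ) 0
      ((ModuleCat.restrictScalars φ).obj (ModuleCat.of B B)) 1 (by omega))
    exact Subsingleton.elim (α := (((HomologicalComplex.single (ModuleCat.{u} P) (ComplexShape.up ℤ) 0).obj
      ((ModuleCat.restrictScalars φ).obj (ModuleCat.of B B))).X 1)) _ _
  obtain ⟨w, hw⟩ := hm.2 (((sgl (P := P) ((ModuleCat.restrictScalars φ).obj (ModuleCat.of B B))).sc' (-1) 0 1).moduleCatLeftHomologyData.π ⟨(σ0 (P := P) _).inv b, hz⟩)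
  obtain ⟨⟨x, hx⟩, rfl⟩ := Submodule.mkQ_surjective _ w
  refine ⟨x, ?_⟩
  have h1 : γ.φH ((F.sc' (-1) 0 1).moduleCatLeftHomologyData.π ⟨x, hx⟩) = _ :=
    congrArg (fun g => (ConcreteCategory.hom g) ⟨x, hx⟩) γ.commπ
  have h2 := (Submodule.Quotient.eq _).1 (h1.symm.trans hw)
  obtain ⟨y, hy⟩ := LinearMap.mem_range.1 h2
  have hy0 : y = 0 := by
    haveI := ModuleCat.subsingleton_of_isZero (HomologicalComplex.isZero_single_obj_X (ComplexShape.up ℤ) 0
      ((ModuleCat.restrictScalars φ).obj (ModuleCat.of B B)) (-1) (by omega))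
    exact Subsingleton.elim (α := (((HomologicalComplex.single (ModuleCat.{u} P) (ComplexShape.up ℤ) 0).obj
      ((ModuleCat.restrictScalars φ).obj (ModuleCat.of B B))).X (-1))) _ _
  have h3 := congrArg Subtype.val hy
  rw [hy0] at h3
  have hi : ((γ.φK ⟨x, hx⟩).1 : (sgl (P := P) _).X 0) = π.f 0 x :=
    congrArg (fun g => (ConcreteCategory.hom g) ⟨x, hx⟩) γ.commi
  show (σ0 (P := P) _).hom (π.f 0 x) = b
  have h4 := sub_eq_zero.1 (h3.symm.trans (map_zero _))
  let σ := σ0 (P := P) ((ModuleCat.restrictScalars φ).obj (ModuleCat.of B B))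
  exact (congrArg (fun w => σ.hom w) (hi.symm.trans h4)).trans (ConcreteCategory.congr_hom σ.inv_hom_id b)

omit h in
lemma pi0_d (y : F.X (-1)) : pi0 π ((F.d (-1) 0).hom y) = 0 := by
  show (σ0 (P := P) _).hom ((F.d (-1) 0 ≫ π.f 0) y) = 0
  rw [← π.comm (-1) 0, (HomologicalComplex.isZero_single_obj_X (ComplexShape.up ℤ) 0 _ (-1) (by omega)).eq_of_tgt
    (π.f (-1)) 0, zero_comp]
  simp

lemma exists_boundary {x : F.X 0} (hx : pi0 π x = 0) : ∃ y : F.X (-1), (F.d (-1) 0).hom y = x := by
  haveI := h.qis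
  have hm := (quasiIsoAt_iff' π (-1) 0 1 (by simp) (by simp)).1 (inferInstance : QuasiIsoAt π 0)
  let f := (HomologicalComplex.shortComplexFunctor' (ModuleCat.{u} P) (ComplexShape.up ℤ) (-1) 0 1).map π
  let γ : ShortComplex.LeftHomologyMapData f (F.sc' (-1) 0 1).moduleCatLeftHomologyData
      ((sgl (P := P) ((ModuleCat.restrictScalars φ).obj (ModuleCat.of B B))).sc' (-1) 0 1).moduleCatLeftHomologyData := default
  rw [γ.quasiIso_iff, ConcreteCategory.isIso_iff_bijective] at hm
  let z := (F.sc' (-1) 0 1).moduleCatLeftHomologyData.π ⟨x, eq_zero_one h x⟩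
  have h1 : γ.φH z = _ := congrArg (fun g => (ConcreteCategory.hom g) ⟨x, eq_zero_one h x⟩) γ.commπ
  have hi : ((γ.φK ⟨x, eq_zero_one h x⟩).1 : (sgl (P := P) _).X 0) = π.f 0 x :=
    congrArg (fun g => (ConcreteCategory.hom g) ⟨x, eq_zero_one h x⟩) γ.commi
  have h0 : γ.φK ⟨x, eq_zero_one h x⟩ = 0 := by
    refine Subtype.ext (hi.trans ?_)
    have := congrArg (σ0 (P := P) ((ModuleCat.restrictScalars φ).obj (ModuleCat.of B B))).inv (show (σ0 (P := P) _).hom (π.f 0 x) = 0 from hx)
    rw [map_zero] at this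
    exact (ConcreteCategory.congr_hom (σ0 (P := P) ((ModuleCat.restrictScalars φ).obj (ModuleCat.of B B))).hom_inv_id (π.f 0 x)).symm.trans this
  have hz : z = 0 := hm.1 (by
    rw [h1, map_zero]
    show ((sgl (P := P) _).sc' (-1) 0 1).moduleCatLeftHomologyData.π (γ.φK ⟨x, _⟩) = 0
    rw [h0, map_zero])
  obtain ⟨y, hy⟩ := LinearMap.mem_range.1 ((Submodule.Quotient.mk_eq_zero _).1 hz)
  exact ⟨y, congrArg Subtype.val hy⟩

/-- `Hom(RHom(B, P), P) = B`: a generator. -/
theorem exists_generator :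
    ∃ ε : Q.obj (Cdual F) ⟶ Q.obj (sgl (P := P) P),
      (∀ g : Q.obj (Cdual F) ⟶ Q.obj (sgl (P := P) P), ∃ p : P, p • ε = g) ∧
      (∀ p : P, p • ε = 0 ↔ φ p = 0) ∧
      (∀ G : Q.obj (Cdual F) ⟶ Q.obj (Cdual F), G ≫ ε = ε → IsIso G) := by
  haveI := h.qis
  haveI := h.kproj
  haveI hC := isKProjective_Cdual F h.fp n h.van
  obtain ⟨u, hu⟩ := pi0_surjective h (show (ModuleCat.restrictScalars φ).obj (ModuleCat.of B B) from (1 : B))
  have hev : ∀ (x x' : F.X 0), Q.map (evHom x (eq_zero_one h x)) = Q.map (evHom x' (eq_zero_one h x')) ↔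
      pi0 π x = pi0 π x' := by
    intro x x'
    rw [Q_evHom_eq_iff h.fp x x']
    constructor
    · rintro ⟨y, hy⟩
      rw [← sub_eq_zero, ← map_sub, ← hy, pi0_d]
    · intro he
      exact exists_boundary h (by rw [map_sub, he, sub_self])
  have hsmul : ∀ (p : P) (x : F.X 0),
      Q.map (evHom (p • x) (eq_zero_one h _)) = p • Q.map (evHom x (eq_zero_one h x)) := fun p x => by
    rw [evHom_smul p x (eq_zero_one h x) _, Functor.map_smul]
  have hone : ∀ p : P, pi0 π (p • u) = (show (ModuleCat.restrictScalars φ).obj (ModuleCat.of B B) from φ p) := fun p => by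
    rw [map_smul, hu]
    exact mul_one (φ p)
  refine ⟨Q.map (evHom u (eq_zero_one h u)), fun g => ?_, fun p => ?_, fun G hG => ?_⟩
  · obtain ⟨f', hf'⟩ := (IsKProjective.Qh_map_bijective (Cdual F) _).2
      ((DerivedCategory.quotientCompQhIso (ModuleCat.{u} P)).hom.app (Cdual F) ≫ g ≫
        (DerivedCategory.quotientCompQhIso (ModuleCat.{u} P)).inv.app (sgl (P := P) P))
    obtain ⟨f, rfl⟩ := (HomotopyCategory.quotient (ModuleCat.{u} P) (ComplexShape.up ℤ)).map_surjective f'
    obtain ⟨x, hx, rfl⟩ := exists_evHom h.fp f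
    obtain ⟨p, hp⟩ := h.surj (pi0 π x)
    refine ⟨p, ?_⟩
    have hg : Q.map (evHom x hx) = g := by
      have hn := (DerivedCategory.quotientCompQhIso (ModuleCat.{u} P)).hom.naturality (evHom x hx)
      rw [Functor.comp_map, hf', Category.assoc, Category.assoc, Iso.inv_hom_id_app, Category.comp_id] at hn
      exact ((cancel_epi _).1 hn).symm
    rw [← hsmul, ← hg, hev, hone]
    exact hp
  · have h0 : Q.map (evHom (0 : F.X 0) (eq_zero_one h 0)) = 0 := by
      have := hsmul 0 u
      rw [zero_smul] at this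
      simpa [zero_smul] using this
    rw [← hsmul, ← h0, hev, hone, map_zero]
  · obtain ⟨G', hG'⟩ := (IsKProjective.Qh_map_bijective (Cdual F) _).2
      ((DerivedCategory.quotientCompQhIso (ModuleCat.{u} P)).hom.app (Cdual F) ≫ G ≫
        (DerivedCategory.quotientCompQhIso (ModuleCat.{u} P)).inv.app (Cdual F))
    obtain ⟨g, rfl⟩ := (HomotopyCategory.quotient (ModuleCat.{u} P) (ComplexShape.up ℤ)).map_surjective G'
    have hg : Q.map g = G := by
      have hn := (DerivedCategory.quotientCompQhIso (ModuleCat.{u} P)).hom.naturality g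
      rw [Functor.comp_map, hG', Category.assoc, Category.assoc, Iso.inv_hom_id_app, Category.comp_id] at hn
      exact ((cancel_epi _).1 hn).symm
    subst hg
    obtain ⟨s, rfl⟩ := exists_homPre h.fp g
    have hcomp : DCat.homPre s (sgl (P := P) P) ≫ evHom u (eq_zero_one h u) = evHom (s.f 0 u) (eq_zero_one h _) := by
      refine hom_to_sgl_ext ?_
      rw [HomologicalComplex.comp_f, evHom_f_zero, evHom_f_zero, ← Category.assoc]
      congr 1
      refine ModuleCat.hom_ext (LinearMap.ext fun (z : Cochain F _ 0) => ?_)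
      show evSgl F P 0 0 rfl ((DCat.homPre s (sgl (P := P) P)).f 0 z : Cochain F _ 0) u = evSgl F P 0 0 rfl z (s.f 0 u)
      rw [DCat.homPre_apply]
      show ((_ : Cochain F (sgl (P := P) P) 0).v 0 0 rfl ≫ _).hom u = _
      rw [Cochain.zero_cochain_comp_v, Cochain.ofHom_v]
      rfl
    rw [← Functor.map_comp, hcomp, hev, hu] at hG
    have hsπ : s ≫ π = π := by
      refine hom_to_sgl_ext ?_
      have key : ∀ x, pi0 π (s.f 0 x) = pi0 π x := fun x => by
        obtain ⟨p, hp⟩ := h.surj (pi0 π x)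
        obtain ⟨y, hy⟩ := exists_boundary h (show pi0 π (x - p • u) = 0 by rw [map_sub, hone, sub_eq_zero]; exact hp.symm)
        have hx : x = p • u + (F.d (-1) 0).hom y := by rw [hy]; abel
        have hc : s.f 0 ((F.d (-1) 0).hom y) = (F.d (-1) 0).hom (s.f (-1) y) :=
          (ConcreteCategory.congr_hom (s.comm (-1) 0) y).symm
        rw [hx, map_add, map_add, map_add, hc, pi0_d, pi0_d, map_smul, map_smul, hG, map_smul, hu]
      rw [HomologicalComplex.comp_f]
      refine ModuleCat.hom_ext (LinearMap.ext fun x => ?_)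
      refine ((ModuleCat.mono_iff_injective (σ0 (P := P) _).hom).1 inferInstance) ?_
      exact key x
    haveI : QuasiIso (s ≫ π) := by rw [hsπ]; infer_instance
    haveI : QuasiIso s := quasiIso_of_comp_right s π
    obtain ⟨K, j, hK, hj⟩ := DCat.enoughKInj_modules (A := P) (sgl (P := P) P)
    haveI := hK
    haveI := hj
    haveI := quasiIso_homPre (I := K) s
    haveI := DCat.quasiIso_homCxMap (P := F) j
    haveI : QuasiIso (DCat.homPre s (sgl (P := P) P) ≫ DRing.homCxMap F j) := by
      have : DCat.homPre s (sgl (P := P) P) ≫ DRing.homCxMap F j = DRing.homCxMap F j ≫ DCat.homPre s K := by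
        refine HomologicalComplex.hom_ext _ _ fun i => ModuleCat.hom_ext (LinearMap.ext fun (z : Cochain F _ i) => ?_)
        show ((DCat.homPre s (sgl (P := P) P)).f i z : Cochain F _ i).comp (Cochain.ofHom j) (add_zero i) =
          ((DCat.homPre s K).f i (z.comp (Cochain.ofHom j) (add_zero i) : Cochain F K i) : Cochain F K i)
        rw [DCat.homPre_apply, DCat.homPre_apply]
        exact Cochain.comp_assoc_of_first_is_zero_cochain (Cochain.ofHom s) z (Cochain.ofHom j) (add_zero i)
      rw [this]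
      infer_instance
    haveI : QuasiIso (DCat.homPre s (sgl (P := P) P)) := quasiIso_of_comp_right _ (DRing.homCxMap F j)
    infer_instance

/-- No higher maps. -/
theorem subsingleton_hom_shift (i : ℤ) (hi : i ≠ 0) :
    Subsingleton (Q.obj (Cdual F) ⟶ (Q.obj (sgl (P := P) P))⟦i⟧) := by
  haveI := h.qis
  haveI := isKProjective_Cdual F h.fp n h.van
  refine subsingleton_of_forall_eq 0 fun g => ?_
  let iso := DerivedCategory.quotientCompQhIso (ModuleCat.{u} P)
  let e : Q.obj ((sgl (P := P) P)⟦i⟧) ≅ (Q.obj (sgl (P := P) P))⟦i⟧ := (Q.commShiftIso i).app _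
  obtain ⟨f', hf'⟩ := (IsKProjective.Qh_map_bijective (Cdual F) _).2
    (iso.hom.app (Cdual F) ≫ g ≫ e.inv ≫ iso.inv.app ((sgl (P := P) P)⟦i⟧))
  obtain ⟨c, rfl⟩ := (CohomologyClass.toHom_bijective (Cdual F) (sgl (P := P) P) i).2 f'
  obtain ⟨z, rfl⟩ := c.mk_surjective
  have hex := exactAt_bidual h.fp π i hi
  rw [HomologicalComplex.exactAt_iff' _ (i - 1) i (i + 1) (by simp) (by simp), ShortComplex.moduleCat_exact_iff] at hex
  obtain ⟨y, hy⟩ := hex z.1 (z.δ_eq_zero (i + 1))
  have h0 : CohomologyClass.toHom (CohomologyClass.mk z) = 0 := by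
    rw [CohomologyClass.toHom_mk_eq_zero_iff, mem_coboundaries_iff _ (i - 1) (by omega)]
    exact ⟨y, hy⟩
  rw [h0, Functor.map_zero] at hf'
  rw [← cancel_epi (iso.hom.app (Cdual F)), ← cancel_mono (e.inv ≫ iso.inv.app ((sgl (P := P) P)⟦i⟧))]
  simp only [comp_zero, zero_comp, Category.assoc]
  exact hf'.symm

end Groth.Agent.DualLib.Omega
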