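import Groth.Agent.DualLib.OmegaExt
import Groth.Agent.DualLib.OmegaGor
import Groth.Agent.DualLib.DualUnique
import Groth.Agent.DCat.DComplete

/-!
# Invertibility of `Ext_P(P/I, P)` and Gorenstein fibres
-/

set_option autoImplicit false
set_option backward.isDefEq.respectTransparency false
set_option backward.defeqAttrib.useBackward true
set_option linter.style.haveILetI false
set_option linter.unusedSectionVars false
noncomputable section
set_option synthInstance.maxHeartbeats 100000

universe u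

open CategoryTheory CategoryTheory.Limits DerivedCategory
open scoped TensorProduct

attribute [local instance] HasDerivedCategory.standard
attribute [-instance] Int.instConditionallyCompleteLinearOrder

namespace Groth.Agent.DualLib.OmegaExt

open Groth.Agent Groth.Agent.DualLib

/-- A finite module which is free of rank one at every prime is invertible. -/
theorem invertible_of_tensor_equiv {B : Type u} [CommRing B] [IsNoetherianRing B] (H : Type u) [AddCommGroup H]
    [Module B H] [Module.Finite B H]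
    (h : ∀ q : PrimeSpectrum B, Nonempty (Localization.AtPrime q.asIdeal ⊗[B] H ≃ₗ[Localization.AtPrime q.asIdeal]
      Localization.AtPrime q.asIdeal)) : Module.Invertible B H := by
  refine Unique.invertible_of_local_gen H fun m _ => ?_
  let L := Localization.AtPrime m
  obtain ⟨e⟩ : Nonempty (L ⊗[B] H ≃ₗ[L] L) := h ⟨m, inferInstance⟩
  haveI := isLocalizedModule_tensor (B := L) m.primeCompl H
  let ℓ := TensorProduct.mk B L H 1
  let g : H →ₗ[B] L := (e.restrictScalars B).toLinearMap ∘ₗ ℓ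
  haveI : IsLocalizedModule m.primeCompl g := IsLocalizedModule.of_linearEquiv m.primeCompl ℓ (e.restrictScalars B)
  obtain ⟨⟨x, t⟩, ht⟩ := IsLocalizedModule.surj m.primeCompl g 1
  have he : g x = algebraMap B L t := by
    rw [← show (t : B) • (1 : L) = g x from ht, Algebra.smul_def, mul_one]
  refine ⟨x, fun y => ?_, fun a ha => ?_⟩
  · obtain ⟨⟨a, s⟩, hs⟩ := IsLocalization.surj m.primeCompl (g y)
    have h1 : g (((t : B) * s) • y) = g (a • x) := by
      rw [map_smul, map_smul, he, Algebra.smul_def, Algebra.smul_def, map_mul, ← hs]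
      ring
    obtain ⟨c, hc⟩ := IsLocalizedModule.exists_of_eq (S := m.primeCompl) (f := g) h1
    refine ⟨(c : B) * ((t : B) * s), (c * (t * s)).2, (c : B) * a, ?_⟩
    rw [mul_smul (c : B) ((t : B) * (s : B)) y, mul_smul (c : B) a x]
    exact hc
  · have h1 : algebraMap B L (a * t) = 0 := by
      rw [map_mul, ← he, ← Algebra.smul_def, ← map_smul, ha, map_zero]
    obtain ⟨c, hc⟩ := (IsLocalization.map_eq_zero_iff m.primeCompl L _).1 h1
    exact ⟨(c : B) * t, (c * t).2, by rw [mul_assoc, mul_comm (t : B) a]; exact hc⟩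

variable {R A : Type u} [CommRing R] [IsNoetherianRing R] [CommRing A] [Algebra R A] [IsNoetherianRing A]
  [Module.Flat R A] {n : ℕ}
  (ψ : MvPolynomial (Fin n) R →ₐ[R] A) (hψ : Function.Surjective ψ)
  [DRing.HasLBaseChange (algebraMap R (MvPolynomial (Fin n) R))]
  {Rψ : Dual.D (MvPolynomial (Fin n) R) ⥤ Dual.D A} (adj : DRing.restrictD ψ.toRingHom ⊣ Rψ)

include hψ adj

/-- Concentrated `ω` with Gorenstein fibres has invertible cohomology. -/
theorem invertible_HD (d : ℕ)
    (hv : ∀ i : ℤ, i ≠ -(d : ℤ) → Subsingleton (Dual.HD A (Dual2.shriekVia n Rψ (Dual.inD R R)) i))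
    (hg : ∀ r : PrimeSpectrum R, LocCoh.IsGorensteinRing (A ⊗[R] r.asIdeal.ResidueField)) :
    Module.Invertible A (Dual.HD A (Dual2.shriekVia n Rψ (Dual.inD R R)) (-(d : ℤ))) := by
  let ω := Dual2.shriekVia n Rψ (Dual.inD R R)
  haveI := Omega.finite_HD ψ hψ adj (-(d : ℤ))
  haveI : ∀ f : A, DRing.HasLBaseChange (algebraMap A (Localization.Away f)) := fun f => DCat.hasLBaseChange _
  refine invertible_of_tensor_equiv _ fun q => ?_
  obtain ⟨f, hf, m, ⟨eW⟩⟩ := OmegaGor.invertible_of_gorenstein ψ hψ adj hg q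
  let B := Localization.Away f
  let C := Localization.AtPrime q.asIdeal
  obtain ⟨_, _⟩ := Dual22Lib.preserves_extendScalars (B := B) (Submonoid.powers f)
  let eX : (extD (algebraMap A B)).obj ω ≅ (Dual.inD B B)⟦m⟧ := ((LBC.extIso (algebraMap A B)).app ω).symm ≪≫ eW
  haveI : Nontrivial B := by
    refine ⟨⟨0, 1, fun h => ?_⟩⟩
    obtain ⟨⟨_, k, rfl⟩, hk⟩ := (IsLocalization.map_eq_zero_iff (Submonoid.powers f) B 1).1 (by rw [map_one]; exact h.symm)
    rw [mul_one] at hk
    exact q.asIdeal.primeCompl.pow_mem hf k (by show f ^ k ∈ q.asIdeal; rw [show f ^ k = 0 from hk]; exact zero_mem _)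
  let e2 : ∀ i : ℤ, Dual.HD B ((extD (algebraMap A B)).obj ω) i ≃ₗ[B] Dual.HD B (Dual.inD B B) (m + i) := fun i =>
    ((homologyFunctor (ModuleCat.{u} B) i).mapIso eX).toLinearEquiv ≪≫ₗ
      (((homologyFunctor (ModuleCat.{u} B) 0).shiftIso m i (m + i) rfl).app _).toLinearEquiv
  have hm : m = (d : ℤ) := by
    by_contra hne
    haveI := hv (-m) (by omega)
    obtain ⟨eT⟩ := nonempty_HD_tensor (Submonoid.powers f) ω (-m)
    haveI : Subsingleton (Dual.HD B ((extD (algebraMap A B)).obj ω) (-m)) := eT.injective.subsingleton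
    haveI : Subsingleton (Dual.HD B (Dual.inD B B) (m + -m)) := (e2 (-m)).symm.injective.subsingleton
    have key : ∀ z : ℤ, z = 0 → ¬ Subsingleton (Dual.HD B (Dual.inD B B) z) := by
      rintro z rfl h
      exact not_subsingleton B ((DCat.DC.hdInD (A := B) B).symm.toEquiv.subsingleton)
    exact key _ (add_neg_cancel m) this
  subst hm
  obtain ⟨eT⟩ := nonempty_HD_tensor (Submonoid.powers f) ω (-(d : ℤ))
  let eB : B ⊗[A] Dual.HD A ω (-(d : ℤ)) ≃ₗ[B] B :=
    eT.symm ≪≫ₗ e2 (-(d : ℤ)) ≪≫ₗ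
      ((homologyFunctor (ModuleCat.{u} B) _).mapIso (Iso.refl _)).toLinearEquiv ≪≫ₗ
      (hdZero _ (add_neg_cancel (d : ℤ)))
  letI : Algebra B C := (IsLocalization.Away.lift f (g := algebraMap A C)
    (IsLocalization.map_units C (⟨f, hf⟩ : q.asIdeal.primeCompl))).toAlgebra
  haveI : IsScalarTower A B C := IsScalarTower.of_algebraMap_eq fun x => (IsLocalization.Away.lift_eq f _ x).symm
  exact ⟨(TensorProduct.AlgebraTensorModule.cancelBaseChange A B C C (Dual.HD A ω (-(d : ℤ)))).symm ≪≫ₗ
    TensorProduct.AlgebraTensorModule.congr (LinearEquiv.refl C C) eB ≪≫ₗ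
    (Algebra.TensorProduct.rid B C C).toLinearEquiv⟩
where
  hdZero {B : Type u} [CommRing B] (z : ℤ) (hz : z = 0) : Dual.HD B (Dual.inD B B) z ≃ₗ[B] B :=
    hz ▸ DCat.DC.hdInD (A := B) B

/-- Invertible cohomology gives Gorenstein fibres. -/
theorem gorenstein_fibres (d : ℕ)
    (hv : ∀ i : ℤ, i ≠ -(d : ℤ) → Subsingleton (Dual.HD A (Dual2.shriekVia n Rψ (Dual.inD R R)) i))
    [Module.Invertible A (Dual.HD A (Dual2.shriekVia n Rψ (Dual.inD R R)) (-(d : ℤ)))] (r : PrimeSpectrum R) :
    LocCoh.IsGorensteinRing (A ⊗[R] r.asIdeal.ResidueField) := by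
  let ω := Dual2.shriekVia n Rψ (Dual.inD R R)
  haveI : ∀ f : A, DRing.HasLBaseChange (algebraMap A (Localization.Away f)) := fun f => DCat.hasLBaseChange _
  haveI : ω.IsGE (-(d : ℤ)) := (DRingLib.isGE_iff_HD ω _).2 fun i hi => hv i (by omega)
  haveI : ω.IsLE (-(d : ℤ)) := (DRingLib.isLE_iff_HD ω _).2 fun i hi => hv i (by omega)
  refine OmegaGor.gorenstein_of_invertible ψ hψ adj (fun q => ?_) r
  have e := Module.Invertible.free_iff_linearEquiv.1
    (inferInstance : Module.Free (Localization.AtPrime q.asIdeal)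
      (Localization.AtPrime q.asIdeal ⊗[A] Dual.HD A ω (-(d : ℤ))))
  exact OmegaGor.exists_away_iso (W := ω) (-(d : ℤ)) (-(d : ℤ)) (fun i => Omega.finite_HD ψ hψ adj i) q (-(d : ℤ))
    (fun i hi => haveI := hv i hi; notMem_support_of_subsingleton q) e.some

end Groth.Agent.DualLib.OmegaExt
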