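import Groth.Agent.DualLib.RingBase
import Groth.Agent.SerreDualA.Pairing
import Groth.Agent.Dual22Lib.TwistGenCoh

/-!
# The right adjoint of the direct image from projective space, at the structure sheaf
-/

set_option autoImplicit false
set_option backward.isDefEq.respectTransparency false
set_option backward.defeqAttrib.useBackward true
set_option linter.style.haveILetI false
set_option linter.unusedSectionVars false
set_option synthInstance.maxHeartbeats 100000

universe u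

open CategoryTheory CategoryTheory.Limits CategoryTheory.Abelian CategoryTheory.Pretriangulated DerivedCategory AlgebraicGeometry Opposite
open Groth.Agent.Coherent Groth.Agent.DCat Groth.Agent.DualLib.RingBase
open Groth.Agent.Dual22Lib

attribute [local instance] HasDerivedCategory.standard Groth.Agent.SerreDualA.hhAddCommGroup Groth.Agent.SerreDualA.hhModule
attribute [local instance] CategoryTheory.Abelian.hasFiniteBiproducts
attribute [-instance] Int.instConditionallyCompleteLinearOrder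

namespace Groth.Agent.DualLib.PnShriek

section Pairing

variable {R : Type u} [CommRing R] {X : Scheme.{u}} [X.Over (Spec (CommRingCat.of R))]
  [DCoh.HasRpush (X ↘ Spec (CommRingCat.of R))]


/-- The scalar of an endomorphism of `O`. -/
noncomputable def sPS : (PS R ⟶ PS R) ≃ₗ[R] R :=
  (LinearEquiv.ofBijective (LinearMap.toSpanSingleton R _ (𝟙 (PS R))) bijective_smul_PS).symm

variable {n : ℕ} (e : ∀ (M : X.Modules), (PS R ⟶ gS R M n) ≃ₗ[R] Coh.HH X M n)
  {A : DCoh.D X} (ε : (DCoh.Rpush (X ↘ Spec (CommRingCat.of R))).obj A ⟶ PS R)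

/-- The functional on top cohomology of a map to the representing object. -/
noncomputable def pairing (M : X.Modules) (y : ((DerivedCategory.singleFunctor X.Modules 0).obj M)⟦(n : ℤ)⟧ ⟶ A) : Module.Dual R (Coh.HH X M n) :=
  (sPS (R := R)).toLinearMap ∘ₗ Linear.rightComp R _ ((DCoh.Rpush (X ↘ Spec (CommRingCat.of R))).map y ≫ ε) ∘ₗ (e M).symm.toLinearMap

theorem pairing_apply (M : X.Modules) (y : ((DerivedCategory.singleFunctor X.Modules 0).obj M)⟦(n : ℤ)⟧ ⟶ A) (z : Coh.HH X M n) :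
    pairing e ε M y z = sPS ((e M).symm z ≫ (DCoh.Rpush (X ↘ Spec (CommRingCat.of R))).map y ≫ ε) := rfl

variable (he : ∀ (M N : X.Modules) (g : M ⟶ N) (x : PS R ⟶ gS R M n),
      e N (x ≫ (DCoh.Rpush (X ↘ Spec (CommRingCat.of R))).map (((DerivedCategory.singleFunctor X.Modules 0).map g)⟦(n : ℤ)⟧')) =
        Sheaf.H.map ((SheafOfModules.toSheaf X.ringCatSheaf).map g) n (e M x))

include he in
theorem pairing_comp {M N : X.Modules} (g : M ⟶ N) (y : ((DerivedCategory.singleFunctor X.Modules 0).obj N)⟦(n : ℤ)⟧ ⟶ A) :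
    pairing e ε M (((DerivedCategory.singleFunctor X.Modules 0).map g)⟦(n : ℤ)⟧' ≫ y) = pairing e ε N y ∘ₗ SerreDualA.hmap R g n := by
  refine LinearMap.ext fun z => ?_
  rw [LinearMap.comp_apply, pairing_apply, pairing_apply]
  refine congrArg _ ?_
  rw [Functor.map_comp]
  simp only [← Category.assoc]
  congr 2
  apply (e N).injective
  rw [LinearEquiv.apply_symm_apply, SerreDualA.hmap_eq, he, LinearEquiv.apply_symm_apply]

variable [CompactSpace X] [QuasiSeparatedSpace X]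
  (hε : ∀ K, DCoh.IsQCohD K → AdjGlue.Rep (DCoh.Rpush (X ↘ Spec (CommRingCat.of R))) (PS R) ε K)

include hε in
/-- With free cohomology in degree `n`, the pairing is perfect. -/
theorem bijective_pairing (M : X.Modules) [Coh.IsQCoh M] (hv : ∀ q : ℕ, q ≠ n → Subsingleton (Coh.HH X M q))
    {ι : Type} [Fintype ι] (b : Module.Basis ι R (Coh.HH X M n)) :
    Function.Bijective (pairing e ε M) := by
  classical
  let ev : (gS R M n ⟶ PS R) → Module.Dual R (Coh.HH X M n) := fun ψ =>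
    (sPS (R := R)).toLinearMap ∘ₗ Linear.rightComp R _ ψ ∘ₗ (e M).symm.toLinearMap
  have hev : Function.Bijective ev := by
    haveI := isIso_free_gS M hv (e M) b
    let F := biproduct.desc fun i => (e M).symm (b i)
    refine ⟨fun ψ ψ' h => ?_, fun D => ?_⟩
    · refine (cancel_epi F).1 (biproduct.hom_ext' _ _ fun i => ?_)
      have := LinearMap.congr_fun h (b i)
      simp only [F, biproduct.ι_desc_assoc]
      exact (sPS (R := R)).injective this
    · refine ⟨inv F ≫ biproduct.desc fun i => (sPS (R := R)).symm (D (b i)), b.ext fun i => ?_⟩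
      show sPS ((e M).symm (b i) ≫ inv F ≫ _) = _
      have : (e M).symm (b i) ≫ inv F = biproduct.ι (fun _ => PS R) i := by
        rw [IsIso.comp_inv_eq, biproduct.ι_desc]
      rw [← Category.assoc, this, biproduct.ι_desc, LinearEquiv.apply_symm_apply]
  exact hev.comp (hε _ (DQCoh.isQCohD_shift (FlatBC14.isQCohD_inD M) _))

include hε in
/-- No maps in the other degrees. -/
theorem eq_zero_of_ne (M : X.Modules) [Coh.IsQCoh M] (hv : ∀ q : ℕ, q ≠ n → Subsingleton (Coh.HH X M q))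
    {ι : Type} [Fintype ι] (b : Module.Basis ι R (Coh.HH X M n)) (q : ℤ) (hq : q ≠ n)
    (y : ((DerivedCategory.singleFunctor X.Modules 0).obj M)⟦q⟧ ⟶ A) : y = 0 := by
  classical
  obtain ⟨e', -⟩ := exists_eLin (R := R) (X := X)
  haveI := additive_Rpush (R := R) (X := X)
  refine (hε _ (DQCoh.isQCohD_shift (FlatBC14.isQCohD_inD M) _)).1 ?_
  show (DCoh.Rpush (X ↘ Spec (CommRingCat.of R))).map y ≫ ε = (DCoh.Rpush (X ↘ Spec (CommRingCat.of R))).map 0 ≫ ε
  rw [Functor.map_zero, zero_comp]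
  obtain ⟨w⟩ := nonempty_gS_shift (R := R) M n (q - n) q (by omega)
  haveI := isIso_free_gS M hv (e' M n) b
  let F := biproduct.desc fun i => (e' M n).symm (b i)
  rw [← cancel_epi w.hom, comp_zero, ← cancel_epi (F⟦q - (n : ℤ)⟧'), comp_zero]
  have key : ∀ z : ((⨁ fun _ : ι => PS R) : DCoh.D (S0 R))⟦q - (n : ℤ)⟧ ⟶ PS R, z = 0 := fun z => by
    have hid : (𝟙 _ : ((⨁ fun _ : ι => PS R) : DCoh.D (S0 R))⟦q - (n : ℤ)⟧ ⟶ _) =
        ∑ i, (biproduct.π (fun _ : ι => PS R) i ≫ biproduct.ι (fun _ : ι => PS R) i)⟦q - (n : ℤ)⟧' := by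
      rw [← Functor.map_sum, biproduct.total, CategoryTheory.Functor.map_id]
    rw [← Category.id_comp z, hid, Preadditive.sum_comp]
    refine Finset.sum_eq_zero fun i _ => ?_
    rw [Functor.map_comp, Category.assoc]
    let c := shiftFunctorCompIsoId (DCoh.D (S0 R)) (q - (n : ℤ)) ((n : ℤ) - q) (by omega)
    have h0 := eq_zero_PS_shift (j := (n : ℤ) - q) (by omega)
      (c.inv.app (PS R) ≫ ((biproduct.ι (fun _ : ι => PS R) i)⟦q - (n : ℤ)⟧' ≫ z)⟦(n : ℤ) - q⟧')
    rw [Preadditive.IsIso.comp_left_eq_zero] at h0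
    rw [(shiftFunctor _ ((n : ℤ) - q)).map_eq_zero_iff.1 h0, comp_zero]
  exact key _

end Pairing

section Pn

variable {n : ℕ} {R : Type u} [CommRing R]

local notation "P" => CohB1.ProjSpace n R
local notation "O'(" d ")" => Twist.twistProjSpace n R d
set_option quotPrecheck false in
local notation "sg" => DerivedCategory.singleFunctor (CohB1.ProjSpace n R).Modules 0
set_option quotPrecheck false in
local notation "H" => DerivedCategory.homologyFunctor (CohB1.ProjSpace n R).Modules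

theorem exists_basis (d : ℤ) (j : ℕ) (hd : d = -((n : ℤ) + 1 + j)) :
    ∃ (ι : Type) (_ : Fintype ι), Nonempty (Module.Basis ι R (Coh.HH P (O'(d)) n)) := by
  subst hd
  obtain ⟨f⟩ := nonempty_HH_top_twist (n := n) (R := R) j
  obtain ⟨p⟩ := nonempty_equiv_homogeneous R j (Equiv.refl {μ : Fin (n + 1) →₀ ℕ // μ.degree = j})
  exact ⟨_, Fintype.ofFinite _, ⟨Module.Basis.ofRepr (f.trans p.symm)⟩⟩

theorem subsingleton_HH (d : ℤ) (hd : d < 0) (q : ℕ) (hq : q ≠ n) : Subsingleton (Coh.HH P (O'(d)) q) :=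
  subsingleton_HH_twist (n := n) (R := R) q (by omega) (fun h => hq h.1)

theorem nonempty_rep_iso [DCoh.HasRpush (P ↘ Spec (CommRingCat.of R))] {A : DCoh.D P}
    (hA : RepLib.RepObj (P ↘ Spec (CommRingCat.of R)) (PS R) A) :
    Nonempty (A ≅ ((sg).obj (O'(-((n : ℤ) + 1))))⟦(n : ℤ)⟧) := by
  classical
  haveI : IsProper (P ↘ Spec (CommRingCat.of R)) := isProper_projSpace_toSpec n R
  haveI : CompactSpace P := QuasiCompact.compactSpace_of_compactSpace (P ↘ Spec (CommRingCat.of R))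
  haveI : (CohB1.ProjSpace n R).IsSeparated := inferInstanceAs (Proj (CohB1.polyGrading n R)).IsSeparated
  obtain ⟨hAq, ε, hε⟩ := hA.out
  obtain ⟨eAll, heAll⟩ := exists_eLin (R := R) (X := P)
  let e := fun M : (CohB1.ProjSpace n R).Modules => eAll M n
  have he := fun M N g x => heAll M N g n x
  haveI hqO : ∀ d : ℤ, Coh.IsQCoh (O'(d)) := fun d => isQCoh_twistProjSpace d
  let C := projPowCover n R
  let G : ∀ N : ℕ, C.Gens (O'(-(N : ℤ))) N := fun N => twistGens n R N
  let ω := O'(-((n : ℤ) + 1))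
  obtain ⟨t, ht, htb⟩ := SerreDualA.exists_trace (n := n) (R := R)
  -- the twists below `-n`
  have big : ∀ N : ℕ, n + 1 ≤ N → ∃ j : ℕ, -(N : ℤ) = -((n : ℤ) + 1 + j) := fun N hN => ⟨N - (n + 1), by omega⟩
  have hne : ∀ N : ℕ, n + 1 ≤ N → ∀ (q : ℤ), q ≠ n → ∀ y : ((sg).obj (O'(-(N : ℤ))))⟦q⟧ ⟶ A, y = 0 :=
    fun N hN q hq y => by
      obtain ⟨j, hj⟩ := big N hN
      obtain ⟨ι, _, ⟨b⟩⟩ := exists_basis (n := n) (R := R) _ j hj
      exact eq_zero_of_ne ε hε _ (fun q hq => subsingleton_HH _ (by omega) q hq) b q hq y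
  have hωv : ∀ q : ℕ, q ≠ n → Subsingleton (Coh.HH P ω q) := fun q hq => subsingleton_HH _ (by omega) q hq
  obtain ⟨ιω, _, ⟨bω⟩⟩ := exists_basis (n := n) (R := R) (-((n : ℤ) + 1)) 0 (by simp)
  obtain ⟨η, hη⟩ := (bijective_pairing e ε hε ω hωv bω).2 t
  have huniq : ∀ N : ℕ, n + 1 ≤ N → Function.Bijective
      fun a : O'(-(N : ℤ)) ⟶ ω => ((sg).map a)⟦(n : ℤ)⟧' ≫ η := fun N hN => by
    obtain ⟨j, hj⟩ := big N hN
    obtain ⟨ι, _, ⟨b⟩⟩ := exists_basis (n := n) (R := R) _ j hj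
    have hb := bijective_pairing e ε hε (O'(-(N : ℤ))) (fun q hq => subsingleton_HH _ (by omega) q hq) b
    have hrep : Function.Bijective (SerreDualA.theta t (O'(-(N : ℤ)))) := by
      rw [hj]; exact SerreDualA.rep_twist t ht j
    have hc : pairing e ε (O'(-(N : ℤ))) ∘ (fun a => ((sg).map a)⟦(n : ℤ)⟧' ≫ η) =
        fun a => SerreDualA.theta t (O'(-(N : ℤ))) a := by
      funext a
      show pairing e ε _ (_ ≫ η) = _
      rw [pairing_comp e ε he, hη]
      rfl
    exact (Function.Bijective.of_comp_iff' hb _).1 (hc ▸ hrep)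
  haveI : (PS R).IsGE 0 := (inferInstance :
    ((singleFunctor (S0 R).Modules 0).obj ((freeModOn _).obj ⊤)).IsGE 0)
  obtain ⟨cA, hcA⟩ := RepLib.exists_isGE 0 hA
  -- sections of the cohomology sheaves are seen by the twists
  have lift : ∀ (K : DCoh.D P), DCoh.IsQCohD K → ∀ (a : ℤ), K.IsGE a → ∀ (i : Fin (n + 1))
      (m : Γ(DCoh.HD K 0, C.D i)), ∃ (N : ℕ) (v : (sg).obj (O'(-(N : ℤ))) ⟶ K), n + 1 ≤ N ∧
        (TwistSys.θ v).app (C.D i) ((G N).τ i) = m := fun K hK a ha i m => by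
    haveI := ha
    obtain ⟨M, v, hv⟩ := TwistSys.exists_lift (G := G) (i₀ := i) hK a m
    refine ⟨M + (n + 1), (sg).map (TwistSys.pw C G i M (n + 1)) ≫ v, by omega, ?_⟩
    rw [TwistSys.θ_map, Scheme.Modules.Hom.comp_app, ConcreteCategory.comp_apply]
    erw [TwistSys.pw_spec]
    rw [C.g_self, one_pow, one_smul]
    exact hv
  have hcov : ∀ x : P, ∃ i : ULift.{u} (Fin (n + 1)), x ∈ C.D i.down := fun x => by
    obtain ⟨i, hi⟩ := TopologicalSpace.Opens.mem_iSup.1 (C.cover.ge (Set.mem_univ x))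
    exact ⟨⟨i⟩, hi⟩
  have zeroOfSections : ∀ (M : (CohB1.ProjSpace n R).Modules), Coh.IsQCoh M → (∀ i (m : Γ(M, C.D i)), m = 0) → IsZero M :=
    fun M hM h => by
      haveI := hM
      refine DQCoh.isZero_of_restrict_cover _ (fun i : ULift.{u} (Fin (n + 1)) => C.D i.down) hcov fun i => ?_
      refine DQCoh.isZero_restrict_of_sections _ (C.isAffine i.down) fun x => ?_
      refine (freeModOnEquiv _ M).injective ?_
      exact (h _ _).trans (h _ _).symm
  have hHD : ∀ p : ℤ, p ≠ -(n : ℤ) → IsZero (DCoh.HD A p) := fun p hp => by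
    refine IsZero.of_iso ?_ (((H 0).shiftIso p 0 p (by omega)).app A).symm
    haveI : (A⟦p⟧).IsGE (cA - p) := DerivedCategory.TStructure.t.isGE_shift A cA p (cA - p) (by omega)
    refine zeroOfSections _ (DQCoh.isQCohD_shift hAq p 0) fun i m => ?_
    obtain ⟨N, v, hN, rfl⟩ := lift _ (DQCoh.isQCohD_shift hAq p) (cA - p) ‹_› i m
    have hv : v = 0 := by
      refine (shiftFunctor (DCoh.D P) (-p)).map_injective ?_
      rw [Functor.map_zero, ← cancel_mono ((shiftFunctorCompIsoId (DCoh.D P) p (-p) (by omega)).hom.app A),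
        zero_comp]
      exact hne N hN (-p) (by omega) _
    rw [hv, show TwistSys.θ (0 : (sg).obj (O'(-(N : ℤ))) ⟶ A⟦p⟧) = 0 by simp [TwistSys.θ]]
    rfl
  let B := A⟦(-(n : ℤ))⟧
  have hBz : ∀ q : ℤ, q ≠ 0 → IsZero (DCoh.HD B q) := fun q hq =>
    (hHD (-(n : ℤ) + q) (by omega)).of_iso (((H 0).shiftIso (-(n : ℤ)) q (-(n : ℤ) + q) rfl).app A)
  haveI : B.IsGE 0 := (DerivedCategory.isGE_iff _ _).2 fun q hq => hBz q (by omega)
  haveI : B.IsLE 0 := (DerivedCategory.isLE_iff _ _).2 fun q hq => hBz q (by omega)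
  have hBq : DCoh.IsQCohD B := DQCoh.isQCohD_shift hAq _
  obtain ⟨M₀, ⟨eB⟩⟩ := exists_iso_singleFunctor_obj_of_isGE_of_isLE B 0
  let c := (shiftFunctorCompIsoId (DCoh.D P) (-(n : ℤ)) (n : ℤ) (by omega)).app A
  obtain ⟨η₁, hη₁⟩ := (shiftFunctor (DCoh.D P) (n : ℤ)).map_surjective (η ≫ c.inv)
  let ξ : ω ⟶ M₀ := (sg).preimage (η₁ ≫ eB.hom)
  have hξ : (sg).map ξ ≫ eB.inv = η₁ := by simp [ξ]
  let w : M₀ ≅ DCoh.HD B 0 := ((singleFunctorCompHomologyFunctorIso _ 0).app M₀).symm ≪≫ (H 0).mapIso eB.symm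
  have hθ : ∀ {M : (CohB1.ProjSpace n R).Modules} (g : M ⟶ M₀), TwistSys.θ ((sg).map g ≫ eB.inv) = g ≫ w.hom :=
    fun g => by rw [TwistSys.θ_map]; rfl
  haveI : Coh.IsQCoh M₀ := Coherent.isQCoh_of_iso w.symm (h := hBq 0)
  -- maps from the twists into `M₀` are unique multiples of `ξ`
  have hfac : ∀ N : ℕ, n + 1 ≤ N → Function.Bijective fun a : O'(-(N : ℤ)) ⟶ ω => a ≫ ξ := fun N hN => by
    let T : (O'(-(N : ℤ)) ⟶ M₀) → (((sg).obj (O'(-(N : ℤ))))⟦(n : ℤ)⟧ ⟶ A) := fun g =>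
      ((sg).map g ≫ eB.inv)⟦(n : ℤ)⟧' ≫ c.hom
    have hT : Function.Bijective T := by
      refine ⟨fun g g' h => ?_, fun y => ?_⟩
      · have h1 := (shiftFunctor (DCoh.D P) (n : ℤ)).map_injective ((cancel_mono c.hom).1 h)
        exact (sg).map_injective ((cancel_mono eB.inv).1 h1)
      · obtain ⟨y₁, hy₁⟩ := (shiftFunctor (DCoh.D P) (n : ℤ)).map_surjective (y ≫ c.inv)
        refine ⟨(sg).preimage (y₁ ≫ eB.hom), ?_⟩
        simp [T, hy₁]
    have hc : T ∘ (fun a => a ≫ ξ) = fun a => ((sg).map a)⟦(n : ℤ)⟧' ≫ η := by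
      funext a
      show ((sg).map (a ≫ ξ) ≫ eB.inv)⟦(n : ℤ)⟧' ≫ c.hom = _
      rw [(DerivedCategory.singleFunctor (CohB1.ProjSpace n R).Modules 0).map_comp a ξ, Category.assoc, hξ,
        Functor.map_comp, hη₁]
      simp
    exact (Function.Bijective.of_comp_iff' hT _).1 (hc ▸ huniq N hN)
  have hsurj : ∀ i (m : Γ(M₀, C.D i)), ∃ s, ξ.app (C.D i) s = m := fun i m => by
    obtain ⟨N, v, hN, hv⟩ := lift B hBq 0 inferInstance i (w.hom.app (C.D i) m)
    obtain ⟨g, hg⟩ : ∃ g, (sg).map g ≫ eB.inv = v := ⟨(sg).preimage (v ≫ eB.hom), by simp⟩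
    obtain ⟨a, rfl⟩ := (hfac N hN).2 g
    refine ⟨a.app (C.D i) ((G N).τ i), ?_⟩
    rw [← hg, hθ] at hv
    simp only [Scheme.Modules.Hom.comp_app, ConcreteCategory.comp_apply] at hv
    have := congrArg (w.inv.app (C.D i)) hv
    simp only [← ConcreteCategory.comp_apply, ← Scheme.Modules.Hom.comp_app, Iso.hom_inv_id, Iso.inv_hom_id,
      Category.assoc] at this
    simpa using this
  have hinj : ∀ i (s : Γ(ω, C.D i)), ξ.app (C.D i) s = 0 → s = 0 := fun i s hs => by
    obtain ⟨N₀, hN₀⟩ := C.exists_compat (M := ω) i s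
    obtain ⟨sf, hsf, hs₀⟩ := hN₀ (N₀ + (n + 1)) (by omega)
    obtain ⟨a, ha⟩ := C.exists_hom (G (N₀ + (n + 1))) sf hsf
    obtain ⟨k, hk⟩ := TwistSys.exists_pw_eq_zero (C := C) (G := G) (i₀ := i) (a ≫ ξ) (by
      rw [Scheme.Modules.Hom.comp_app, ConcreteCategory.comp_apply, ha, hs₀, hs])
    have h0 : TwistSys.pw C G i (N₀ + (n + 1)) k ≫ a = 0 := (hfac _ (by omega)).1 (by
      show (_ ≫ a) ≫ ξ = 0 ≫ ξ
      rw [Category.assoc, hk, zero_comp])
    have h1 := congrArg (fun z => z.app (C.D i) ((G (N₀ + (n + 1) + k)).τ i)) h0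
    simp only [Scheme.Modules.Hom.comp_app, ConcreteCategory.comp_apply] at h1
    erw [TwistSys.pw_spec] at h1
    rw [C.g_self, one_pow, one_smul, ha, hs₀] at h1
    exact h1
  haveI : Coh.IsQCoh ω := hqO _
  haveI : Mono ξ := by
    haveI := Coherent.isQCoh_kernel ξ
    refine Preadditive.mono_of_isZero_kernel ξ (zeroOfSections _ inferInstance fun i m => ?_)
    have h1 : (kernel.ι ξ).app (C.D i) m = 0 := hinj i _ (by
      rw [← ConcreteCategory.comp_apply, ← Scheme.Modules.Hom.comp_app, kernel.condition]; rfl)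
    let x := (freeModOnEquiv (C.D i) (kernel ξ)).symm m
    have hx : x ≫ kernel.ι ξ = 0 := (freeModOnEquiv (C.D i) _).injective (by
      rw [freeModOnEquiv_comp, Equiv.apply_symm_apply, h1]
      exact ((secMod (C.D i) _).map_zero).symm)
    have hx0 : x = 0 := (cancel_mono (kernel.ι ξ)).1 (hx.trans zero_comp.symm)
    exact ((freeModOnEquiv (C.D i) (kernel ξ)).apply_symm_apply m).symm.trans
      ((congrArg (freeModOnEquiv (C.D i) (kernel ξ)) hx0).trans (secMod (C.D i) _).map_zero)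
  haveI : Epi ξ := by
    refine Preadditive.epi_of_isZero_cokernel ξ ?_
    refine zeroOfSections _ (Coherent.isQCoh_cokernel_of_mono ξ) fun i m => ?_
    have hS : (ShortComplex.mk ξ (cokernel.π ξ) (cokernel.condition ξ)).ShortExact :=
      { exact := ShortComplex.exact_cokernel _ }
    haveI : Coh.IsQCoh (ShortComplex.mk ξ (cokernel.π ξ) (cokernel.condition ξ)).X₁ := hqO _
    obtain ⟨y, rfl⟩ := Coherent.sections_surjective hS (C.isAffine i) m
    obtain ⟨s, rfl⟩ := hsurj i y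
    show (cokernel.π ξ).app (C.D i) (ξ.app (C.D i) s) = 0
    rw [← ConcreteCategory.comp_apply, ← Scheme.Modules.Hom.comp_app, cokernel.condition]
    rfl
  haveI : IsIso ξ := isIso_of_mono_of_epi ξ
  exact ⟨c.symm ≪≫ (shiftFunctor (DCoh.D P) (n : ℤ)).mapIso (eB ≪≫ (sg).mapIso (asIso ξ).symm)⟩

end Pn

end Groth.Agent.DualLib.PnShriek
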