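import Groth.Agent.DualLib.LocGlobal
import Groth.Agent.DualLib.InjAmp
import Groth.Agent.DualLib.Trunc
import Mathlib.RingTheory.Ideal.AssociatedPrime.Finiteness

/-! Pointwise finite injective dimension bounds `Ext` out of each finite module. -/

set_option autoImplicit false
set_option backward.isDefEq.respectTransparency false
set_option backward.defeqAttrib.useBackward true
set_option linter.style.haveILetI false

universe u

open CategoryTheory CategoryTheory.Limits CategoryTheory.Pretriangulated DerivedCategory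

attribute [local instance] HasDerivedCategory.standard

namespace Groth.Agent.DualLib.PwExt

open Groth.Agent Groth.Agent.DualLib

variable {A : Type u} [CommRing A]

/-- The localization, as an object over `A`. -/
noncomputable abbrev locObj (S : Submonoid A) (R : Dual.D A) : Dual.D A :=
  (DRing.restrictD (algebraMap A (Localization S))).obj ((extD (algebraMap A (Localization S))).obj R)

variable [IsNoetherianRing A]

lemma subsingleton_locObj_iff (S : Submonoid A) {R : Dual.D A} {a : ℤ} (hR : R.IsGE a) (M : Type u) [AddCommGroup M]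
    [Module A M] [Module.Finite A M] (i : ℤ) :
    Subsingleton (E (locObj S R) M i) ↔ ∀ θ : E R M i, ∃ s ∈ S, s • θ = 0 := by
  constructor
  · intro h θ
    exact exists_kill (B := Localization S) S (isSmall_inD M) hR i θ
      (Subsingleton.elim (α := E (locObj S R) M i) _ _)
  · intro h
    refine subsingleton_of_forall_eq 0 fun ψ => ?_
    obtain ⟨s, hs, θ, hθ⟩ := exists_fraction (B := Localization S) S (isSmall_inD M) hR i ψ
    obtain ⟨t, ht, h0⟩ := h θ
    refine eq_zero_of_smul (B := Localization S) S (S.mul_mem ht hs) ?_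
    rw [mul_smul, ← hθ, ← Linear.smul_comp, h0, zero_comp]

/-- Vanishing of `Ext` follows along a prime filtration. -/
theorem devissage {ι : Type*} (W : ι → Dual.D A) (C : ι → ℤ → Prop) (H : Type u) [AddCommGroup H] [Module A H]
    [Module.Finite A H]
    (hq : ∀ q : Ideal A, q.IsPrime → Module.annihilator A H ≤ q →
      ∃ N : ℤ, ∀ s i, N < i → C s i → Subsingleton (E (W s) (A ⧸ q) i)) :
    ∃ N : ℤ, ∀ s i, N < i → C s i → Subsingleton (E (W s) H i) := by
  refine IsNoetherianRing.induction_on_isQuotientEquivQuotientPrime A ‹Module.Finite A H›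
    (motive := fun N _ _ _ => (∀ q : Ideal A, q.IsPrime → Module.annihilator A N ≤ q →
      ∃ m : ℤ, ∀ s i, m < i → C s i → Subsingleton (E (W s) (A ⧸ q) i)) →
        ∃ m : ℤ, ∀ s i, m < i → C s i → Subsingleton (E (W s) N i)) ?_ ?_ ?_ hq
  · intro N _ _ _ _ _
    exact ⟨0, fun s i _ _ => subsingleton_of_subsingleton (W s) i⟩
  · intro N _ _ _ q e h
    obtain ⟨m, hm⟩ := h q.1 q.2 (by rw [e.annihilator_eq, Ideal.annihilator_quotient])
    exact ⟨m, fun s i hi hC => haveI := hm s i hi hC; (econgr (W s) e i).symm.injective.subsingleton⟩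
  · intro N₁ _ _ _ N₂ _ _ _ N₃ _ _ _ f g hf hg hfg h₁ h₃ h
    obtain ⟨m₁, hm₁⟩ := h₁ fun q hq hle => h q hq ((f.annihilator_le_of_injective hf).trans hle)
    obtain ⟨m₃, hm₃⟩ := h₃ fun q hq hle => h q hq ((g.annihilator_le_of_surjective hg).trans hle)
    exact ⟨max m₁ m₃, fun s i hi hC => subsingleton_mid hf hg hfg i (hm₁ s i (by omega) hC) (hm₃ s i (by omega) hC)⟩

/-- Iterated cones of multiplications: a substitute for the Koszul complex. -/
theorem exists_kos : ∀ (l : List A), ∃ X : Dual.D A, X.IsGE (-(l.length : ℤ)) ∧ X.IsLE 0 ∧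
    (∀ q, Module.Finite A (Dual.HD A X q)) ∧
    (∀ g ∈ l, ∃ m : ℕ, ∀ q, ∀ y : Dual.HD A X q, g ^ m • y = 0) ∧
    (∃ π : A →ₗ[A] Dual.HD A X 0, Function.Surjective π ∧ LinearMap.ker π = Ideal.ofList l) ∧
    ∀ (W : Dual.D A) (i b : ℤ), (∀ j, b < j → Subsingleton (E W A j)) → b + l.length < i →
      Subsingleton (X ⟶ W⟦i⟧) := by
  intro l
  induction l with
  | nil =>
    let eH : Dual.HD A (Dual.inD A A) 0 ≃ₗ[A] A :=
      ((singleFunctorCompHomologyFunctorIso (ModuleCat.{u} A) 0).app (ModuleCat.of A A)).toLinearEquiv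
    obtain ⟨c, d, -, -, hf⟩ := isSmall_inD (A := A) A
    refine ⟨Dual.inD A A, ?_, inferInstance, hf, fun g hg => absurd hg (List.not_mem_nil),
      ⟨eH.symm.toLinearMap, eH.symm.surjective, ?_⟩, fun W i b h hi => h i (by simpa using hi)⟩
    · show (Dual.inD A A).IsGE (-((0 : ℕ) : ℤ))
      simp only [Nat.cast_zero, neg_zero]
      infer_instance
    · rw [LinearEquiv.ker, Ideal.ofList_nil]
  | cons g l ih =>
    obtain ⟨X, hge, hle, hfin, hkill, ⟨π, hπ, hker⟩, hvan⟩ := ih
    obtain ⟨Z, v, w, hT⟩ := distinguished_cocone_triangle (g • 𝟙 X)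
    let T := Triangle.mk (g • 𝟙 X) v w
    let F := fun q => homologyFunctor (ModuleCat.{u} A) q
    have e2 : ∀ q, Function.Exact (fun y : Dual.HD A X q => g • y) ((F q).map v).hom := fun q => by
      have h := (ShortComplex.ShortExact.moduleCat_exact_iff_function_exact _).1 (HomologySequence.exact₂ _ hT q)
      have e : (F q).map (g • 𝟙 X) = g • 𝟙 _ := DCat.DC.homologyFunctor_map_smul_id g X q
      change Function.Exact ((F q).map (g • 𝟙 X)).hom ((F q).map v).hom at h
      rw [e] at h
      exact h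
    have e3 : ∀ q, Function.Exact ((F q).map v).hom (HomologySequence.δ T q (q + 1) rfl).hom := fun q =>
      (ShortComplex.ShortExact.moduleCat_exact_iff_function_exact _).1 (HomologySequence.exact₃ _ hT q (q + 1) rfl)
    have e1 : ∀ q, Function.Exact (HomologySequence.δ T q (q + 1) rfl).hom (fun y : Dual.HD A X (q + 1) => g • y) :=
      fun q => by
      have h := (ShortComplex.ShortExact.moduleCat_exact_iff_function_exact _).1
        (HomologySequence.exact₁ _ hT q (q + 1) rfl)
      have e : (F (q + 1)).map (g • 𝟙 X) = g • 𝟙 _ := DCat.DC.homologyFunctor_map_smul_id g X (q + 1)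
      change Function.Exact (HomologySequence.δ T q (q + 1) rfl).hom ((F (q + 1)).map (g • 𝟙 X)).hom at h
      rw [e] at h
      exact h
    have hz : ∀ q, (q < -((g :: l).length : ℤ) ∨ 0 < q) → Subsingleton (Dual.HD A Z q) := fun q hq => by
      simp only [List.length_cons, Nat.cast_add, Nat.cast_one] at hq
      haveI : Subsingleton (Dual.HD A X q) := by
        rcases hq with h | h
        · exact (DRingLib.isGE_iff_HD X _).1 hge q (by omega)
        · exact (DRingLib.isLE_iff_HD X _).1 hle q h
      haveI : Subsingleton (Dual.HD A X (q + 1)) := by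
        rcases hq with h | h
        · exact (DRingLib.isGE_iff_HD X _).1 hge (q + 1) (by omega)
        · exact (DRingLib.isLE_iff_HD X _).1 hle (q + 1) (by omega)
      refine subsingleton_of_forall_eq 0 fun z => ?_
      obtain ⟨y, rfl⟩ := (e3 q z).1 (Subsingleton.elim (α := Dual.HD A X (q + 1)) _ _)
      exact (congrArg _ (Subsingleton.elim (α := Dual.HD A X q) y 0)).trans (map_zero _)
    refine ⟨Z, (DRingLib.isGE_iff_HD Z _).2 fun q hq => hz q (Or.inl hq),
      (DRingLib.isLE_iff_HD Z _).2 fun q hq => hz q (Or.inr hq), fun q => ?_, fun x hx => ?_, ?_, ?_⟩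
    · haveI := hfin q
      haveI : Module.Finite A ((homologyFunctor (ModuleCat.{u} A) q).obj T.obj₂) := hfin q
      haveI : Module.Finite A ((homologyFunctor (ModuleCat.{u} A) (q + 1)).obj T.obj₁) := hfin (q + 1)
      exact finite_of_exact _ _ (e3 q)
    · rcases List.mem_cons.1 hx with rfl | hx'
      · refine ⟨2, fun q z => ?_⟩
        have h1 : (HomologySequence.δ T q (q + 1) rfl).hom (x • z) = 0 :=
          (map_smul _ x z).trans ((e1 q).apply_apply_eq_zero z)
        obtain ⟨y, hy⟩ := (e3 q _).1 h1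
        rw [pow_two, mul_smul, ← hy, ← map_smul]
        exact (e2 q).apply_apply_eq_zero y
      · obtain ⟨m, hm⟩ := hkill x hx'
        refine ⟨m + m, fun q z => ?_⟩
        have h1 : (HomologySequence.δ T q (q + 1) rfl).hom (x ^ m • z) = 0 := (map_smul _ _ z).trans (hm (q + 1) _)
        obtain ⟨y, hy⟩ := (e3 q _).1 h1
        rw [pow_add, mul_smul, ← hy, ← map_smul, hm q y, map_zero]
    · refine ⟨((F 0).map v).hom ∘ₗ π, fun z => ?_, ?_⟩
      · haveI : Subsingleton (Dual.HD A X (0 + 1)) := (DRingLib.isLE_iff_HD X _).1 hle (0 + 1) (by omega)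
        obtain ⟨y, rfl⟩ := (e3 0 z).1 (Subsingleton.elim (α := Dual.HD A X (0 + 1)) _ _)
        obtain ⟨c, rfl⟩ := hπ y
        exact ⟨c, rfl⟩
      · ext c
        rw [LinearMap.mem_ker, Ideal.ofList_cons, Submodule.mem_sup]
        constructor
        · intro hc
          obtain ⟨y, hy⟩ := (e2 0 (π c)).1 hc
          obtain ⟨d, rfl⟩ := hπ y
          refine ⟨g * d, Ideal.mul_mem_right d _ (Ideal.mem_span_singleton_self g), c - g * d, ?_, by ring⟩
          rw [← hker, LinearMap.mem_ker, map_sub, ← smul_eq_mul g d, map_smul]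
          exact sub_eq_zero.2 hy.symm
        · rintro ⟨u, hu, w', hw, rfl⟩
          obtain ⟨d, rfl⟩ := Ideal.mem_span_singleton'.1 hu
          rw [← hker, LinearMap.mem_ker] at hw
          show ((F 0).map v).hom (π (d * g + w')) = 0
          rw [map_add, hw, add_zero, mul_comm, ← smul_eq_mul, map_smul]
          exact (e2 0).apply_apply_eq_zero _
    · intro W i b hA hi
      simp only [List.length_cons, Nat.cast_add, Nat.cast_one] at hi
      haveI := hvan W (i - 1) b hA (by omega)
      haveI := hvan W i b hA (by omega)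
      refine subsingleton_of_forall_eq 0 fun φ => ?_
      obtain ⟨ψ, rfl⟩ := (exact_delta_pre (W := W) _ hT (i - 1) i (by omega) φ).1
        (Subsingleton.elim (α := X ⟶ W⟦i⟧) _ _)
      exact (congrArg _ (Subsingleton.elim (α := X ⟶ W⟦i - 1⟧) ψ 0)).trans (map_zero _)

/-- Finitely generated torsion is killed by one element. -/
lemma exists_mem_smul_eq_zero (S : Submonoid A) {M : Type*} [AddCommGroup M] [Module A M] [Module.Finite A M]
    (h : ∀ m : M, ∃ s ∈ S, s • m = 0) : ∃ s ∈ S, ∀ m : M, s • m = 0 := by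
  obtain ⟨t, ht⟩ := (Module.Finite.fg_top : (⊤ : Submodule A M).FG)
  classical
  choose σ hσ hσ' using h
  refine ⟨∏ m ∈ t, σ m, S.prod_mem fun m _ => hσ m, fun m => ?_⟩
  have hm : m ∈ Submodule.span A (t : Set M) := by rw [ht]; trivial
  induction hm using Submodule.span_induction with
  | mem x hx => rw [← Finset.prod_erase_mul t σ hx, mul_smul, hσ', smul_zero]
  | zero => exact smul_zero _
  | add x y _ _ hx hy => rw [smul_add, hx, hy, add_zero]
  | smul c x _ hx => rw [smul_comm, hx, smul_zero]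

lemma subsingleton_E_of_lt {R : Dual.D A} {a : ℤ} (hR : R.IsGE a) (M : Type u) [AddCommGroup M] [Module A M]
    (i : ℤ) (hi : i < a) : Subsingleton (E R M i) := by
  haveI : (R⟦i⟧).IsGE (a - i) := haveI := hR; (ts A).isGE_shift R a i (a - i) (by omega)
  exact subsingleton_of_forall_eq 0 fun φ => (ts A).zero φ 0 (a - i) (by omega)

/-- Finite injective dimension at all primes bounds `Ext` out of every finite module. -/
theorem exists_bound (R : Dual.D A) (hfin : ∀ i, Module.Finite A (Dual.HD A R i)) {a b : ℤ} (hge : R.IsGE a)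
    (hle : R.IsLE b)
    (hpw : ∀ p : PrimeSpectrum A, DRing.HasFiniteInjDim (Localization.AtPrime p.asIdeal)
      ((extD (algebraMap A (Localization.AtPrime p.asIdeal))).obj R))
    (M : Type u) [AddCommGroup M] [Module A M] [Module.Finite A M] :
    ∃ N : ℤ, ∀ i, N < i → Subsingleton (E R M i) := by
  have hA : ∀ j, b < j → Subsingleton (E R A j) := fun j hj =>
    haveI := (DRingLib.isLE_iff_HD R b).1 hle j hj
    (eSelf R j).injective.subsingleton
  have hE : ∀ (H : Type u) [AddCommGroup H] [Module A H] [Module.Finite A H] (i : ℤ), Module.Finite A (E R H i) :=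
    fun H _ _ _ i => finite_E hfin a (fun N _ _ _ j hj => subsingleton_E_of_lt hge N j hj) H i
  -- from primes to modules
  have hmod : ∀ (H : Type u) [AddCommGroup H] [Module A H] [Module.Finite A H],
      (∀ q : Ideal A, q.IsPrime → Module.annihilator A H ≤ q → ∃ N : ℤ, ∀ i, N < i → Subsingleton (E R (A ⧸ q) i)) →
        ∃ N : ℤ, ∀ i, N < i → Subsingleton (E R H i) := by
    intro H _ _ _ hq
    obtain ⟨N, hN⟩ := devissage (ι := PUnit.{1}) (fun _ => R) (fun _ _ => True) H fun q h1 h2 => by
      obtain ⟨N, hN⟩ := hq q h1 h2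
      exact ⟨N, fun _ i hi _ => hN i hi⟩
    exact ⟨N, fun i hi => hN PUnit.unit i hi trivial⟩
  suffices hmain : ∀ p : Ideal A, p.IsPrime → ∃ N : ℤ, ∀ i, N < i → Subsingleton (E R (A ⧸ p) i) from
    hmod M fun p hp _ => hmain p hp
  intro p hp
  induction p using WellFoundedGT.induction with
  | ind p ih => ?_
  haveI := hp
  obtain ⟨t, ht⟩ := (isNoetherianRing_iff_ideal_fg A).1 ‹_› p
  let l := t.toList
  have hl : Ideal.ofList l = p := by
    rw [← ht]; simp [Ideal.ofList, l]
  obtain ⟨K, hKge, hKle, hKfin, hKkill, ⟨π, hπ, hπker⟩, hKvan⟩ := exists_kos l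
  haveI := hKge
  haveI := hKle
  let n := (l.length : ℤ)
  -- the cohomology of `K` is controlled by `A ⧸ p`
  have hH : ∀ q : ℤ, ∃ N : ℤ, ∀ (S : Submonoid A) (i : ℤ), N < i → Subsingleton (E (locObj S R) (A ⧸ p) i) →
      Subsingleton (E (locObj S R) (Dual.HD A K q) i) := by
    intro q
    haveI := hKfin q
    refine devissage (fun S => locObj S R) (fun S i => Subsingleton (E (locObj S R) (A ⧸ p) i)) _ fun P hP hle' => ?_
    have hpP : p ≤ P := by
      rw [← hl, Ideal.ofList, Ideal.span_le]
      intro g hg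
      obtain ⟨m, hm⟩ := hKkill g hg
      exact hP.mem_of_pow_mem m (hle' (Module.mem_annihilator.2 fun y => hm q y))
    rcases eq_or_lt_of_le hpP with rfl | hlt
    · exact ⟨0, fun S i _ h => h⟩
    · obtain ⟨N, hN⟩ := ih P hlt hP
      refine ⟨N, fun S i hi _ => (subsingleton_locObj_iff S hge (A ⧸ P) i).2 fun θ => ⟨1, S.one_mem, ?_⟩⟩
      haveI := hN i hi
      exact Subsingleton.elim _ _
  choose Nq hNq using hH
  obtain ⟨a', b', hinj⟩ := hpw ⟨p, hp⟩
  let N₁ : ℤ := max (max b' (b + n)) ((Finset.Icc (-n) 0).sum fun q => max 0 (Nq q))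
  have hN₁ : ∀ q, -n ≤ q → q ≤ 0 → Nq q ≤ N₁ := fun q h1 h2 =>
    (le_max_right 0 (Nq q)).trans ((Finset.single_le_sum (f := fun q => max 0 (Nq q))
      (fun q _ => le_max_left 0 (Nq q)) (Finset.mem_Icc.2 ⟨h1, h2⟩)).trans (le_max_right _ _))
  have hb' : b' ≤ N₁ := (le_max_left _ _).trans (le_max_left _ _)
  have hbn : b + n ≤ N₁ := (le_max_right _ _).trans (le_max_left _ _)
  -- a common killing element for the first degrees
  have hstart : ∀ j, N₁ < j → ∃ s ∈ p.primeCompl, ∀ θ : E R (A ⧸ p) j, s • θ = 0 := by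
    intro j hj
    haveI := hE (A ⧸ p) j
    refine exists_mem_smul_eq_zero _ ?_
    exact (subsingleton_E_iff (B := Localization.AtPrime p) p.primeCompl (A ⧸ p) hge j).1
      (subsingleton_hom_of_isGE hinj _ 0 j (by omega))
  choose! σ hσ hσ' using hstart
  let x : A := (Finset.Icc (N₁ + 1) (N₁ + n + 1)).prod σ
  have hxp : x ∈ p.primeCompl :=
    Submonoid.prod_mem _ fun j hj => hσ j (by have := (Finset.mem_Icc.1 hj).1; omega)
  -- propagation
  let S := Submonoid.powers x
  have hloc : ∀ i, N₁ < i → Subsingleton (E (locObj S R) (A ⧸ p) i) := by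
    intro i hi
    obtain ⟨k, rfl⟩ : ∃ k : ℕ, i = N₁ + 1 + k := ⟨(i - N₁ - 1).toNat, by omega⟩
    induction k using Nat.strong_induction_on with
    | _ k ihk =>
      by_cases hk : (k : ℤ) ≤ n
      · refine (subsingleton_locObj_iff S hge (A ⧸ p) _).2 fun θ => ⟨x, Submonoid.mem_powers x, ?_⟩
        have hmem : N₁ + 1 + (k : ℤ) ∈ Finset.Icc (N₁ + 1) (N₁ + n + 1) := Finset.mem_Icc.2 ⟨by omega, by omega⟩
        show (Finset.Icc (N₁ + 1) (N₁ + n + 1)).prod σ • θ = 0
        rw [← Finset.prod_erase_mul _ σ hmem, mul_smul, hσ' _ hi θ, smul_zero]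
      · have hW : ∀ j, b < j → Subsingleton (E (locObj S R) A j) := fun j hj =>
          (subsingleton_locObj_iff S hge A j).2 fun θ => ⟨1, S.one_mem, haveI := hA j hj; Subsingleton.elim _ _⟩
        haveI hK0 : Subsingleton ((𝟭 (Dual.D A)).obj K ⟶ (locObj S R)⟦N₁ + 1 + (k : ℤ)⟧) :=
          hKvan (locObj S R) (N₁ + 1 + k) b hW (by omega)
        haveI : (((ts A).truncLT 0).obj K).IsLE (-1) := (ts A).isLE_truncLT_obj _ _ _ (by omega)
        haveI : (((ts A).truncLT 0).obj K).IsGE (-n) := inferInstance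
        have hneg : Subsingleton (((ts A).truncLT 0).obj K ⟶ (locObj S R)⟦N₁ + 1 + (k : ℤ) - 1⟧) := by
          refine vanish' (W := locObj S R) _ (-n) (-1) _ fun q hq hq' => ?_
          have hprev : ∀ j : ℤ, N₁ < j → j < N₁ + 1 + k → Subsingleton (E (locObj S R) (A ⧸ p) j) := by
            intro j hj1 hj2
            have := ihk (j - N₁ - 1).toNat (by omega) (by omega)
            rwa [show N₁ + 1 + ((j - N₁ - 1).toNat : ℤ) = j by omega] at this
          haveI := hNq q S (N₁ + 1 + k - 1 + q) (by have := hN₁ q hq (by omega); omega)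
            (hprev _ (by omega) (by omega))
          exact (econgr (locObj S R) (hTruncLT K 0 q (by omega)).symm _).injective.subsingleton
        haveI : (((ts A).truncGE 0).obj K).IsGE 0 := inferInstance
        haveI : (((ts A).truncGE 0).obj K).IsLE 0 := inferInstance
        obtain ⟨e⟩ := exists_single_iso (((ts A).truncGE 0).obj K) 0
        haveI : Subsingleton (((ts A).truncGE 0).obj K ⟶ (locObj S R)⟦N₁ + 1 + (k : ℤ)⟧) :=
          (injective_pre_truncGE K 0 _ hneg).subsingleton
        haveI : Subsingleton (E (locObj S R) (Dual.HD A (((ts A).truncGE 0).obj K) 0) (N₁ + 1 + k)) :=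
          (homCongr (locObj S R) e.symm _).injective.subsingleton
        let eH : (A ⧸ p) ≃ₗ[A] Dual.HD A (((ts A).truncGE 0).obj K) 0 :=
          ((Submodule.quotEquivOfEq p (LinearMap.ker π) (by rw [hπker, hl])).trans
            (π.quotKerEquivOfSurjective hπ)).trans (hTruncGE K 0 0 le_rfl)
        exact (econgr (locObj S R) eH _).symm.injective.subsingleton
  -- multiplication by `x` is eventually injective
  obtain ⟨Nx, hNx⟩ := hmod (A ⧸ (p ⊔ Ideal.span {x})) fun q hq hle' => ih q (by
    rw [Ideal.annihilator_quotient] at hle'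
    refine lt_of_le_of_ne (le_sup_left.trans hle') fun hpq => hxp ?_
    rw [hpq]
    exact hle' (Ideal.mem_sup_right (Ideal.mem_span_singleton_self x))) hq
  refine ⟨max N₁ Nx, fun i hi => subsingleton_of_forall_eq 0 fun θ => ?_⟩
  let f : (A ⧸ p) →ₗ[A] (A ⧸ p) := x • LinearMap.id
  let g : (A ⧸ p) →ₗ[A] A ⧸ (p ⊔ Ideal.span {x}) := Submodule.factor le_sup_left
  have hf : Function.Injective f := by
    refine (injective_iff_map_eq_zero f).2 fun z hz => ?_
    obtain ⟨c, rfl⟩ := Ideal.Quotient.mk_surjective z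
    have : x * c ∈ p := Ideal.Quotient.eq_zero_iff_mem.1 hz
    exact Ideal.Quotient.eq_zero_iff_mem.2 ((hp.mem_or_mem this).resolve_left hxp)
  have hg : Function.Surjective g := Submodule.factor_surjective _
  have hfg : Function.Exact f g := by
    intro z
    obtain ⟨c, rfl⟩ := Submodule.Quotient.mk_surjective _ z
    rw [show g (Submodule.Quotient.mk c) = Submodule.Quotient.mk c from rfl, Submodule.Quotient.mk_eq_zero,
      Submodule.mem_sup]
    constructor
    · rintro ⟨u, hu, w, hw, rfl⟩
      obtain ⟨d, rfl⟩ := Ideal.mem_span_singleton'.1 hw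
      refine ⟨Submodule.Quotient.mk d, ?_⟩
      show (Submodule.Quotient.mk (x * d) : A ⧸ p) = Submodule.Quotient.mk (u + d * x)
      rw [Submodule.Quotient.eq, show x * d - (u + d * x) = -u by ring]
      exact neg_mem hu
    · rintro ⟨d, hd⟩
      obtain ⟨d, rfl⟩ := Submodule.Quotient.mk_surjective _ d
      refine ⟨c - d * x, ?_, d * x, Ideal.mem_span_singleton'.2 ⟨d, rfl⟩, by ring⟩
      have h1 : (Submodule.Quotient.mk (x • d) : A ⧸ p) = Submodule.Quotient.mk c := hd
      rw [Submodule.Quotient.eq, smul_eq_mul] at h1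
      rw [show c - d * x = -(x * d - c) by ring]
      exact neg_mem h1
  have hinjx : ∀ φ : E R (A ⧸ p) i, x • φ = 0 → φ = 0 := fun φ hφ => by
    haveI := hNx i (by omega)
    obtain ⟨ψ, rfl⟩ := (exact_emap (W := R) hf hg hfg i φ).1 (by
      rw [show emap R f i φ = x • φ from emap_smul_id R x i φ]; exact hφ)
    rw [Subsingleton.elim ψ 0, map_zero]
  obtain ⟨_, ⟨m, rfl⟩, hm⟩ := (subsingleton_locObj_iff S hge (A ⧸ p) i).1 (hloc i (by omega)) θ
  clear_value x
  induction m with
  | zero =>
    have : (x ^ 0) • θ = 0 := hm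
    rwa [pow_zero, one_smul] at this
  | succ m ihm =>
    refine ihm (hinjx _ ?_)
    rw [← mul_smul, ← pow_succ']
    exact hm

end Groth.Agent.DualLib.PwExt
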