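import Groth.Agent.DCat.DerivedPrecompRight
import Groth.Agent.DCat.RHomCxProj
import Groth.Agent.DCat.DTenExact
import Groth.Agent.DualLib.ShriekRes
import Mathlib.Algebra.Homology.Localization

/-! `RHom(P, -)` for an arbitrary complex `P`, and its comparison with the internal hom. -/

set_option autoImplicit false
set_option backward.isDefEq.respectTransparency false
set_option backward.defeqAttrib.useBackward true
set_option linter.style.haveILetI false

universe u

open CategoryTheory CategoryTheory.Limits CochainComplex CochainComplex.HomComplex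

attribute [local instance] HasDerivedCategory.standard

namespace Groth.Agent.DualLib.RHC

open Groth.Agent

variable {A : Type u} [CommRing A] {P X Y : DRing.Cx A}

/-- `Hom•(P, -)` sends homotopy equivalences to quasi-isomorphisms. -/
theorem quasiIso_homCxMap_of_hot (P : DRing.Cx A) (f : X ⟶ Y)
    (hf : IsIso ((HomotopyCategory.quotient (ModuleCat.{u} A) (ComplexShape.up ℤ)).map f)) :
    QuasiIso (DRing.homCxMap P f) := by
  rw [quasiIso_iff]
  intro n
  let q := HomotopyCategory.quotient (ModuleCat.{u} A) (ComplexShape.up ℤ)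
  haveI : IsIso (q.map (f⟦n⟧')) := (NatIso.isIso_map_iff (q.commShiftIso n) f).2
    (by haveI : IsIso (q.map f) := hf; exact inferInstanceAs (IsIso ((q.map f)⟦n⟧')))
  refine DCat.quasiIsoAt_of_elements _ (n - 1) n (n + 1) (by simp) (by simp) ?_ ?_
  · intro (z : Cochain P Y n) hz
    let zc : Cocycle P Y n := Cocycle.mk z (n + 1) rfl hz
    obtain ⟨w, hw⟩ := (CohomologyClass.toHom_bijective P X n).2
      (CohomologyClass.toHom (CohomologyClass.mk zc) ≫ inv (q.map (f⟦n⟧')))
    obtain ⟨w, rfl⟩ := w.mk_surjective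
    refine ⟨w.1, w.δ_eq_zero (n + 1), ?_⟩
    have e : CohomologyClass.toHom (CohomologyClass.mk (w.postcomp f)) = CohomologyClass.toHom (CohomologyClass.mk zc) := by
      rw [CohomologyClass.toHom_mk (w.postcomp f), Cocycle.equivHomShift_symm_postcomp, Functor.map_comp,
        ← CohomologyClass.toHom_mk w, hw]
      exact (Category.assoc _ _ _).trans ((congrArg (_ ≫ ·) (IsIso.inv_hom_id _)).trans (Category.comp_id _))
    have e' := (CohomologyClass.toHom_bijective P Y n).1 e
    rw [← sub_eq_zero, ← CohomologyClass.mk_sub, CohomologyClass.mk_eq_zero_iff,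
      mem_coboundaries_iff _ (n - 1) (by omega)] at e'
    obtain ⟨y, hy⟩ := e'
    exact ⟨y, hy.symm⟩
  · intro (w : Cochain P X n) hw ⟨(y : Cochain P Y (n - 1)), hy⟩
    let wc : Cocycle P X n := Cocycle.mk w (n + 1) rfl hw
    have h0 : CohomologyClass.toHom (CohomologyClass.mk (wc.postcomp f)) = 0 := by
      rw [CohomologyClass.toHom_mk_eq_zero_iff, mem_coboundaries_iff _ (n - 1) (by omega)]
      exact ⟨y, hy.symm⟩
    rw [CohomologyClass.toHom_mk, Cocycle.equivHomShift_symm_postcomp, Functor.map_comp] at h0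
    have h1 : CohomologyClass.toHom (CohomologyClass.mk wc) = 0 := by
      rw [CohomologyClass.toHom_mk, ← cancel_mono (q.map (f⟦n⟧')), zero_comp]
      exact h0
    rw [CohomologyClass.toHom_mk_eq_zero_iff, mem_coboundaries_iff _ (n - 1) (by omega)] at h1
    exact h1

/-- `RHom(P, -)` on a K-injective complex. -/
theorem nonempty_RHomCx_kInj (P : DRing.Cx A) [DRing.HasRHomCx P] (I : DRing.Cx A) [I.IsKInjective] :
    Nonempty ((DRing.RHomCx P).obj (DerivedCategory.Q.obj I) ≅ DerivedCategory.Q.obj (DRing.homCx P I)) := by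
  let q := HomotopyCategory.quotient (ModuleCat.{u} A) (ComplexShape.up ℤ)
  let H := HomologicalComplex.homotopyEquivalences (ModuleCat.{u} A) (ComplexShape.up ℤ)
  have hinv : H.IsInvertedBy (DRing.homCxQ P) := fun K L f hf => by
    haveI := quasiIso_homCxMap_of_hot P f (Localization.inverts q H f hf)
    exact DCat.isIso_Q_map_of_qis (DRing.homCxMap P f)
  let F := Localization.lift (DRing.homCxQ P) hinv q
  let eF : q ⋙ F ≅ DRing.homCxQ P := Localization.fac _ hinv q
  let W := HomotopyCategory.quasiIso (ModuleCat.{u} A) (ComplexShape.up ℤ)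
  let W₀ := HomologicalComplex.quasiIso (ModuleCat.{u} A) (ComplexShape.up ℤ)
  haveI : F.HasRightDerivedFunctor W := DCat.hasRightDerivedFunctor_of_enoughKInj DCat.enoughKInj_modules F
  haveI : ((Functor.whiskeringLeft (DRing.Cx A) _ (Dual.D A)).obj q).Full :=
    Localization.full_whiskeringLeft q H (Dual.D A)
  haveI : ((Functor.whiskeringLeft (DRing.Cx A) _ (Dual.D A)).obj q).Faithful :=
    Localization.faithful_whiskeringLeft q H (Dual.D A)
  haveI := DCat.isRightDerived_precomp q (L := DerivedCategory.Qh) (L₀ := DerivedCategory.Q)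
    (DerivedCategory.quotientCompQhIso (ModuleCat.{u} A)) eF W₀
    (RF := F.totalRightDerived DerivedCategory.Qh W) (F.totalRightDerivedUnit DerivedCategory.Qh W) (W := W)
  let u' := (DRing.homCxQ P).totalRightDerivedUnit DerivedCategory.Q W₀
  let e : DRing.RHomCx P ≅ F.totalRightDerived DerivedCategory.Qh W :=
    Functor.rightDerivedUnique (DRing.RHomCx P) (F.totalRightDerived DerivedCategory.Qh W) u'
      (eF.inv ≫ Functor.whiskerLeft q (F.totalRightDerivedUnit DerivedCategory.Qh W) ≫ (Functor.associator _ _ _).inv ≫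
        Functor.whiskerRight (DerivedCategory.quotientCompQhIso (ModuleCat.{u} A)).hom _) W₀
  haveI := DCat.isIso_unit_of_kInj DCat.enoughKInj_modules F I inferInstance
  exact ⟨e.app _ ≪≫ (F.totalRightDerived DerivedCategory.Qh W).mapIso
      ((DerivedCategory.quotientCompQhIso (ModuleCat.{u} A)).app I).symm ≪≫
    (asIso ((F.totalRightDerivedUnit DerivedCategory.Qh W).app (q.obj I))).symm ≪≫ eF.app I⟩

/-- `RHom(P, -)` is the internal hom. -/
theorem nonempty_RHomCx_RHomR [DTen.HasLTen A] [DTen.HasRHom A] (P : DRing.Cx A) [DRing.HasRHomCx P] (X : Dual.D A) :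
    Nonempty ((DRing.RHomCx P).obj X ≅ (DTen.RHomR A (DerivedCategory.Q.obj P)).obj X) := by
  obtain ⟨I, hI, ⟨eI⟩⟩ := DCat.exists_kInj_obj X
  haveI : I.IsKInjective := hI
  obtain ⟨P', c, hP', -, hc, -⟩ := DCat.exists_kflat P
  haveI := hc
  haveI := Shriek.quasiIso_homPre (I := I) c
  haveI := DCat.isIso_Q_map_of_qis (DCat.homPre c I)
  haveI := DCat.isIso_homθ (I := I) hP'
  haveI := DCat.isIso_Q_map_of_qis c
  obtain ⟨e⟩ := nonempty_RHomCx_kInj P I
  exact ⟨(DRing.RHomCx P).mapIso eI.symm ≪≫ e ≪≫ asIso (DerivedCategory.Q.map (DCat.homPre c I)) ≪≫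
    asIso (DCat.homθ P' I) ≪≫
    ((DTen.RHom A).mapIso (asIso (DerivedCategory.Q.map c)).op).symm.app _ ≪≫
    (DTen.RHomR A (DerivedCategory.Q.obj P)).mapIso eI⟩

end Groth.Agent.DualLib.RHC
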