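import Groth.Agent.FlatCx12.AmpFibreCx
import Groth.Agent.FlatCx12.AmpCoverRing
import Groth.Agent.EGA43.FlatDescent.Global
import Groth.Agent.EGA43.GrFlat.Stage
import Mathlib.RingTheory.Flat.Localization

/-!
# Finite tor dimension over the base from boundedness below on the fibres
-/

set_option autoImplicit false
set_option backward.isDefEq.respectTransparency false
set_option backward.defeqAttrib.useBackward true
set_option linter.style.haveILetI false

universe u

open CategoryTheory CategoryTheory.Limits TensorProduct Function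

attribute [local instance] HasDerivedCategory.standard

namespace Groth.Agent.DualLib.RelPerfFibres

open Groth.Agent.EGA43.InjFibre Groth.Agent.FlatCx12.AmpFibreRing

variable {R : Type u} [CommRing R] (p : Ideal R) [p.IsPrime] {M : Type u} [AddCommGroup M] [Module R M]

theorem isLocalizedModule_residueField :
    IsLocalizedModule p.primeCompl (IsScalarTower.toAlgHom R (R ⧸ p) p.ResidueField).toLinearMap := by
  refine { map_units := fun s => ?_, surj := fun κ => ?_, exists_of_eq := fun {x y} h => ?_ }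
  · have hne : algebraMap R p.ResidueField s.1 ≠ 0 := fun h => s.2 (Ideal.algebraMap_residueField_eq_zero.1 h)
    refine (Module.End.isUnit_iff _).2 ⟨fun x y h => ?_, fun y => ⟨(algebraMap R p.ResidueField s.1)⁻¹ * y, ?_⟩⟩
    · simp only [Module.algebraMap_end_apply, Algebra.smul_def] at h
      exact mul_left_cancel₀ hne h
    · rw [Module.algebraMap_end_apply, Algebra.smul_def, ← mul_assoc, mul_inv_cancel₀ hne, one_mul]
  · obtain ⟨⟨x, s, hs⟩, e⟩ := IsLocalization.surj (nonZeroDivisors (R ⧸ p)) κ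
    obtain ⟨s, rfl⟩ := Ideal.Quotient.mk_surjective s
    refine ⟨⟨x, s, fun h => nonZeroDivisors.ne_zero hs (Ideal.Quotient.eq_zero_iff_mem.2 h)⟩, ?_⟩
    rw [Submonoid.smul_def, Algebra.smul_def, mul_comm]
    exact e
  · exact ⟨1, by rw [show x = y from IsFractionRing.injective (R ⧸ p) p.ResidueField h]⟩

theorem exists_smul_mem_of_tmul_eq_zero (m : M) (hm : (1 : p.ResidueField) ⊗ₜ[R] m = 0) :
    ∃ s ∉ p, s • m ∈ p • (⊤ : Submodule R M) := by
  haveI := isLocalizedModule_residueField p
  let θ := AlgebraTensorModule.rTensor R M (IsScalarTower.toAlgHom R (R ⧸ p) p.ResidueField).toLinearMap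
  have h0 : θ ((1 : R ⧸ p) ⊗ₜ m) = θ 0 := by
    rw [map_zero]
    show (IsScalarTower.toAlgHom R (R ⧸ p) p.ResidueField 1) ⊗ₜ[R] m = 0
    rw [map_one]; exact hm
  obtain ⟨⟨s, hs⟩, hsm⟩ := IsLocalizedModule.exists_of_eq (S := p.primeCompl) (f := θ) h0
  refine ⟨s, hs, (tmul_one_quotient_eq_zero_iff p _).1 ((TensorProduct.comm R M (R ⧸ p)).injective ?_)⟩
  rw [map_zero, TensorProduct.comm_tmul, TensorProduct.tmul_smul]
  exact hsm.trans (smul_zero _)

theorem exists_smul_eq_tmul_one (z : p.ResidueField ⊗[R] M) :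
    ∃ s ∉ p, ∃ m : M, s • z = (1 : p.ResidueField) ⊗ₜ m := by
  haveI := isLocalizedModule_residueField p
  let θ := AlgebraTensorModule.rTensor R M (IsScalarTower.toAlgHom R (R ⧸ p) p.ResidueField).toLinearMap
  obtain ⟨⟨w, s, hs⟩, h⟩ := IsLocalizedModule.surj p.primeCompl θ z
  obtain ⟨m, rfl⟩ := TensorProduct.mk_surjective R M (R ⧸ p) Ideal.Quotient.mk_surjective w
  exact ⟨s, hs, m, h.trans (by show (IsScalarTower.toAlgHom R (R ⧸ p) p.ResidueField 1) ⊗ₜ[R] m = _; rw [map_one])⟩

theorem tmul_eq_zero_of_mem {m : M} (h : m ∈ p • (⊤ : Submodule R M)) : (1 : p.ResidueField) ⊗ₜ[R] m = 0 := by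
  refine Submodule.smul_induction_on h (fun r hr n _ => ?_) (fun x y hx hy => ?_)
  · rw [TensorProduct.tmul_smul, TensorProduct.smul_tmul', ← Algebra.algebraMap_eq_smul_one,
      Ideal.algebraMap_residueField_eq_zero.2 hr, TensorProduct.zero_tmul]
  · rw [TensorProduct.tmul_add, hx, hy, add_zero]

section Point

variable {B : Type u} [CommRing B] [Algebra R B] {M₀ M₁ M₂ : Type u}
  [AddCommGroup M₀] [Module B M₀] [Module R M₀] [IsScalarTower R B M₀]
  [AddCommGroup M₁] [Module B M₁] [Module R M₁] [IsScalarTower R B M₁]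
  [AddCommGroup M₂] [Module B M₂] [Module R M₂] [IsScalarTower R B M₂]

/-- Injectivity on the fibre from exactness of the fibre complex. -/
theorem fibInjAt_of_exact (d₀ : M₀ →ₗ[B] M₁) (d₁ : M₁ →ₗ[B] M₂) (h₀₁ : d₁ ∘ₗ d₀ = 0) (q : PrimeSpectrum B)
    (h : Exact ((d₀.restrictScalars R).lTensor (q.asIdeal.comap (algebraMap R B)).ResidueField)
      ((d₁.restrictScalars R).lTensor (q.asIdeal.comap (algebraMap R B)).ResidueField)) :
    FibInjAt R B (uMap d₀ d₁ h₀₁) q := by
  let p := q.asIdeal.comap (algebraMap R B)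
  rintro x ⟨c, hc, hcx⟩
  obtain ⟨x, rfl⟩ := Submodule.Quotient.mk_surjective _ x
  have h0 : (d₁.restrictScalars R).lTensor p.ResidueField (1 ⊗ₜ (c • x)) = 0 := by
    rw [LinearMap.lTensor_tmul]
    refine tmul_eq_zero_of_mem p ?_
    show d₁ (c • x) ∈ _
    rw [map_smul]
    exact hcx
  obtain ⟨z, hz⟩ := (h _).1 h0
  obtain ⟨s, hs, n, hn⟩ := exists_smul_eq_tmul_one p z
  have h1 : (1 : p.ResidueField) ⊗ₜ[R] (s • (c • x) - d₀ n) = 0 := by
    rw [TensorProduct.tmul_sub, TensorProduct.tmul_smul, ← hz, ← map_smul, hn, LinearMap.lTensor_tmul]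
    exact sub_self _
  obtain ⟨t, ht, htm⟩ := exists_smul_mem_of_tmul_eq_zero p _ h1
  refine ⟨algebraMap R B (t * s) * c, q.asIdeal.primeCompl.mul_mem (p.primeCompl.mul_mem ht hs) hc, ?_⟩
  let π : M₁ →ₗ[R] M₁ ⧸ LinearMap.range d₀ := (LinearMap.range d₀).mkQ.restrictScalars R
  have key : π (t • (s • (c • x) - d₀ n)) ∈ p • (⊤ : Submodule R (M₁ ⧸ LinearMap.range d₀)) := by
    have h2 := Submodule.mem_map_of_mem (f := π) htm
    rw [Submodule.map_smul''] at h2
    exact Submodule.smul_mono le_rfl le_top h2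
  have h3 : π (d₀ n) = 0 := (Submodule.Quotient.mk_eq_zero _).2 (LinearMap.mem_range_self _ _)
  rw [map_smul, map_sub, h3, sub_zero, map_smul] at key
  rw [mul_smul, algebraMap_smul, mul_smul]
  exact key

end Point

variable {B : Type u} [CommRing B] [Algebra R B] (P : DRing.Cx B)

noncomputable local instance instModX (i : ℤ) : Module R (P.X i) := Module.compHom (P.X i) (algebraMap R B)

local instance instTowerX (i : ℤ) : IsScalarTower R B (P.X i) := IsScalarTower.of_algebraMap_smul fun _ _ => rfl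

/-- The cokernel of `P^j → P^i` is flat over the base at `q`. -/
def Fl (R : Type u) [CommRing R] {B : Type u} [CommRing B] [Algebra R B] (P : DRing.Cx B) (j i : ℤ)
    (q : PrimeSpectrum B) : Prop :=
  letI : Module R (P.X i) := Module.compHom (P.X i) (algebraMap R B)
  haveI : IsScalarTower R B (P.X i) := IsScalarTower.of_algebraMap_smul fun _ _ => rfl
  Module.Flat R (LocalizedModule q.asIdeal.primeCompl (P.X i ⧸ LinearMap.range (P.d j i).hom))

theorem flat_localized [Module.Flat R B] (hP : DRing.TermwiseFiniteFree P) (i : ℤ) (q : PrimeSpectrum B) :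
    Module.Flat R (LocalizedModule q.asIdeal.primeCompl (P.X i)) :=
  haveI := (hP i).2
  haveI : Module.Flat B (LocalizedModule q.asIdeal.primeCompl (P.X i)) :=
    Module.Flat.trans B (Localization q.asIdeal.primeCompl) _
  Module.Flat.trans R B _

variable [Module.Flat R B] [Algebra.FinitePresentation R B]

omit [Module.Flat R B] in
theorem isOpen_fl (hP : DRing.TermwiseFiniteFree P) (j i : ℤ) : IsOpen {q | Fl R P j i q} := by
  haveI := (hP i).1
  haveI := (hP i).2
  haveI := (hP j).1
  haveI : Module.FinitePresentation B (P.X i) := Module.finitePresentation_of_projective _ _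
  haveI : Module.FinitePresentation B (P.X i ⧸ LinearMap.range (P.d j i).hom) :=
    Module.finitePresentation_of_surjective _ (Submodule.mkQ_surjective _)
      (by rw [Submodule.ker_mkQ, LinearMap.range_eq_map]; exact (Module.Finite.fg_top).map _)
  exact EGA43.FlatDescent.isOpen_setOf_flat

omit [Algebra.FinitePresentation R B] in
theorem fl_mono (hP : DRing.TermwiseFiniteFree P) {i : ℤ} (hex : P.ExactAt i) {q : PrimeSpectrum B}
    (h : Fl R P i (i + 1) q) : Fl R P (i - 1) i q := by
  have hfe : Exact (P.d (i - 1) i).hom (P.d i (i + 1)).hom := by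
    rw [HomologicalComplex.exactAt_iff' (i := i - 1) (j := i) (k := i + 1) _ (by simp) (by simp),
      ShortComplex.ShortExact.moduleCat_exact_iff_function_exact] at hex
    exact hex
  let S := q.asIdeal.primeCompl
  let u := uMap (P.d (i - 1) i).hom (P.d i (i + 1)).hom hfe.linearMap_comp_eq_zero
  let π := (LinearMap.range (P.d i (i + 1)).hom).mkQ
  have hu : Injective u := LinearMap.ker_eq_bot.1 (Submodule.ker_liftQ_eq_bot _ _ _ (hfe.linearMap_ker_eq).le)
  have hπ : Exact u π := LinearMap.exact_iff.2 (by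
    rw [Submodule.ker_mkQ]; exact (Submodule.range_liftQ _ _ _).symm)
  let u' := (LocalizedModule.map S u).restrictScalars R
  let π' := (LocalizedModule.map S π).restrictScalars R
  have hu' : Injective u' := LocalizedModule.map_injective S u hu
  have hπ' : Surjective π' := LocalizedModule.map_surjective S π (Submodule.mkQ_surjective _)
  have hex' : Exact u' π' := LocalizedModule.map_exact S u π hπ
  haveI := flat_localized (R := R) P hP (i + 1) q
  haveI : Module.Flat R (LocalizedModule S (P.X (i + 1) ⧸ LinearMap.range (P.d i (i + 1)).hom)) := h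
  haveI := EGA43.GrFlat.flat_ker π' hπ'
  exact Module.Flat.of_linearEquiv ((LinearEquiv.ofInjective u' hu').trans
    (LinearEquiv.ofEq _ _ hex'.linearMap_ker_eq.symm))

theorem fl_of_exact (hP : DRing.TermwiseFiniteFree P) (i : ℤ) (q : PrimeSpectrum B)
    (h : (DRing.tensorCx ((DRing.restrictCx (algebraMap R B)).obj P)
      (ModuleCat.of R (q.asIdeal.comap (algebraMap R B)).ResidueField)).ExactAt i) :
    Fl R P i (i + 1) q := by
  rw [FlatCx12.AmpCoverRing.exactAt_iff_exact] at h
  have h01 : (P.d i (i + 1)).hom ∘ₗ (P.d (i - 1) i).hom = 0 :=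
    congrArg ModuleCat.Hom.hom (P.d_comp_d (i - 1) i (i + 1))
  haveI := fun j => (hP j).1
  haveI := fun j => (hP j).2
  haveI : ∀ j, Module.FinitePresentation B (P.X j) := fun j => Module.finitePresentation_of_projective _ _
  haveI : Module.FinitePresentation B (P.X i ⧸ LinearMap.range (P.d (i - 1) i).hom) :=
    Module.finitePresentation_of_surjective _ (Submodule.mkQ_surjective _)
      (by rw [Submodule.ker_mkQ, LinearMap.range_eq_map]; exact (Module.Finite.fg_top).map _)
  have hU := uInjAt_of_fibInjAt (flat_localized (R := R) P hP (i + 1) q)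
    (fibInjAt_of_exact (P.d (i - 1) i).hom (P.d i (i + 1)).hom h01 q h)
  exact hU.flat_coker (flat_localized (R := R) P hP (i + 1) q) (LinearMap.range (P.d i (i + 1)).hom).mkQ
    (Submodule.mkQ_surjective _) (LinearMap.exact_iff.2 (by
      rw [Submodule.ker_mkQ]; exact (Submodule.range_liftQ _ _ _).symm))

/-- Finite tor dimension over the base from boundedness below on each fibre. -/
theorem amp_of_pointwise (hP : DRing.TermwiseFiniteFree P) {c : ℤ} (hc : DRing.VanishesAbove P c) {a₀ : ℤ}
    (hex : ∀ i < a₀, P.ExactAt i)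
    (h : ∀ q : PrimeSpectrum B, ∃ a : ℤ, ∀ i < a, (DRing.tensorCx ((DRing.restrictCx (algebraMap R B)).obj P)
      (ModuleCat.of R (q.asIdeal.comap (algebraMap R B)).ResidueField)).ExactAt i) :
    DRing.HasFiniteTorDimCx R (DRing.toD ((DRing.restrictCx (algebraMap R B)).obj P)) := by
  let b₀ := min a₀ c
  let U : ℕ → Set (PrimeSpectrum B) := fun n => {q | Fl R P (b₀ - n - 1) (b₀ - n) q}
  have hmono : Monotone U := monotone_nat_of_le_succ fun n q hq => by
    have h2 := fl_mono (R := R) P hP (hex (b₀ - n - 1) (by omega))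
      (q := q) (by rw [show b₀ - (n : ℤ) - 1 + 1 = b₀ - n by omega]; exact hq)
    show Fl R P (b₀ - (n + 1 : ℕ) - 1) (b₀ - (n + 1 : ℕ)) q
    rw [show b₀ - ((n + 1 : ℕ) : ℤ) = b₀ - n - 1 by omega]
    exact h2
  have hcov : (Set.univ : Set (PrimeSpectrum B)) ⊆ ⋃ n, U n := fun q _ => by
    obtain ⟨a, ha⟩ := h q
    refine Set.mem_iUnion.2 ⟨(b₀ - a).toNat, ?_⟩
    have h2 := fl_of_exact (R := R) P hP (b₀ - (b₀ - a).toNat - 1) q (ha _ (by omega))
    rw [show b₀ - ((b₀ - a).toNat : ℤ) - 1 + 1 = b₀ - (b₀ - a).toNat by omega] at h2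
    exact h2
  obtain ⟨n, hn⟩ := isCompact_univ.elim_directed_cover U (fun n => isOpen_fl P hP _ _) hcov hmono.directed_le
  let a := b₀ - n
  let r := ModuleCat.restrictScalars.{u} (algebraMap R B)
  refine ⟨a, c, FlatCx12.AmpFibreCx.amp_of_truncation _ (fun i => ?_) (by omega)
    (fun i hi => r.map_isZero (hc i hi)) (fun i hi => (hex i (by omega)).map r) ?_⟩
  · haveI := (hP i).2
    exact Module.Flat.trans R B (P.X i)
  · haveI : Module.Flat R (P.X a ⧸ LinearMap.range (P.d (a - 1) a).hom) :=
      Module.flat_of_isLocalized_maximal B _ (fun Q _ => LocalizedModule Q.primeCompl _)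
        (fun Q _ => LocalizedModule.mkLinearMap Q.primeCompl _) fun Q hQ => hn (Set.mem_univ ⟨Q, inferInstance⟩)
    exact @Module.Flat.of_linearEquiv _ _ _ _ _ _ _ _ ‹_› ((PreservesCokernel.iso r _).symm ≪≫
      r.mapIso (ModuleCat.cokernelIsoRangeQuotient _)).toLinearEquiv

end Groth.Agent.DualLib.RelPerfFibres
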