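import Groth.Agent.DCat.RHomBidual
import Groth.Agent.Dual22Lib.TenLocal

/-!
# The biduality map on a scheme and its local splitting

The map `L → RHom(RHom(L, K), K)` has a retraction over every open over which `L` is a dual.
-/

set_option autoImplicit false
set_option backward.isDefEq.respectTransparency false
set_option backward.defeqAttrib.useBackward true
set_option linter.style.haveILetI false

universe u

open CategoryTheory CategoryTheory.Limits CategoryTheory.Pretriangulated AlgebraicGeometry HomologicalComplex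

attribute [local instance] HasDerivedCategory.standard

namespace Groth.Agent.DualLib.SchBidual

open Groth.Agent.DCat Groth.Agent.Dual22Lib

variable {X : Scheme.{u}}

/-- A morphism into a `RHom` out of an extension by zero can be prescribed on the open. -/
theorem exists_lift {W : Scheme.{u}} (j : W ⟶ X) [IsOpenImmersion j] {N : CochainComplex W.Modules ℤ}
    (hN : IsKFlatFor (shT W) N) (K A : DCoh.D X)
    (y : (PerfLocal.rd j).obj A ⟶ (PerfLocal.rd j).obj ((RHomNat.RH ((ShriekTot.shriekC j).obj N)).obj K)) :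
    ∃ f : A ⟶ (RHomNat.RH ((ShriekTot.shriekC j).obj N)).obj K, (PerfLocal.rd j).map f = y := by
  let J := (ShriekTot.shriekC j).obj N
  let c : (JShriek.shriek j).mapDerivedCategory.obj ((PerfLocal.rd j).obj A) ⟶ A := (JShriek.shriekD j).counit.app A
  haveI := TenLocal.isIso_rd_counit j A
  haveI : IsIso ((PerfLocal.rd j).map c) := ‹_›
  have h0 : IsIso (((DerivedCategory.Q ⋙ TotSymm.LTD).obj J).map c) := RHomBidual.isIso_LTD_map j hN c
  haveI : IsIso ((RHomNat.LT J).map c) := (NatIso.isIso_map_iff (TotSymm.LTDIso.app J) c).1 h0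
  let w := ((JShriek.shriekD j).homEquiv _ _).symm y
  let f := (RHomNat.adjE J).homEquiv A K (inv ((RHomNat.LT J).map c) ≫ ((RHomNat.adjE J).homEquiv _ _).symm w)
  have hf : c ≫ f = w := by
    refine ((RHomNat.adjE J).homEquiv_naturality_left c _).symm.trans ?_
    rw [IsIso.hom_inv_id_assoc, Equiv.apply_symm_apply]
  refine ⟨f, ?_⟩
  have h := (JShriek.shriekD j).right_triangle_components A
  rw [show y = (JShriek.shriekD j).homEquiv _ _ w from (Equiv.apply_symm_apply _ y).symm, ← hf,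
    Adjunction.homEquiv_unit, Functor.map_comp, reassoc_of% h]

/-- **The biduality map**, with a retraction over every open where the source is a dual. -/
theorem exists_map (K : DCoh.D X) {P : CochainComplex X.Modules ℤ} (hP : IsKFlatFor (shT X) P)
    (M : CochainComplex X.Modules ℤ) (e : DerivedCategory.Q.obj M ≅ (RHomNat.RH P).obj K) :
    ∃ η : DerivedCategory.Q.obj P ⟶ (RHomNat.RH M).obj K,
      ∀ (Z : CochainComplex X.Modules ℤ) (d : DerivedCategory.Q.obj P ⟶ (RHomNat.RH Z).obj K),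
        ∃ r : (RHomNat.RH M).obj K ⟶ (RHomNat.RH Z).obj K, η ≫ r = d := by
  obtain ⟨e₁⟩ := TotSymm.nonempty_LTD_flip hP
  obtain ⟨e₂⟩ := TotSymm.nonempty_LT_leftT hP
  let σ : (TotSymm.LTD (X := X)).flip.obj (DerivedCategory.Q.obj P) ≅ RHomNat.LT P := e₁ ≪≫ e₂.symm
  let ι := fun E : CochainComplex X.Modules ℤ => (TotSymm.LTDIso (X := X)).app E
  let p : (RHomNat.LT M).obj (DerivedCategory.Q.obj P) ⟶ K :=
    (ι M).inv.app _ ≫ σ.hom.app _ ≫ ((RHomNat.adjE P).homEquiv _ K).symm e.hom
  refine ⟨(RHomNat.adjE M).homEquiv _ K p, fun Z d => ?_⟩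
  let pZ := ((RHomNat.adjE Z).homEquiv _ K).symm d
  let g' := (RHomNat.adjE P).homEquiv (DerivedCategory.Q.obj Z) K
    (σ.inv.app _ ≫ (ι Z).hom.app (DerivedCategory.Q.obj P) ≫ pZ)
  let g := g' ≫ e.inv
  let τ : RHomNat.LT Z ⟶ RHomNat.LT M := (ι Z).inv ≫ (TotSymm.LTD (X := X)).map g ≫ (ι M).hom
  refine ⟨(RHomNat.adjE Z).homEquiv _ K (τ.app _ ≫ (RHomNat.adjE M).counit.app K), ?_⟩
  rw [← (RHomNat.adjE Z).homEquiv_naturality_left]
  apply ((RHomNat.adjE Z).homEquiv _ K).symm.injective
  rw [Equiv.symm_apply_apply]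
  have h1 : (RHomNat.LT Z).map ((RHomNat.adjE M).homEquiv _ K p) ≫ τ.app _ ≫ (RHomNat.adjE M).counit.app K =
      τ.app _ ≫ p := by
    refine ((Category.assoc _ _ _).symm.trans ((congrArg (· ≫ _) (τ.naturality _)).trans (Category.assoc _ _ _))).trans ?_
    exact congrArg (τ.app _ ≫ ·) (((RHomNat.adjE M).homEquiv_counit _ _ _).symm.trans (Equiv.symm_apply_apply _ p))
  rw [h1]
  have h2 : τ.app (DerivedCategory.Q.obj P) = (ι Z).inv.app _ ≫
      ((TotSymm.LTD (X := X)).flip.obj (DerivedCategory.Q.obj P)).map g ≫ (ι M).hom.app _ := by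
    simp only [τ, NatTrans.comp_app, Functor.flip_obj_map]
  have h3 : ((TotSymm.LTD (X := X)).flip.obj (DerivedCategory.Q.obj P)).map g ≫ σ.hom.app _ =
      σ.hom.app _ ≫ (RHomNat.LT P).map g := σ.hom.naturality g
  have h4 : (RHomNat.LT P).map g ≫ ((RHomNat.adjE P).homEquiv _ K).symm e.hom =
      σ.inv.app _ ≫ (ι Z).hom.app (DerivedCategory.Q.obj P) ≫ pZ := by
    rw [← (RHomNat.adjE P).homEquiv_naturality_left_symm]
    simp only [g, g', Category.assoc, Iso.inv_hom_id, Category.comp_id, Equiv.symm_apply_apply]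
  calc τ.app _ ≫ p = (ι Z).inv.app _ ≫ (((TotSymm.LTD (X := X)).flip.obj (DerivedCategory.Q.obj P)).map g ≫
        σ.hom.app _) ≫ ((RHomNat.adjE P).homEquiv _ K).symm e.hom := by
        rw [h2]; simp only [p, Category.assoc]; rw [← NatTrans.comp_app_assoc (ι M).hom, Iso.hom_inv_id]; simp
    _ = (ι Z).inv.app _ ≫ σ.hom.app _ ≫ (RHomNat.LT P).map g ≫
        ((RHomNat.adjE P).homEquiv _ K).symm e.hom := by rw [h3, Category.assoc]
    _ = pZ := by rw [h4, Iso.hom_inv_id_app_assoc, ← NatTrans.comp_app_assoc, Iso.inv_hom_id]; simp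

end Groth.Agent.DualLib.SchBidual
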