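import Groth.Agent.DualLib.ShriekRes
import Groth.Agent.DualLib.ShriekDeg
import Groth.Agent.EGA43.PdFlat.Fibre
import Groth.Agent.CAlgH3.PdPolynomial
import Groth.Agent.DRingLib.PCPerf
import Groth.Agent.DRingLib.PCGen
import Groth.Agent.DRingLib.TorDimAmp
import Groth.Agent.EGA43.FibDepth.Points
import Mathlib.LinearAlgebra.Contraction
import Mathlib.RingTheory.Ideal.AssociatedPrime.Finiteness

/-! Amplitude of `ω_{A/R}` over the base for flat `R → A`. -/

set_option autoImplicit false
set_option backward.isDefEq.respectTransparency false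
set_option backward.defeqAttrib.useBackward true
set_option linter.style.haveILetI false

universe u

open CategoryTheory CategoryTheory.Limits CochainComplex CochainComplex.HomComplex
open scoped TensorProduct

attribute [local instance] HasDerivedCategory.standard

namespace Groth.Agent.DualLib.Shriek

open Groth.Agent

section Resolution

variable {P : Type u} [CommRing P] [IsNoetherianRing P]

/-- Flat amplitude from projective dimension. -/
theorem amp_of_pdLE : ∀ (n : ℕ) (M : Type u) [AddCommGroup M] [Module P M] [Module.Finite P M],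
    CommAlg6.PdLE P M n → DRing.HasTorAmplitudeIn P (-(n : ℤ)) 0 (Dual.inD P M) := by
  haveI : ∀ N : ModuleCat.{u} P, DRing.HasLTensor P N := fun N => DCat.hasLTensor N
  have h0 : ∀ (M : Type u) [AddCommGroup M] [Module P M], Module.Projective P M →
      DRing.HasTorAmplitudeIn P 0 0 (Dual.inD P M) := fun M _ _ hp =>
    haveI : Module.Flat P M := @Module.Flat.of_projective P M _ _ _ hp
    haveI : Module.Flat P (ModuleCat.of P M) := this
    ⟨(singleFunctor (ModuleCat.{u} P) 0).obj (ModuleCat.of P M), fun i hi =>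
      HomologicalComplex.isZero_single_obj_X _ _ _ _ (by omega), fun i => by
        by_cases hi : i = 0
        · subst hi
          exact Module.Flat.of_linearEquiv
            (HomologicalComplex.singleObjXSelf (ComplexShape.up ℤ) 0 (ModuleCat.of P M)).toLinearEquiv
        · haveI : Subsingleton (((singleFunctor (ModuleCat.{u} P) 0).obj (ModuleCat.of P M)).X i) :=
            ModuleCat.subsingleton_of_isZero
              (HomologicalComplex.isZero_single_obj_X (ComplexShape.up ℤ) 0 (ModuleCat.of P M) i hi)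
          haveI : Module.Free P (((singleFunctor (ModuleCat.{u} P) 0).obj (ModuleCat.of P M)).X i) :=
            Module.Free.of_subsingleton P _
          exact Module.Flat.of_free,
      ⟨((DerivedCategory.singleFunctorIsoCompQ (ModuleCat.{u} P) 0).app (ModuleCat.of P M)).symm⟩⟩
  intro n
  induction n with
  | zero =>
    intro M _ _ _ h
    simpa using h0 M (CommAlg6.pdLE_zero_iff.1 h)
  | succ n ih =>
    intro M _ _ _ h
    obtain ⟨k, f, hf⟩ := Module.Finite.exists_fin' P M
    have hK := ih (LinearMap.ker f) ((CommAlg6.pdLE_succ_iff f hf n).1 h)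
    have hS := LinearMap.shortExact_shortComplexKer hf
    refine DCat.flatAmp_of_vanish fun N i hi => ?_
    refine (DCat.ltensor_vanish hS.singleTriangle_distinguished N).1 i
      (DCat.vanish_of_flatAmp (h0 (Fin k → P) inferInstance) N ?_) (DCat.vanish_of_flatAmp hK N ?_)
    · rcases hi with hi | hi
      · left; omega
      · right; omega
    · rcases hi with hi | hi
      · left; omega
      · right; omega

/-- A resolution by finite projective modules of length `n`. -/
theorem exists_resolution (n : ℕ) (M : Type u) [AddCommGroup M] [Module P M] [Module.Finite P M]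
    (h : CommAlg6.PdLE P M n) :
    ∃ (F : DRing.Cx P) (π : F ⟶ (singleFunctor (ModuleCat.{u} P) 0).obj (ModuleCat.of P M)),
      F.IsKProjective ∧ QuasiIso π ∧ DRing.VanishesOutside F (-(n : ℤ)) 0 ∧ DRing.TermwiseFiniteProjective F := by
  have hpc : DRing.IsPseudoCoherent P (-(n : ℤ) - 1) (Dual.inD P M) :=
    DRingLib.pc_of_finite_homology (b := 0)
      (inferInstance : ((DerivedCategory.singleFunctor (ModuleCat.{u} P) 0).obj (ModuleCat.of P M)).IsLE 0)
      fun i _ => by
        rcases eq_or_ne i 0 with rfl | hi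
        · exact DRingLib.finite_of_iso (DRingLib.hfInD M).symm inferInstance
        · haveI : Subsingleton ((DerivedCategory.homologyFunctor (ModuleCat.{u} P) i).obj (Dual.inD P M)) := by
            refine ModuleCat.subsingleton_of_isZero ?_
            rcases lt_or_gt_of_ne hi with hlt | hgt
            · exact DerivedCategory.isZero_of_isGE _ 0 i hlt
            · exact DerivedCategory.isZero_of_isLE _ 0 i hgt
          show Module.Finite P ((DerivedCategory.homologyFunctor (ModuleCat.{u} P) i).obj (Dual.inD P M))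
          infer_instance
  obtain ⟨F, hF, hFp, ⟨e⟩⟩ := DRingLib.exists_finiteProjective (show -(n : ℤ) ≤ 0 by omega) hpc (amp_of_pdLE n M h)
  haveI : F.IsKProjective := DCat.isKProjective_of_vanishesAbove F 0 (fun i hi => hF i (Or.inr hi))
    fun i => (hFp i).2
  let e' : DerivedCategory.Q.obj F ≅ DerivedCategory.Q.obj ((singleFunctor (ModuleCat.{u} P) 0).obj (ModuleCat.of P M)) :=
    e ≪≫ (DerivedCategory.singleFunctorIsoCompQ (ModuleCat.{u} P) 0).app (ModuleCat.of P M)
  let iso := DerivedCategory.quotientCompQhIso (ModuleCat.{u} P)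
  obtain ⟨g, hg⟩ := (IsKProjective.Qh_map_bijective F
    ((HomotopyCategory.quotient (ModuleCat.{u} P) (ComplexShape.up ℤ)).obj _)).2
      (iso.hom.app F ≫ e'.hom ≫ iso.inv.app _)
  obtain ⟨π, rfl⟩ := (HomotopyCategory.quotient (ModuleCat.{u} P) (ComplexShape.up ℤ)).map_surjective g
  refine ⟨F, π, inferInstance, ?_, hF, hFp⟩
  rw [← DerivedCategory.isIso_Q_map_iff_quasiIso]
  refine (NatIso.isIso_map_iff iso π).1 ?_
  rw [show (HomotopyCategory.quotient (ModuleCat.{u} P) (ComplexShape.up ℤ) ⋙ DerivedCategory.Qh).map π = _ from hg]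
  infer_instance

omit [IsNoetherianRing P] in
/-- Exactness of the hom complex out of a resolution. -/
theorem exactAt_homCx {F : DRing.Cx P} [F.IsKProjective] {M : Type u} [AddCommGroup M] [Module P M]
    (π : F ⟶ (singleFunctor (ModuleCat.{u} P) 0).obj (ModuleCat.of P M)) [QuasiIso π]
    (N : Type u) [AddCommGroup N] [Module P N] (j : ℤ) (h : Subsingleton (E (Dual.inD P N) M j)) :
    (DRing.homCx F ((singleFunctor (ModuleCat.{u} P) 0).obj (ModuleCat.of P N))).ExactAt j := by
  rw [HomologicalComplex.exactAt_iff' _ (j - 1) j (j + 1) (by simp) (by simp), ShortComplex.moduleCat_exact_iff]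
  intro (z : Cochain F _ j) hz
  let zc : Cocycle F _ j := Cocycle.mk z (j + 1) rfl hz
  let iso := DerivedCategory.quotientCompQhIso (ModuleCat.{u} P)
  let e₁ : (DerivedCategory.Qh.obj ((HomotopyCategory.quotient (ModuleCat.{u} P) (ComplexShape.up ℤ)).obj F)) ≅ Dual.inD P M :=
    iso.app F ≪≫ asIso (DerivedCategory.Q.map π) ≪≫
      ((DerivedCategory.singleFunctorIsoCompQ (ModuleCat.{u} P) 0).app (ModuleCat.of P M)).symm
  let S := (singleFunctor (ModuleCat.{u} P) 0).obj (ModuleCat.of P N)
  let e₂ : DerivedCategory.Qh.obj ((HomotopyCategory.quotient (ModuleCat.{u} P) (ComplexShape.up ℤ)).obj (S⟦j⟧)) ≅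
      (Dual.inD P N)⟦j⟧ :=
    iso.app (S⟦j⟧) ≪≫ (DerivedCategory.Q.commShiftIso j).app S ≪≫
      (CategoryTheory.shiftFunctor (Dual.D P) j).mapIso ((DerivedCategory.singleFunctorIsoCompQ (ModuleCat.{u} P) 0).app (ModuleCat.of P N)).symm
  haveI : Subsingleton (DerivedCategory.Qh.obj ((HomotopyCategory.quotient (ModuleCat.{u} P) (ComplexShape.up ℤ)).obj F) ⟶
      DerivedCategory.Qh.obj ((HomotopyCategory.quotient (ModuleCat.{u} P) (ComplexShape.up ℤ)).obj (S⟦j⟧))) :=
    (Iso.homCongr e₁ e₂).injective.subsingleton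
  have h1 : CohomologyClass.toHom (CohomologyClass.mk zc) = 0 :=
    (IsKProjective.Qh_map_bijective F _).1 (Subsingleton.elim _ _)
  rw [CohomologyClass.toHom_mk_eq_zero_iff, mem_coboundaries_iff _ (j - 1) (by omega)] at h1
  obtain ⟨y, hy⟩ := h1
  exact ⟨y, hy⟩

end Resolution

section Grade

variable {R : Type u} [CommRing R] [IsNoetherianRing R] {n : ℕ}

omit [IsNoetherianRing R] in
/-- Transcendence degrees do not see a quotient of the base. -/
theorem trd_quotient {B : Type u} [CommRing B] [Algebra R B] (p : Ideal R) [Algebra (R ⧸ p) B]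
    [IsScalarTower R (R ⧸ p) B] (Q : PrimeSpectrum B) :
    EGA43.FibDepth.trd (R ⧸ p) Q = EGA43.FibDepth.trd R Q := by
  let r' := Q.asIdeal.comap (algebraMap (R ⧸ p) B)
  let r := Q.asIdeal.comap (algebraMap R B)
  have hr : r = r'.comap (algebraMap R (R ⧸ p)) := by
    show _ = Ideal.comap _ (Ideal.comap _ _)
    rw [Ideal.comap_comap, ← IsScalarTower.algebraMap_eq]
  let e := RingEquiv.ofBijective _
    ((RingHom.surjectiveOnStalks_of_surjective (f := algebraMap R (R ⧸ p))
      Ideal.Quotient.mk_surjective).residueFieldMap_bijective r r' hr)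
  rw [EGA43.FibDepth.trd_eq_trdegHom Q (rfl : r' = _), EGA43.FibDepth.trd_eq_trdegHom Q (rfl : r = _),
    ← EGA43.FibDepth.trdegHom_ringEquiv_comp e]
  congr 1
  refine Ideal.ResidueField.ringHom_ext (RingHom.ext fun a => ?_)
  simp [e, Ideal.ResidueField.map_algebraMap]
  exact (IsScalarTower.algebraMap_apply R (R ⧸ p) _ a).symm

variable {A : Type u} [CommRing A] [Algebra R A] [Algebra.FiniteType R A]

attribute [local instance] MvPolynomial.algebraMvPolynomial

/-- The grade on `P/pP`. -/
theorem natCast_le_idealDepth_quotient (ψ : MvPolynomial (Fin n) R →ₐ[R] A) (hψ : Function.Surjective ψ)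
    (d c : ℕ) (hc : c + d ≤ n)
    (hd : ∀ q : PrimeSpectrum A,
      FlatMor.fibreDimAt (AlgebraicGeometry.Spec.map (CommRingCat.ofHom (algebraMap R A))) q ≤ (d : WithBot ℕ∞))
    (p : Ideal R) [p.IsPrime] :
    (c : ℕ∞) ≤ _root_.LocCoh.idealDepth (RingHom.ker ψ.toRingHom) (MvPolynomial (Fin n) (R ⧸ p)) := by
  let P := MvPolynomial (Fin n) R
  let P' := MvPolynomial (Fin n) (R ⧸ p)
  have hs : Function.Surjective (algebraMap P P') :=
    MvPolynomial.map_surjective _ Ideal.Quotient.mk_surjective
  rw [← CAlgH3.idealDepth_of_surjective (S := P') hs]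
  refine (CAlg15.le_idealDepth_iff _ _ _).2 fun Q' hQ' => ?_
  have h3 : (c : ℕ∞) ≤ _root_.LocCoh.depth (Localization.AtPrime Q'.asIdeal) (Localization.AtPrime Q'.asIdeal) := by
    let Q : PrimeSpectrum P := PrimeSpectrum.comap (algebraMap P P') Q'
    have hIQ : RingHom.ker ψ.toRingHom ≤ Q.asIdeal := Ideal.map_le_iff_le_comap.1 hQ'
    obtain ⟨q, hq⟩ : ∃ q : PrimeSpectrum A, q.asIdeal.comap ψ.toRingHom = Q.asIdeal :=
      ⟨⟨Q.asIdeal.map ψ.toRingHom, Ideal.map_isPrime_of_surjective hψ hIQ⟩, by
        show Ideal.comap ψ.toRingHom (Ideal.map ψ.toRingHom Q.asIdeal) = _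
        exact (Ideal.comap_map_of_surjective _ hψ Q.asIdeal).trans (sup_eq_left.2 hIQ)⟩
    have e1 : EGA43.FibDepth.trd R Q = EGA43.FibDepth.trd R q := by
      rw [← EGA43.FibDepth.trd_comap_of_surjectiveOnStalks ψ
        (RingHom.surjectiveOnStalks_of_surjective hψ) q]
      exact congrArg _ (PrimeSpectrum.ext hq.symm)
    have e2 : EGA43.FibDepth.trd R Q = EGA43.FibDepth.trd R Q' :=
      EGA43.FibDepth.trd_comap_of_surjectiveOnStalks (IsScalarTower.toAlgHom R P P')
        (RingHom.surjectiveOnStalks_of_surjective hs) Q'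
    have h1 := natCast_le_depth_add_trd (R := R ⧸ p) n Q'
    rw [trd_quotient p Q', ← e2, e1] at h1
    have h2 := trd_le_of_fibreDimAt_le q d (hd q) q le_rfl
    refine (ENat.add_le_add_iff_right (ENat.natCast_ne_top (EGA43.FibDepth.trd R q))).1 (le_trans ?_ h1)
    exact_mod_cast (show c + EGA43.FibDepth.trd R q ≤ n by omega)
  refine h3.trans (le_of_eq ?_)
  rw [Groth.Agent.LocCoh.depth_localization_self Q'.asIdeal]

/-- `Ext^j_P(A, P ⊗ N)` vanishes in low degrees. -/
theorem subsingleton_E_tensor (ψ : MvPolynomial (Fin n) R →ₐ[R] A) (hψ : Function.Surjective ψ)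
    (d c : ℕ) (hc : c + d ≤ n)
    (hd : ∀ q : PrimeSpectrum A,
      FlatMor.fibreDimAt (AlgebraicGeometry.Spec.map (CommRingCat.ofHom (algebraMap R A))) q ≤ (d : WithBot ℕ∞))
    (N : Type u) [AddCommGroup N] [Module R N] [Module.Finite R N] (j : ℤ) (hj : j < c) :
    Subsingleton (E (Dual.inD (MvPolynomial (Fin n) R) (MvPolynomial (Fin n) R ⊗[R] N))
      (MvPolynomial (Fin n) R ⧸ RingHom.ker ψ.toRingHom) j) := by
  let P := MvPolynomial (Fin n) R
  let I := RingHom.ker ψ.toRingHom
  have key : ∀ i < c, Subsingleton (Abelian.Ext (ModuleCat.of P (P ⧸ I)) (ModuleCat.of P (P ⊗[R] N)) i) := by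
    induction ‹Module.Finite R N› using IsNoetherianRing.induction_on_isQuotientEquivQuotientPrime R with
    | subsingleton N =>
      intro i _
      refine subsingleton_of_forall_eq 0 fun x => ?_
      rw [← Abelian.Ext.comp_mk₀_id x, (ModuleCat.isZero_of_subsingleton (ModuleCat.of P (P ⊗[R] N))).eq_of_src
        (𝟙 _) 0, Abelian.Ext.mk₀_zero, Abelian.Ext.comp_zero]
    | quotient N p e =>
      refine (Groth.Agent.LocCoh.natCast_le_idealDepth_iff_ext I (P ⊗[R] N) c).1 ?_
      let e₀ := ((Algebra.TensorProduct.comm R P (R ⧸ p.asIdeal)).toRingEquiv.trans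
        (MvPolynomial.algebraTensorAlgEquiv R (R ⧸ p.asIdeal) (σ := Fin n)).toRingEquiv)
      have he₀ : ∀ x : P, e₀ (x ⊗ₜ[R] 1) = algebraMap P (MvPolynomial (Fin n) (R ⧸ p.asIdeal)) x := fun x => by
        show MvPolynomial.algebraTensorAlgEquiv R (R ⧸ p.asIdeal) (1 ⊗ₜ[R] x) = _
        rw [MvPolynomial.algebraTensorAlgEquiv_tmul, one_smul]
        rfl
      let e₁ : P ⊗[R] (R ⧸ p.asIdeal) ≃ₗ[P] MvPolynomial (Fin n) (R ⧸ p.asIdeal) :=
        { e₀.toAddEquiv with
          map_smul' := fun x z => by
            show e₀ (x • z) = x • e₀ z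
            rw [show x • z = (x ⊗ₜ[R] (1 : R ⧸ p.asIdeal)) * z from Algebra.smul_def x z, map_mul, he₀ x,
              Algebra.smul_def] }
      rw [CAlgH3.idealDepth_congr I ((TensorProduct.AlgebraTensorModule.congr (LinearEquiv.refl P P) e).trans e₁)]
      exact natCast_le_idealDepth_quotient ψ hψ d c hc hd p.asIdeal
    | exact N₁ N₂ N₃ f g hf hg hfg h₁ h₃ =>
      intro i hi
      haveI := h₁ i hi
      haveI := h₃ i hi
      let f' := TensorProduct.AlgebraTensorModule.lTensor P P f
      let g' := TensorProduct.AlgebraTensorModule.lTensor P P g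
      have hS : (ShortComplex.mk (ModuleCat.ofHom f') (ModuleCat.ofHom g') (ModuleCat.hom_ext (by
          refine TensorProduct.AlgebraTensorModule.ext fun x y => ?_
          simp [f', g', hfg.apply_apply_eq_zero]))).ShortExact :=
        { exact := (ShortComplex.ShortExact.moduleCat_exact_iff_function_exact _).2 (lTensor_exact P hfg hg)
          mono_f := (ModuleCat.mono_iff_injective _).2 (Module.Flat.lTensor_preserves_injective_linearMap f hf)
          epi_g := (ModuleCat.epi_iff_surjective _).2 (LinearMap.lTensor_surjective P hg) }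
      refine subsingleton_of_forall_eq 0 fun x => ?_
      obtain ⟨y, hy⟩ := Abelian.Ext.covariant_sequence_exact₂ _ hS x (Subsingleton.elim _ _)
      rw [← hy, Subsingleton.elim y 0, Abelian.Ext.zero_comp]
  rcases lt_or_ge j 0 with h | h
  · haveI : (Dual.inD P (P ⊗[R] N)).IsGE 0 := inferInstance
    exact subsingleton_E_of_lt 0 _ j h
  · lift j to ℕ using h
    haveI := key j (by exact_mod_cast hj)
    exact (Abelian.Ext.homEquiv (X := ModuleCat.of P (P ⧸ I)) (Y := ModuleCat.of P (P ⊗[R] N)) (n := j)).symm.injective.subsingleton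

end Grade

end Groth.Agent.DualLib.Shriek
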