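import Groth.Agent.CAlg15.FibreDepth
import Groth.Agent.CAlg15.DepthKernel
import Groth.Agent.EGA43.FibDepth.Affine
import Groth.Agent.FlatMorDim.LocalDim
import Groth.Agent.EGA43.DimFormula.AffineSp
import Groth.Agent.LocCoh.DepthLocal

/-! The grade of the ideal of a presentation is at least `n` minus the fibre dimension. -/

set_option autoImplicit false
set_option backward.isDefEq.respectTransparency false
set_option linter.style.haveILetI false

universe u

open PrimeSpectrum IsLocalRing AlgebraicGeometry CategoryTheory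

namespace Groth.Agent.DualLib.Shriek

open Groth.Agent

attribute [local instance] Algebra.TensorProduct.rightAlgebra

variable {R : Type u} [CommRing R] [IsNoetherianRing R] (n : ℕ)

/-- `depth + trd ≥ n` on polynomial rings. -/
theorem natCast_le_depth_add_trd (Q : PrimeSpectrum (MvPolynomial (Fin n) R)) :
    (n : ℕ∞) ≤ _root_.LocCoh.depth (Localization.AtPrime Q.asIdeal) (Localization.AtPrime Q.asIdeal) +
      (EGA43.FibDepth.trd R Q : ℕ∞) := by
  let P := MvPolynomial (Fin n) R
  let r := Q.asIdeal.comap (algebraMap R P)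
  have hP := EGA43.FibDepth.hasAffineSpaceFibres_mvPolynomial R n
  haveI := EGA43.FibDepth.isRegularRing_fiber hP r
  let E := PrimeSpectrum.preimageEquivFiber R P ⟨r, inferInstance⟩
  let Q' : PrimeSpectrum (r.Fiber P) := E ⟨Q, PrimeSpectrum.ext rfl⟩
  have hQ' : PrimeSpectrum.comap (algebraMap P (r.Fiber P)) Q' = Q :=
    congrArg Subtype.val (E.symm_apply_apply ⟨Q, PrimeSpectrum.ext rfl⟩)
  obtain ⟨h, hh, hsum⟩ := EGA43.FibDepth.heightFormula_fiber hP r Q'
  rw [hQ'] at hsum
  let r' := Q'.asIdeal.comap (Algebra.TensorProduct.includeRight : P →ₐ[R] r.Fiber P)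
  have hr' : r' = Q.asIdeal := congrArg PrimeSpectrum.asIdeal hQ'
  let F := EGA4.FibLocRing R P r'
  have hr : r = r'.comap (algebraMap R P) := by rw [hr']
  have e : Localization.AtPrime Q'.asIdeal ≃+* F :=
    (Ideal.Fiber.algEquivAux₂ r Q'.asIdeal).toRingEquiv.trans (Ideal.quotEquivOfEq (by
      rw [Ideal.map_map, ← IsScalarTower.algebraMap_eq]
      exact congrArg (Ideal.map (algebraMap R (Localization.AtPrime r'))) hr))
  haveI : IsLocalRing F := CommAlg6.isLocalRing_fibLocRing (A := R) r'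
  haveI : IsNoetherianRing (r.Fiber P) := Algebra.FiniteType.isNoetherianRing r.ResidueField _
  haveI : IsRegularLocalRing (Localization.AtPrime Q'.asIdeal) := IsRegularRing.isRegularLocalRing_localization _
  haveI : IsRegularLocalRing F := IsRegularLocalRing.of_ringEquiv (R := Localization.AtPrime Q'.asIdeal) (R' := F) e
  haveI := CAlgH3.isCohenMacaulayLocalRing_of_regular F
  have hd : ((_root_.LocCoh.depth F F : ℕ∞) : WithBot ℕ∞) = ((h : ℕ∞) : WithBot ℕ∞) := by
    rw [← (CAlgH3.isCohenMacaulayLocalRing_iff_depth F).1 inferInstance,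
      ← ringKrullDim_eq_of_ringEquiv e, IsLocalization.AtPrime.ringKrullDim_eq_height Q'.asIdeal (Localization.AtPrime Q'.asIdeal), hh]
  have h1 := (CommAlg6.local_fibre (A := R) r').2.1
  have h2 : (h : ℕ∞) ≤ _root_.LocCoh.depth (Localization.AtPrime r') (Localization.AtPrime r') := by
    rw [h1, WithBot.coe_inj.1 hd]
    exact le_add_self
  have h3 : _root_.LocCoh.depth (Localization.AtPrime r') (Localization.AtPrime r') =
      _root_.LocCoh.depth (Localization.AtPrime Q.asIdeal) (Localization.AtPrime Q.asIdeal) := by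
    have gen : ∀ (I J : Ideal P) [I.IsPrime] [J.IsPrime], I = J →
        _root_.LocCoh.depth (Localization.AtPrime I) (Localization.AtPrime I) =
          _root_.LocCoh.depth (Localization.AtPrime J) (Localization.AtPrime J) := by
      rintro I J _ _ rfl; rfl
    exact gen r' Q.asIdeal hr'
  calc (n : ℕ∞) = (h : ℕ∞) + (EGA43.FibDepth.trd R Q : ℕ∞) := by exact_mod_cast hsum.symm
    _ ≤ _ := by rw [← h3]; exact add_le_add h2 le_rfl

variable {A : Type u} [CommRing A] [Algebra R A] [Algebra.FiniteType R A]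

/-- Transcendence degrees at generizations are bounded by the fibre dimension. -/
theorem trd_le_of_fibreDimAt_le (q : PrimeSpectrum A) (d : ℕ)
    (hd : FlatMor.fibreDimAt (Spec.map (CommRingCat.ofHom (algebraMap R A))) q ≤ (d : WithBot ℕ∞))
    (q' : PrimeSpectrum A) (hq' : q'.asIdeal ≤ q.asIdeal) : EGA43.FibDepth.trd R q' ≤ d := by
  let f := Spec.map (CommRingCat.ofHom (algebraMap R A))
  haveI : LocallyOfFiniteType f := (HasRingHomProperty.Spec_iff (P := @LocallyOfFiniteType)).2
    ((RingHom.finiteType_algebraMap (A := R) (B := A)).2 inferInstance)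
  have hs : (q' : Spec (CommRingCat.of A)) ⤳ (q : Spec (CommRingCat.of A)) :=
    (PrimeSpectrum.le_iff_specializes q' q).1 hq'
  have h := (FlatMorDim.fibreDimAt_le_iff f q' d).1
    (hs.mem_open (FlatMorDim.isOpen_fibreDimAt_le f d) hd) q' rfl le_rfl
  have key : DimLib.trdegHom (f.residueFieldMap q').hom = EGA43.FibDepth.trd R q' := by
    have h0 := EGA43.DimFormula.trdegHom_specMap (R := CommRingCat.of R) (S := CommRingCat.of A)
      (CommRingCat.ofHom (algebraMap R A)) q'
    have hA : (CommRingCat.ofHom (algebraMap R A)).hom.toAlgebra = ‹Algebra R A› :=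
      Algebra.algebra_ext _ _ fun _ => rfl
    rw [hA] at h0
    exact h0
  exact key ▸ h

/-- The grade. -/
theorem natCast_le_idealDepth_ker (ψ : MvPolynomial (Fin n) R →ₐ[R] A) (hψ : Function.Surjective ψ)
    (q : PrimeSpectrum A) (d c : ℕ) (hc : c + d ≤ n)
    (hd : FlatMor.fibreDimAt (Spec.map (CommRingCat.ofHom (algebraMap R A))) q ≤ (d : WithBot ℕ∞)) :
    (c : ℕ∞) ≤ _root_.LocCoh.idealDepth
      ((RingHom.ker ψ.toRingHom).map (algebraMap (MvPolynomial (Fin n) R)
        (Localization.AtPrime (q.asIdeal.comap ψ.toRingHom))))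
      (Localization.AtPrime (q.asIdeal.comap ψ.toRingHom)) := by
  let P := MvPolynomial (Fin n) R
  let p := q.asIdeal.comap ψ.toRingHom
  let S := Localization.AtPrime p
  refine (CAlg15.le_idealDepth_iff _ _ _).2 fun Q₁ hQ₁ => ?_
  let Q : PrimeSpectrum P := PrimeSpectrum.comap (algebraMap P S) Q₁
  have hQp : Q.asIdeal ≤ p := fun x hx => by
    by_contra hxp
    exact Q₁.2.ne_top (Ideal.eq_top_of_isUnit_mem _ hx (IsLocalization.map_units S (M := p.primeCompl) ⟨x, hxp⟩))
  have hIQ : RingHom.ker ψ.toRingHom ≤ Q.asIdeal := Ideal.map_le_iff_le_comap.1 hQ₁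
  obtain ⟨q', hq'⟩ : ∃ q' : PrimeSpectrum A, q'.asIdeal.comap ψ.toRingHom = Q.asIdeal :=
    ⟨⟨Q.asIdeal.map ψ.toRingHom, Ideal.map_isPrime_of_surjective hψ hIQ⟩, by
      show Ideal.comap ψ.toRingHom (Ideal.map ψ.toRingHom Q.asIdeal) = _
      exact (Ideal.comap_map_of_surjective _ hψ Q.asIdeal).trans (sup_eq_left.2 hIQ)⟩
  have hle : q'.asIdeal ≤ q.asIdeal := fun a ha => by
    obtain ⟨x, rfl⟩ := hψ a
    exact hQp (show x ∈ Q.asIdeal by rw [← hq']; exact ha)
  have htrd : EGA43.FibDepth.trd R Q = EGA43.FibDepth.trd R q' := by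
    rw [← EGA43.FibDepth.trd_comap_of_surjectiveOnStalks ψ
      (RingHom.surjectiveOnStalks_of_surjective hψ) q']
    exact congrArg _ (PrimeSpectrum.ext hq'.symm)
  have h1 := natCast_le_depth_add_trd n Q
  rw [htrd] at h1
  have h2 := trd_le_of_fibreDimAt_le q d hd q' hle
  have h3 : (c : ℕ∞) ≤ _root_.LocCoh.depth (Localization.AtPrime Q.asIdeal) (Localization.AtPrime Q.asIdeal) := by
    refine (ENat.add_le_add_iff_right (ENat.coe_ne_top (EGA43.FibDepth.trd R q'))).1 (le_trans ?_ h1)
    exact_mod_cast (show c + EGA43.FibDepth.trd R q' ≤ n by omega)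
  refine h3.trans (le_of_eq ?_)
  rw [Groth.Agent.LocCoh.depth_localization_self Q₁.asIdeal]
  exact CAlgH3.depth_ringEquiv (IsLocalization.localizationLocalizationAtPrimeIsoLocalization p.primeCompl Q₁.asIdeal).toRingEquiv

end Groth.Agent.DualLib.Shriek
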