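import Groth.Agent.DualLib.ShriekPoly
import Mathlib.RingTheory.Polynomial.Quotient

/-! `RHom_P(B, K ⊗ P)` for polynomial rings `P` and quotients by separated monic equations. -/

set_option autoImplicit false
set_option backward.isDefEq.respectTransparency false
set_option backward.defeqAttrib.useBackward true
set_option linter.style.haveILetI false

universe u

open CategoryTheory CategoryTheory.Limits DerivedCategory
open scoped Polynomial

attribute [local instance] HasDerivedCategory.standard

namespace Groth.Agent.DualLib.Shriek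

open MvPolynomial

variable {T T' : Type u} [CommRing T] [CommRing T']

/-- Split off the first variable into the coefficients. -/
noncomputable def firstVar (T : Type u) [CommRing T] (m : ℕ) :
    MvPolynomial (Fin (m + 1)) T ≃ₐ[T] MvPolynomial (Fin m) T[X] :=
  (renameEquiv T (_root_.finSuccEquiv m)).trans (optionEquivRight T (Fin m))

/-- Eliminate the first variable along `θ`. -/
noncomputable def elim (θ : T[X] →+* T') (m : ℕ) : MvPolynomial (Fin (m + 1)) T →+* MvPolynomial (Fin m) T' :=
  (MvPolynomial.map θ).comp (firstVar T m).toRingEquiv.toRingHom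

lemma elim_C (θ : T[X] →+* T') (m : ℕ) (r : T) : elim θ m (C r) = C (θ (Polynomial.C r)) := by
  simp [elim, firstVar, optionEquivRight_C]

lemma elim_zero (θ : T[X] →+* T') (m : ℕ) : elim θ m (X 0) = C (θ Polynomial.X) := by
  simp [elim, firstVar, optionEquivRight_X_none]

lemma elim_succ (θ : T[X] →+* T') (m : ℕ) (j : Fin m) : elim θ m (X j.succ) = X j := by
  simp [elim, firstVar, optionEquivRight_X_some]

lemma elim_comp_C (θ : T[X] →+* T') (m : ℕ) :
    (elim θ m).comp C = C.comp (θ.comp Polynomial.C) := RingHom.ext fun r => elim_C θ m r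

/-- One monic equation. -/
theorem shr_elim {θ : T[X] →+* T'} (hθ : Function.Surjective θ) {f : T[X]} (hf : f.Monic)
    (hker : RingHom.ker θ = Ideal.span {f}) (hflat : (θ.comp Polynomial.C).Flat) (m : ℕ) :
    Shr (C : T →+* MvPolynomial (Fin (m + 1)) T) (elim θ m) 1 := by
  let e := firstVar T m
  refine Shr.of_flat C (f := e.symm (C f)) ?_ ?_ ?_ ?_
  · intro z
    obtain ⟨w, hw⟩ := MvPolynomial.map_surjective θ hθ z
    exact ⟨e.symm w, by show MvPolynomial.map θ (e (e.symm w)) = z; rw [e.apply_symm_apply, hw]⟩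
  · ext z
    rw [RingHom.mem_ker, Ideal.mem_span_singleton']
    show MvPolynomial.map θ (e z) = 0 ↔ _
    rw [← RingHom.mem_ker, MvPolynomial.ker_map, hker, Ideal.map_span, Set.image_singleton,
      Ideal.mem_span_singleton']
    exact ⟨fun ⟨a, ha⟩ => ⟨e.symm a, by rw [← map_mul, ha, e.symm_apply_apply]⟩,
      fun ⟨a, ha⟩ => ⟨e a, by rw [← ha, map_mul, e.apply_symm_apply]⟩⟩
  · intro z hz
    have h1 : C f * e z = 0 := by rw [← map_zero e, ← hz, map_mul, e.apply_symm_apply]
    rw [← e.map_eq_zero_iff]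
    refine MvPolynomial.ext _ _ fun d => ?_
    have h2 := congrArg (coeff d) h1
    rw [coeff_C_mul, coeff_zero] at h2
    rw [coeff_zero]
    exact (Polynomial.Monic.mul_right_eq_zero_iff hf).1 h2
  · rw [elim_comp_C]
    refine RingHom.Flat.comp hflat ?_
    rw [← MvPolynomial.algebraMap_eq, RingHom.flat_algebraMap_iff]
    infer_instance

/-- A point: `RHom_P(T, N ⊗ P)⟦m⟧ = N`. -/
theorem shr_eval : ∀ (m : ℕ) {T : Type u} [CommRing T] (g : Fin m → T),
    Shr (C : T →+* MvPolynomial (Fin m) T) (eval₂Hom (RingHom.id T) g) (m : ℤ)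
  | 0, T, _, g => by
    refine Shr.of_frob C (frob_of_bijective _ ⟨fun x y h => ?_, fun r => ⟨C r, eval₂Hom_C _ _ _⟩⟩)
    obtain ⟨a, rfl⟩ := C_surjective (Fin 0) x
    obtain ⟨b, rfl⟩ := C_surjective (Fin 0) y
    rw [eval₂Hom_C, eval₂Hom_C] at h
    exact congrArg C h
  | m + 1, T, _, g => by
    let θ := Polynomial.evalRingHom (g 0)
    have h1 : θ.comp Polynomial.C = RingHom.id T := RingHom.ext fun r => Polynomial.eval_C
    have s1 := shr_elim (θ := θ) (fun r => ⟨Polynomial.C r, Polynomial.eval_C⟩) (Polynomial.monic_X_sub_C (g 0))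
      (Polynomial.ker_evalRingHom (g 0)) (by rw [h1]; exact RingHom.Flat.id T) m
    have s := Shr.comp s1 (elim_comp_C θ m) (shr_eval m (fun j => g j.succ))
    have he : (eval₂Hom (RingHom.id T) fun j => g j.succ).comp (elim θ m) = eval₂Hom (RingHom.id T) g := by
      refine MvPolynomial.ringHom_ext (fun r => ?_) fun j => ?_
      · simp [elim_C, θ]
      · induction j using Fin.cases with
        | zero => simp [elim_zero, θ]
        | succ j => simp [elim_succ]
    rw [← he, show ((m + 1 : ℕ) : ℤ) = 1 + (m : ℤ) by omega]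
    exact s

/-- Factor an integral presentation through a finite Frobenius algebra. -/
theorem exists_frob_factor : ∀ (m : ℕ) {T A : Type u} [CommRing T] [CommRing A] (ι : T →+* A) (y : Fin m → A),
    (∀ j, ι.IsIntegralElem (y j)) →
    ∃ (B : Type u) (_ : CommRing B) (π : MvPolynomial (Fin m) T →+* B) (ρ : B →+* A),
      Shr C π (m : ℤ) ∧ Frob (π.comp C) ∧ ρ.comp π = eval₂Hom ι y
  | 0, T, A, _, _, ι, y, _ => by
    refine ⟨MvPolynomial (Fin 0) T, inferInstance, RingHom.id _, eval₂Hom ι y, Shr.of_frob C ?_, ?_, rfl⟩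
    · exact frob_of_bijective _ Function.bijective_id
    · exact frob_of_bijective _ ⟨C_injective _ _, C_surjective _⟩
  | m + 1, T, A, _, _, ι, y, hy => by
    obtain ⟨f, hf, hfy⟩ := hy 0
    let ι' : AdjoinRoot f →+* A := AdjoinRoot.lift ι (y 0) hfy
    have hι : ι'.comp (AdjoinRoot.of f) = ι := AdjoinRoot.lift_comp_of hfy
    obtain ⟨B, _, π, ρ, hs, hF, hρ⟩ := exists_frob_factor m ι' (fun j => y j.succ) fun j => by
      obtain ⟨q, hq, hqy⟩ := hy j.succ
      exact ⟨q.map (AdjoinRoot.of f), hq.map _, by rw [Polynomial.eval₂_map, hι]; exact hqy⟩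
    have ht : (AdjoinRoot.mk f).comp Polynomial.C = AdjoinRoot.of f := rfl
    have hflat : (AdjoinRoot.of f).Flat := by
      rw [← AdjoinRoot.algebraMap_eq, RingHom.flat_algebraMap_iff]
      haveI : Module.Free T (AdjoinRoot f) := Module.Free.of_basis (AdjoinRoot.powerBasisAux' hf)
      infer_instance
    have s1 := shr_elim (θ := AdjoinRoot.mk f) AdjoinRoot.mk_surjective hf Ideal.mk_ker (ht ▸ hflat) m
    refine ⟨B, ‹_›, π.comp (elim (AdjoinRoot.mk f) m), ρ, ?_, ?_, ?_⟩
    · rw [show ((m + 1 : ℕ) : ℤ) = 1 + (m : ℤ) by omega]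
      exact Shr.comp s1 (elim_comp_C _ m) hs
    · rw [RingHom.comp_assoc, elim_comp_C, ← RingHom.comp_assoc, ht]
      exact Frob.comp (frob_adjoinRoot f hf) hF
    · rw [← RingHom.comp_assoc, hρ]
      refine MvPolynomial.ringHom_ext (fun r => ?_) fun j => ?_
      · simp [elim_C, ι']
      · induction j using Fin.cases with
        | zero => simp [elim_zero, ι']
        | succ j => simp [elim_succ]

end Groth.Agent.DualLib.Shriek
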