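import Groth.Agent.DualLib.ShriekStep
import Mathlib.RingTheory.AdjoinRoot
import Mathlib.Algebra.MvPolynomial.Equiv
import Mathlib.RingTheory.Polynomial.Basic
import Mathlib.LinearAlgebra.Matrix.Block
import Mathlib.RingTheory.RingHom.Flat

/-! Right adjoints of restriction for polynomial presentations. -/

set_option autoImplicit false
set_option backward.isDefEq.respectTransparency false
set_option backward.defeqAttrib.useBackward true
set_option linter.style.haveILetI false

universe u

open CategoryTheory CategoryTheory.Limits DerivedCategory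
open scoped TensorProduct ChangeOfRings Polynomial

attribute [local instance] HasDerivedCategory.standard

namespace Groth.Agent.DualLib.Shriek

variable {T S B S' T' : Type u} [CommRing T] [CommRing S] [CommRing B] [CommRing S'] [CommRing T']

/-- `R_π(φ^*N)⟦d⟧ = (πφ)^*N`. -/
def Shr (φ : T →+* S) (π : S →+* B) (d : ℤ) : Prop :=
  ∀ (R : Dual.D S ⥤ Dual.D B) (_ : DRing.restrictD π ⊣ R) (N : DRing.Cx T),
    Nonempty ((R.obj (Q.obj ((exCx φ).obj N)))⟦d⟧ ≅ Q.obj ((exCx (π.comp φ)).obj N))

/-- `R_φ(N) = φ^*N`. -/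
def Frob (φ : T →+* B) : Prop :=
  ∀ (R : Dual.D T ⥤ Dual.D B) (_ : DRing.restrictD φ ⊣ R) (N : DRing.Cx T),
    Nonempty (R.obj (Q.obj N) ≅ Q.obj ((exCx φ).obj N))

/-- Extension along a composite. -/
noncomputable def exComp (f : T →+* S) (g : S →+* B) (h : T →+* B) (e : h = g.comp f) (N : DRing.Cx T) :
    (exCx h).obj N ≅ (exCx g).obj ((exCx f).obj N) :=
  eqToIso (by rw [e]) ≪≫ (NatIso.mapHomologicalComplex (ModuleCat.extendScalarsComp f g) (ComplexShape.up ℤ)).app N

theorem Shr.comp {φ : T →+* S} {σ : S →+* S'} {d₁ : ℤ} (h₁ : Shr φ σ d₁) {t : T →+* T'} {φ' : T' →+* S'}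
    (h : σ.comp φ = φ'.comp t) {π : S' →+* B} {d₂ : ℤ} (h₂ : Shr φ' π d₂) : Shr φ (π.comp σ) (d₁ + d₂) := by
  intro R adj N
  obtain ⟨R₁, ⟨adj₁⟩⟩ := exists_rightAdjoint σ
  obtain ⟨R₂, ⟨adj₂⟩⟩ := exists_rightAdjoint π
  obtain ⟨e⟩ := nonempty_comp_obj rfl adj₁ adj₂ adj (Q.obj ((exCx φ).obj N))
  obtain ⟨e₁⟩ := h₁ R₁ adj₁ N
  obtain ⟨es⟩ := nonempty_shift_obj adj₂ (R₁.obj (Q.obj ((exCx φ).obj N))) d₁
  obtain ⟨e₂⟩ := h₂ R₂ adj₂ ((exCx t).obj N)
  have hh : (π.comp σ).comp φ = (π.comp φ').comp t := by rw [RingHom.comp_assoc, RingHom.comp_assoc, h]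
  exact ⟨(shiftFunctor (Dual.D B) (d₁ + d₂)).mapIso e ≪≫ (shiftFunctorAdd (Dual.D B) d₁ d₂).app _ ≪≫
    (shiftFunctor (Dual.D B) d₂).mapIso (es.symm ≪≫ R₂.mapIso (e₁ ≪≫ Q.mapIso (exComp t φ' _ h N))) ≪≫
    e₂ ≪≫ Q.mapIso (exComp t (π.comp φ') _ hh N).symm⟩

theorem Frob.comp {t : T →+* T'} (h₁ : Frob t) {t' : T' →+* B} (h₂ : Frob t') : Frob (t'.comp t) := by
  intro R adj N
  obtain ⟨R₁, ⟨adj₁⟩⟩ := exists_rightAdjoint t
  obtain ⟨R₂, ⟨adj₂⟩⟩ := exists_rightAdjoint t'
  obtain ⟨e⟩ := nonempty_comp_obj rfl adj₁ adj₂ adj (Q.obj N)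
  obtain ⟨e₁⟩ := h₁ R₁ adj₁ N
  obtain ⟨e₂⟩ := h₂ R₂ adj₂ ((exCx t).obj N)
  exact ⟨e ≪≫ R₂.mapIso e₁ ≪≫ e₂ ≪≫ Q.mapIso (exComp t t' _ rfl N).symm⟩

/-- A pure exact sequence stays exact. -/
lemma rTensor_injective_of_flat_quot {R A A' C F N : Type u} [CommRing R] [AddCommGroup A] [Module R A]
    [AddCommGroup A'] [Module R A'] [AddCommGroup C] [Module R C] [AddCommGroup F] [Module R F] [AddCommGroup N]
    [Module R N] [Module.Flat R C] [Module.Flat R F] {mf : A →ₗ[R] A'} {q : A' →ₗ[R] C}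
    (hex : Function.Exact mf q) (hq : Function.Surjective q) (hmf : Function.Injective mf) (p : F →ₗ[R] N)
    (hp : Function.Surjective p) (z : A ⊗[R] N) (hz : mf.rTensor N z = 0) : z = 0 := by
  let ι := (LinearMap.ker p).subtype
  have hιp : Function.Exact ι p := LinearMap.exact_subtype_ker_map p
  obtain ⟨y, rfl⟩ := LinearMap.lTensor_surjective A hp z
  have h1 : p.lTensor A' (mf.rTensor F y) = 0 := by
    rw [← LinearMap.comp_apply, LinearMap.lTensor_comp_rTensor, ← LinearMap.rTensor_comp_lTensor]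
    exact hz
  obtain ⟨w, hw⟩ := ((lTensor_exact A' hιp hp) _).1 h1
  have h2 : ι.lTensor C (q.rTensor _ w) = 0 := by
    rw [← LinearMap.comp_apply, LinearMap.lTensor_comp_rTensor, ← LinearMap.rTensor_comp_lTensor,
      LinearMap.comp_apply, hw, ← LinearMap.comp_apply, ← LinearMap.rTensor_comp,
      show q ∘ₗ mf = 0 from LinearMap.ext fun s => hex.apply_apply_eq_zero s, LinearMap.rTensor_zero,
      LinearMap.zero_apply]
  have h3 : q.rTensor _ w = 0 :=
    Module.Flat.lTensor_preserves_injective_linearMap ι Subtype.val_injective (h2.trans (map_zero _).symm)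
  obtain ⟨v, hv⟩ := ((rTensor_exact _ hex hq) w).1 h3
  have h4 : mf.rTensor F (y - ι.lTensor A v) = 0 := by
    rw [map_sub, ← LinearMap.comp_apply, LinearMap.rTensor_comp_lTensor, ← LinearMap.lTensor_comp_rTensor,
      LinearMap.comp_apply, hv, hw, sub_self]
  have h5 : y = ι.lTensor A v := sub_eq_zero.1 (Module.Flat.rTensor_preserves_injective_linearMap mf
    hmf (h4.trans (map_zero _).symm))
  rw [h5, ← LinearMap.comp_apply, ← LinearMap.lTensor_comp, hιp.linearMap_comp_eq_zero, LinearMap.lTensor_zero,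
    LinearMap.zero_apply]

/-- Multiplication by `f` stays injective if `S/f` is flat. -/
lemma smul_injective_of_flat (φ : T →+* S) {π : S →+* B} (hπ : Function.Surjective π) {f : S}
    (hker : RingHom.ker π = Ideal.span {f}) (hf : ∀ s : S, f * s = 0 → s = 0) (hflat : (π.comp φ).Flat)
    (N : ModuleCat.{u} T) (z : (ModuleCat.extendScalars.{u, u, u} φ).obj N) (hz : f • z = 0) : z = 0 := by
  letI := φ.toAlgebra
  letI := (π.comp φ).toAlgebra
  haveI : Module.Flat T B := hflat
  let mf : S →ₗ[T] S := LinearMap.mulLeft T f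
  let q : S →ₗ[T] B :=
    { toFun := π
      map_add' := map_add π
      map_smul' := fun a s => by
        rw [Algebra.smul_def, map_mul, RingHom.id_apply, Algebra.smul_def]
        rfl }
  have hex : Function.Exact mf q := fun s => by
    show π s = 0 ↔ _
    rw [← RingHom.mem_ker, hker, Ideal.mem_span_singleton']
    exact ⟨fun ⟨a, ha⟩ => ⟨a, (mul_comm f a).trans ha⟩, fun ⟨a, ha⟩ => ⟨a, (mul_comm a f).trans ha⟩⟩
  have hq : Function.Surjective q := hπ
  have key : ∀ z : S ⊗[T] N, (mf.rTensor N) z = 0 → z = 0 := fun z h =>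
    rTensor_injective_of_flat_quot hex hq ((injective_iff_map_eq_zero _).2 hf)
      (Finsupp.linearCombination T (id : N → N)) (Finsupp.linearCombination_id_surjective T N) z h
  refine key z (Eq.trans ?_ hz)
  have : ∀ z : S ⊗[T] N, mf.rTensor N z = f • z := fun z => by
    induction z using TensorProduct.induction_on with
    | zero => simp
    | tmul a b => rfl
    | add x y hx hy => rw [map_add, smul_add, hx, hy]
  exact this z

/-- The basic step. -/
theorem Shr.of_flat (φ : T →+* S) {π : S →+* B} (hπ : Function.Surjective π) {f : S}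
    (hker : RingHom.ker π = Ideal.span {f}) (hf : ∀ s : S, f * s = 0 → s = 0) (hflat : (π.comp φ).Flat) :
    Shr φ π 1 := by
  intro R adj N
  obtain ⟨e⟩ := nonempty_step hπ hker hf adj ((exCx φ).obj N)
    fun n => smul_injective_of_flat φ hπ hker hf hflat (N.X n)
  exact ⟨e ≪≫ Q.mapIso (exComp φ π _ rfl N).symm⟩

/-- Frobenius maps have degree zero. -/
theorem Shr.of_frob (φ : T →+* S) {π : S →+* B} (h : Frob π) : Shr φ π 0 := by
  intro R adj N
  obtain ⟨e⟩ := h R adj ((exCx φ).obj N)
  exact ⟨(shiftFunctorZero (Dual.D B) ℤ).app _ ≪≫ e ≪≫ Q.mapIso (exComp φ π _ rfl N).symm⟩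

section Frobenius

variable {M : ModuleCat.{u} T} (t : T →+* T')

variable (τ : (ModuleCat.restrictScalars.{u} t).obj (ModuleCat.of T' T') →ₗ[T] T)

/-- `m ↦ (c ↦ τ c • m)`. -/
noncomputable def frobUnit : M ⟶ (ModuleCat.restrictScalars.{u} t).obj ((ModuleCat.coextendScalars.{u, u} t).obj M) :=
  ModuleCat.ofHom (Y := (ModuleCat.restrictScalars.{u} t).obj ((ModuleCat.coextendScalars.{u, u} t).obj M))
    { toFun := fun m => ((ModuleCat.CoextendScalars.equiv t M).symm (τ.smulRight m) :)
      map_add' := fun m m' => ModuleCat.CoextendScalars.ext (LinearMap.ext fun c => smul_add _ _ _)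
      map_smul' := fun a m => ModuleCat.CoextendScalars.ext (LinearMap.ext fun (c : T') => by
        show τ c • a • m = τ (c * t a : T') • m
        rw [smul_smul, mul_comm c (t a)]
        exact congrArg (· • m) ((mul_comm _ _).trans (show τ (t a * c : T') = a * τ c from map_smul τ a (show (ModuleCat.restrictScalars.{u} t).obj (ModuleCat.of T' T') from c)).symm)) }

/-- Extension to coextension. -/
noncomputable def frobMap : ModuleCat.extendScalars.{u, u, u} t ⟶ ModuleCat.coextendScalars.{u, u} t where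
  app M := ((ModuleCat.extendRestrictScalarsAdj t).homEquiv M _).symm (frobUnit t τ)
  naturality M N g := by
    rw [← Adjunction.homEquiv_naturality_left_symm, ← Adjunction.homEquiv_naturality_right_symm]
    refine congrArg _ (ModuleCat.hom_ext (LinearMap.ext fun m => ModuleCat.CoextendScalars.ext
      (LinearMap.ext fun c => ?_)))
    exact (map_smul g.hom _ m).symm

lemma frobMap_tmul (b : T') (m : M) (c : T') :
    ModuleCat.CoextendScalars.equiv t M (((frobMap t τ).app M).hom (b ⊗ₜ[T,t] m)) c = τ (c * b : T') • m := by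
  show ModuleCat.CoextendScalars.equiv t M ((((ModuleCat.extendRestrictScalarsAdj t).homEquiv M _).symm
    (frobUnit t τ)).hom (b ⊗ₜ[T,t] m)) c = _
  rfl

variable {ι : Type} [Fintype ι] [DecidableEq ι] (e b : ι → T')
  (hd : ∀ i j, τ (e i * b j : T') = if i = j then 1 else 0)
  (hinj : ∀ y : T', (∀ i, τ (e i * y : T') = 0) → y = 0)
  (hspan : ∀ x : T', ∃ c : ι → T, ∑ i, t (c i) * e i = x)

include hd hinj hspan in
lemma bijective_frobMap : Function.Bijective ((frobMap t τ).app M).hom := by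
  letI := t.toAlgebra
  let E := ModuleCat.CoextendScalars.equiv t M
  have hτ : ∀ (a : T) (x : T'), τ (t a * x : T') = a * τ x := fun a x => map_smul τ a x
  have hext : ∀ φ ψ : (ModuleCat.coextendScalars.{u, u} t).obj M, (∀ i, E φ (e i) = E ψ (e i)) → φ = ψ := by
    intro φ ψ h
    refine ModuleCat.CoextendScalars.ext (LinearMap.ext fun x => ?_)
    obtain ⟨c, rfl⟩ := hspan x
    rw [map_sum, map_sum]
    exact Finset.sum_congr rfl fun i _ => (map_smul (E φ) (c i) _).trans
      ((congrArg (c i • ·) (h i)).trans (map_smul (E ψ) (c i) _).symm)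
  have hb : ∀ y : T', y = ∑ j, t (τ (e j * y : T')) * b j := by
    intro y
    refine sub_eq_zero.1 (hinj _ fun i => ?_)
    rw [mul_sub, Finset.mul_sum]
    erw [map_sub, map_sum]
    rw [Finset.sum_eq_single i]
    · rw [mul_left_comm, hτ, hd, if_pos rfl, mul_one, sub_self]
    · intro j _ hj
      rw [mul_left_comm, hτ, hd, if_neg (Ne.symm hj), mul_zero]
    · simp
  let g : (ι → M) → (ModuleCat.extendScalars.{u, u, u} t).obj M := fun m => ∑ i, b i ⊗ₜ[T,t] m i
  have hg : ∀ m j, E (((frobMap t τ).app M).hom (g m)) (e j) = m j := by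
    intro m j
    rw [map_sum, map_sum, LinearMap.sum_apply, Finset.sum_eq_single j]
    · rw [frobMap_tmul, hd, if_pos rfl, one_smul]
    · intro i _ hi
      rw [frobMap_tmul, hd, if_neg (Ne.symm hi), zero_smul]
    · simp
  have hgs : ∀ z, ∃ m, g m = z := by
    intro z
    induction z using TensorProduct.induction_on with
    | zero => exact ⟨0, by simp [g]⟩
    | tmul y' n =>
      obtain ⟨y, rfl⟩ : ∃ y : T', y = y' := ⟨y', rfl⟩
      refine ⟨fun i => τ (e i * y : T') • n, ?_⟩
      conv_rhs => rw [hb y]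
      show ∑ i, b i ⊗ₜ[T] (τ (e i * y : T') • n) = _
      rw [TensorProduct.sum_tmul]
      refine Finset.sum_congr rfl fun i _ => ?_
      rw [← TensorProduct.smul_tmul, Algebra.smul_def]
      rfl
    | add x y hx hy =>
      obtain ⟨m, rfl⟩ := hx
      obtain ⟨m', rfl⟩ := hy
      exact ⟨m + m', by simp [g, TensorProduct.tmul_add, Finset.sum_add_distrib]⟩
  refine ⟨(injective_iff_map_eq_zero _).2 fun z hz => ?_, fun φ => ⟨g fun i => E φ (e i), hext _ _ (hg _)⟩⟩
  obtain ⟨m, rfl⟩ := hgs z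
  have : m = 0 := funext fun i => by rw [← hg m i, hz]; rfl
  simp [g, this]

include hd hinj hspan in
theorem frob_of_pairing (hflat : t.Flat) : Frob t := by
  intro R adj N
  haveI : ∀ M : ModuleCat.{u} T, IsIso ((frobMap t τ).app M) := fun M =>
    (ConcreteCategory.isIso_iff_bijective _).2 (bijective_frobMap t τ e b hd hinj hspan)
  haveI : IsIso (frobMap t τ) := NatIso.isIso_of_isIso_app _
  let ν := NatIso.mapHomologicalComplex (asIso (frobMap t τ)) (ComplexShape.up ℤ)
  haveI : (ModuleCat.extendScalars.{u, u, u} t).PreservesMonomorphisms :=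
    ⟨fun g _ => DCat.FlatPull.mono_extendScalars_of_flat t hflat g⟩
  haveI : PreservesColimitsOfSize.{0, 0} (ModuleCat.extendScalars.{u, u, u} t) :=
    (ModuleCat.extendRestrictScalarsAdj t).leftAdjoint_preservesColimits
  haveI : (ModuleCat.extendScalars.{u, u, u} t).PreservesHomology :=
    Functor.preservesHomology_of_preservesMonos_and_cokernels _
  obtain ⟨N', j, hN⟩ := DCat.exists_kInj_functor (A := ModuleCat.{u} T)
  obtain ⟨hK, hq, -, -⟩ := hN N
  haveI := hK
  haveI := hq
  obtain ⟨e'⟩ := nonempty_value' adj (j.app N)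
  haveI : QuasiIso ((exCx t).map (j.app N)) := inferInstance
  exact ⟨e' ≪≫ (Q.mapIso (ν.app (N'.obj N))).symm ≪≫ (asIso (Q.map ((exCx t).map (j.app N)))).symm⟩

/-- Bijective maps are Frobenius. -/
theorem frob_of_bijective (h : Function.Bijective t) : Frob t := by
  let g : T' ≃+* T := (RingEquiv.ofBijective t h).symm
  have hg : ∀ a, g (t a) = a := fun a => (RingEquiv.ofBijective t h).symm_apply_apply a
  have htg : ∀ y, t (g y) = y := fun y => (RingEquiv.ofBijective t h).apply_symm_apply y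
  refine frob_of_pairing t (ι := Unit)
    { toFun := fun (y : T') => g y
      map_add' := fun (y z : T') => map_add g y z
      map_smul' := fun a (y : T') => (map_mul g (t a) y).trans (by rw [hg]; rfl) }
    (fun _ => 1) (fun _ => 1) (fun i j => ?_) (fun y hy => ?_) (fun y => ⟨fun _ => g y, ?_⟩) ?_
  · show g (1 * 1 : T') = _
    simp
  · have h1 : g (1 * y : T') = 0 := hy ()
    rw [one_mul] at h1
    rw [← htg y, h1, map_zero]
  · simp [htg]
  · exact RingHom.Flat.of_bijective h

end Frobenius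

section Monogenic

variable (f : T[X])

/-- A monogenic algebra is Frobenius. -/
theorem frob_adjoinRoot (hf : f.Monic) : Frob (AdjoinRoot.of f) := by
  cases subsingleton_or_nontrivial T with
  | inl hT =>
    haveI : Subsingleton (AdjoinRoot f) := (AdjoinRoot.of f).codomain_trivial
    intro R adj N
    haveI : ∀ (M : ModuleCat.{u} (AdjoinRoot f)), Subsingleton M := fun M => Module.subsingleton (AdjoinRoot f) M
    have hz : ∀ X : Dual.D (AdjoinRoot f), IsZero X := fun X =>
      (Q.map_isZero (X := (Q.objPreimage X))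
        ((IsZero.iff_id_eq_zero _).2 (HomologicalComplex.hom_ext _ _ fun n =>
          (ModuleCat.isZero_of_subsingleton _).eq_of_src _ _))).of_iso (Q.objObjPreimageIso X).symm
    exact ⟨(hz _).iso (hz _)⟩
  | inr hT =>
  let pb := AdjoinRoot.powerBasis' hf
  let d := f.natDegree
  let x := AdjoinRoot.root f
  let β := AdjoinRoot.powerBasisAux' hf
  have hβ : ∀ i, β i = x ^ (i : ℕ) := pb.basis_eq_pow
  let τ : (ModuleCat.restrictScalars.{u} (AdjoinRoot.of f)).obj (ModuleCat.of (AdjoinRoot f) (AdjoinRoot f)) →ₗ[T] T :=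
    { toFun := fun (y : AdjoinRoot f) => if h : 0 < d then β.repr y ⟨d - 1, by omega⟩ else 0
      map_add' := fun (y z : AdjoinRoot f) => by
        split
        · rw [map_add]; rfl
        · rw [add_zero]
      map_smul' := fun a (y : AdjoinRoot f) => by
        rw [RingHom.id_apply, smul_eq_mul]
        show (if h : 0 < d then β.repr (AdjoinRoot.of f a * y) ⟨d - 1, by omega⟩ else 0) = _
        split
        · rw [← AdjoinRoot.algebraMap_eq, ← Algebra.smul_def, map_smul]
          rfl
        · rw [mul_zero] }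
  have hflat : (AdjoinRoot.of f).Flat := by
    rw [← AdjoinRoot.algebraMap_eq, RingHom.flat_algebraMap_iff]
    haveI : Module.Free T (AdjoinRoot f) := Module.Free.of_basis β
    infer_instance
  let H : Matrix (Fin d) (Fin d) T := fun i k => τ (x ^ (i : ℕ) * x ^ (d - 1 - (k : ℕ)) : AdjoinRoot f)
  have hsmall : ∀ (k : ℕ) (hk : k < d) (j : Fin d), β.repr (x ^ k) j = if (j : ℕ) = k then 1 else 0 := fun k hk j => by
    rw [← hβ ⟨k, hk⟩, β.repr_self, Finsupp.single_apply]
    simp [Fin.ext_iff, eq_comm]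
  have htri : H.IsLowerTriangular := fun i k hik => by
    show (if h : 0 < d then β.repr (x ^ (i : ℕ) * x ^ (d - 1 - (k : ℕ))) ⟨d - 1, by omega⟩ else 0) = 0
    have hik' : (i : ℕ) < k := OrderDual.toDual_lt_toDual.1 hik
    have hd0 : 0 < d := by omega
    rw [dif_pos hd0, ← pow_add, hsmall _ (by omega), if_neg (show ¬ d - 1 = _ by omega)]
  have hdiag : ∀ i, H i i = 1 := fun i => by
    show (if h : 0 < d then β.repr (x ^ (i : ℕ) * x ^ (d - 1 - (i : ℕ))) ⟨d - 1, by omega⟩ else 0) = 1
    have hd0 : 0 < d := by have := i.2; omega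
    rw [dif_pos hd0, ← pow_add, hsmall _ (by omega), if_pos (show d - 1 = _ by omega)]
  have hdet : IsUnit H.det := by
    rw [Matrix.det_of_isLowerTriangular H htri]
    simp [hdiag]
  let b : Fin d → AdjoinRoot f := fun k => ∑ l, AdjoinRoot.of f (H⁻¹ l k) * x ^ (d - 1 - (l : ℕ))
  have hlin : ∀ (c : Fin d → T) (i : Fin d),
      τ (x ^ (i : ℕ) * ∑ l, AdjoinRoot.of f (c l) * x ^ (d - 1 - (l : ℕ)) : AdjoinRoot f) = (H.mulVec c) i := by
    intro c i
    rw [Finset.mul_sum]
    erw [map_sum]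
    refine Finset.sum_congr rfl fun l _ => ?_
    rw [mul_left_comm]
    exact (map_smul τ (c l) _).trans (mul_comm _ _)
  refine frob_of_pairing (AdjoinRoot.of f) τ (fun i : Fin d => x ^ (i : ℕ)) b (fun i k => ?_) (fun y hy => ?_)
    (fun y => ⟨fun i => β.repr y i, ?_⟩) hflat
  · rw [hlin, ← Matrix.one_apply, ← Matrix.mul_nonsing_inv H hdet]
    rfl
  · let c : Fin d → T := fun l => β.repr y ⟨d - 1 - (l : ℕ), by have := l.2; omega⟩
    have hyc : y = ∑ l, AdjoinRoot.of f (c l) * x ^ (d - 1 - (l : ℕ)) := by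
      conv_lhs => rw [← β.sum_repr y]
      refine Fintype.sum_equiv Fin.revPerm _ _ fun l => ?_
      have h1 : d - 1 - ((Fin.revPerm l : Fin d) : ℕ) = (l : ℕ) := by
        simp [Fin.val_rev]; omega
      rw [hβ, Algebra.smul_def, h1]
      exact congrArg (fun w => AdjoinRoot.of f (β.repr y w) * x ^ (l : ℕ)) (Fin.ext h1.symm)
    have hc : H.mulVec c = 0 := funext fun i => by rw [← hlin, ← hyc]; exact hy i
    have hc0 : c = 0 := by
      rw [← Matrix.one_mulVec c, ← Matrix.nonsing_inv_mul H hdet, ← Matrix.mulVec_mulVec, hc, Matrix.mulVec_zero]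
    rw [hyc, hc0]
    simp
  · conv_rhs => rw [← β.sum_repr y]
    exact Finset.sum_congr rfl fun i _ => by rw [hβ, Algebra.smul_def]; rfl

end Monogenic

end Groth.Agent.DualLib.Shriek
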