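import Groth.Agent.DCat.DTenEval
import Groth.Agent.DCat.ExtKFlat
import Groth.Agent.DCat.LTensorModule
import Groth.Agent.DCat.LTensorCx
import Groth.Agent.DualLib.LBCAdj

/-! The comparison map `Lψ(Y) ⊗ W ⟶ Y` for a surjection. -/

set_option autoImplicit false
set_option backward.isDefEq.respectTransparency false
set_option backward.defeqAttrib.useBackward true
set_option linter.style.haveILetI false

universe u

open CategoryTheory CategoryTheory.Limits CategoryTheory.MonoidalCategory HomologicalComplex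

attribute [local instance] HasDerivedCategory.standard

namespace Groth.Agent.DualLib.SurjT

open Groth.Agent.DCat

variable {P B : Type u} [CommRing P] [CommRing B] (φ : P →+* B)

/-- A map of restricted complexes is semilinear along a surjection. -/
noncomputable def preimage (hφ : Function.Surjective φ) {K L : DRing.Cx B}
    (f : (DTen.resCx φ).obj K ⟶ (DTen.resCx φ).obj L) : K ⟶ L where
  f i := ModuleCat.ofHom
    { toFun := fun x => (f.f i).hom x
      map_add' := fun x y => map_add (f.f i).hom x y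
      map_smul' := fun b x => by
        obtain ⟨a, rfl⟩ := hφ b
        exact map_smul (f.f i).hom a (show ((DTen.resCx φ).obj K).X i from x) }
  comm' i j _ := ModuleCat.hom_ext (LinearMap.ext fun x => ConcreteCategory.congr_hom (f.comm i j) x)

lemma map_preimage (hφ : Function.Surjective φ) {K L : DRing.Cx B}
    (f : (DTen.resCx φ).obj K ⟶ (DTen.resCx φ).obj L) : (DTen.resCx φ).map (preimage φ hφ f) = f := by
  ext i : 1
  rfl

/-- An isomorphism of restricted complexes is one over `B`. -/
noncomputable def preimageIso (hφ : Function.Surjective φ) {K L : DRing.Cx B}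
    (e : (DTen.resCx φ).obj K ≅ (DTen.resCx φ).obj L) : K ≅ L where
  hom := preimage φ hφ e.hom
  inv := preimage φ hφ e.inv
  hom_inv_id := by
    ext i : 1
    exact ModuleCat.hom_ext (LinearMap.ext fun x => ConcreteCategory.congr_hom (HomologicalComplex.congr_hom e.hom_inv_id i) x)
  inv_hom_id := by
    ext i : 1
    exact ModuleCat.hom_ext (LinearMap.ext fun x => ConcreteCategory.congr_hom (HomologicalComplex.congr_hom e.inv_hom_id i) x)

/-- Naturality of the projection formula for complexes. -/
lemma totExtIso_natural (N : DRing.Cx B) {Y Y' : DRing.Cx P} (k : Y ⟶ Y') :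
    (DTen.resCx φ).map (totMap₂ (modT B) N ((DTen.extCx φ).map k)) ≫ (totExtIso φ N Y').hom =
      (totExtIso φ N Y).hom ≫ totMap₂ (modT P) ((DTen.resCx φ).obj N) k := by
  have n1 := mapTotHom_natural (T := modExt φ) (T' := modT B) (F := 𝟭 (ModuleCat.{u} B))
    (H := ModuleCat.extendScalars.{u, u, u} φ) (G := 𝟭 (ModuleCat.{u} B)) (α := fun _ _ => Iso.refl _)
    (fun _ _ => (Category.comp_id _).trans (Category.id_comp _).symm)
    (fun _ _ _ _ => (Category.comp_id _).trans (Category.id_comp _).symm) (𝟙 N) k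
  have n2 := mapTotHom_natural (T := modExt φ) (T' := modT P) (F := ModuleCat.restrictScalars.{u} φ)
    (H := 𝟭 (ModuleCat.{u} P)) (G := ModuleCat.restrictScalars.{u} φ) (α := extCancelIso φ)
    (fun g b => extCancelIso_natural₁ φ g b) (fun a _ _ g => extCancelIso_natural₂ φ a g) (𝟙 N) k
  rw [CategoryTheory.Functor.map_id] at n1 n2
  simp only [totExtIso, Iso.trans_hom, Functor.mapIso_hom, Iso.symm_hom]
  rw [← Category.assoc, ← Functor.map_comp]
  have n1' : totMap₂ (modT B) N ((DTen.extCx φ).map k) ≫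
      (mapTotIso (modExt φ) (modT B) (𝟭 _) (ModuleCat.extendScalars.{u, u, u} φ) (𝟭 _) (fun _ _ => Iso.refl _)
        (fun _ _ => (Category.comp_id _).trans (Category.id_comp _).symm)
        (fun _ _ _ _ => (Category.comp_id _).trans (Category.id_comp _).symm) N Y').inv =
      (mapTotIso (modExt φ) (modT B) (𝟭 _) (ModuleCat.extendScalars.{u, u, u} φ) (𝟭 _) (fun _ _ => Iso.refl _)
        (fun _ _ => (Category.comp_id _).trans (Category.id_comp _).symm)
        (fun _ _ _ _ => (Category.comp_id _).trans (Category.id_comp _).symm) N Y).inv ≫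
        totMap₂ (modExt φ) N k := by
    rw [Iso.eq_inv_comp, ← Category.assoc, Iso.comp_inv_eq]
    exact n1.symm
  rw [n1', Functor.map_comp, Category.assoc, Category.assoc]
  exact congrArg (_ ≫ ·) n2

variable [DTen.HasLTen B] [DTen.HasLTen P] [DRing.HasLBaseChange φ] (W : DRing.Cx B)

/-- `Y ↦ W ⊗ Lψ(Y)`. -/
noncomputable abbrev G : Dual.D P ⥤ Dual.D B :=
  DRing.LBaseChange φ ⋙ (DTen.LTen B).obj (DerivedCategory.Q.obj W)

/-- The counit of base change on complexes. -/
noncomputable def cExt : DerivedCategory.Q ⋙ DRing.LBaseChange φ ⟶ DTen.extCx φ ⋙ DerivedCategory.Q where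
  app K := (DRing.LBaseChange φ).map ((DerivedCategory.quotientCompQhIso (ModuleCat.{u} P)).inv.app K) ≫
    ((DRing.baseChangeKh φ).totalLeftDerivedCounit DerivedCategory.Qh
      (HomotopyCategory.quasiIso (ModuleCat.{u} P) (ComplexShape.up ℤ))).app
        ((HomotopyCategory.quotient (ModuleCat.{u} P) (ComplexShape.up ℤ)).obj K) ≫
    (DerivedCategory.quotientCompQhIso (ModuleCat.{u} B)).hom.app ((DTen.extCx φ).obj K)
  naturality K K' f := by
    have h1 := (DerivedCategory.quotientCompQhIso (ModuleCat.{u} P)).inv.naturality f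
    have h2 := ((DRing.baseChangeKh φ).totalLeftDerivedCounit DerivedCategory.Qh
      (HomotopyCategory.quasiIso (ModuleCat.{u} P) (ComplexShape.up ℤ))).naturality
        ((HomotopyCategory.quotient (ModuleCat.{u} P) (ComplexShape.up ℤ)).map f)
    have h3 := (DerivedCategory.quotientCompQhIso (ModuleCat.{u} B)).hom.naturality ((DTen.extCx φ).map f)
    dsimp at h1 h2 h3 ⊢
    rw [← Functor.map_comp_assoc, h1, Functor.map_comp_assoc, reassoc_of% h2]
    simp only [Category.assoc]
    exact congrArg (_ ≫ ·) (congrArg (_ ≫ ·) h3)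

lemma isIso_cExt {K : DRing.Cx P} (hK : IsKFlatFor (modT P) K) : IsIso ((cExt φ).app K) := by
  haveI := isIso_counit_of_mem exists_kflatR (isIso_baseChangeKh_of_kflat φ)
    ((DRing.baseChangeKh φ).totalLeftDerivedCounit DerivedCategory.Qh
      (HomotopyCategory.quasiIso (ModuleCat.{u} P) (ComplexShape.up ℤ)))
    (X := (HomotopyCategory.quotient (ModuleCat.{u} P) (ComplexShape.up ℤ)).obj K) hK
  dsimp [cExt]
  infer_instance

/-- The projection formula on complexes, as a natural map. -/
noncomputable def projCx :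
    DTen.extCx φ ⋙ tensorLeft W ⋙ DTen.resCx φ ⟶ tensorRight ((DTen.resCx φ).obj W) where
  app K := (totExtIso φ W K).hom ≫ (DTen.braidCx ((DTen.resCx φ).obj W) K).hom
  naturality K K' k := by
    show (DTen.resCx φ).map (W ◁ (DTen.extCx φ).map k) ≫ (totExtIso φ W K').hom ≫ _ = _
    rw [← Category.assoc]
    refine (congrArg (· ≫ _) (totExtIso_natural φ W k)).trans ?_
    rw [Category.assoc, Category.assoc]
    refine congrArg (_ ≫ ·) ?_
    have h := DTen.braidCx_naturality (𝟙 ((DTen.resCx φ).obj W)) k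
    simp only [MonoidalCategory.id_tensorHom, MonoidalCategory.tensorHom_id] at h
    exact h

/-- The comparison on complexes. -/
noncomputable def β :
    DerivedCategory.Q ⋙ G φ W ⋙ DRing.restrictD φ ⟶ DRing.tensorCxQ P ((DTen.resCx φ).obj W) where
  app K := (DRing.restrictD φ).map (((DTen.LTen B).obj (DerivedCategory.Q.obj W)).map ((cExt φ).app K) ≫
      (DTen.εLeft B W).app ((DTen.extCx φ).obj K)) ≫
    (DTen.resFactors φ).hom.app (W ⊗ (DTen.extCx φ).obj K) ≫ DerivedCategory.Q.map ((projCx φ W).app K)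
  naturality K K' k := by
    have h1 := (cExt φ).naturality k
    have h2 := (DTen.εLeft B W).naturality ((DTen.extCx φ).map k)
    have h3 := (DTen.resFactors φ).hom.naturality (W ◁ (DTen.extCx φ).map k)
    have h4 := (projCx φ W).naturality k
    simp only [Functor.comp_obj, Functor.comp_map] at h1 h2 h3 h4 ⊢
    change _ = _ ≫ DerivedCategory.Q.map ((tensorRight ((DTen.resCx φ).obj W)).map k)
    have hA : ((DTen.LTen B).obj (DerivedCategory.Q.obj W)).map ((DRing.LBaseChange φ).map (DerivedCategory.Q.map k)) ≫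
        ((DTen.LTen B).obj (DerivedCategory.Q.obj W)).map ((cExt φ).app K') ≫
          (DTen.εLeft B W).app ((DTen.extCx φ).obj K') =
        (((DTen.LTen B).obj (DerivedCategory.Q.obj W)).map ((cExt φ).app K) ≫
          (DTen.εLeft B W).app ((DTen.extCx φ).obj K)) ≫
            DerivedCategory.Q.map (W ◁ (DTen.extCx φ).map k) := by
      rw [← Functor.map_comp_assoc, h1, Functor.map_comp, Category.assoc, Category.assoc]
      exact congrArg (_ ≫ ·) h2
    rw [← Functor.map_comp_assoc, hA, Functor.map_comp]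
    simp only [Category.assoc]
    refine congrArg (_ ≫ ·) ?_
    rw [← Category.assoc, h3, Category.assoc, ← Functor.map_comp]
    exact congrArg (_ ≫ ·) ((congrArg DerivedCategory.Q.map h4).trans (Functor.map_comp _ _ _))

variable [DRing.HasLTensorCx P ((DTen.resCx φ).obj W)]

/-- The derived comparison. -/
noncomputable def τ : G φ W ⋙ DRing.restrictD φ ⟶ DRing.LTensorCx P ((DTen.resCx φ).obj W) :=
  (DRing.LTensorCx P ((DTen.resCx φ).obj W)).leftDerivedLift
    ((DRing.tensorCxQ P ((DTen.resCx φ).obj W)).totalLeftDerivedCounit DerivedCategory.Q (DTen.qis P))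
    (DTen.qis P) (G φ W ⋙ DRing.restrictD φ) (β φ W)

lemma τ_fac (K : DRing.Cx P) :
    (τ φ W).app (DerivedCategory.Q.obj K) ≫
      ((DRing.tensorCxQ P ((DTen.resCx φ).obj W)).totalLeftDerivedCounit DerivedCategory.Q (DTen.qis P)).app K =
      (β φ W).app K :=
  (DRing.LTensorCx P ((DTen.resCx φ).obj W)).leftDerived_fac_app _ (DTen.qis P) _ (β φ W) K

omit [DRing.HasLBaseChange φ] [DTen.HasLTen B] in
/-- `toLTensorCx` is invertible. -/
theorem isIso_toLTensorCx (E : DRing.Cx P) [DRing.HasLTensorCx P E] : IsIso (DTen.toLTensorCx P E) := by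
  rw [NatTrans.isIso_iff_isIso_app]
  intro Y
  obtain ⟨K, hK, ⟨e⟩⟩ := exists_kflat_obj Y
  refine (NatTrans.isIso_app_iff_of_iso (DTen.toLTensorCx P E) e).1 ?_
  haveI := isIso_ε_of_left (L := E) hK
  haveI := isIso_ltensorCx_counit E hK
  exact IsIso.of_isIso_fac_right (DTen.toLTensorCx_fac P E K)

variable (ε : (DRing.restrictD φ).obj (DerivedCategory.Q.obj W) ⟶ DTen.unit P)

/-- The map `ψ_*(W ⊗ Lψ Y) ⟶ Y`. -/
noncomputable def g : G φ W ⋙ DRing.restrictD φ ⟶ 𝟭 (Dual.D P) :=
  haveI := isIso_toLTensorCx ((DTen.resCx φ).obj W)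
  τ φ W ≫ inv (DTen.toLTensorCx P ((DTen.resCx φ).obj W)) ≫
    (DTen.LTen P).flip.map ((DTen.resFactors φ).inv.app W ≫ ε) ≫ DTen.unitR P

end Groth.Agent.DualLib.SurjT
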