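import Groth.Agent.DualLib.SurjTensorBase

/-! The comparison map on the generators. -/

set_option autoImplicit false
set_option backward.isDefEq.respectTransparency false
set_option backward.defeqAttrib.useBackward true
set_option linter.style.haveILetI false

universe u

open CategoryTheory CategoryTheory.Limits CategoryTheory.MonoidalCategory HomologicalComplex

attribute [local instance] HasDerivedCategory.standard

namespace Groth.Agent.DualLib.SurjT

open Groth.Agent.DCat

variable {P B : Type u} [CommRing P] [CommRing B] (φ : P →+* B)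

/-- `h` makes `Z` the value of the right adjoint at `X`. -/
def Univ (Z : Dual.D B) {X : Dual.D P} (h : (DRing.restrictD φ).obj Z ⟶ X) : Prop :=
  ∀ Z' : Dual.D B, Function.Bijective fun z : Z' ⟶ Z => (DRing.restrictD φ).map z ≫ h

lemma Univ.comp_iso {Z : Dual.D B} {X X' : Dual.D P} {h : (DRing.restrictD φ).obj Z ⟶ X} (hu : Univ φ Z h)
    (e : X ⟶ X') [IsIso e] : Univ φ Z (h ≫ e) := fun Z' => by
  have h1 : (fun z : Z' ⟶ Z => (DRing.restrictD φ).map z ≫ h ≫ e) =
      (asIso e).homToEquiv ∘ fun z => (DRing.restrictD φ).map z ≫ h := funext fun z => by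
    simp [Iso.homToEquiv]
  rw [h1]
  exact (Equiv.bijective _).comp (hu Z')

lemma Univ.iso_comp {Z Z₁ : Dual.D B} {X : Dual.D P} {h : (DRing.restrictD φ).obj Z ⟶ X} (hu : Univ φ Z h)
    (i : Z₁ ≅ Z) : Univ φ Z₁ ((DRing.restrictD φ).map i.hom ≫ h) := fun Z' => by
  have h1 : (fun z : Z' ⟶ Z₁ => (DRing.restrictD φ).map z ≫ (DRing.restrictD φ).map i.hom ≫ h) =
      (fun z => (DRing.restrictD φ).map z ≫ h) ∘ i.homToEquiv := funext fun z => by
    simp [Iso.homToEquiv]
  rw [h1]
  exact (hu Z').comp (Equiv.bijective _)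

lemma Univ.shift {Z : Dual.D B} {X : Dual.D P} {h : (DRing.restrictD φ).obj Z ⟶ X} (hu : Univ φ Z h) (m : ℤ) :
    Univ φ (Z⟦m⟧) (((DRing.restrictD φ).commShiftIso m).hom.app Z ≫ h⟦m⟧') := fun Z' => by
  let F := DRing.restrictD φ
  let Z₀ := Z'⟦-m⟧
  let ι : Z₀⟦m⟧ ≅ Z' := (shiftEquiv (Dual.D B) m).counitIso.app Z'
  let ι' : (F.obj Z₀)⟦m⟧ ≅ F.obj Z' := ((F.commShiftIso m).app Z₀).symm ≪≫ F.mapIso ι
  have h1 : (fun z : Z' ⟶ Z⟦m⟧ => F.map z ≫ (F.commShiftIso m).hom.app Z ≫ h⟦m⟧') =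
      (ι'.homFromEquiv) ∘ (fun w : F.obj Z₀ ⟶ X => w⟦m⟧') ∘ (fun z => F.map z ≫ h) ∘
        (Equiv.ofBijective _ ((Functor.FullyFaithful.ofFullyFaithful (shiftFunctor (Dual.D B) m)).map_bijective
          Z₀ Z)).symm ∘ ι.symm.homFromEquiv := funext fun z => by
    let w : Z₀ ⟶ Z := (Equiv.ofBijective _ ((Functor.FullyFaithful.ofFullyFaithful
      (shiftFunctor (Dual.D B) m)).map_bijective Z₀ Z)).symm (ι.hom ≫ z)
    have hw : w⟦m⟧' = ι.hom ≫ z :=
      (Equiv.ofBijective _ ((Functor.FullyFaithful.ofFullyFaithful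
        (shiftFunctor (Dual.D B) m)).map_bijective Z₀ Z)).apply_symm_apply _
    show _ = ι'.inv ≫ (F.map w ≫ h)⟦m⟧'
    have hz : z = ι.inv ≫ w⟦m⟧' := by rw [hw, Iso.inv_hom_id_assoc]
    have hn : F.map (w⟦m⟧') ≫ (F.commShiftIso m).hom.app Z = (F.commShiftIso m).hom.app Z₀ ≫ (F.map w)⟦m⟧' :=
      (F.commShiftIso m).hom.naturality w
    rw [hz, Functor.map_comp, Functor.map_comp (shiftFunctor (Dual.D P) m)]
    simp only [ι', Iso.trans_inv, Iso.symm_inv, Functor.mapIso_inv, Iso.app_hom, Category.assoc]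
    rw [reassoc_of% hn]
  rw [h1]
  exact (Equiv.bijective _).comp (((Functor.FullyFaithful.ofFullyFaithful (shiftFunctor (Dual.D P) m)).map_bijective
    _ _).comp ((hu Z₀).comp ((Equiv.bijective _).comp (Equiv.bijective _))))

/-- `L ⊗ A[-n] = L[-n]`, naturally. -/
noncomputable def rightShiftIso (n : ℤ) : tensorRight (unitShift P n) ≅ shiftFunctor (DRing.Cx P) (-n) :=
  let e : (unitShift P 0)⟦-n⟧ ≅ unitShift P n :=
    ((CochainComplex.singleFunctors (ModuleCat.{u} P)).shiftIso (-n) n 0 (by omega)).app (𝟙_ (ModuleCat.{u} P))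
  NatIso.ofComponents (fun L => whiskerLeftIso L e.symm ≪≫
      (((modT P).map₂CochainComplex.obj L).commShiftIso (-n)).app _ ≪≫
      (shiftFunctor (DRing.Cx P) (-n)).mapIso (ρ_ L : L ⊗ 𝟙_ (DRing.Cx P) ≅ L))
    (fun {L L'} f => by
      show f ▷ (unitShift P n) ≫ _ = _ ≫ f⟦-n⟧'
      simp only [Iso.trans_hom, whiskerLeftIso_hom, Functor.mapIso_hom, Iso.app_hom, Category.assoc]
      rw [← whisker_exchange_assoc]
      refine congrArg (_ ≫ ·) ?_
      rw [← Functor.map_comp, ← rightUnitor_naturality, Functor.map_comp]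
      exact (NatTrans.shift_app_comm_assoc ((modT P).map₂CochainComplex.map f) (-n) (unitShift P 0) _).symm)

/-- `A[-n] ⊗ L = L[-n]`, naturally. -/
noncomputable def leftShiftIso (n : ℤ) : tensorLeft (unitShift P n) ≅ shiftFunctor (DRing.Cx P) (-n) :=
  (NatIso.ofComponents (G := tensorRight (unitShift P n)) (fun L => DTen.braidCx (unitShift P n) L) (fun {L L'} f => by
    have h := DTen.braidCx_naturality (𝟙 (unitShift P n)) f
    simp only [MonoidalCategory.id_tensorHom, MonoidalCategory.tensorHom_id] at h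
    exact h) : tensorLeft (unitShift P n) ≅ tensorRight (unitShift P n)) ≪≫ rightShiftIso n

variable [DTen.HasLTen P]

/-- `A[-n] ⊗^L X = X[-n]`, naturally, with its value on complexes. -/
theorem exists_shiftIso (n : ℤ) :
    ∃ N : (DTen.LTen P).obj (DerivedCategory.Q.obj (unitShift P n)) ≅ shiftFunctor (Dual.D P) (-n),
      ∀ L : DRing.Cx P, N.hom.app (DerivedCategory.Q.obj L) =
        (DTen.ε P).app (unitShift P n, L) ≫ DerivedCategory.Q.map ((leftShiftIso n).hom.app L) ≫
          ((DerivedCategory.Q).commShiftIso (-n)).hom.app L := by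
  let K := unitShift P n
  haveI : IsIso (DTen.εLeft P K) :=
    (NatTrans.isIso_iff_isIso_app _).2 fun L => isIso_ε_of_left (L := L) (isKFlatFor_unitShift n)
  let W := HomologicalComplex.quasiIso (ModuleCat.{u} P) (ComplexShape.up ℤ)
  letI l1 : Localization.Lifting DerivedCategory.Q W (tensorLeft K ⋙ DerivedCategory.Q)
      ((DTen.LTen P).obj (DerivedCategory.Q.obj K)) := ⟨asIso (DTen.εLeft P K)⟩
  letI l2 : Localization.Lifting DerivedCategory.Q W (shiftFunctor (DRing.Cx P) (-n) ⋙ DerivedCategory.Q)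
      (shiftFunctor (Dual.D P) (-n)) := ⟨((DerivedCategory.Q).commShiftIso (-n)).symm⟩
  refine ⟨Localization.liftNatIso DerivedCategory.Q W (tensorLeft K ⋙ DerivedCategory.Q)
    (shiftFunctor (DRing.Cx P) (-n) ⋙ DerivedCategory.Q) _ _ (Functor.isoWhiskerRight (leftShiftIso n) _), fun L => ?_⟩
  rw [Localization.liftNatIso_hom, Localization.liftNatTrans_app]
  rfl

variable [DTen.HasLTen B] [DRing.HasLBaseChange φ] (W : DRing.Cx B)
  [DRing.HasLTensorCx P ((DTen.resCx φ).obj W)]
  (ε : (DRing.restrictD φ).obj (DerivedCategory.Q.obj W) ⟶ DTen.unit P)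

/-- The comparison map at a K-flat complex. -/
lemma g_app {K : DRing.Cx P} (hK : IsKFlatFor (modT P) K) :
    haveI := isIso_ε_of_left (L := (DTen.resCx φ).obj W) hK
    (g φ W ε).app (DerivedCategory.Q.obj K) =
      (β φ W).app K ≫ inv ((DTen.ε P).app (K, (DTen.resCx φ).obj W)) ≫
        ((DTen.LTen P).obj (DerivedCategory.Q.obj K)).map ((DTen.resFactors φ).inv.app W ≫ ε) ≫
          (DTen.unitR P).app (DerivedCategory.Q.obj K) := by
  haveI := isIso_ε_of_left (L := (DTen.resCx φ).obj W) hK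
  haveI := isIso_ltensorCx_counit ((DTen.resCx φ).obj W) hK
  haveI := isIso_toLTensorCx ((DTen.resCx φ).obj W)
  let c := ((DRing.tensorCxQ P ((DTen.resCx φ).obj W)).totalLeftDerivedCounit DerivedCategory.Q (DTen.qis P)).app K
  haveI : IsIso c := ‹_›
  have h1 : (τ φ W).app (DerivedCategory.Q.obj K) ≫ (inv (DTen.toLTensorCx P ((DTen.resCx φ).obj W))).app
      (DerivedCategory.Q.obj K) = (β φ W).app K ≫ inv ((DTen.ε P).app (K, (DTen.resCx φ).obj W)) := by
    rw [IsIso.eq_comp_inv, NatIso.isIso_inv_app, Category.assoc, ← τ_fac]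
    refine congrArg (_ ≫ ·) ?_
    rw [IsIso.inv_comp_eq]
    exact (DTen.toLTensorCx_fac P _ K).symm
  simp only [g, NatTrans.comp_app]
  rw [← Category.assoc, h1, Category.assoc]
  rfl

omit [DRing.HasLBaseChange φ] [DTen.HasLTen B] [DTen.HasLTen P] in
/-- Shifts and restriction on complexes. -/
lemma factors_shift (L : DRing.Cx B) (m : ℤ) :
    (DTen.resFactors φ).hom.app (L⟦m⟧) ≫ DerivedCategory.Q.map (((DTen.resCx φ).commShiftIso m).hom.app L) ≫
        ((DerivedCategory.Q).commShiftIso m).hom.app ((DTen.resCx φ).obj L) =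
      (DRing.restrictD φ).map (((DerivedCategory.Q).commShiftIso m).hom.app L) ≫
        ((DRing.restrictD φ).commShiftIso m).hom.app (DerivedCategory.Q.obj L) ≫
          ((DTen.resFactors φ).hom.app L)⟦m⟧' := by
  have h := NatTrans.shift_app_comm (DTen.resFactors φ).hom m L
  rw [Functor.commShiftIso_comp_hom_app, Functor.commShiftIso_comp_hom_app, Category.assoc] at h
  exact h.symm

/-- The comparison map is universal on the shifted rings. -/
theorem univ_gen (hφ : Function.Surjective φ) (hε : Univ φ (DerivedCategory.Q.obj W) ε) (n : ℤ) :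
    Univ φ ((G φ W).obj (DerivedCategory.Q.obj (unitShift P n))) ((g φ W ε).app (DerivedCategory.Q.obj (unitShift P n))) := by
  let K := unitShift P n
  let V := (DTen.resCx φ).obj W
  have hK : IsKFlatFor (modT P) K := isKFlatFor_unitShift n
  haveI := isIso_ε_of_left (L := V) hK
  obtain ⟨N, hN⟩ := exists_shiftIso (P := P) n
  -- on complexes
  let j : (DTen.resCx φ).obj (W ⊗ (DTen.extCx φ).obj K) ≅ (DTen.resCx φ).obj (W⟦-n⟧) :=
    totExtIso φ W K ≪≫ DTen.braidCx V K ≪≫ (leftShiftIso n).app V ≪≫ (((DTen.resCx φ).commShiftIso (-n)).app W).symm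
  let i₀ := preimageIso φ hφ j
  haveI := isIso_cExt φ hK
  haveI : IsIso ((DTen.ε B).app (W, (DTen.extCx φ).obj K)) := isIso_ε_of_right (isKFlatFor_ext φ hK)
  let i : (G φ W).obj (DerivedCategory.Q.obj K) ≅ (DerivedCategory.Q.obj W)⟦-n⟧ :=
    ((DTen.LTen B).obj (DerivedCategory.Q.obj W)).mapIso (asIso ((cExt φ).app K)) ≪≫
      asIso ((DTen.ε B).app (W, (DTen.extCx φ).obj K)) ≪≫ DerivedCategory.Q.mapIso i₀ ≪≫
      ((DerivedCategory.Q).commShiftIso (-n)).app W
  let fi := (DTen.resFactors φ).inv.app W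
  let C := ((DRing.restrictD φ).commShiftIso (-n)).hom.app (DerivedCategory.Q.obj W)
  have hE : (β φ W).app K ≫ inv ((DTen.ε P).app (K, V)) ≫ N.hom.app (DerivedCategory.Q.obj V) =
      (DRing.restrictD φ).map i.hom ≫ C ≫ ((DTen.resFactors φ).hom.app W)⟦-n⟧' := by
    rw [hN, IsIso.inv_hom_id_assoc]
    have hj : (projCx φ W).app K ≫ (leftShiftIso n).hom.app V =
        (DTen.resCx φ).map i₀.hom ≫ ((DTen.resCx φ).commShiftIso (-n)).hom.app W := by
      rw [show (DTen.resCx φ).map i₀.hom = j.hom from map_preimage φ hφ j.hom]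
      simp [j, projCx, V]
    have hf : (DTen.resFactors φ).hom.app (W ⊗ (DTen.extCx φ).obj K) ≫
          DerivedCategory.Q.map ((DTen.resCx φ).map i₀.hom) =
        (DRing.restrictD φ).map (DerivedCategory.Q.map i₀.hom) ≫ (DTen.resFactors φ).hom.app (W⟦-n⟧) :=
      ((DTen.resFactors φ).hom.naturality i₀.hom).symm
    have hi : i.hom = (((DTen.LTen B).obj (DerivedCategory.Q.obj W)).map ((cExt φ).app K) ≫
        (DTen.εLeft B W).app ((DTen.extCx φ).obj K)) ≫ DerivedCategory.Q.map i₀.hom ≫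
          ((DerivedCategory.Q).commShiftIso (-n)).hom.app W := by
      simp only [i, Iso.trans_hom, Functor.mapIso_hom, asIso_hom, Iso.app_hom, Category.assoc]
      rfl
    rw [hi, Functor.map_comp, Functor.map_comp]
    simp only [β, Category.assoc]
    simp only [← Functor.map_comp_assoc]
    rw [hj]
    simp only [Functor.map_comp, Category.assoc]
    rw [reassoc_of% hf, factors_shift]
  have hnat : ((DTen.LTen P).obj (DerivedCategory.Q.obj K)).map (fi ≫ ε) =
      N.hom.app (DerivedCategory.Q.obj V) ≫ (fi ≫ ε)⟦-n⟧' ≫ N.inv.app (DTen.unit P) := by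
    rw [← NatTrans.naturality_assoc, Iso.hom_inv_id_app, Category.comp_id]
  haveI : IsIso ((DTen.unitR P).app (DerivedCategory.Q.obj K)) := by
    haveI := isIso_ε_of_left (L := 𝟙_ (DRing.Cx P)) hK
    rw [DTen.unitR_app]
    infer_instance
  rw [g_app φ W ε hK, hnat]
  simp only [Category.assoc]
  rw [reassoc_of% hE]
  have hfin : ((DTen.resFactors φ).hom.app W)⟦-n⟧' ≫ (fi ≫ ε)⟦-n⟧' = ε⟦-n⟧' := by
    rw [← Functor.map_comp, Iso.hom_inv_id_app_assoc]
  have h2 := ((Univ.shift φ hε (-n)).comp_iso φ (N.inv.app (DTen.unit P) ≫ (DTen.unitR P).app (DerivedCategory.Q.obj K))).iso_comp φ i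
  rw [← hfin] at h2
  simpa only [Category.assoc] using h2

end Groth.Agent.DualLib.SurjT
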