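import Groth.Agent.DualLib.FreeCriterion
import Groth.Agent.DualLib.Biduality
import Groth.Agent.DualLib.ShriekTensor
import Groth.Agent.DCat.DTenAmp
import Groth.Agent.DualLib.DbEquiv

/-! Invertible objects of `D(A)` over a local ring are shifts of `A`. -/

set_option autoImplicit false
set_option backward.isDefEq.respectTransparency false
set_option backward.defeqAttrib.useBackward true
set_option linter.style.haveILetI false

universe u

open CategoryTheory CategoryTheory.Limits CategoryTheory.Pretriangulated DerivedCategory MonoidalCategory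

attribute [local instance] HasDerivedCategory.standard

namespace Groth.Agent.DualLib.TensorInv

open Groth.Agent Groth.Agent.DualLib Groth.Agent.DCat

variable {A : Type u} [CommRing A] [IsLocalRing A]

/-- A module whose `Hom` into a nonzero `k`-vector space is a line is cyclic. -/
theorem exists_gen (M : Type u) [AddCommGroup M] [Module A M] [Module.Finite A M] [Nontrivial M]
    (V : Type u) [AddCommGroup V] [Module A V] [Nontrivial V]
    (hV : ∀ a ∈ IsLocalRing.maximalIdeal A, ∀ v : V, a • v = 0)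
    (hsimp : IsSimpleModule A (M →ₗ[A] V)) : ∃ x : M, Submodule.span A {x} = ⊤ := by
  obtain ⟨g, hg⟩ := exists_to_residue (A := A) M
  obtain ⟨x, hx⟩ : ∃ x, g x ≠ 0 := by
    by_contra! hc
    exact hg (LinearMap.ext hc)
  obtain ⟨v, hv⟩ := exists_ne (0 : V)
  let ι : IsLocalRing.ResidueField A →ₗ[A] V :=
    Submodule.liftQ (IsLocalRing.maximalIdeal A) (LinearMap.toSpanSingleton A V v) fun a ha => hV a ha v
  have hι : Function.Injective ι := by
    refine (injective_iff_map_eq_zero ι).2 fun z hz => ?_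
    obtain ⟨c, rfl⟩ := Submodule.Quotient.mk_surjective _ z
    refine (Submodule.Quotient.mk_eq_zero _).2 ?_
    by_contra hc
    obtain ⟨w, rfl⟩ := not_not.1 fun hu => hc ((IsLocalRing.mem_maximalIdeal c).2 hu)
    exact hv (w.isUnit.smul_eq_zero.1 hz)
  refine ⟨x, ?_⟩
  by_contra hne
  let p : Submodule A M := Submodule.span A {x} ⊔ IsLocalRing.maximalIdeal A • ⊤
  have hp : p ≠ ⊤ := fun hp => hne (top_le_iff.1
    (Submodule.le_of_le_smul_of_le_jacobson_bot Module.Finite.fg_top (IsLocalRing.maximalIdeal_le_jacobson _) hp.ge))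
  haveI : Nontrivial (M ⧸ p) := Submodule.Quotient.nontrivial_iff.2 hp
  obtain ⟨h, hh⟩ := exists_to_residue (A := A) (M ⧸ p)
  have hg0 : ι ∘ₗ g ≠ 0 := fun h0 => hx (hι ((LinearMap.congr_fun h0 x).trans (map_zero ι).symm))
  have htop : Submodule.span A {ι ∘ₗ g} = ⊤ := (IsSimpleOrder.eq_bot_or_eq_top _).resolve_left
    (by rw [Submodule.span_singleton_eq_bot]; exact hg0)
  obtain ⟨c, hc⟩ := Submodule.mem_span_singleton.1
    (show ι ∘ₗ h ∘ₗ p.mkQ ∈ Submodule.span A {ι ∘ₗ g} by rw [htop]; trivial)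
  by_cases hcm : c ∈ IsLocalRing.maximalIdeal A
  · refine hh (LinearMap.ext fun z => ?_)
    obtain ⟨y, rfl⟩ := p.mkQ_surjective z
    exact hι (((LinearMap.congr_fun hc y).symm.trans (hV c hcm _)).trans (map_zero ι).symm)
  · obtain ⟨w, rfl⟩ := not_not.1 fun hu => hcm ((IsLocalRing.mem_maximalIdeal c).2 hu)
    have h1 := LinearMap.congr_fun hc x
    have h2 : p.mkQ x = 0 := (Submodule.Quotient.mk_eq_zero p).2
      (Submodule.mem_sup_left (Submodule.mem_span_singleton_self x))
    simp only [LinearMap.smul_apply, LinearMap.comp_apply, h2, map_zero] at h1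
    exact hx (hι ((w.isUnit.smul_eq_zero.1 h1).trans (map_zero ι).symm))

/-- A nonzero retract of `A` is `A`. -/
theorem isIso_of_retract {R : Dual.D A} (hR : ¬ IsZero R) (i : R ⟶ Dual.inD A A) (r : Dual.inD A A ⟶ R)
    (h : i ≫ r = 𝟙 R) : IsIso i := by
  obtain ⟨f, hf⟩ := (S0 A).map_surjective (r ≫ i)
  have hsm : ∀ a : A, (S0 A).map (a • 𝟙 (ModuleCat.of A A)) = a • 𝟙 (Dual.inD A A) := fun a => by
    rw [Functor.map_smul, CategoryTheory.Functor.map_id]
  have hf' : f = f.hom (1 : A) • 𝟙 (ModuleCat.of A A) := by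
    apply ModuleCat.hom_ext
    refine LinearMap.ext fun z => ?_
    show f.hom z = f.hom 1 * z
    rw [mul_comm, ← smul_eq_mul z, ← map_smul, smul_eq_mul, mul_one]
  have hri : r ≫ i = f.hom (1 : A) • 𝟙 (Dual.inD A A) := by rw [← hf, ← hsm, ← hf']
  have h1 : f.hom (1 : A) • i = i := by
    have h2 := congrArg (i ≫ ·) hri
    simp only [← Category.assoc, h, Category.id_comp, Linear.comp_smul, Category.comp_id] at h2
    exact h2.symm
  rcases IsLocalRing.isUnit_or_isUnit_one_sub_self (f.hom (1 : A)) with hu | hu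
  · obtain ⟨w, hw⟩ := hu
    refine ⟨(↑w⁻¹ : A) • r, ?_, ?_⟩
    · rw [Linear.comp_smul, h]
      calc (↑w⁻¹ : A) • 𝟙 R = (↑w⁻¹ : A) • ((f.hom (1 : A) • i) ≫ r) := by rw [h1, h]
        _ = 𝟙 R := by rw [Linear.smul_comp, h, ← hw, smul_smul, Units.inv_mul, one_smul]
    · rw [Linear.smul_comp, hri, ← hw, smul_smul, Units.inv_mul, one_smul]
  · exfalso
    apply hR
    obtain ⟨w, hw⟩ := hu
    have h3 : (w : A) • i = 0 := by rw [hw, sub_smul, one_smul, h1, sub_self]
    have h4 : i = 0 := by rw [← one_smul A i, ← w.inv_mul, mul_smul, h3, smul_zero]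
    rw [IsZero.iff_id_eq_zero, ← h, h4, zero_comp]

variable [IsNoetherianRing A] [DTen.HasLTen A] [DTen.HasRHom A] [DTen.HasLTen₃ A]

omit [IsNoetherianRing A] in
/-- Tensor invertible objects over a local ring are shifts of the ring. -/
theorem exists_shift (L E : Dual.D A) (bL bE : ℤ) [hL : L.IsLE bL] [hE : E.IsLE bE]
    (hLfin : ∀ i, Module.Finite A (Dual.HD A L i)) (hEfin : ∀ i, Module.Finite A (Dual.HD A E i))
    (eU : (DTen.tensorRightD A E).obj L ≅ Dual.inD A A) :
    ∃ n : ℤ, Nonempty (L ≅ (Dual.inD A A)⟦n⟧) ∧ Nonempty (E ≅ (Dual.inD A A)⟦-n⟧) := by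
  classical
  haveI : DTen.IsSymMonoidal A := isSymMonoidal
  let U := Dual.inD A A
  let eHU := ((singleFunctorCompHomologyFunctorIso (ModuleCat.{u} A) 0).app (ModuleCat.of A A)).toLinearEquiv
  have hU : ¬ IsZero U := fun h => by
    haveI : Subsingleton (Dual.HD A U 0) :=
      ModuleCat.subsingleton_of_isZero ((homologyFunctor (ModuleCat.{u} A) 0).map_isZero h)
    exact one_ne_zero (α := A) (eHU.symm.injective (Subsingleton.elim (α := Dual.HD A U 0) _ _) :
      (1 : A) = (0 : A))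
  let F := DTen.tensorRightD A E
  haveI : F.Linear A := inferInstance
  have hL0 : ¬ IsZero L := fun h => hU ((F.map_isZero h).of_iso eU.symm)
  haveI := isIso_symm_app' (A := A) L E
  haveI := isIso_symm_app' (A := A) E L
  have hE0 : ¬ IsZero E := fun h => hU (((DTen.tensorRightD A L).map_isZero h).of_iso
    (eU.symm ≪≫ (asIso ((DTen.symm A).app (L, E))).symm))
  have htop : ∀ (X : Dual.D A) (b : ℤ), ¬ IsZero X → X.IsLE b →
      ∃ q, q ≤ b ∧ X.IsLE q ∧ Nontrivial (Dual.HD A X q) := fun X b hX hb => by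
    obtain ⟨q₀, hq₀⟩ : ∃ q, Nontrivial (Dual.HD A X q) := by
      by_contra! hc
      exact hX (DCat.SuppOpen.isZero_of_hd X fun i =>
        haveI := hc i
        ModuleCat.isZero_of_subsingleton _)
    have hle : ∀ q, Nontrivial (Dual.HD A X q) → q ≤ b := fun q hq => by
      by_contra hlt
      haveI := (DRingLib.isLE_iff_HD X b).1 hb q (by omega)
      exact not_subsingleton (Dual.HD A X q) ‹_›
    obtain ⟨q, hq, hmax⟩ := Int.exists_greatest_of_bdd (P := fun q => Nontrivial (Dual.HD A X q))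
      ⟨b, hle⟩ ⟨q₀, hq₀⟩
    exact ⟨q, hle q hq, (DRingLib.isLE_iff_HD X q).2 fun i hi => by
      by_contra hc
      rw [not_subsingleton_iff_nontrivial] at hc
      have := hmax i hc
      omega, hq⟩
  obtain ⟨b, -, hLb, hM0⟩ := htop L bL hL0 hL
  obtain ⟨c, -, hEc, hEtop⟩ := htop E bE hE0 hE
  haveI := hLb
  haveI := hEc
  -- the dual of `E` in its lowest degree
  let D := (DTen.RHomR A E).obj (kD A)
  haveI : D.IsGE (0 - c) := isGE_RHomR E (kD A) c 0
  haveI hV0 : Nontrivial (Dual.HD A D (-c)) := by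
    by_contra hc
    rw [not_nontrivial_iff_subsingleton] at hc
    haveI := hEfin c
    haveI := subsingleton_top E c (hdRHom E (kD A) (-c)).symm.injective.subsingleton
    exact not_subsingleton (Dual.HD A E c) ‹_›
  have hVm : ∀ a ∈ IsLocalRing.maximalIdeal A, ∀ v : Dual.HD A D (-c), a • v = 0 := fun a ha v => by
    apply (hdRHom E (kD A) (-c)).injective
    rw [map_smul, map_zero]
    have h0 : a • 𝟙 (ModuleCat.of A (IsLocalRing.ResidueField A)) = 0 := by
      apply ModuleCat.hom_ext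
      refine LinearMap.ext fun z => ?_
      obtain ⟨r, rfl⟩ := Submodule.Quotient.mk_surjective _ z
      exact (Submodule.Quotient.mk_eq_zero _).2 (Ideal.mul_mem_right r _ ha)
    have h1 : a • 𝟙 (kD A) = 0 := by
      rw [← CategoryTheory.Functor.map_id (S0 A), ← Functor.map_smul, h0, Functor.map_zero]
    have h2 : a • 𝟙 ((kD A)⟦-c⟧) = 0 := by
      rw [← CategoryTheory.Functor.map_id (shiftFunctor (Dual.D A) (-c)), ← Functor.map_smul, h1, Functor.map_zero]
    generalize hdRHom E (kD A) (-c) v = φ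
    rw [← Category.comp_id φ, ← Linear.comp_smul, h2, comp_zero]
  -- transport to `Hom` of modules
  let j := -(b + c)
  let D' := D⟦j⟧
  haveI : D'.IsGE b := (ts A).isGE_shift D (0 - c) j b (by omega)
  let T := ((ts A).truncLT (b + 1)).obj D'
  let tG := ((ts A).truncGE (b + 1)).obj D'
  haveI : T.IsLE b := (ts A).isLE_truncLT_obj _ _ _ (by omega)
  haveI : T.IsGE b := inferInstance
  haveI : tG.IsGE (b + 1) := inferInstance
  let eHT : Dual.HD A T b ≃ₗ[A] Dual.HD A D (-c) :=
    (hTruncLT D' (b + 1) b (by omega)).trans (hdShift D j b (-c) (by omega))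
  haveI : Nontrivial (Dual.HD A T b) := eHT.toEquiv.nontrivial
  have hdist := (ts A).triangleLTGE_distinguished (b + 1) D'
  have hpost : Function.Bijective (Linear.rightComp A L (((ts A).truncLTι (b + 1)).app D')) := by
    refine ⟨(injective_iff_map_eq_zero _).2 fun φ hφ => ?_, fun φ => ?_⟩
    · obtain ⟨θ, hθ⟩ := Triangle.coyoneda_exact₂ _ (inv_rot_of_distTriang _ hdist) φ hφ
      haveI : (tG⟦(-1 : ℤ)⟧).IsGE (b + 2) := (ts A).isGE_shift tG (b + 1) (-1) (b + 2) (by omega)
      have hz : θ = 0 := (ts A).zero (Y := tG⟦(-1 : ℤ)⟧) θ b (b + 2) (by omega)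
      exact hθ.trans ((congrArg (· ≫ _) hz).trans zero_comp)
    · obtain ⟨θ, hθ⟩ := Triangle.coyoneda_exact₂ _ hdist φ ((ts A).zero (Y := tG) _ b (b + 1) (by omega))
      exact ⟨θ, hθ.symm⟩
  obtain ⟨eT⟩ := exists_single_iso T b
  let Q := ((ts A).truncGE b).obj L
  haveI : Q.IsGE b := inferInstance
  haveI : Q.IsLE b := inferInstance
  let K := ((ts A).truncLT b).obj L
  haveI : K.IsLE (b - 1) := (ts A).isLE_truncLT_obj _ _ _ (by omega)
  obtain ⟨eQ⟩ := exists_single_iso Q b
  let M := Dual.HD A Q b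
  let eHQ : M ≃ₗ[A] Dual.HD A L b := (hTruncGE L b b le_rfl).symm
  haveI := hLfin b
  haveI := hM0
  haveI : Module.Finite A M := Module.Finite.equiv eHQ.symm
  haveI : Nontrivial M := eHQ.toEquiv.nontrivial
  have hdistL := (ts A).triangleLTGE_distinguished b L
  have hpre : Function.Bijective (Linear.leftComp A T (((ts A).truncGEπ b).app L) : (Q ⟶ T) → (L ⟶ T)) := by
    refine ⟨(injective_iff_map_eq_zero _).2 fun φ hφ => ?_, fun φ => ?_⟩
    · obtain ⟨θ, hθ⟩ := Triangle.yoneda_exact₃ _ hdistL φ hφ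
      haveI : (K⟦(1 : ℤ)⟧).IsLE (b - 2) := (ts A).isLE_shift K (b - 1) 1 (b - 2) (by omega)
      have hz : θ = 0 := (ts A).zero (X := K⟦(1 : ℤ)⟧) θ (b - 2) b (by omega)
      exact hθ.trans ((congrArg (_ ≫ ·) hz).trans comp_zero)
    · obtain ⟨θ, hθ⟩ := Triangle.yoneda_exact₂ _ hdistL φ ((ts A).zero (X := K) _ (b - 1) b (by omega))
      exact ⟨θ, hθ.symm⟩
  let S := singleFunctor (ModuleCat.{u} A) b
  obtain ⟨eD⟩ := exists_iso_RHomR_shift E j (kD A)
  let ψ : (M →ₗ[A] Dual.HD A T b) ≃ₗ[A] Dual.HD A (kD A) j :=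
    (ModuleCat.homLinearEquiv (M := ModuleCat.of A M) (N := ModuleCat.of A (Dual.HD A T b)) (S := A)).symm.trans <|
    (LinearEquiv.ofBijective (S.mapLinearMap A) ⟨S.map_injective, S.map_surjective⟩).trans <|
    (CategoryTheory.Linear.homCongr A eQ eT).trans <|
    (LinearEquiv.ofBijective _ hpre).trans <|
    (LinearEquiv.ofBijective _ hpost).trans <|
    (CategoryTheory.Linear.homCongr A (Iso.refl L) eD).trans <|
    (adjLin L E ((kD A)⟦j⟧)).trans <|
    (CategoryTheory.Linear.homCongr A eU (Iso.refl _)).trans (eSelf (kD A) j)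
  haveI : Nontrivial (M →ₗ[A] Dual.HD A T b) := by
    obtain ⟨g, hg⟩ := exists_to_residue (A := A) M
    obtain ⟨v, hv⟩ := exists_ne (0 : Dual.HD A T b)
    let ι : IsLocalRing.ResidueField A →ₗ[A] Dual.HD A T b :=
      Submodule.liftQ (IsLocalRing.maximalIdeal A) (LinearMap.toSpanSingleton A _ v) fun a ha =>
        eHT.injective ((map_smul eHT a v).trans ((hVm a ha _).trans (map_zero eHT).symm))
    refine ⟨⟨ι ∘ₗ g, 0, fun h0 => hg (LinearMap.ext fun y => ?_)⟩⟩
    · obtain ⟨r, hr⟩ := Submodule.Quotient.mk_surjective _ (g y)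
      have h1 : ι (g y) = 0 := LinearMap.congr_fun h0 y
      rw [← hr] at h1
      show g y = 0
      rw [← hr, Submodule.Quotient.mk_eq_zero]
      by_contra hrm
      obtain ⟨w, rfl⟩ := not_not.1 fun hu => hrm ((IsLocalRing.mem_maximalIdeal r).2 hu)
      exact hv (w.isUnit.smul_eq_zero.1 h1)
  have hj : j = 0 := by
    by_contra hj
    haveI := hd_single_subsingleton (A := A) (IsLocalRing.ResidueField A) j hj
    exact not_subsingleton _ ψ.injective.subsingleton
  haveI hsimp : IsSimpleModule A (IsLocalRing.ResidueField A) :=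
    isSimpleModule_iff_quot_maximal.2 ⟨_, IsLocalRing.maximalIdeal.isMaximal A, ⟨LinearEquiv.refl A _⟩⟩
  have ψ0 : (M →ₗ[A] Dual.HD A T b) ≃ₗ[A] Dual.HD A (kD A) 0 := by rw [← hj]; exact ψ
  haveI : IsSimpleModule A ((𝟭 (ModuleCat.{u} A)).obj (ModuleCat.of A (IsLocalRing.ResidueField A))) := hsimp
  haveI : IsSimpleModule A (M →ₗ[A] Dual.HD A T b) := IsSimpleModule.congr (ψ0.trans
    ((singleFunctorCompHomologyFunctorIso (ModuleCat.{u} A) 0).app
      (ModuleCat.of A (IsLocalRing.ResidueField A))).toLinearEquiv)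
  obtain ⟨x, hx⟩ := exists_gen M (Dual.HD A T b)
    (fun a ha v => eHT.injective ((map_smul eHT a v).trans ((hVm a ha _).trans (map_zero eHT).symm))) inferInstance
  have hbc : b + c = 0 := by omega
  -- `M` is free
  have hann : ∀ a : A, a • x = 0 → a = 0 := fun a ha => by
    have hM : a • 𝟙 (ModuleCat.of A M) = 0 := by
      apply ModuleCat.hom_ext
      refine LinearMap.ext fun y => ?_
      obtain ⟨r, rfl⟩ := Submodule.mem_span_singleton.1 (show y ∈ Submodule.span A {x} by rw [hx]; trivial)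
      show a • r • x = 0
      rw [smul_comm, ha, smul_zero]
    have hQ : a • 𝟙 Q = 0 := by
      rw [← eQ.inv_hom_id, ← Linear.comp_smul, ← Category.id_comp eQ.hom, ← Linear.smul_comp,
        ← CategoryTheory.Functor.map_id S, ← Functor.map_smul, hM, Functor.map_zero, zero_comp, comp_zero]
    let π := F.map (((ts A).truncGEπ b).app L)
    have hπ : a • π = 0 := by
      show a • F.map _ = 0
      rw [← Functor.map_smul, ← Category.comp_id (((ts A).truncGEπ b).app L), ← Linear.comp_smul]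
      exact (congrArg F.map ((congrArg (_ ≫ ·) hQ).trans comp_zero)).trans (Functor.map_zero _ _ _)
    obtain ⟨δ, hδ⟩ := mapsTri_tensorRightD E _ hdistL
    have hex := (ShortComplex.moduleCat_exact_iff _).1 ((homologyFunctor (ModuleCat.{u} A) 0).map_distinguished_exact _ hδ)
    haveI : (F.obj K).IsLE (b - 1 + c) := isLE_LTen K E (b - 1) c
    haveI : Subsingleton (Dual.HD A (F.obj K) 0) := (DRingLib.isLE_iff_HD _ (b - 1 + c)).1 inferInstance 0 (by omega)
    let eH0 := (((homologyFunctor (ModuleCat.{u} A) 0).mapIso eU).toLinearEquiv).trans eHU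
    have h1 : (homologyFunctor (ModuleCat.{u} A) 0).map π (a • eH0.symm (1 : A)) = 0 := by
      rw [map_smul]
      have h := congrArg (fun f => f.hom (eH0.symm (1 : A))) (congrArg (homologyFunctor (ModuleCat.{u} A) 0).map hπ)
      rw [← Category.comp_id π, ← Linear.comp_smul, Functor.map_comp, DCat.DC.homologyFunctor_map_smul_id,
        Linear.comp_smul, Category.comp_id, Functor.map_zero] at h
      exact h
    obtain ⟨k, hk⟩ := hex _ h1
    have h2 : a • eH0.symm (1 : A) = 0 :=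
      hk.symm.trans ((congrArg _ (Subsingleton.elim (α := Dual.HD A (F.obj K) 0) k 0)).trans (map_zero _))
    have h3 := congrArg eH0 h2
    rw [map_smul, LinearEquiv.apply_symm_apply, map_zero] at h3
    exact (mul_one a).symm.trans h3
  let eM : A ≃ₗ[A] M := LinearEquiv.ofBijective (LinearMap.toSpanSingleton A M x)
    ⟨(injective_iff_map_eq_zero _).2 fun a ha => hann a ha, fun y => Submodule.mem_span_singleton.1
      (show y ∈ Submodule.span A {x} by rw [hx]; trivial)⟩
  let eQA : S.obj (ModuleCat.of A A) ≅ Q := S.mapIso eM.toModuleIso ≪≫ eQ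
  -- the splitting
  haveI : Subsingleton (Q ⟶ K⟦(1 : ℤ)⟧) := by
    haveI : Subsingleton (Dual.HD A K (1 + b)) := (DRingLib.isLE_iff_HD K (b - 1)).1 inferInstance _ (by omega)
    haveI := (eSelf K (1 + b)).injective.subsingleton
    haveI := (singleHom K (ModuleCat.of A A) b 1 (1 + b) rfl).injective.subsingleton
    exact (homCongr K eQA 1).injective.subsingleton
  obtain ⟨s, hs⟩ := Triangle.coyoneda_exact₃ _ hdistL (𝟙 Q) (Subsingleton.elim (α := Q ⟶ K⟦(1 : ℤ)⟧) _ _)
  -- `E⟦-b⟧` is a retract of `A`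
  let eS : S.obj (ModuleCat.of A A) ≅ U⟦-b⟧ :=
    (((singleFunctors (ModuleCat.{u} A)).shiftIso (-b) b 0 (by omega)).app (ModuleCat.of A A)).symm
  obtain ⟨eT'⟩ := ShriekT.nonempty_LTen_shift (A := A) (𝟙_ (DRing.Cx A)) E (-b)
  let eR : F.obj Q ≅ E⟦-b⟧ := F.mapIso (eQA.symm ≪≫ eS ≪≫
      (shiftFunctor (Dual.D A) (-b)).mapIso (ShriekT.unitIso A).symm) ≪≫ eT'.symm ≪≫
    (shiftFunctor (Dual.D A) (-b)).mapIso (DTen.leftUnitor E)
  have hQ0 : ¬ IsZero (F.obj Q) := fun h => hE0 ((((shiftFunctor (Dual.D A) b).map_isZero (h.of_iso eR.symm))).of_iso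
    ((shiftFunctorCompIsoId (Dual.D A) (-b) b (by omega)).app E).symm)
  have hret : (F.map s ≫ eU.hom) ≫ (eU.inv ≫ F.map (((ts A).truncGEπ b).app L)) = 𝟙 _ := by
    rw [Category.assoc, Iso.hom_inv_id_assoc, ← Functor.map_comp]
    exact (congrArg F.map hs.symm).trans (F.map_id Q)
  haveI := isIso_of_retract hQ0 _ _ hret
  let eE : E ≅ U⟦b⟧ := ((shiftFunctorCompIsoId (Dual.D A) (-b) b (by omega)).app E).symm ≪≫
    (shiftFunctor (Dual.D A) b).mapIso (eR.symm ≪≫ asIso (F.map s ≫ eU.hom))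
  obtain ⟨eT''⟩ := ShriekT.nonempty_LTen_shift (A := A) (𝟙_ (DRing.Cx A)) L b
  let e1 : (DTen.LTen₂ A).obj (E, L) ≅ L⟦b⟧ :=
    (DTen.LTen₂ A).mapIso (Iso.prod (eE ≪≫ (shiftFunctor (Dual.D A) b).mapIso (ShriekT.unitIso A).symm) (Iso.refl L)) ≪≫
      eT''.symm ≪≫ (shiftFunctor (Dual.D A) b).mapIso (DTen.leftUnitor L)
  let eLb : L⟦b⟧ ≅ U := e1.symm ≪≫ asIso ((DTen.symm A).app (L, E)) ≪≫ eU
  refine ⟨-b, ⟨((shiftFunctorCompIsoId (Dual.D A) b (-b) (by omega)).app L).symm ≪≫
    (shiftFunctor (Dual.D A) (-b)).mapIso eLb⟩, ?_⟩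
  rw [neg_neg]
  exact ⟨eE⟩

end Groth.Agent.DualLib.TensorInv
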