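import Groth.Agent.DualLib.Shift
import Groth.Agent.DCat.LTensorModule
import Groth.Agent.DCat.DTenCore
import Mathlib.RingTheory.PicardGroup
import Mathlib.CategoryTheory.Monoidal.Preadditive

/-! Twisting a dualizing complex by a finite projective module. -/

set_option autoImplicit false
set_option backward.isDefEq.respectTransparency false
set_option backward.defeqAttrib.useBackward true
set_option linter.style.haveILetI false

universe u

open CategoryTheory CategoryTheory.Limits CategoryTheory.Pretriangulated DerivedCategory MonoidalCategory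

attribute [local instance] HasDerivedCategory.standard

namespace Groth.Agent.DualLib.Twist

variable {A : Type u} [CommRing A] (K : DRing.Cx A)

/-- `K ⊗ M` in the derived category. -/
noncomputable abbrev T (M : ModuleCat.{u} A) : Dual.D A := DerivedCategory.Q.obj (DRing.tensorCx K M)

/-- `K ⊗ f` on complexes. -/
noncomputable def tmap {M N : ModuleCat.{u} A} (f : M ⟶ N) : DRing.tensorCx K M ⟶ DRing.tensorCx K N :=
  (NatTrans.mapHomologicalComplex ((tensoringRight (ModuleCat.{u} A)).map f) (ComplexShape.up ℤ)).app K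

/-- `K ⊗ f` in the derived category. -/
noncomputable def Tm {M N : ModuleCat.{u} A} (f : M ⟶ N) : T K M ⟶ T K N := DerivedCategory.Q.map (tmap K f)

lemma tmap_f {M N : ModuleCat.{u} A} (f : M ⟶ N) (n : ℤ) : (tmap K f).f n = K.X n ◁ f := rfl

lemma Tm_id (M : ModuleCat.{u} A) : Tm K (𝟙 M) = 𝟙 (T K M) := by
  rw [Tm, show tmap K (𝟙 M) = 𝟙 _ from HomologicalComplex.hom_ext _ _ fun n => by
    rw [tmap_f, MonoidalCategory.whiskerLeft_id]; rfl, CategoryTheory.Functor.map_id]

lemma Tm_comp {M N P : ModuleCat.{u} A} (f : M ⟶ N) (g : N ⟶ P) : Tm K (f ≫ g) = Tm K f ≫ Tm K g := by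
  rw [Tm, show tmap K (f ≫ g) = tmap K f ≫ tmap K g from HomologicalComplex.hom_ext _ _ fun n => by
    rw [HomologicalComplex.comp_f, tmap_f, tmap_f, tmap_f, MonoidalCategory.whiskerLeft_comp], Functor.map_comp]
  rfl

/-- `K ⊗ -` as a linear map on homs. -/
noncomputable def TL (M N : ModuleCat.{u} A) : (M ⟶ N) →ₗ[A] (T K M ⟶ T K N) where
  toFun := Tm K
  map_add' f g := by
    rw [Tm, show tmap K (f + g) = tmap K f + tmap K g from HomologicalComplex.hom_ext _ _ fun n => by
      rw [HomologicalComplex.add_f_apply, tmap_f, tmap_f, tmap_f, MonoidalPreadditive.whiskerLeft_add],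
      Functor.map_add]
    rfl
  map_smul' a f := by
    rw [Tm, show tmap K (a • f) = a • tmap K f from HomologicalComplex.hom_ext _ _ fun n => by
      rw [HomologicalComplex.smul_f_apply, tmap_f, tmap_f, MonoidalLinear.whiskerLeft_smul],
      Functor.map_smul]
    rfl

/-- `K ⊗ A = K`. -/
noncomputable def unitIso : T K (ModuleCat.of A A) ≅ DerivedCategory.Q.obj K :=
  DerivedCategory.Q.mapIso (HomologicalComplex.Hom.isoOfComponents (fun n => ρ_ (K.X n))
    fun i j _ => (MonoidalCategory.rightUnitor_naturality (K.d i j)).symm)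

variable (P : Type u) [AddCommGroup P] [Module A P] [Module.Finite A P] [Module.Projective A P]

omit K in
lemma exists_dualBasis : ∃ (n : ℕ) (p : Fin n → (ModuleCat.of A A ⟶ ModuleCat.of A P))
    (φ : Fin n → (ModuleCat.of A P ⟶ ModuleCat.of A A)), ∑ j, φ j ≫ p j = 𝟙 (ModuleCat.of A P) := by
  classical
  obtain ⟨n, f, hf⟩ := Module.Finite.exists_fin' A P
  obtain ⟨g, hg⟩ := Module.projective_lifting_property f LinearMap.id hf
  refine ⟨n, fun j => ModuleCat.ofHom (f ∘ₗ LinearMap.single A (fun _ => A) j),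
    fun j => ModuleCat.ofHom (LinearMap.proj j ∘ₗ g), ?_⟩
  apply ModuleCat.hom_ext
  refine LinearMap.ext fun x => ?_
  rw [ModuleCat.hom_sum, LinearMap.sum_apply]
  show ∑ j, f (Pi.single j (g x j)) = x
  rw [← map_sum, Finset.univ_sum_single]
  exact LinearMap.congr_fun hg x

variable {ω : Dual.D A}

/-- The components of a decomposition of the identity. -/
lemma exists_decomp (e : DerivedCategory.Q.obj K ≅ ω) : ∃ (n : ℕ) (π : Fin n → (T K (ModuleCat.of A P) ⟶ ω)) (ι : Fin n → (ω ⟶ T K (ModuleCat.of A P))),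
    ∑ j, π j ≫ ι j = 𝟙 _ := by
  obtain ⟨n, p, φ, h⟩ := exists_dualBasis (A := A) P
  refine ⟨n, fun j => Tm K (φ j) ≫ (unitIso K ≪≫ e).hom, fun j => (unitIso K ≪≫ e).inv ≫ Tm K (p j), ?_⟩
  calc (∑ j, (Tm K (φ j) ≫ (unitIso K ≪≫ e).hom) ≫ (unitIso K ≪≫ e).inv ≫ Tm K (p j))
      = ∑ j, TL K _ _ (φ j ≫ p j) := Finset.sum_congr rfl fun j _ => by
        rw [Category.assoc, Iso.hom_inv_id_assoc]; exact (Tm_comp K _ _).symm
    _ = 𝟙 _ := by rw [← map_sum, h]; exact Tm_id K _

variable {P}

/-- `P → P'` is `Hom(K ⊗ P, K ⊗ P')` when `A → End ω` is bijective. -/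
theorem bijective_TL (hω : Function.Bijective fun a : A => a • 𝟙 ω) (P' : Type u) [AddCommGroup P'] [Module A P']
    [Module.Finite A P'] [Module.Projective A P'] (e' : DerivedCategory.Q.obj K ≅ ω) :
    Function.Bijective (TL K (ModuleCat.of A P) (ModuleCat.of A P')) := by
  obtain ⟨n, p, φ, hP⟩ := exists_dualBasis (A := A) P
  obtain ⟨n', p', φ', hP'⟩ := exists_dualBasis (A := A) P'
  let u := unitIso K ≪≫ e'
  have hid : ∀ {M : ModuleCat.{u} A} {m : ℕ} (x : Fin m → (ModuleCat.of A A ⟶ M))
      (y : Fin m → (M ⟶ ModuleCat.of A A)), ∑ j, y j ≫ x j = 𝟙 M → ∑ j, Tm K (y j) ≫ Tm K (x j) = 𝟙 (T K M) := by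
    intro M m x y h
    rw [← Tm_id, ← h]
    exact (Finset.sum_congr rfl fun j _ => (Tm_comp K _ _).symm).trans (map_sum (TL K M M) _ _).symm
  have hscal : ∀ c : A, Tm K (c • 𝟙 (ModuleCat.of A A)) = u.hom ≫ (c • 𝟙 ω) ≫ u.inv := fun c => by
    show TL K _ _ (c • 𝟙 _) = _
    rw [map_smul]
    show c • Tm K (𝟙 _) = _
    rw [Tm_id, Linear.smul_comp, Category.id_comp, Linear.comp_smul, u.hom_inv_id]
  refine ⟨(injective_iff_map_eq_zero _).2 fun f hf => ?_, fun g => ?_⟩
  · calc f = (∑ j, φ j ≫ p j) ≫ f ≫ ∑ k, φ' k ≫ p' k := by rw [hP, hP', Category.id_comp, Category.comp_id]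
      _ = 0 := by
        simp only [Preadditive.sum_comp, Preadditive.comp_sum, Category.assoc]
        refine Finset.sum_eq_zero fun j _ => Finset.sum_eq_zero fun k _ => ?_
        let m := p k ≫ f ≫ φ' j
        suffices hm : m = 0 by
          rw [show φ k ≫ p k ≫ f ≫ φ' j ≫ p' j = φ k ≫ m ≫ p' j by simp [m], hm, zero_comp, comp_zero]
        let c := m.hom (1 : A)
        have hmc : m = c • 𝟙 _ := ModuleCat.hom_ext (LinearMap.ext_ring (by simp [c]))
        have h0 : Tm K m = 0 := by
          show Tm K (p k ≫ f ≫ φ' j) = 0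
          rw [Tm_comp, Tm_comp, show Tm K f = 0 from hf, zero_comp, comp_zero]
        rw [hmc, hscal] at h0
        have h1 : c • 𝟙 ω = (0 : A) • 𝟙 ω := by
          have h2 := congrArg (fun t => u.inv ≫ t ≫ u.hom) h0
          simpa using h2
        rw [hmc, hω.injective h1, zero_smul]
  · choose c hc using fun j k => hω.surjective (u.inv ≫ Tm K (p j) ≫ g ≫ Tm K (φ' k) ≫ u.hom)
    refine ⟨∑ j, ∑ k, φ j ≫ (c j k • 𝟙 _) ≫ p' k, ?_⟩
    simp only [map_sum]
    calc (∑ j, ∑ k, TL K _ _ (φ j ≫ (c j k • 𝟙 _) ≫ p' k))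
        = ∑ j, ∑ k, (Tm K (φ j) ≫ Tm K (p j)) ≫ g ≫ (Tm K (φ' k) ≫ Tm K (p' k)) := by
          refine Finset.sum_congr rfl fun j _ => Finset.sum_congr rfl fun k _ => ?_
          show Tm K _ = _
          have hjk := hc j k
          simp only at hjk
          rw [Tm_comp, Tm_comp, hscal, hjk]
          simp
      _ = g := by
          simp only [← Preadditive.comp_sum, ← Preadditive.sum_comp]
          rw [hid p φ hP, hid p' φ' hP', Category.id_comp, Category.comp_id]

variable (hω : Dual.IsDualizing A ω) (P) (e : DerivedCategory.Q.obj K ≅ ω)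
include e hω

/-- Twisted maps into a nonzero shift vanish. -/
theorem subsingleton_shift (P' : Type u) [AddCommGroup P'] [Module A P'] [Module.Finite A P'] [Module.Projective A P']
    {i : ℤ} (hi : i ≠ 0) : Subsingleton (T K (ModuleCat.of A P) ⟶ (T K (ModuleCat.of A P'))⟦i⟧) := by
  haveI := hω.ext_self_subsingleton i hi
  obtain ⟨n, π, ι, h⟩ := exists_decomp K P e
  obtain ⟨n', π', ι', h'⟩ := exists_decomp K P' e
  refine subsingleton_of_forall_eq 0 fun g => ?_
  calc g = (∑ j, π j ≫ ι j) ≫ g ≫ (shiftFunctor (Dual.D A) i).map (∑ k, π' k ≫ ι' k) := by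
        rw [h, h', CategoryTheory.Functor.map_id, Category.id_comp, Category.comp_id]
    _ = 0 := by
      simp only [Preadditive.sum_comp, Functor.map_sum, Preadditive.comp_sum, Functor.map_comp, Category.assoc]
      refine Finset.sum_eq_zero fun j _ => Finset.sum_eq_zero fun k _ => ?_
      rw [show π k ≫ ι k ≫ g ≫ (π' j)⟦i⟧' ≫ (ι' j)⟦i⟧' = π k ≫ (ι k ≫ g ≫ (π' j)⟦i⟧') ≫ (ι' j)⟦i⟧' by simp,
        Subsingleton.elim (ι k ≫ g ≫ (π' j)⟦i⟧') 0, zero_comp, comp_zero]

/-- A twist of a dualizing complex by an invertible module is dualizing. -/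
theorem isDualizing_T [Module.Invertible A P] : Dual.IsDualizing A (T K (ModuleCat.of A P)) := by
  haveI := hω.isNoetherianRing
  refine ⟨inferInstance, ?_, fun i => ?_, ?_, fun i hi => subsingleton_shift K P hω e P hi⟩
  · obtain ⟨a, b, hab⟩ := hω.finite_injective_dimension
    obtain ⟨n, π, ι, h⟩ := exists_decomp K P e
    refine ⟨a, b, fun M _ _ i hi => subsingleton_of_forall_eq 0 fun g => ?_⟩
    haveI := hab M i hi
    calc g = g ≫ (shiftFunctor (Dual.D A) i).map (∑ k, π k ≫ ι k) := by
          rw [h, CategoryTheory.Functor.map_id, Category.comp_id]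
      _ = 0 := by
        simp only [Functor.map_sum, Preadditive.comp_sum, Functor.map_comp, ← Category.assoc]
        refine Finset.sum_eq_zero fun k _ => ?_
        rw [Subsingleton.elim (g ≫ (π k)⟦i⟧') 0, zero_comp]
  · obtain ⟨n, π, ι, h⟩ := exists_decomp K P e
    let H := homologyFunctor (ModuleCat.{u} A) i
    haveI : Module.Finite A (H.obj ω) := hω.finite_cohomology i
    let s : (Fin n → H.obj ω) →ₗ[A] H.obj (T K (ModuleCat.of A P)) :=
      ∑ j, (H.map (ι j)).hom ∘ₗ LinearMap.proj j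
    refine Module.Finite.of_surjective s fun y => ⟨fun j => (H.map (π j)).hom y, ?_⟩
    have h1 := congrArg H.map h
    rw [Functor.map_sum, CategoryTheory.Functor.map_id] at h1
    have h2 := congrArg (fun t => t.hom y) h1
    simp only [ModuleCat.hom_sum, LinearMap.sum_apply] at h2
    show s (fun j => (H.map (π j)).hom y) = y
    simp only [s, LinearMap.sum_apply, LinearMap.comp_apply, LinearMap.proj_apply]
    refine Eq.trans (Finset.sum_congr rfl fun j _ => ?_) h2
    rw [Functor.map_comp]; rfl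
  · have hb := bijective_TL K (P := P) hω.toEnd_bijective P e
    have h1 : (fun a : A => a • 𝟙 (T K (ModuleCat.of A P))) =
        (TL K _ _) ∘ fun a : A => a • 𝟙 (ModuleCat.of A P) := funext fun a => by
      rw [Function.comp_apply, map_smul]
      exact congrArg (a • ·) (Tm_id K _).symm
    rw [h1]
    refine hb.comp ?_
    have h2 := Module.Invertible.toModuleEnd_bijective A P
    exact ⟨fun a b hab => h2.injective (LinearMap.ext fun x =>
        congrArg (fun t : ModuleCat.of A P ⟶ ModuleCat.of A P => t.hom x) hab),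
      fun f => by
        obtain ⟨a, ha⟩ := h2.surjective f.hom
        exact ⟨a, ModuleCat.hom_ext (LinearMap.ext fun x => LinearMap.congr_fun ha x)⟩⟩

/-- Uniqueness of the twist and shift. -/
theorem twist_unique [Nontrivial A] [Module.Invertible A P] (P' : Type u) [AddCommGroup P'] [Module A P']
    [Module.Invertible A P'] {n n' : ℤ} (h : (T K (ModuleCat.of A P))⟦n⟧ ≅ (T K (ModuleCat.of A P'))⟦n'⟧) :
    n = n' ∧ Nonempty (P ≃ₗ[A] P') := by
  have hb := bijective_TL K (P := P) hω.toEnd_bijective P' e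
  have hn : n = n' := by
    by_contra hne
    let g : T K (ModuleCat.of A P) ⟶ (T K (ModuleCat.of A P'))⟦n' - n⟧ :=
      (shiftFunctor (Dual.D A) n).preimage
        (h.hom ≫ ((shiftFunctorAdd' (Dual.D A) (n' - n) n n' (by omega)).app _).hom)
    have hg : IsIso g := by
      haveI : IsIso ((shiftFunctor (Dual.D A) n).map g) := by
        rw [Functor.map_preimage]; infer_instance
      exact isIso_of_fully_faithful (shiftFunctor (Dual.D A) n) g
    have h0 : g = 0 := (subsingleton_shift K P hω e P' (i := n' - n) (by omega)).elim _ _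
    have hz : IsZero (T K (ModuleCat.of A P)) := by
      rw [IsZero.iff_id_eq_zero, ← cancel_mono g, h0, comp_zero, comp_zero]
    have hP0 := (bijective_TL K (P := P) hω.toEnd_bijective P e).1 (a₁ := 𝟙 _) (a₂ := 0) (hz.eq_of_src _ _)
    haveI : Subsingleton P := subsingleton_of_forall_eq 0 fun x =>
      congrArg (fun t : ModuleCat.of A P ⟶ ModuleCat.of A P => t.hom x) hP0
    exact zero_ne_one ((Module.Invertible.toModuleEnd_bijective A P).injective
      (LinearMap.ext fun x => Subsingleton.elim _ _))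
  subst hn
  refine ⟨rfl, ?_⟩
  let g := (shiftFunctor (Dual.D A) n).preimageIso h
  have hb' := bijective_TL K (P := P') hω.toEnd_bijective P e
  obtain ⟨f, hf⟩ := hb.2 g.hom
  obtain ⟨f', hf'⟩ := hb'.2 g.inv
  have e1 : f ≫ f' = 𝟙 _ := (bijective_TL K (P := P) hω.toEnd_bijective P e).1
    ((Tm_comp K f f').trans ((congrArg₂ (· ≫ ·) hf hf').trans (g.hom_inv_id.trans (Tm_id K _).symm)))
  have e2 : f' ≫ f = 𝟙 _ := (bijective_TL K (P := P') hω.toEnd_bijective P' e).1
    ((Tm_comp K f' f).trans ((congrArg₂ (· ≫ ·) hf' hf).trans (g.inv_hom_id.trans (Tm_id K _).symm)))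
  exact ⟨(Iso.mk f f' e1 e2).toLinearEquiv⟩

end Groth.Agent.DualLib.Twist
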